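/-
Bender-Glauberman Lemma 14.4 (statement S1432), from the frozen statement S1430 (Theorem 14.2(a),(b),
as `Cfsg.Agent.Lib.helper69.H1430`) and the first clause of the frozen statement S1431 (Corollary
14.3(a): `K* ∩ M^g = 1` for `g ∉ M`, as `H1431a`).
-/
import Mathlib
import Cfsg.Agent.S1420
import Cfsg.Agent.Lib.helper71.BGRegNA
import Cfsg.Agent.Lib.helper69.BGKappaA
import Cfsg.Agent.Lib.helper25.BGSigma
import Cfsg.Agent.Lib.helper28.PConn
import Cfsg.Agent.Lib.helper13.BG11b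
import Cfsg.Agent.Lib.helper97.BGSeven1

set_option autoImplicit false
open Cfsg

namespace Cfsg.Agent.Lib.helper89.BG1432

open Cfsg.Agent.Lib.helper8 Cfsg.Agent.Lib.helper97 Cfsg.Agent.Lib.helper69

variable {G : Type*} [Group G]

/-- The first clause of the frozen statement S1431 (B-G 14.3(a)) as a hypothesis. -/
def H1431a (G : Type*) [Group G] : Prop :=
  ∀ (M : Subgroup G), IsCoatom M → ∀ (K : Subgroup G), IsPiHallOf (kappa M) K M → K ≠ ⊥ →
    ∀ g : G, g ∉ M →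
      (sigmaCore M ⊓ Subgroup.centralizer (K : Set G)) ⊓ M.map (MulAut.conj g).toMonoidHom = ⊥

/-- A solvable subgroup has Hall `π`-subgroups. -/
theorem exists_hallOf [Finite G] (π : Set ℕ) (M : Subgroup G) (hMs : Group.IsSolvable M) :
    ∃ K : Subgroup G, IsPiHallOf π K M := by
  have := hMs
  obtain ⟨H, hH1, hH2⟩ := Cfsg.Agent.Lib.lead.exists_isPiHall_of_isSolvable π (↥M)
  have hcard : Nat.card ↥(H.map M.subtype) = Nat.card H :=
    (Nat.card_congr (Subgroup.equivMapOfInjective H M.subtype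
      (Subgroup.subtype_injective M)).toEquiv).symm
  have hsub : (H.map M.subtype).subgroupOf M = H := by
    ext z
    rw [Subgroup.mem_subgroupOf]
    constructor
    · rintro ⟨w, hw, hwz⟩
      have : w = z := Subtype.ext hwz
      rwa [← this]
    · intro hz
      exact ⟨z, hz, rfl⟩
  refine ⟨H.map M.subtype, Subgroup.map_subtype_le _, ?_, ?_⟩
  · intro p hp hdvd
    rw [hcard] at hdvd
    exact hH1 p hp hdvd
  · intro p hp hpπ hdvd
    apply hH2 p hp hpπ
    rwa [Subgroup.relIndex, hsub] at hdvd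

theorem s1432_of [Finite G] (hG : IsMinSimpleOddOrder G) (h30 : H1430 G) (h31 : H1431a G)
    (M : Subgroup G) (hM : IsCoatom M) (x : G) (hx : x ∈ sigmaCore M) (hx1 : x ≠ 1) (x' : G)
    (hx' : x' ∈ M ⊓ Subgroup.centralizer ({x} : Set G)) (hx'1 : x' ≠ 1)
    (hσ : ∀ p : ℕ, p.Prime → p ∣ orderOf x' → p ∉ sigma M) :
    ((∀ p : ℕ, p.Prime → p ∣ orderOf x' → p ∈ kappa M) ∧
        Subgroup.centralizer ({x} : Set G) ≤ M) ∨
      ((∀ p : ℕ, p.Prime → p ∣ orderOf x' → p ∈ tau2 M) ∧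
        (∃ L : Subgroup G, IsCoatom L ∧ ∀ p : ℕ, p.Prime → p ∣ orderOf x' → p ∈ sigma L) ∧
        (Subgroup.centralizer ({x'} : Set G) ≤ M ∧
          ∀ L : Subgroup G, IsCoatom L → Subgroup.centralizer ({x'} : Set G) ≤ L → L = M)) := by
  obtain ⟨hodd, hsimple, hna, hsolv⟩ := id hG
  have hU : BGUniqHyp G := fun K hK h1 h2 => Cfsg.Agent.S1403.result hG K hK h1 h2
  have hF : BGFusHyp G := by
    intro M hM p hp X hXp hX1 hXM g hg
    have : Fact p.Prime := ⟨hp.1⟩
    exact (Cfsg.Agent.S1404.result hG M hM p hp X hXp hX1 hXM).1 g hg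
  have hHall := (Cfsg.Agent.Lib.helper25.BGS.sigma_core_statement hG hU hF M hM).1
  obtain ⟨hx'M, hx'c⟩ := Subgroup.mem_inf.mp hx'
  have hcomm : x' * x = x * x' := Subgroup.mem_centralizer_singleton_iff.mp hx'c
  have hZσ : ∀ p : ℕ, p.Prime → p ∣ Nat.card (Subgroup.zpowers x') → p ∉ sigma M := by
    intro p hp hdvd
    rw [Nat.card_zpowers] at hdvd
    exact hσ p hp hdvd
  obtain ⟨E, hE, hZE⟩ := Cfsg.Agent.Lib.helper60.BGCentU.exists_compl_ge hG M hM
    (Subgroup.zpowers x') (Subgroup.zpowers_le.mpr hx'M) hZσ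
  have hx'E : x' ∈ E := hZE (Subgroup.mem_zpowers x')
  have ho0 : orderOf x' ≠ 0 := (orderOf_pos x').ne'
  have hy : ∀ q : ℕ, q.Prime → q ∣ orderOf x' →
      orderOf (x' ^ (orderOf x' / q)) = q ∧ x' ^ (orderOf x' / q) ∈ E ∧
        (x' ^ (orderOf x' / q)) * x = x * (x' ^ (orderOf x' / q)) := by
    intro q hq hdvd
    refine ⟨orderOf_pow_orderOf_div ho0 hdvd, E.pow_mem hx'E _, ?_⟩
    exact (Commute.pow_left (show Commute x' x from hcomm) _).eq
  have hκτ : ∀ q : ℕ, q.Prime → q ∣ orderOf x' → q ∉ kappa M → q ∈ tau2 M := by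
    intro q hq hdvd hκ
    obtain ⟨ho, hyE, hyc⟩ := hy q hq hdvd
    have := Cfsg.Agent.Lib.helper71.BGRegNA.tau2_of_singular hG M hM E hE
      (x' ^ (orderOf x' / q)) hyE (by rw [ho]; exact hq) (by rw [ho]; exact hκ) x hx hx1 hyc
    rwa [ho] at this
  by_cases hex : ∃ q : ℕ, q.Prime ∧ q ∣ orderOf x' ∧ q ∈ kappa M
  · left
    obtain ⟨q, hq, hqdvd, hqκ⟩ := hex
    have : Fact q.Prime := ⟨hq⟩
    obtain ⟨K, hK⟩ := exists_hallOf (kappa M) M (hsolv M hM.1)
    obtain ⟨hoy, hyE, hyc⟩ := hy q hq hqdvd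
    obtain ⟨y, hydef⟩ : ∃ y : G, y = x' ^ (orderOf x' / q) := ⟨_, rfl⟩
    rw [← hydef] at hoy hyE hyc
    have hyM : y ∈ M := hE.1 hyE
    have hyp : IsPGroup q (Subgroup.zpowers y) :=
      IsPGroup.of_card (n := 1) (by rw [Nat.card_zpowers, pow_one, hoy])
    obtain ⟨g, hgM, hgK⟩ := bgk_conj_into_hall hK hqκ (Subgroup.zpowers_le.mpr hyM) hyp
    have hy1 : y ≠ 1 := by
      intro h
      rw [h, orderOf_one] at hoy
      exact hq.one_lt.ne hoy
    obtain ⟨k, hkdef⟩ : ∃ k : G, k = g * y * g⁻¹ := ⟨_, rfl⟩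
    have hkK : k ∈ K := by rw [hkdef]; exact hgK y (Subgroup.mem_zpowers y)
    have hk1 : k ≠ 1 := by
      intro h
      apply hy1
      have : y = g⁻¹ * k * g := by rw [hkdef]; group
      rw [this, h]; group
    have hK1 : K ≠ ⊥ := by
      intro h
      rw [h] at hkK
      exact hk1 (Subgroup.mem_bot.mp hkK)
    obtain ⟨h1, -, h3⟩ := h30 M hM K hK hK1
    have hok : orderOf k = q := by
      rw [hkdef, ← hoy]
      exact MulEquiv.orderOf_eq (MulAut.conj g) y
    refine ⟨?_, ?_⟩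
    · intro q' hq' hq'dvd
      by_contra hq'κ
      obtain ⟨hoy', hy'E, hy'c⟩ := hy q' hq' hq'dvd
      obtain ⟨y', hy'def⟩ : ∃ y' : G, y' = x' ^ (orderOf x' / q') := ⟨_, rfl⟩
      rw [← hy'def] at hoy' hy'E hy'c
      have hy'M : y' ∈ M := hE.1 hy'E
      have hcyy : y * y' = y' * y := by
        rw [hydef, hy'def]
        exact (Commute.pow_pow (Commute.refl x') _ _).eq
      have h3' := (h3 (Subgroup.zpowers k) (Subgroup.zpowers_le.mpr hkK)
        (by rw [Nat.card_zpowers, hok]; exact hq)).1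
      have hmem : g * y' * g⁻¹ ∈
          M ⊓ Subgroup.normalizer ((Subgroup.zpowers k : Subgroup G) : Set G) := by
        refine Subgroup.mem_inf.mpr ⟨M.mul_mem (M.mul_mem hgM hy'M) (M.inv_mem hgM), ?_⟩
        apply Subgroup.centralizer_le_normalizer
        rw [Cfsg.Agent.Lib.helper71.BGRegNA.mem_cent_zpowers, hkdef]
        calc g * y * g⁻¹ * (g * y' * g⁻¹) = g * (y * y') * g⁻¹ := by group
          _ = g * (y' * y) * g⁻¹ := by rw [hcyy]
          _ = g * y' * g⁻¹ * (g * y * g⁻¹) := by group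
      rw [h3'] at hmem
      have hle : K ⊔ (sigmaCore M ⊓ Subgroup.centralizer (K : Set G)) ≤ K ⊔ sigmaCore M :=
        sup_le_sup_left inf_le_left K
      have hmem2 := hle hmem
      have ho'' : orderOf (g * y' * g⁻¹) = q' := by
        rw [← hoy']
        exact MulEquiv.orderOf_eq (MulAut.conj g) y'
      have hdvd : q' ∣ Nat.card ↥(K ⊔ sigmaCore M) := by
        have := orderOf_dvd_natCard (⟨g * y' * g⁻¹, hmem2⟩ : ↥(K ⊔ sigmaCore M))
        rwa [Subgroup.orderOf_mk, ho''] at this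
      rw [← bgk_card_sup hK hHall] at hdvd
      rcases (Nat.Prime.dvd_mul hq').mp hdvd with h | h
      · exact hσ q' hq' hq'dvd (hHall.2.1 q' hq' h)
      · exact hq'κ (hK.2.1 q' hq' h)
    · intro c hc
      by_contra hcM
      have hcx : x * c = c * x := (Subgroup.mem_centralizer_singleton_iff.mp hc).symm
      have hgN := Cfsg.Agent.Lib.helper13.le_normalizer_sigmaCore M hgM
      rw [Subgroup.mem_normalizer_iff] at hgN
      have hx1σ : g * x * g⁻¹ ∈ sigmaCore M := (hgN x).mp hx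
      have hx1k : g * x * g⁻¹ ∈ Subgroup.centralizer ({k} : Set G) := by
        rw [Subgroup.mem_centralizer_singleton_iff, hkdef]
        calc g * x * g⁻¹ * (g * y * g⁻¹) = g * (x * y) * g⁻¹ := by group
          _ = g * (y * x) * g⁻¹ := by rw [hyc]
          _ = g * y * g⁻¹ * (g * x * g⁻¹) := by group
      have hmem : g * x * g⁻¹ ∈ sigmaCore M ⊓ Subgroup.centralizer (K : Set G) := by
        rw [← h1 k hkK hk1]
        exact Subgroup.mem_inf.mpr ⟨hx1σ, hx1k⟩
      have hc1M : g * c * g⁻¹ ∉ M := by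
        intro h
        apply hcM
        have : c = g⁻¹ * (g * c * g⁻¹) * g := by group
        rw [this]
        exact M.mul_mem (M.mul_mem (M.inv_mem hgM) h) hgM
      have hbot := h31 M hM K hK hK1 (g * c * g⁻¹) hc1M
      have hxM : x ∈ M := (Subgroup.map_subtype_le _ : sigmaCore M ≤ M) hx
      have hmem2 : g * x * g⁻¹ ∈ M.map (MulAut.conj (g * c * g⁻¹)).toMonoidHom := by
        refine ⟨g * x * g⁻¹, M.mul_mem (M.mul_mem hgM hxM) (M.inv_mem hgM), ?_⟩
        show (g * c * g⁻¹) * (g * x * g⁻¹) * (g * c * g⁻¹)⁻¹ = g * x * g⁻¹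
        calc (g * c * g⁻¹) * (g * x * g⁻¹) * (g * c * g⁻¹)⁻¹ = g * (c * x) * c⁻¹ * g⁻¹ := by group
          _ = g * (x * c) * c⁻¹ * g⁻¹ := by rw [hcx]
          _ = g * x * g⁻¹ := by group
      have h5 : g * x * g⁻¹ ∈ (⊥ : Subgroup G) := by
        rw [← hbot]
        exact Subgroup.mem_inf.mpr ⟨hmem, hmem2⟩
      apply hx1
      have h6 : g * x * g⁻¹ = 1 := Subgroup.mem_bot.mp h5
      have : x = g⁻¹ * (g * x * g⁻¹) * g := by group
      rw [this, h6]; group
  · right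
    push Not at hex
    have hτ : ∀ p : ℕ, p.Prime → p ∣ orderOf x' → p ∈ tau2 M :=
      fun p hp hd => hκτ p hp hd (hex p hp hd)
    refine ⟨hτ, ?_, ?_⟩
    · have ho1 : orderOf x' ≠ 1 := by rwa [Ne, orderOf_eq_one_iff]
      obtain ⟨q₁, hq₁, hq₁d⟩ := Nat.exists_prime_and_dvd ho1
      have : Fact q₁.Prime := ⟨hq₁⟩
      have hq₁τ := hτ q₁ hq₁ hq₁d
      obtain ⟨A₁, hA₁E, hA₁e, hA₁c⟩ := bg7_exists_elemAb_compl M E hE q₁ hq₁τ
      have h18 := Cfsg.Agent.S1418.result hG M hM E hE q₁ hq₁τ A₁ ⟨hA₁E, hA₁e, hA₁c⟩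
      have hEN₁ : E ≤ Subgroup.normalizer (A₁ : Set G) := h18.1.1
      have hA₁bot : A₁ ≠ ⊥ := by
        intro h
        rw [h, Subgroup.card_bot] at hA₁c
        have := hq₁.one_lt
        nlinarith [pow_pos hq₁.pos 2]
      have hA₁top : A₁ ≠ ⊤ := by
        intro h
        apply hM.1
        rw [eq_top_iff, ← h]
        exact hA₁E.trans hE.1
      have hNtop := bg7_normalizer_ne_top hG hA₁bot hA₁top
      obtain ⟨L, hL, hNL⟩ := (eq_top_or_exists_le_coatom _).resolve_left hNtop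
      have hEL : E ≤ L := hEN₁.trans hNL
      have hA₁L : A₁ ≤ L := hA₁E.trans hEL
      have htau2L : ∀ (q : ℕ), q.Prime → q ∉ sigma L → ∀ B : Subgroup G, B ≤ L →
          IsElementaryAbelian q B → Nat.card B = q ^ 2 → q ∈ tau2 L := by
        intro q hq hqσ B hBL hBe hBc
        refine ⟨hq, hqσ, ?_, ?_⟩
        · by_contra h
          exact hqσ (bg_alpha_sub_sigma hG hU L hL ⟨hq, h⟩)
        · rw [Cfsg.Agent.Lib.helper28.not_pRankLE_subgroup_iff]
          refine ⟨B, hBL, hBe, ?_⟩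
          rw [hBc, pow_one]
          nlinarith [hq.one_lt]
      have hq₁σL : q₁ ∈ sigma L := by
        by_contra hσL
        have hτL := htau2L q₁ hq₁ hσL A₁ hA₁L hA₁e hA₁c
        have hA₁σ : ∀ p : ℕ, p.Prime → p ∣ Nat.card A₁ → p ∉ sigma L := by
          intro p hp hd
          rw [hA₁c] at hd
          have := (Nat.prime_dvd_prime_iff_eq hp hq₁).mp (hp.dvd_of_dvd_pow hd)
          rw [this]
          exact hσL
        obtain ⟨EL, hEL', hA₁EL⟩ :=
          Cfsg.Agent.Lib.helper60.BGCentU.exists_compl_ge hG L hL A₁ hA₁L hA₁σ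
        exact (Cfsg.Agent.S1418.result hG L hL EL hEL' q₁ hτL A₁
          ⟨hA₁EL, hA₁e, hA₁c⟩).2.1.2.2 hNL
      refine ⟨L, hL, ?_⟩
      intro q hq hqd
      by_cases hqq : q = q₁
      · rw [hqq]
        exact hq₁σL
      by_contra hσL
      have : Fact q.Prime := ⟨hq⟩
      have hqτ := hτ q hq hqd
      obtain ⟨A, hAE, hAe, hAc⟩ := bg7_exists_elemAb_compl M E hE q hqτ
      have h18' := Cfsg.Agent.S1418.result hG M hM E hE q hqτ A ⟨hAE, hAe, hAc⟩
      have hAL : A ≤ L := hAE.trans hEL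
      have hτL := htau2L q hq hσL A hAL hAe hAc
      have h17 := (Cfsg.Agent.S1417.result hG L hL q hτL A ⟨hAL, hAe, hAc⟩).2.2.2.1
      have hA₁p : IsPGroup q₁ A₁ := IsPGroup.of_card hA₁c
      have h1 : A₁ ≤ sigmaCore L := bg_pgroup_le_sigmaCore hG hU hF L hL hq₁σL A₁ hA₁L hA₁p
      have hcop : (Nat.card A₁).Coprime (Nat.card A) := by
        rw [hA₁c, hAc]
        exact Nat.Coprime.pow _ _ ((Nat.coprime_primes hq₁ hq).mpr (Ne.symm hqq))
      have h2 : A₁ ≤ Subgroup.centralizer (A : Set G) :=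
        Cfsg.Agent.Lib.helper13.le_centralizer_of_normal_coprime hA₁E hAE hEN₁ h18'.1.1 hcop
      have h3 : A₁ ≤ ⊥ := by
        rw [← h17]
        exact le_inf h1 h2
      exact hA₁bot (le_bot_iff.mp h3)
    · exact (Cfsg.Agent.S1420.result hG M hM E hE).2.2.2 x' hx'M hx'1 hτ
        ⟨hx'M, x, hx, hx1, hcomm⟩

end Cfsg.Agent.Lib.helper89.BG1432
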