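import Mathlib
import Cfsg.Agent.Lib.helper24.SfuDefs
import Cfsg.Agent.Lib.helper82.SfuNORMFIB

/-! S5982 piece CNTSTD (helper89, racing copy): the number of norm-one vectors of the standard
unitary form. -/

set_option autoImplicit false

namespace Cfsg.Agent.Lib.helper24

open Module Matrix Cfsg.Geo

section

variable {F : Type*} [Field F] [Fintype F] [DecidableEq F]

/-- The number of vectors of `F^m` of "norm" `c`. -/
def h89_cnt (q₀ m : ℕ) (c : F) : ℕ :=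
  (Finset.univ.filter (fun v : Fin m → F => ∑ k, v k ^ (q₀ + 1) = c)).card

omit [DecidableEq F] in
theorem h89_q0_ne_zero (q₀ : ℕ) (hcard : Fintype.card F = q₀ ^ 2) : q₀ ≠ 0 := by
  rintro rfl
  have := Fintype.card_ne_zero (α := F)
  rw [hcard] at this
  exact this (by norm_num)

omit [DecidableEq F] in
theorem h89_frob_add (q₀ : ℕ) (hcard : Fintype.card F = q₀ ^ 2) (a b : F) :
    (a + b) ^ q₀ = a ^ q₀ + b ^ q₀ := by
  obtain ⟨p, hp⟩ := CharP.exists F
  obtain ⟨n, hprime, hn⟩ := FiniteField.card F p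
  have := Fact.mk hprime
  have hdvd : q₀ ∣ p ^ (n : ℕ) := by
    rw [← hn, hcard]; exact dvd_pow_self q₀ (by norm_num)
  obtain ⟨j, -, hj⟩ := (Nat.dvd_prime_pow hprime).mp hdvd
  rw [hj]; exact add_pow_char_pow a b p j

omit [DecidableEq F] in
theorem h89_frob_sub (q₀ : ℕ) (hcard : Fintype.card F = q₀ ^ 2) (a b : F) :
    (a - b) ^ q₀ = a ^ q₀ - b ^ q₀ := by
  obtain ⟨p, hp⟩ := CharP.exists F
  obtain ⟨n, hprime, hn⟩ := FiniteField.card F p
  have := Fact.mk hprime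
  have hdvd : q₀ ∣ p ^ (n : ℕ) := by
    rw [← hn, hcard]; exact dvd_pow_self q₀ (by norm_num)
  obtain ⟨j, -, hj⟩ := (Nat.dvd_prime_pow hprime).mp hdvd
  rw [hj]; exact sub_pow_char_pow a b j

omit [DecidableEq F] in
theorem h89_norm_fixed (q₀ : ℕ) (hcard : Fintype.card F = q₀ ^ 2) (x : F) :
    (x ^ (q₀ + 1)) ^ q₀ = x ^ (q₀ + 1) := by
  have h1 : x ^ (q₀ ^ 2) = x := by rw [← hcard]; exact FiniteField.pow_card x
  calc (x ^ (q₀ + 1)) ^ q₀ = x ^ (q₀ ^ 2) * x ^ q₀ := by rw [← pow_mul, ← pow_add]; congr 1; ring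
    _ = x ^ (q₀ + 1) := by rw [h1, pow_succ']

theorem h89_cnt_eq_zero (q₀ : ℕ) (hcard : Fintype.card F = q₀ ^ 2) (m : ℕ) (e : F)
    (he : e ^ q₀ ≠ e) : h89_cnt q₀ m e = 0 := by
  unfold h89_cnt
  rw [Finset.card_eq_zero, Finset.filter_eq_empty_iff]
  intro v _ hv
  apply he
  rw [← hv]
  apply Finset.sum_induction (fun k => v k ^ (q₀ + 1)) (fun c => c ^ q₀ = c)
  · intro a b ha hb
    rw [h89_frob_add q₀ hcard, ha, hb]
  · exact zero_pow (h89_q0_ne_zero q₀ hcard)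
  · intro k _
    exact h89_norm_fixed q₀ hcard (v k)

theorem h89_cnt_total (q₀ m : ℕ) : ∑ c : F, h89_cnt q₀ m c = Fintype.card F ^ m := by
  unfold h89_cnt
  rw [← Finset.card_eq_sum_card_fiberwise (f := fun v : Fin m → F => ∑ k, v k ^ (q₀ + 1))
    (s := Finset.univ) (t := Finset.univ) (fun _ _ => Finset.mem_coe.mpr (Finset.mem_univ _))]
  rw [Finset.card_univ, Fintype.card_fun, Fintype.card_fin]

theorem h89_cnt_succ (q₀ m : ℕ) (c : F) :
    h89_cnt q₀ (m + 1) c = ∑ x : F, h89_cnt q₀ m (c - x ^ (q₀ + 1)) := by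
  unfold h89_cnt
  simp only [Finset.card_filter]
  rw [← Equiv.sum_comp (Fin.consEquiv (fun _ : Fin (m + 1) => F)), Fintype.sum_prod_type]
  apply Finset.sum_congr rfl
  intro x _
  apply Finset.sum_congr rfl
  intro v _
  have h1 : ∑ k, (Fin.consEquiv (fun _ : Fin (m + 1) => F)) (x, v) k ^ (q₀ + 1) =
      x ^ (q₀ + 1) + ∑ k, v k ^ (q₀ + 1) := by
    rw [Fin.sum_univ_succ]
    simp [Fin.consEquiv]
  rw [h1]
  by_cases h : ∑ k, v k ^ (q₀ + 1) = c - x ^ (q₀ + 1)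
  · rw [if_pos h, if_pos (by rw [h]; ring)]
  · rw [if_neg h, if_neg (fun h' => h (by rw [← h']; ring))]

theorem h89_sum_fiber (q₀ : ℕ) (g : F → ℕ) :
    ∑ x : F, g (x ^ (q₀ + 1)) =
      ∑ d : F, (Finset.univ.filter (fun x : F => x ^ (q₀ + 1) = d)).card * g d := by
  have h1 : ∀ x : F, g (x ^ (q₀ + 1)) = ∑ d : F, if x ^ (q₀ + 1) = d then g d else 0 := by
    intro x
    rw [Finset.sum_ite_eq]
    simp
  simp only [h1]
  rw [Finset.sum_comm]
  apply Finset.sum_congr rfl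
  intro d _
  rw [← Finset.sum_filter, Finset.sum_const, smul_eq_mul]

theorem h89_cnt_rec (q₀ : ℕ) (hcard : Fintype.card F = q₀ ^ 2) (m : ℕ) (c : F) (hc : c ≠ 0)
    (hc₀ : c ^ q₀ = c) :
    h89_cnt q₀ (m + 1) c + (q₀ + 1) * h89_cnt q₀ m c =
      h89_cnt q₀ m c + (q₀ + 1) * Fintype.card F ^ m := by
  have hq0 := h89_q0_ne_zero q₀ hcard
  rw [h89_cnt_succ, h89_sum_fiber q₀ (fun d => h89_cnt q₀ m (c - d))]
  have hterm : ∀ d : F, (Finset.univ.filter (fun x : F => x ^ (q₀ + 1) = d)).card *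
      h89_cnt q₀ m (c - d) =
      if d = 0 then h89_cnt q₀ m c else (q₀ + 1) * h89_cnt q₀ m (c - d) := by
    intro d
    by_cases hd : d = 0
    · rw [if_pos hd, hd, sub_zero]
      have : (Finset.univ.filter (fun x : F => x ^ (q₀ + 1) = 0)) = {0} := by
        ext x
        simp
      rw [this, Finset.card_singleton, one_mul]
    · rw [if_neg hd]
      by_cases hd₀ : d ^ q₀ = d
      · rw [h82_sfu_norm_fiber q₀ hcard d hd hd₀]
      · have : h89_cnt q₀ m (c - d) = 0 := by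
          apply h89_cnt_eq_zero q₀ hcard
          rw [h89_frob_sub q₀ hcard, hc₀]
          intro h
          exact hd₀ (sub_right_injective h)
        rw [this, mul_zero, mul_zero]
  simp only [hterm]
  have h2 : ∑ d : F, (q₀ + 1) * h89_cnt q₀ m (c - d) = (q₀ + 1) * Fintype.card F ^ m := by
    rw [← Finset.mul_sum, ← h89_cnt_total q₀ m (F := F)]
    congr 1
    exact Equiv.sum_comp (Equiv.subLeft c) (fun d => h89_cnt q₀ m d)
  rw [← h2]
  rw [← Finset.add_sum_erase Finset.univ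
    (fun d : F => if d = 0 then h89_cnt q₀ m c else (q₀ + 1) * h89_cnt q₀ m (c - d))
    (Finset.mem_univ (0 : F)),
    ← Finset.add_sum_erase Finset.univ (fun d : F => (q₀ + 1) * h89_cnt q₀ m (c - d))
    (Finset.mem_univ (0 : F))]
  have h3 : ∑ d ∈ Finset.univ.erase (0 : F),
      (if d = 0 then h89_cnt q₀ m c else (q₀ + 1) * h89_cnt q₀ m (c - d)) =
      ∑ d ∈ Finset.univ.erase (0 : F), (q₀ + 1) * h89_cnt q₀ m (c - d) := by
    apply Finset.sum_congr rfl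
    intro d hd
    rw [if_neg (Finset.ne_of_mem_erase hd)]
  rw [h3]
  simp only [if_true, sub_zero]
  ring

theorem h89_cnt_formula (q₀ : ℕ) (hcard : Fintype.card F = q₀ ^ 2) (c : F) (hc : c ≠ 0)
    (hc₀ : c ^ q₀ = c) (m : ℕ) :
    (h89_cnt q₀ m c : ℤ) = (q₀ : ℤ) ^ (m - 1) * ((q₀ : ℤ) ^ m - (-1) ^ m) := by
  induction m with
  | zero =>
    have : h89_cnt q₀ 0 c = 0 := by
      unfold h89_cnt
      rw [Finset.card_eq_zero, Finset.filter_eq_empty_iff]
      intro v _ hv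
      apply hc
      rw [← hv]
      simp
    rw [this]
    simp
  | succ m ih =>
    have hrec := h89_cnt_rec q₀ hcard m c hc hc₀
    have hrec' : (h89_cnt q₀ (m + 1) c : ℤ) + ((q₀ : ℤ) + 1) * (h89_cnt q₀ m c : ℤ) =
        (h89_cnt q₀ m c : ℤ) + ((q₀ : ℤ) + 1) * ((q₀ : ℤ) ^ 2) ^ m := by
      have := congrArg (Nat.cast : ℕ → ℤ) hrec
      rw [hcard] at this
      push_cast at this
      exact this
    rw [ih] at hrec'
    rcases m with _ | k
    · simp at hrec' ⊢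
      linarith
    · simp only [Nat.add_sub_cancel] at hrec' ⊢
      have e1 : ((q₀ : ℤ) ^ 2) ^ (k + 1) = (q₀ : ℤ) ^ (k + 1) * (q₀ : ℤ) ^ (k + 1) := by ring
      rw [e1] at hrec'
      have e2 : (q₀ : ℤ) ^ (k + 1) = (q₀ : ℤ) * (q₀ : ℤ) ^ k := by ring
      have e3 : (-1 : ℤ) ^ (k + 1 + 1) = -(-1) ^ (k + 1) := by ring
      rw [e3]
      linear_combination hrec' + ((q₀ : ℤ) ^ (k + 1) - (-1) ^ (k + 1)) * (q₀ : ℤ) * e2

end

/-- CNTSTD (racing copy). -/
theorem h89_sfu_count_std {F : Type*} [Field F] [Fintype F] [DecidableEq F] (q₀ : ℕ)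
    (hcard : Fintype.card F = q₀ ^ 2) (m : ℕ) :
    ((Finset.univ.filter (fun v : Fin m → F => ∑ k, v k ^ (q₀ + 1) = 1)).card : ℤ) =
      (q₀ : ℤ) ^ (m - 1) * ((q₀ : ℤ) ^ m - (-1) ^ m) :=
  h89_cnt_formula q₀ hcard 1 one_ne_zero (one_pow _) m

end Cfsg.Agent.Lib.helper24
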