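import Mathlib
import Cfsg.Prelude.Def_GeometricClasses

/-!
# S6000 split (architect helper89): PSL_4(p), p = 1 mod 4, normalizer of a 2-group of symplectic type `4 o 2^(1+4)`
Definitions used by the pieces.
-/

set_option autoImplicit false

namespace Cfsg.Agent.Lib.helper89.S60

open Matrix Cfsg Cfsg.Geo

/-- `R` is generated, up to the scalars `w ^ e`, by four pairwise anticommuting involutions `t 0, ..., t 3`. -/
def Frame {F : Type*} [Field F] (R : Subgroup (GL (Fin 4) F)) (w : F) (t : Fin 4 → GL (Fin 4) F) : Prop :=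
  (∀ j, t j ∈ R) ∧ (∀ j, (t j : Matrix (Fin 4) (Fin 4) F) * (t j : Matrix (Fin 4) (Fin 4) F) = 1) ∧
  (∀ j k, j ≠ k → (t j : Matrix (Fin 4) (Fin 4) F) * (t k : Matrix (Fin 4) (Fin 4) F) = -((t k : Matrix (Fin 4) (Fin 4) F) * (t j : Matrix (Fin 4) (Fin 4) F))) ∧
  ∀ s ∈ R, ∃ (a : Fin 4 → Bool) (e : ℕ), (s : Matrix (Fin 4) (Fin 4) F) = (w ^ e) •
    ((if a 0 then (t 0 : Matrix (Fin 4) (Fin 4) F) else 1) * (if a 1 then (t 1 : Matrix (Fin 4) (Fin 4) F) else 1) *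
      (if a 2 then (t 2 : Matrix (Fin 4) (Fin 4) F) else 1) * (if a 3 then (t 3 : Matrix (Fin 4) (Fin 4) F) else 1))

/-- `s` is central of order at most two modulo the scalars of `R`. -/
def TLike {F : Type*} [Field F] (R : Subgroup (GL (Fin 4) F)) (s : GL (Fin 4) F) : Prop :=
  (∃ c : F, (s : Matrix (Fin 4) (Fin 4) F) * (s : Matrix (Fin 4) (Fin 4) F) = c • (1 : Matrix (Fin 4) (Fin 4) F)) ∧
  ∀ g ∈ R, ∃ c : F, (s : Matrix (Fin 4) (Fin 4) F) * (g : Matrix (Fin 4) (Fin 4) F) = c • ((g : Matrix (Fin 4) (Fin 4) F) * (s : Matrix (Fin 4) (Fin 4) F))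

/-- The structural facts about `R = <w> o 2^(1+4)` used by the consumers. -/
structure Good {F : Type*} [Field F] (R : Subgroup (GL (Fin 4) F)) (w : F) : Prop where
  card : Nat.card R = 64
  wsq : w * w = -1
  wmem : ∃ z ∈ R, (z : Matrix (Fin 4) (Fin 4) F) = w • (1 : Matrix (Fin 4) (Fin 4) F)
  schur : ∀ y : Matrix (Fin 4) (Fin 4) F, (∀ s ∈ R, y * (s : Matrix (Fin 4) (Fin 4) F) = (s : Matrix (Fin 4) (Fin 4) F) * y) → ∃ c : F, y = c • (1 : Matrix (Fin 4) (Fin 4) F)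
  scal : ∀ s ∈ R, ∀ c : F, (s : Matrix (Fin 4) (Fin 4) F) = c • (1 : Matrix (Fin 4) (Fin 4) F) → c ^ 4 = 1
  sq : ∀ s ∈ R, (s : Matrix (Fin 4) (Fin 4) F) * (s : Matrix (Fin 4) (Fin 4) F) = 1 ∨ (s : Matrix (Fin 4) (Fin 4) F) * (s : Matrix (Fin 4) (Fin 4) F) = -1
  comm : ∀ s ∈ R, ∀ t ∈ R, (s : Matrix (Fin 4) (Fin 4) F) * (t : Matrix (Fin 4) (Fin 4) F) = (t : Matrix (Fin 4) (Fin 4) F) * (s : Matrix (Fin 4) (Fin 4) F) ∨
    (s : Matrix (Fin 4) (Fin 4) F) * (t : Matrix (Fin 4) (Fin 4) F) = -((t : Matrix (Fin 4) (Fin 4) F) * (s : Matrix (Fin 4) (Fin 4) F))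
  tr0 : ∀ s ∈ R, (∀ c : F, (s : Matrix (Fin 4) (Fin 4) F) ≠ c • (1 : Matrix (Fin 4) (Fin 4) F)) → Matrix.trace (s : Matrix (Fin 4) (Fin 4) F) = 0
  frame : ∃ t : Fin 4 → GL (Fin 4) F, Frame R w t
  avg : ∀ A : Matrix (Fin 4) (Fin 4) F, ∑ᶠ s : R, ((s : GL (Fin 4) F) : Matrix (Fin 4) (Fin 4) F) * A * (((s : GL (Fin 4) F)⁻¹ : GL (Fin 4) F) : Matrix (Fin 4) (Fin 4) F) =
    (16 * Matrix.trace A) • (1 : Matrix (Fin 4) (Fin 4) F)

/-- An element of `SL_4(F)` with `x ^ r = 1`, not scalar, no `GL_4`-conjugate of which normalizes `R`. -/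
def Derang {F : Type*} [Field F] (R : Subgroup (GL (Fin 4) F)) (r : ℕ) : Prop :=
  ∃ x : GL (Fin 4) F, x ∈ specialLinear (Fin 4) F ∧ x ^ r = 1 ∧ (∀ z : F, (x : Matrix (Fin 4) (Fin 4) F) ≠ z • (1 : Matrix (Fin 4) (Fin 4) F)) ∧
    ∀ g : GL (Fin 4) F, g⁻¹ * x * g ∉ subgroupNormalizer R

/-- Normal form of an element of order 3 with a 2-dimensional fixed space (`p = 2 mod 3`). -/
def MA (F : Type*) [Field F] : Matrix (Fin 4) (Fin 4) F :=
  !![0, -1, 0, 0; 1, -1, 0, 0; 0, 0, 1, 0; 0, 0, 0, 1]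

/-- Normal form of a fixed-point-free element of order 3 (`p = 2 mod 3`). -/
def MB (F : Type*) [Field F] : Matrix (Fin 4) (Fin 4) F :=
  !![0, -1, 0, 0; 1, -1, 0, 0; 0, 0, 0, -1; 0, 0, 1, -1]

/-- The diagonal involution with `k` entries `-1`. -/
def Dk (F : Type*) [Field F] (k : ℕ) : Matrix (Fin 4) (Fin 4) F :=
  Matrix.diagonal (fun j : Fin 4 => if (j : ℕ) < k then (-1 : F) else 1)

end Cfsg.Agent.Lib.helper89.S60
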