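import Mathlib

/-! S4501 split, piece AR2 (`ar_minus`): pure arithmetic, Mathlib only.  Also holds the small
shared arithmetic lemmas used by piece AR1. -/

set_option autoImplicit false
set_option linter.unusedVariables false

namespace Cfsg.Agent.Lib.helper89.BW

/-- odd prime divisors of `4 p^a q^b` are `p` or `q`. -/
theorem h89_prime_dvd_N (p q a b ℓ : ℕ) (hp : p.Prime) (hq : q.Prime) (hℓ : ℓ.Prime)
    (hℓ2 : ℓ ≠ 2) (h : ℓ ∣ 4 * p ^ a * q ^ b) : ℓ = p ∨ ℓ = q := by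
  rcases (Nat.Prime.dvd_mul hℓ).mp h with h1 | h1
  · rcases (Nat.Prime.dvd_mul hℓ).mp h1 with h2 | h2
    · exfalso
      have h4 : (4 : ℕ) = 2 ^ 2 := by norm_num
      rw [h4] at h2
      exact hℓ2 ((Nat.prime_dvd_prime_iff_eq hℓ Nat.prime_two).mp (hℓ.dvd_of_dvd_pow h2))
    · exact Or.inl ((Nat.prime_dvd_prime_iff_eq hℓ hp).mp (hℓ.dvd_of_dvd_pow h2))
  · exact Or.inr ((Nat.prime_dvd_prime_iff_eq hℓ hq).mp (hℓ.dvd_of_dvd_pow h1))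

/-- odd prime divisors of `(A+1)(B-1)(C-1)` are `p` or `q`, by the order formula. -/
theorem h89_prime_dvd_form (p q a b A B C cJ cP ℓ : ℕ) (hp : p.Prime) (hq : q.Prime)
    (hℓ : ℓ.Prime) (hℓ2 : ℓ ≠ 2)
    (hAd : A ∣ 4 * p ^ a * q ^ b) (hBd : B ∣ 4 * p ^ a * q ^ b) (hCd : C ∣ 4 * p ^ a * q ^ b)
    (hcJ : cJ ∣ 4 * p ^ a * q ^ b)
    (hform : (4 * p ^ a * q ^ b) * ((A + 1) * (B - 1) * (C - 1)) * cP ^ 2
      = 8 * (A * B * C) * cJ ^ 3)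
    (h : ℓ ∣ (A + 1) * (B - 1) * (C - 1)) : ℓ = p ∨ ℓ = q := by
  have h1 : ℓ ∣ 8 * (A * B * C) * cJ ^ 3 := by
    rw [← hform]
    exact Dvd.dvd.mul_right (Dvd.dvd.mul_left h _) _
  have hN : ℓ ∣ 4 * p ^ a * q ^ b := by
    rcases (Nat.Prime.dvd_mul hℓ).mp h1 with h2 | h2
    · rcases (Nat.Prime.dvd_mul hℓ).mp h2 with h3 | h3
      · exfalso
        have h8 : (8 : ℕ) = 2 ^ 3 := by norm_num
        rw [h8] at h3
        exact hℓ2 ((Nat.prime_dvd_prime_iff_eq hℓ Nat.prime_two).mp (hℓ.dvd_of_dvd_pow h3))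
      · rcases (Nat.Prime.dvd_mul hℓ).mp h3 with h4 | h4
        · rcases (Nat.Prime.dvd_mul hℓ).mp h4 with h5 | h5
          · exact h5.trans hAd
          · exact h5.trans hBd
        · exact h4.trans hCd
    · exact (hℓ.dvd_of_dvd_pow h2).trans hcJ
  exact h89_prime_dvd_N p q a b ℓ hp hq hℓ hℓ2 hN

/-- two coprime numbers `> 1` with prime factors in `{p, q}`: one is a `p`-number, the other
a `q`-number. -/
theorem h89_dich (p q X Y : ℕ) (hX : 1 < X) (hY : 1 < Y) (hXY : Nat.Coprime X Y)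
    (hp : p.Prime) (hq : q.Prime)
    (SX : ∀ ℓ : ℕ, ℓ.Prime → ℓ ∣ X → ℓ = p ∨ ℓ = q)
    (SY : ∀ ℓ : ℕ, ℓ.Prime → ℓ ∣ Y → ℓ = p ∨ ℓ = q) :
    (p ∣ X ∧ ¬ q ∣ X ∧ q ∣ Y ∧ ¬ p ∣ Y) ∨ (q ∣ X ∧ ¬ p ∣ X ∧ p ∣ Y ∧ ¬ q ∣ Y) := by
  have key : ∀ r : ℕ, r.Prime → r ∣ X → r ∣ Y → False := by
    intro r hr h1 h2
    exact hr.one_lt.ne' (Nat.eq_one_of_dvd_coprimes hXY h1 h2)
  obtain ⟨ℓ, hℓ, hℓX⟩ := Nat.exists_prime_and_dvd (ne_of_gt hX)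
  obtain ⟨m, hm, hmY⟩ := Nat.exists_prime_and_dvd (ne_of_gt hY)
  rcases SX ℓ hℓ hℓX with h1 | h1
  · rcases SY m hm hmY with h2 | h2
    · rw [h1] at hℓX; rw [h2] at hmY
      exact (key p hp hℓX hmY).elim
    · rw [h1] at hℓX; rw [h2] at hmY
      exact Or.inl ⟨hℓX, fun h => key q hq h hmY, hmY, fun h => key p hp hℓX h⟩
  · rcases SY m hm hmY with h2 | h2
    · rw [h1] at hℓX; rw [h2] at hmY
      exact Or.inr ⟨hℓX, fun h => key p hp h hmY, hmY, fun h => key q hq hℓX h⟩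
    · rw [h1] at hℓX; rw [h2] at hmY
      exact (key q hq hℓX hmY).elim

/-- a power of `3` not divisible by `9` is `1` or `3`. -/
theorem h89_pow3 (X : ℕ) (hX : X ≠ 0) (h3 : ∀ ℓ : ℕ, ℓ.Prime → ℓ ∣ X → ℓ = 3)
    (h9 : ¬ 9 ∣ X) : X = 1 ∨ X = 3 := by
  have h := Nat.eq_prime_pow_of_unique_prime_dvd hX (fun {d} hd hdX => h3 d hd hdX)
  obtain ⟨k, hk⟩ : ∃ k, k = X.primeFactorsList.length := ⟨_, rfl⟩
  rw [← hk] at h
  rcases Nat.lt_or_ge k 2 with h2 | h2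
  · interval_cases k
    · left; simpa using h
    · right; simpa using h
  · exfalso
    apply h9
    rw [h]
    have h92 : (9 : ℕ) = 3 ^ 2 := by norm_num
    rw [h92]
    exact pow_dvd_pow 3 h2

theorem h89_cop1 (A α : ℕ) (hA : A + 1 = 2 * α) : Nat.Coprime A α := by
  have h1 : Nat.gcd A α ∣ A := Nat.gcd_dvd_left _ _
  have h2 : Nat.gcd A α ∣ α := Nat.gcd_dvd_right _ _
  have h3 : Nat.gcd A α ∣ A + 1 := by rw [hA]; exact Dvd.dvd.mul_left h2 2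
  have h4 : Nat.gcd A α ∣ 1 := (Nat.dvd_add_right h1).mp h3
  exact Nat.dvd_one.mp h4

theorem h89_cop2 (B β : ℕ) (hB : B = 2 * β + 1) : Nat.Coprime B β := by
  have key : ∀ d : ℕ, d ∣ B → d ∣ β → d ∣ 1 := by
    intro d h1 h2
    have h3 : d ∣ 2 * β := Dvd.dvd.mul_left h2 2
    rw [hB] at h1
    exact (Nat.dvd_add_right h3).mp h1
  exact Nat.dvd_one.mp (key _ (Nat.gcd_dvd_left _ _) (Nat.gcd_dvd_right _ _))

/-- the four type patterns with `B, C > 3` are all contradictory. -/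
theorem h89_core (u v A B C α β γ : ℕ) (hu : u.Prime) (hv : v.Prime)
    (hA : A + 1 = 2 * α) (hB : B = 2 * β + 1) (hC : C = 2 * γ + 1) (hrel : 1 + A = B + C)
    (huA : u ∣ A) (hvα : v ∣ α)
    (hBt : (u ∣ B ∧ v ∣ β) ∨ (v ∣ B ∧ u ∣ β))
    (hCt : (u ∣ C ∧ v ∣ γ) ∨ (v ∣ C ∧ u ∣ γ)) : False := by
  rcases hBt with ⟨huB, hvβ⟩ | ⟨hvB, huβ⟩
  · rcases hCt with ⟨huC, hvγ⟩ | ⟨hvC, huγ⟩
    · have h1 : u ∣ A + 1 := by
        have : A + 1 = B + C := by omega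
        rw [this]; exact dvd_add huB huC
      have h2 : u ∣ 1 := (Nat.dvd_add_right huA).mp h1
      exact hu.one_lt.ne' (Nat.dvd_one.mp h2)
    · have h1 : v ∣ γ + 1 := by
        have : α = β + (γ + 1) := by omega
        rw [this] at hvα
        exact (Nat.dvd_add_right hvβ).mp hvα
      have h2 : v ∣ 2 * (γ + 1) := Dvd.dvd.mul_left h1 2
      have h3 : 2 * (γ + 1) = C + 1 := by omega
      rw [h3] at h2
      have h4 : v ∣ 1 := (Nat.dvd_add_right hvC).mp h2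
      exact hv.one_lt.ne' (Nat.dvd_one.mp h4)
  · rcases hCt with ⟨huC, hvγ⟩ | ⟨hvC, huγ⟩
    · have h1 : v ∣ β + 1 := by
        have : α = γ + (β + 1) := by omega
        rw [this] at hvα
        exact (Nat.dvd_add_right hvγ).mp hvα
      have h2 : v ∣ 2 * (β + 1) := Dvd.dvd.mul_left h1 2
      have h3 : 2 * (β + 1) = B + 1 := by omega
      rw [h3] at h2
      have h4 : v ∣ 1 := (Nat.dvd_add_right hvB).mp h2
      exact hv.one_lt.ne' (Nat.dvd_one.mp h4)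
    · have h1 : A = 2 * β + 2 * γ + 1 := by omega
      have h2 : u ∣ 2 * β + 2 * γ :=
        dvd_add (Dvd.dvd.mul_left huβ 2) (Dvd.dvd.mul_left huγ 2)
      rw [h1] at huA
      have h4 : u ∣ 1 := (Nat.dvd_add_right h2).mp huA
      exact hu.one_lt.ne' (Nat.dvd_one.mp h4)

/-- final step of case (b): `α` and `C` are powers of the same prime `v` with `C + 3 = 2 α`. -/
theorem h89_caseB_aux (v C α : ℕ) (hv : v.Prime) (hvα : v ∣ α) (hvC : v ∣ C)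
    (hCα : C + 3 = 2 * α) (_hα1 : 1 < α) (hC3 : 3 < C)
    (Pα : ∀ ℓ : ℕ, ℓ.Prime → ℓ ∣ α → ℓ = v) (PC : ∀ ℓ : ℕ, ℓ.Prime → ℓ ∣ C → ℓ = v) :
    False := by
  have h1 : v ∣ C + 3 := by rw [hCα]; exact Dvd.dvd.mul_left hvα 2
  have h2 : v ∣ 3 := (Nat.dvd_add_right hvC).mp h1
  have hv3 : v = 3 := (Nat.prime_dvd_prime_iff_eq hv Nat.prime_three).mp h2
  rw [hv3] at Pα PC
  by_cases h9 : 9 ∣ α
  · have h9C : ¬ 9 ∣ C := by
      intro h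
      obtain ⟨k, hk⟩ := h9
      obtain ⟨l, hl⟩ := h
      omega
    rcases h89_pow3 C (by omega) PC h9C with h | h <;> omega
  · rcases h89_pow3 α (by omega) Pα h9 with h | h <;> omega

/-- case (b): `B = 3` forces `C = 3`. -/
theorem h89_caseB (p q A C α γ : ℕ) (hp : p.Prime) (hq : q.Prime)
    (hA : A + 1 = 2 * α) (hC : C = 2 * γ + 1) (hrel : 1 + A = 3 + C)
    (hα1 : 1 < α) (hC3 : 3 ≤ C) (hγodd : γ % 2 = 1)
    (SA : ∀ ℓ : ℕ, ℓ.Prime → ℓ ∣ A → ℓ = p ∨ ℓ = q)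
    (SC : ∀ ℓ : ℕ, ℓ.Prime → ℓ ∣ C → ℓ = p ∨ ℓ = q)
    (Sα : ∀ ℓ : ℕ, ℓ.Prime → ℓ ∣ α → ℓ = p ∨ ℓ = q)
    (Sγ : ∀ ℓ : ℕ, ℓ.Prime → ℓ ∣ γ → ℓ = p ∨ ℓ = q) : C = 3 := by
  by_contra hne
  have hC7 : 3 < C := lt_of_le_of_ne hC3 (Ne.symm hne)
  have hγ1 : 1 < γ := by omega
  have hA1 : 1 < A := by omega
  have hC1 : 1 < C := by omega
  have cAα : Nat.Coprime A α := h89_cop1 A α hA
  have cCγ : Nat.Coprime C γ := h89_cop2 C γ hC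
  have cAC : Nat.Coprime A C := by
    have key : ∀ d : ℕ, d ∣ A → d ∣ C → d = 1 := by
      intro d h1 h2
      have hAC : A = C + 2 := by omega
      rw [hAC] at h1
      have h3 : d ∣ 2 := (Nat.dvd_add_right h2).mp h1
      rcases (Nat.dvd_prime Nat.prime_two).mp h3 with h4 | h4
      · exact h4
      · exfalso
        rw [h4] at h2
        obtain ⟨k, hk⟩ := h2
        omega
    exact key _ (Nat.gcd_dvd_left _ _) (Nat.gcd_dvd_right _ _)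
  have hCα : C + 3 = 2 * α := by omega
  rcases h89_dich p q A α hA1 hα1 cAα hp hq SA Sα with
    ⟨hpA, hqA, hqα, hpα⟩ | ⟨hqA, hpA, hpα, hqα⟩
  · rcases h89_dich p q C γ hC1 hγ1 cCγ hp hq SC Sγ with
      ⟨hpC, hqC, hqγ, hpγ⟩ | ⟨hqC, hpC, hpγ, hqγ⟩
    · exact hp.one_lt.ne' (Nat.eq_one_of_dvd_coprimes cAC hpA hpC)
    · refine h89_caseB_aux q C α hq hqα hqC hCα hα1 hC7 ?_ ?_
      · intro ℓ hℓ h
        rcases Sα ℓ hℓ h with h1 | h1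
        · rw [h1] at h; exact (hpα h).elim
        · exact h1
      · intro ℓ hℓ h
        rcases SC ℓ hℓ h with h1 | h1
        · rw [h1] at h; exact (hpC h).elim
        · exact h1
  · rcases h89_dich p q C γ hC1 hγ1 cCγ hp hq SC Sγ with
      ⟨hpC, hqC, hqγ, hpγ⟩ | ⟨hqC, hpC, hpγ, hqγ⟩
    · refine h89_caseB_aux p C α hp hpα hpC hCα hα1 hC7 ?_ ?_
      · intro ℓ hℓ h
        rcases Sα ℓ hℓ h with h1 | h1
        · exact h1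
        · rw [h1] at h; exact (hqα h).elim
      · intro ℓ hℓ h
        rcases SC ℓ hℓ h with h1 | h1
        · exact h1
        · rw [h1] at h; exact (hqC h).elim
    · exact hq.one_lt.ne' (Nat.eq_one_of_dvd_coprimes cAC hqA hqC)

/-- AR2 (sign `-`): the degrees are `5, 3, 3` and the primes are `3, 5`. -/
theorem ar_minus (p q a b A B C cJ cP : ℕ) (hp : p.Prime) (hq : q.Prime) (hpq : p ≠ q)
    (hp2 : p ≠ 2) (hq2 : q ≠ 2)
    (hA4 : A % 4 = 1) (hB4 : B % 4 = 3) (hC4 : C % 4 = 3) (hA1 : 1 < A) (hrel : 1 + A = B + C)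
    (hAd : A ∣ 4 * p ^ a * q ^ b) (hBd : B ∣ 4 * p ^ a * q ^ b) (hCd : C ∣ 4 * p ^ a * q ^ b)
    (hcJ : cJ ∣ 4 * p ^ a * q ^ b)
    (hform : (4 * p ^ a * q ^ b) * ((A + 1) * (B - 1) * (C - 1)) * cP ^ 2
      = 8 * (A * B * C) * cJ ^ 3) :
    A = 5 ∧ B = 3 ∧ C = 3 ∧ ((p = 3 ∧ q = 5) ∨ (p = 5 ∧ q = 3)) := by
  obtain ⟨α, hα⟩ : ∃ α, A + 1 = 2 * α := ⟨(A + 1) / 2, by omega⟩
  obtain ⟨β, hβ⟩ : ∃ β, B = 2 * β + 1 := ⟨(B - 1) / 2, by omega⟩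
  obtain ⟨γ, hγ⟩ : ∃ γ, C = 2 * γ + 1 := ⟨(C - 1) / 2, by omega⟩
  have hαodd : α % 2 = 1 := by omega
  have hβodd : β % 2 = 1 := by omega
  have hγodd : γ % 2 = 1 := by omega
  have odd_ne2 : ∀ X ℓ : ℕ, X % 2 = 1 → ℓ ∣ X → ℓ ≠ 2 := by
    intro X ℓ hX hd h2
    rw [h2] at hd
    obtain ⟨k, hk⟩ := hd
    omega
  have SA : ∀ ℓ : ℕ, ℓ.Prime → ℓ ∣ A → ℓ = p ∨ ℓ = q := fun ℓ hℓ h =>
    h89_prime_dvd_N p q a b ℓ hp hq hℓ (odd_ne2 A ℓ (by omega) h) (h.trans hAd)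
  have SB : ∀ ℓ : ℕ, ℓ.Prime → ℓ ∣ B → ℓ = p ∨ ℓ = q := fun ℓ hℓ h =>
    h89_prime_dvd_N p q a b ℓ hp hq hℓ (odd_ne2 B ℓ (by omega) h) (h.trans hBd)
  have SC : ∀ ℓ : ℕ, ℓ.Prime → ℓ ∣ C → ℓ = p ∨ ℓ = q := fun ℓ hℓ h =>
    h89_prime_dvd_N p q a b ℓ hp hq hℓ (odd_ne2 C ℓ (by omega) h) (h.trans hCd)
  have hB1 : B - 1 = 2 * β := by omega
  have hC1 : C - 1 = 2 * γ := by omega
  have Sα : ∀ ℓ : ℕ, ℓ.Prime → ℓ ∣ α → ℓ = p ∨ ℓ = q := fun ℓ hℓ h =>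
    h89_prime_dvd_form p q a b A B C cJ cP ℓ hp hq hℓ (odd_ne2 α ℓ hαodd h) hAd hBd hCd hcJ
      hform (by
        have h1 : ℓ ∣ A + 1 := by rw [hα]; exact Dvd.dvd.mul_left h 2
        exact Dvd.dvd.mul_right (Dvd.dvd.mul_right h1 _) _)
  have Sβ : ∀ ℓ : ℕ, ℓ.Prime → ℓ ∣ β → ℓ = p ∨ ℓ = q := fun ℓ hℓ h =>
    h89_prime_dvd_form p q a b A B C cJ cP ℓ hp hq hℓ (odd_ne2 β ℓ hβodd h) hAd hBd hCd hcJ
      hform (by
        have h1 : ℓ ∣ B - 1 := by rw [hB1]; exact Dvd.dvd.mul_left h 2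
        exact Dvd.dvd.mul_right (Dvd.dvd.mul_left h1 _) _)
  have Sγ : ∀ ℓ : ℕ, ℓ.Prime → ℓ ∣ γ → ℓ = p ∨ ℓ = q := fun ℓ hℓ h =>
    h89_prime_dvd_form p q a b A B C cJ cP ℓ hp hq hℓ (odd_ne2 γ ℓ hγodd h) hAd hBd hCd hcJ
      hform (by
        have h1 : ℓ ∣ C - 1 := by rw [hC1]; exact Dvd.dvd.mul_left h 2
        exact Dvd.dvd.mul_left h1 _)
  have hB3 : 3 ≤ B := by omega
  have hC3 : 3 ≤ C := by omega
  have hα1 : 1 < α := by omega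
  have key : B = 3 ∨ C = 3 := by
    by_contra hcon
    have hBne : B ≠ 3 := fun h => hcon (Or.inl h)
    have hCne : C ≠ 3 := fun h => hcon (Or.inr h)
    have hβ1 : 1 < β := by omega
    have hγ1 : 1 < γ := by omega
    have cAα : Nat.Coprime A α := h89_cop1 A α hα
    have cBβ : Nat.Coprime B β := h89_cop2 B β hβ
    have cCγ : Nat.Coprime C γ := h89_cop2 C γ hγ
    have dB := h89_dich p q B β (by omega) hβ1 cBβ hp hq SB Sβ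
    have dC := h89_dich p q C γ (by omega) hγ1 cCγ hp hq SC Sγ
    rcases h89_dich p q A α hA1 hα1 cAα hp hq SA Sα with
      ⟨hpA, hqA, hqα, hpα⟩ | ⟨hqA, hpA, hpα, hqα⟩
    · refine h89_core p q A B C α β γ hp hq hα hβ hγ hrel hpA hqα ?_ ?_
      · rcases dB with ⟨h1, _, h3, _⟩ | ⟨h1, _, h3, _⟩
        · exact Or.inl ⟨h1, h3⟩
        · exact Or.inr ⟨h1, h3⟩
      · rcases dC with ⟨h1, _, h3, _⟩ | ⟨h1, _, h3, _⟩
        · exact Or.inl ⟨h1, h3⟩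
        · exact Or.inr ⟨h1, h3⟩
    · refine h89_core q p A B C α β γ hq hp hα hβ hγ hrel hqA hpα ?_ ?_
      · rcases dB with ⟨h1, _, h3, _⟩ | ⟨h1, _, h3, _⟩
        · exact Or.inr ⟨h1, h3⟩
        · exact Or.inl ⟨h1, h3⟩
      · rcases dC with ⟨h1, _, h3, _⟩ | ⟨h1, _, h3, _⟩
        · exact Or.inr ⟨h1, h3⟩
        · exact Or.inl ⟨h1, h3⟩
  have hfin : B = 3 ∧ C = 3 := by
    rcases key with hB | hC
    · exact ⟨hB, h89_caseB p q A C α γ hp hq hα hγ (by omega) hα1 hC3 hγodd SA SC Sα Sγ⟩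
    · exact ⟨h89_caseB p q A B α β hp hq hα hβ (by omega) hα1 hB3 hβodd SA SB Sα Sβ, hC⟩
  obtain ⟨hB, hC⟩ := hfin
  have hA5 : A = 5 := by omega
  refine ⟨hA5, hB, hC, ?_⟩
  have h5 := SA 5 (by norm_num) (by rw [hA5])
  have h3 := SB 3 (by norm_num) (by rw [hB])
  omega

end Cfsg.Agent.Lib.helper89.BW
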