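import Mathlib
import Cfsg.Agent.Lib.helper89.BW_AR2

/-! S4501 split, piece AR1 (`ar_plus`): pure arithmetic (Mathlib + the shared lemmas of
`BW_AR2`). -/

set_option autoImplicit false
set_option linter.unusedVariables false

namespace Cfsg.Agent.Lib.helper89.BW

/-- AR1 (sign `+`): `x`, `(x-1)/2`, `(x+1)/4` are three pairwise coprime divisors `≥ 2` of
`p^a q^b`. -/
theorem ar_plus (p q a b x cJ cP m : ℕ) (hp : p.Prime) (hq : q.Prime) (hp2 : p ≠ 2) (hq2 : q ≠ 2)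
    (hx5 : 5 ≤ x) (hx4 : x % 4 = 3) (hxd : x ∣ 4 * p ^ a * q ^ b)
    (hcJ : cJ ∣ 4 * p ^ a * q ^ b) (hcP : 4 ∣ cP)
    (h1 : 4 * cJ = m * cP * (x + 1))
    (h2 : 8 * (4 * p ^ a * q ^ b) = m ^ 3 * cP * (x ^ 3 - x)) : False := by
  obtain ⟨u, hu⟩ : ∃ u, x = 2 * u + 1 := ⟨(x - 1) / 2, by omega⟩
  obtain ⟨v, hv⟩ : ∃ v, x + 1 = 4 * v := ⟨(x + 1) / 4, by omega⟩
  have huodd : u % 2 = 1 := by omega
  have hu1 : 1 < u := by omega
  have hv1 : 1 < v := by omega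
  have hx1 : 1 < x := by omega
  have huv : u + 1 = 2 * v := by omega
  have odd_ne2 : ∀ X ℓ : ℕ, X % 2 = 1 → ℓ ∣ X → ℓ ≠ 2 := by
    intro X ℓ hX hd h2
    rw [h2] at hd
    obtain ⟨k, hk⟩ := hd
    omega
  -- prime factors of x
  have Sx : ∀ ℓ : ℕ, ℓ.Prime → ℓ ∣ x → ℓ = p ∨ ℓ = q := fun ℓ hℓ h =>
    h89_prime_dvd_N p q a b ℓ hp hq hℓ (odd_ne2 x ℓ (by omega) h) (h.trans hxd)
  -- prime factors of u
  have hfac : x ^ 3 - x = (x - 1) * (x * (x + 1)) := by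
    obtain ⟨y, rfl⟩ : ∃ y, x = y + 1 := ⟨x - 1, by omega⟩
    simp only [Nat.add_sub_cancel]
    apply Nat.sub_eq_of_eq_add
    ring
  have hx1' : x - 1 = 2 * u := by omega
  have hu8 : u ∣ 8 * (4 * p ^ a * q ^ b) := by
    rw [h2, hfac, hx1']
    exact Dvd.dvd.mul_left (Dvd.dvd.mul_right (dvd_mul_left u 2) _) _
  have Su : ∀ ℓ : ℕ, ℓ.Prime → ℓ ∣ u → ℓ = p ∨ ℓ = q := by
    intro ℓ hℓ h
    have hℓ2 : ℓ ≠ 2 := odd_ne2 u ℓ huodd h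
    have h3 : ℓ ∣ 8 * (4 * p ^ a * q ^ b) := h.trans hu8
    rcases (Nat.Prime.dvd_mul hℓ).mp h3 with h4 | h4
    · exfalso
      have h8 : (8 : ℕ) = 2 ^ 3 := by norm_num
      rw [h8] at h4
      exact hℓ2 ((Nat.prime_dvd_prime_iff_eq hℓ Nat.prime_two).mp (hℓ.dvd_of_dvd_pow h4))
    · exact h89_prime_dvd_N p q a b ℓ hp hq hℓ hℓ2 h4
  -- prime factors of v
  have hvg : v ∣ p ^ a * q ^ b := by
    obtain ⟨c, hc⟩ := hcP
    have h3 : cJ = 4 * v * (m * c) := by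
      have : 4 * cJ = 4 * (4 * v * (m * c)) := by
        rw [h1, hv, hc]; ring
      omega
    have h4 : 4 * v ∣ 4 * (p ^ a * q ^ b) := by
      have : 4 * v ∣ cJ := ⟨m * c, h3⟩
      have h5 := this.trans hcJ
      rw [mul_assoc] at h5
      exact h5
    exact Nat.dvd_of_mul_dvd_mul_left (by norm_num) h4
  have Sv : ∀ ℓ : ℕ, ℓ.Prime → ℓ ∣ v → ℓ = p ∨ ℓ = q := by
    intro ℓ hℓ h
    rcases (Nat.Prime.dvd_mul hℓ).mp (h.trans hvg) with h3 | h3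
    · exact Or.inl ((Nat.prime_dvd_prime_iff_eq hℓ hp).mp (hℓ.dvd_of_dvd_pow h3))
    · exact Or.inr ((Nat.prime_dvd_prime_iff_eq hℓ hq).mp (hℓ.dvd_of_dvd_pow h3))
  -- coprimality
  have cxu : Nat.Coprime x u := h89_cop2 x u hu
  have cxv : ∀ r : ℕ, r.Prime → r ∣ x → r ∣ v → False := by
    intro r hr h3 h4
    have h5 : r ∣ x + 1 := by rw [hv]; exact Dvd.dvd.mul_left h4 4
    have h6 : r ∣ 1 := (Nat.dvd_add_right h3).mp h5
    exact hr.one_lt.ne' (Nat.dvd_one.mp h6)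
  have cuv : ∀ r : ℕ, r.Prime → r ∣ u → r ∣ v → False := by
    intro r hr h3 h4
    have h5 : r ∣ u + 1 := by rw [huv]; exact Dvd.dvd.mul_left h4 2
    have h6 : r ∣ 1 := (Nat.dvd_add_right h3).mp h5
    exact hr.one_lt.ne' (Nat.dvd_one.mp h6)
  obtain ⟨ℓ, hℓ, hℓv⟩ := Nat.exists_prime_and_dvd (ne_of_gt hv1)
  rcases h89_dich p q x u hx1 hu1 cxu hp hq Sx Su with
    ⟨hpx, hqx, hqu, hpu⟩ | ⟨hqx, hpx, hpu, hqu⟩
  · rcases Sv ℓ hℓ hℓv with h3 | h3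
    · rw [h3] at hℓv; exact cxv p hp hpx hℓv
    · rw [h3] at hℓv; exact cuv q hq hqu hℓv
  · rcases Sv ℓ hℓ hℓv with h3 | h3
    · rw [h3] at hℓv; exact cuv p hp hpu hℓv
    · rw [h3] at hℓv; exact cxv q hq hqx hℓv

end Cfsg.Agent.Lib.helper89.BW
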