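import Mathlib
import Cfsg.Prelude.Def_FusionSystem
import Cfsg.Agent.Lib.helper88.FusionBasic
import Cfsg.Agent.Lib.helper89.GroupAux
import Cfsg.Agent.Lib.helper89.FusionSat
import Cfsg.Agent.Lib.helper89.FusionClosed
import Cfsg.Agent.Lib.helper89.FusionNormalizer

set_option autoImplicit false

namespace Cfsg.Agent.Lib.helper89

open Cfsg Cfsg.FusionSystem

variable {Ω : Type*} [Group Ω] {S : Subgroup Ω}

/-! ### Maps of a saturated system modulo a strongly closed subgroup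

For a strongly closed subgroup `T` of a saturated fusion system `F`, every map `φ : P → S` of `F`
agrees modulo `T` with a map of `F` defined on a subgroup containing `P` and `T`. This is the fact
that the canonical map `F → F/T` is surjective on maps. -/

/-- `φ` agrees modulo `T` with a map of the system defined on a subgroup containing its source
and `T`. -/
def QuotExt (F : FusionSystem S) (T : Subgroup Ω) {P : Subgroup Ω} (φ : P →* Ω) : Prop :=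
  ∃ (N : Subgroup Ω) (ψ : N →* Ω), ψ ∈ F.Hom N ∧ P ≤ N ∧ T ≤ N ∧
    ∀ (x : Ω) (hx : x ∈ P) (hN : x ∈ N), φ ⟨x, hx⟩ * (ψ ⟨x, hN⟩)⁻¹ ∈ T

/-- A map of the system defined on a subgroup containing the strongly closed `T` maps `T` to `T`. -/
theorem hom_mem_of_stronglyClosed (F : FusionSystem S) {T N : Subgroup Ω} (hT : F.StronglyClosed T)
    {ψ : N →* Ω} (hψ : ψ ∈ F.Hom N) (hTN : T ≤ N) (t : Ω) (ht : t ∈ T) : ψ ⟨t, hTN ht⟩ ∈ T :=
  hT.2 T le_rfl _ (Cfsg.Agent.Lib.helper88.restrict_mem F hTN hψ) ⟨t, ht⟩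

/-- The maps of `F` that agree modulo the strongly closed subgroup `T` with a map of `F` defined on
a subgroup containing `T` form a fusion system. -/
def quotExtSystem (F : FusionSystem S) [Finite S] (T : Subgroup Ω) (hT : F.StronglyClosed T) :
    FusionSystem S where
  Hom P := {φ | φ ∈ F.Hom P ∧ QuotExt F T φ}
  le_of_mem h := F.le_of_mem h.1
  injective_of_mem h := F.injective_of_mem h.1
  conj_mem := by
    intro P g hP hg
    refine ⟨F.conj_mem hP hg, S, conjHom S g, F.conj_mem le_rfl hg, hP, hT.1, ?_⟩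
    intro x hx hN
    have : conjHom P g ⟨x, hx⟩ * (conjHom S g ⟨x, hN⟩)⁻¹ = 1 := mul_inv_cancel _
    rw [this]
    exact T.one_mem
  comp_mem := by
    rintro P Q φ φ' ⟨hφ, N, ψ, hψ, hPN, hTN, hψP⟩ ⟨hφ', N', ψ', hψ', hQN', hTN', hψ'Q⟩ h
    refine ⟨F.comp_mem hφ hφ' h, ?_⟩
    have hle : P ⊔ T ≤ N := sup_le hPN hTN
    have hψP' : ∀ (x : Ω) (hx : x ∈ P), ψ ⟨x, hPN hx⟩ ∈ N' := by
      intro x hx
      have h1 := hψP x hx (hPN hx)
      have h2 : ψ ⟨x, hPN hx⟩ = (φ ⟨x, hx⟩ * (ψ ⟨x, hPN hx⟩)⁻¹)⁻¹ * φ ⟨x, hx⟩ := by group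
      rw [h2]
      exact N'.mul_mem (N'.inv_mem (hTN' h1)) (hQN' (h ⟨x, hx⟩))
    have hmap : ∀ x : ↥(P ⊔ T), ψ (Subgroup.inclusion hle x) ∈ N' := by
      have h1 : P ⊔ T ≤ (N'.comap ψ).map N.subtype := by
        refine sup_le ?_ ?_
        · intro x hx
          exact ⟨⟨x, hPN hx⟩, hψP' x hx, rfl⟩
        · intro t ht
          exact ⟨⟨t, hTN ht⟩, hTN' (hom_mem_of_stronglyClosed F hT hψ hTN t ht), rfl⟩
      intro x
      obtain ⟨y, hy, hyx⟩ := h1 x.2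
      have : Subgroup.inclusion hle x = y := Subtype.ext hyx.symm
      rw [this]
      exact hy
    have hψ₀ := Cfsg.Agent.Lib.helper88.restrict_mem F hle hψ
    refine ⟨P ⊔ T, ψ'.comp ((ψ.comp (Subgroup.inclusion hle)).codRestrict N' hmap),
      F.comp_mem hψ₀ hψ' hmap, le_sup_left, le_sup_right, ?_⟩
    intro x hx hR
    show φ' ⟨φ ⟨x, hx⟩, _⟩ * (ψ' ⟨ψ ⟨x, _⟩, _⟩)⁻¹ ∈ T
    have h1 := hψ'Q (φ ⟨x, hx⟩) (h ⟨x, hx⟩) (hQN' (h ⟨x, hx⟩))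
    have h2 := hψP x hx (hPN hx)
    have h3 := hom_mem_of_stronglyClosed F hT hψ' hTN' _ h2
    have h4 : (⟨φ ⟨x, hx⟩ * (ψ ⟨x, hPN hx⟩)⁻¹, hTN' h2⟩ : N') =
        ⟨φ ⟨x, hx⟩, hQN' (h ⟨x, hx⟩)⟩ * (⟨ψ ⟨x, hPN hx⟩, hψP' x hx⟩ : N')⁻¹ := rfl
    rw [h4, map_mul, map_inv] at h3
    have h5 : φ' ⟨φ ⟨x, hx⟩, h ⟨x, hx⟩⟩ * (ψ' ⟨ψ ⟨x, hPN hx⟩, hψP' x hx⟩)⁻¹ =
        (φ' ⟨φ ⟨x, hx⟩, h ⟨x, hx⟩⟩ * (ψ' ⟨φ ⟨x, hx⟩, hQN' (h ⟨x, hx⟩)⟩)⁻¹) *
          (ψ' ⟨φ ⟨x, hx⟩, hQN' (h ⟨x, hx⟩)⟩ * (ψ' ⟨ψ ⟨x, hPN hx⟩, hψP' x hx⟩)⁻¹) := by group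
    rw [h5]
    exact T.mul_mem h1 h3
  inv_mem := by
    rintro P φ ⟨hφ, N, ψ, hψ, hPN, hTN, hψP⟩
    obtain ⟨σ, hσ, hσinv⟩ := F.inv_mem hφ
    refine ⟨σ, ⟨hσ, ?_⟩, hσinv⟩
    obtain ⟨ρ, hρ, hρinv⟩ := F.inv_mem hψ
    have hTmap := map_subgroupOf_eq_of_forall_mem F hψ hTN
      (fun t ht => hom_mem_of_stronglyClosed F hT hψ hTN t ht)
    have hTR : T ≤ ψ.range := by
      intro y hy
      rw [← hTmap] at hy
      obtain ⟨z, -, rfl⟩ := hy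
      exact ⟨z, rfl⟩
    have hφR : φ.range ≤ ψ.range := by
      rintro _ ⟨x, rfl⟩
      have h1 := hψP x x.2 (hPN x.2)
      have h2 : φ x = (φ x * (ψ ⟨x, hPN x.2⟩)⁻¹) * ψ ⟨x, hPN x.2⟩ := by group
      rw [h2]
      exact ψ.range.mul_mem (hTR h1) ⟨_, rfl⟩
    refine ⟨ψ.range, ρ, hρ, hφR, hTR, ?_⟩
    rintro _ ⟨x, rfl⟩ hR
    rw [hσinv x]
    -- `φ x = ψ (t' * x)` with `t' ∈ T`
    have h1 := hψP x x.2 (hPN x.2)
    rw [← hTmap] at h1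
    obtain ⟨t', ht', ht'eq⟩ := h1
    have h2 : φ x = ψ (t' * ⟨x, hPN x.2⟩) := by
      rw [map_mul, ht'eq]; group
    have h3 : (⟨φ x, hR⟩ : ψ.range) = ⟨ψ (t' * ⟨x, hPN x.2⟩), ⟨_, rfl⟩⟩ := Subtype.ext h2
    rw [h3, hρinv]
    have h4 : (x : Ω) * (((t' * ⟨x, hPN x.2⟩ : N) : Ω))⁻¹ = ((t' : N) : Ω)⁻¹ := by
      simp
    rw [h4]
    exact T.inv_mem (Subgroup.mem_subgroupOf.mp ht')

theorem mem_quotExtSystem_iff (F : FusionSystem S) [Finite S] (T : Subgroup Ω)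
    (hT : F.StronglyClosed T) {P : Subgroup Ω} (φ : P →* Ω) :
    φ ∈ (quotExtSystem F T hT).Hom P ↔ φ ∈ F.Hom P ∧ QuotExt F T φ := Iff.rfl

/-- The automorphisms in `Aut_F(R)` acting trivially on `R` modulo `T`. -/
def autTrivMod (F : FusionSystem S) (T R : Subgroup Ω) (hT : F.StronglyClosed T) (hR : R ≤ S) :
    Subgroup (MulAut R) where
  carrier := {δ | δ ∈ F.autGroup R ∧ ∀ x : R, ((δ x : R) : Ω) * (x : Ω)⁻¹ ∈ T}
  one_mem' := ⟨(F.autGroup R).one_mem, fun x => by simp [T.one_mem]⟩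
  mul_mem' := by
    rintro δ ε ⟨hδ, hδT⟩ ⟨hε, hεT⟩
    refine ⟨(F.autGroup R).mul_mem hδ hε, fun x => ?_⟩
    have h1 : (((δ * ε) x : R) : Ω) * (x : Ω)⁻¹ =
        (((δ (ε x) : R) : Ω) * ((ε x : R) : Ω)⁻¹) * (((ε x : R) : Ω) * (x : Ω)⁻¹) := by
      rw [MulAut.mul_apply]; group
    rw [h1]
    exact T.mul_mem (hδT _) (hεT _)
  inv_mem' := by
    rintro δ ⟨hδ, hδT⟩
    refine ⟨(F.autGroup R).inv_mem hδ, fun x => ?_⟩
    have h1 := hδT (δ⁻¹ x)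
    have h2 : δ (δ⁻¹ x) = x := by simp
    rw [h2] at h1
    have h3 : ((δ⁻¹ x : R) : Ω) * (x : Ω)⁻¹ = ((x : Ω) * ((δ⁻¹ x : R) : Ω)⁻¹)⁻¹ := by group
    rw [h3]
    exact T.inv_mem h1

theorem mem_autTrivMod_iff (F : FusionSystem S) (T R : Subgroup Ω) (hT : F.StronglyClosed T)
    (hR : R ≤ S) (δ : MulAut R) :
    δ ∈ autTrivMod F T R hT hR ↔
      δ ∈ F.autGroup R ∧ ∀ x : R, ((δ x : R) : Ω) * (x : Ω)⁻¹ ∈ T := Iff.rfl

theorem autTrivMod_le (F : FusionSystem S) (T R : Subgroup Ω) (hT : F.StronglyClosed T)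
    (hR : R ≤ S) : autTrivMod F T R hT hR ≤ F.autGroup R := fun _ h => h.1

theorem autTrivMod_conj_mem (F : FusionSystem S) (T R : Subgroup Ω) (hT : F.StronglyClosed T)
    (hR : R ≤ S) : ∀ a ∈ F.autGroup R, ∀ d ∈ autTrivMod F T R hT hR,
      a * d * a⁻¹ ∈ autTrivMod F T R hT hR := by
  rintro a ha d ⟨hd, hdT⟩
  refine ⟨(F.autGroup R).mul_mem ((F.autGroup R).mul_mem ha hd) ((F.autGroup R).inv_mem ha),
    fun x => ?_⟩
  set y : R := a⁻¹ x with hy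
  have hx : x = a y := by simp [hy]
  have h1 : ((a * d * a⁻¹) x : R) = a (d y * y⁻¹) * x := by
    rw [hx]
    simp [MulAut.mul_apply]
  have h2 : (((a * d * a⁻¹) x : R) : Ω) * (x : Ω)⁻¹ = ((a (d y * y⁻¹) : R) : Ω) := by
    rw [h1]
    simp
  rw [h2]
  exact aut_mem_of_stronglyClosed F hT hR ha (d y * y⁻¹) (hdT y)

theorem autInducedBy_le_autTrivMod (F : FusionSystem S) (T R : Subgroup Ω)
    (hT : F.StronglyClosed T) (hR : R ≤ S) : autInducedBy T R ≤ autTrivMod F T R hT hR := by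
  intro δ hδ
  have hTS : T ≤ S := hT.1
  refine ⟨autInducedBy_le_autGroup F hR (autInducedBy_mono hTS R hδ), fun x => ?_⟩
  obtain ⟨v, hv, hδv⟩ := (mem_autInducedBy_iff T R δ).mp hδ
  rw [hδv]
  have h1 : v * (x : Ω) * v⁻¹ * (x : Ω)⁻¹ = v * ((x : Ω) * v⁻¹ * (x : Ω)⁻¹) := by group
  rw [h1]
  exact T.mul_mem hv (conj_mem_of_stronglyClosed F hT (hR x.2) (T.inv_mem hv))

/-- **Surjectivity of `F → F/T` on maps.** In a saturated fusion system every map agrees modulo a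
strongly closed subgroup `T` with a map defined on a subgroup containing `T`. -/
theorem quotExt_of_saturated (F : FusionSystem S) [Finite S] {p : ℕ} [Fact p.Prime]
    (hS : IsPGroup p S) (hF : F.IsSaturated p) (T : Subgroup Ω) (hT : F.StronglyClosed T) :
    ∀ (P : Subgroup Ω) (φ : P →* Ω), φ ∈ F.Hom P → QuotExt F T φ := by
  have hTS : T ≤ S := hT.1
  have hTn : ∀ g ∈ S, ∀ t ∈ T, g * t * g⁻¹ ∈ T := fun g hg t ht =>
    conj_mem_of_stronglyClosed F hT hg ht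
  have hmain : ∀ P : Subgroup Ω, F.Hom P ⊆ (quotExtSystem F T hT).Hom P := by
    refine saturated_induction F (quotExtSystem F T hT) hS hF ?_
    intro R hfa hrec hIH γ hγ
    have hRS : R ≤ S := hfa.1
    have hfinR : Finite R := finite_of_le hRS
    have hγF : R.subtype.comp γ.toMonoidHom ∈ F.Hom R := (mem_autGroup_iff F hRS γ).mp hγ
    refine ⟨hγF, ?_⟩
    by_cases hTR : T ≤ R
    · refine ⟨R, _, hγF, le_rfl, hTR, fun x hx hN => ?_⟩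
      rw [mul_inv_cancel]
      exact T.one_mem
    obtain ⟨w, hwT, hwN, hwR⟩ := exists_normalizing_not_mem hS hTS hRS hTn hTR
    have hwS : w ∈ S := hTS hwT
    obtain ⟨c, hc⟩ := exists_conj_aut F hRS hwS
      (fun x hx => (Subgroup.mem_normalizer_iff.mp hwN x).mp hx)
    have hcT : c ∈ autInducedBy T R := (mem_autInducedBy_iff T R c).mpr ⟨w, hwT, hc⟩
    set D : Subgroup (MulAut R) := autTrivMod F T R hT hRS with hD
    have hDA : D ≤ F.autGroup R := autTrivMod_le F T R hT hRS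
    have hDn : ∀ a ∈ F.autGroup R, ∀ d ∈ D, a * d * a⁻¹ ∈ D := autTrivMod_conj_mem F T R hT hRS
    set H : Subgroup (MulAut R) := (autInducedBy T R).map (MulAut.conj γ).toMonoidHom with hH
    have hHD : H ≤ D := by
      rintro _ ⟨δ, hδ, rfl⟩
      exact hDn γ hγ δ (autInducedBy_le_autTrivMod F T R hT hRS hδ)
    have hHp : IsPGroup p H := (isPGroup_autInducedBy hS hTS R).map _
    obtain ⟨k, hk, hkH⟩ := exists_conj_into_autS_of_normal F hfa D hDA hDn H hHD hHp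
    set β : MulAut R := k * γ with hβ
    have hβA : β ∈ F.autGroup R := (F.autGroup R).mul_mem (hDA hk) hγ
    have hconj : β * c * β⁻¹ ∈ autInducedBy S R := by
      have h1 : β * c * β⁻¹ = k * (γ * c * γ⁻¹) * k⁻¹ := by rw [hβ]; group
      rw [h1]
      exact hkH _ (Subgroup.mem_map_of_mem _ hcT)
    obtain ⟨N, hRN, ψ, hψ, hψR⟩ := exists_extension_of_conj_mem F hrec hβA hwS hwN hwR hc hconj
    obtain ⟨-, N', ψ', hψ', hNN', hTN', hψ'N⟩ := hIH N hRN hψ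
    refine ⟨N', ψ', hψ', hRN.le.trans hNN', hTN', ?_⟩
    intro x hx hxN'
    show ((γ ⟨x, hx⟩ : R) : Ω) * (ψ' ⟨x, hxN'⟩)⁻¹ ∈ T
    have h1 := hψ'N x (hRN.le hx) hxN'
    have h2 : ψ ⟨x, hRN.le hx⟩ = ((β ⟨x, hx⟩ : R) : Ω) := hψR ⟨x, hx⟩ (hRN.le hx)
    rw [h2] at h1
    have h3 : ((β ⟨x, hx⟩ : R) : Ω) * ((γ ⟨x, hx⟩ : R) : Ω)⁻¹ ∈ T := by
      have := hk.2 (γ ⟨x, hx⟩)
      simpa [hβ, MulAut.mul_apply] using this
    have h4 : ((γ ⟨x, hx⟩ : R) : Ω) * (ψ' ⟨x, hxN'⟩)⁻¹ =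
        (((β ⟨x, hx⟩ : R) : Ω) * ((γ ⟨x, hx⟩ : R) : Ω)⁻¹)⁻¹ *
          (((β ⟨x, hx⟩ : R) : Ω) * (ψ' ⟨x, hxN'⟩)⁻¹) := by group
    rw [h4]
    exact T.mul_mem (T.inv_mem h3) h1
  intro P φ hφ
  exact (hmain P hφ).2

end Cfsg.Agent.Lib.helper89
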