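import Cfsg.Agent.Lib.helper49.SPEDefs

/-!
# S2333 piece CROSS, core: adjusting the cross terms

`B := B₀ * (1 + X)` with `X e_j = α_j e₀ + β_j e₁` for `j ≥ 2`, `X e₀ = X e₁ = 0`; `X * X = 0`, so
`det (1 + X) ≠ 0`; `B e_j = B₀ e_j + α_j u' + β_j v'`.  The conclusions of PBIL (for `Q`) and of
PAIRTR (the matrix `B₀`) enter as hypotheses.
-/

set_option autoImplicit false

namespace Cfsg.Agent.Lib.helper49.SPE

open Matrix

/-- `M *ᵥ ev F n j` is the `j`-th column of `M`. -/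
theorem h89_mulVec_ev {F : Type*} [Field F] {n : ℕ} (M : Matrix (Fin n) (Fin n) F) (j : Fin n) :
    M *ᵥ ev F n j.1 = fun i => M i j := by
  ext i
  simp only [Matrix.mulVec, dotProduct, ev]
  rw [Finset.sum_eq_single j]
  · simp
  · intro k _ hk
    rw [if_neg (fun h => hk (Fin.ext h))]
    simp
  · intro h
    exact absurd (Finset.mem_univ j) h

/-- the first two standard basis vectors are independent -/
theorem h89_indep_ev {F : Type*} [Field F] {n : ℕ} (hn : 2 ≤ n) :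
    Indep (ev F n 0) (ev F n 1) := by
  intro s t h
  have h0 := congrFun h ⟨0, by omega⟩
  have h1 := congrFun h ⟨1, by omega⟩
  simp [ev] at h0 h1
  exact ⟨h0, h1⟩

/-- CROSS, core: PBIL's conclusion for `Q` and PAIRTR's matrix `B₀` as hypotheses. -/
theorem h89_cross_adjust_core {F : Type*} [Field F] {n : ℕ} (hn : 2 ≤ n) (h2 : (2 : F) = 0)
    (Q : (Fin n → F) → F) (u' v' : Fin n → F) (hb : polar Q u' v' ≠ 0)
    (r s : Fin n → F)
    (hPBIL : (∀ u u' v, polar Q (u + u') v = polar Q u v + polar Q u' v) ∧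
      (∀ (c : F) u v, polar Q (c • u) v = c * polar Q u v) ∧
      (∀ u v, polar Q u v = polar Q v u) ∧
      (∀ (c : F) u, Q (c • u) = c ^ 2 * Q u) ∧
      (∀ u, polar Q u u = 2 * Q u))
    (hPAIR : ∃ B : Matrix (Fin n) (Fin n) F, B.det ≠ 0 ∧ B *ᵥ ev F n 0 = u' ∧
      B *ᵥ ev F n 1 = v') :
    ∃ B : Matrix (Fin n) (Fin n) F, B.det ≠ 0 ∧ B *ᵥ ev F n 0 = u' ∧ B *ᵥ ev F n 1 = v' ∧
      ∀ j : Fin n, 2 ≤ j.1 →
        polar Q u' (B *ᵥ ev F n j.1) = r j ∧ polar Q v' (B *ᵥ ev F n j.1) = s j := by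
  obtain ⟨hadd, hsmul, hsymm, -, hself⟩ := hPBIL
  obtain ⟨B₀, hdet₀, hB0, hB1⟩ := hPAIR
  -- additivity and homogeneity in the second argument
  have hadd2 : ∀ x y z, polar Q x (y + z) = polar Q x y + polar Q x z := by
    intro x y z
    rw [hsymm x (y + z), hadd, hsymm y x, hsymm z x]
  have hsmul2 : ∀ (c : F) x y, polar Q x (c • y) = c * polar Q x y := by
    intro c x y
    rw [hsymm x (c • y), hsmul, hsymm y x]
  have hself0 : ∀ x, polar Q x x = 0 := by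
    intro x
    rw [hself, h2, zero_mul]
  -- the coefficients
  obtain ⟨β, hβ⟩ : ∃ β : Fin n → F,
      ∀ j, β j = (r j - polar Q u' (B₀ *ᵥ ev F n j.1)) / polar Q u' v' := ⟨_, fun _ => rfl⟩
  obtain ⟨α, hα⟩ : ∃ α : Fin n → F,
      ∀ j, α j = (s j - polar Q v' (B₀ *ᵥ ev F n j.1)) / polar Q u' v' := ⟨_, fun _ => rfl⟩
  obtain ⟨X, hX⟩ : ∃ X : Matrix (Fin n) (Fin n) F, ∀ i j, X i j =
      if 2 ≤ j.1 then (if i.1 = 0 then α j else if i.1 = 1 then β j else 0) else 0 :=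
    ⟨fun i j => if 2 ≤ j.1 then (if i.1 = 0 then α j else if i.1 = 1 then β j else 0) else 0,
      fun _ _ => rfl⟩
  have hXX : X * X = 0 := by
    ext i j
    rw [Matrix.mul_apply]
    apply Finset.sum_eq_zero
    intro k _
    by_cases hk : 2 ≤ k.1
    · have hk0 : k.1 ≠ 0 := by omega
      have hk1 : k.1 ≠ 1 := by omega
      rw [hX k j]
      simp [hk0, hk1]
    · rw [hX i k, if_neg hk, zero_mul]
  have hdetY : (1 + X).det ≠ 0 := by
    have h1 : (1 + X) * (1 - X) = 1 := by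
      have h3 : (1 + X) * (1 - X) = 1 - X * X := by noncomm_ring
      rw [h3, hXX, sub_zero]
    intro h0
    have h4 := congrArg Matrix.det h1
    rw [Matrix.det_mul, h0, zero_mul, Matrix.det_one] at h4
    exact zero_ne_one h4
  -- columns of `B₀ * (1 + X)`
  have hcol : ∀ j : Fin n, (B₀ * (1 + X)) *ᵥ ev F n j.1
      = B₀ *ᵥ ev F n j.1 + B₀ *ᵥ (X *ᵥ ev F n j.1) := by
    intro j
    rw [← Matrix.mulVec_mulVec, Matrix.add_mulVec, Matrix.one_mulVec, Matrix.mulVec_add]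
  have hX0 : ∀ j : Fin n, ¬ 2 ≤ j.1 → X *ᵥ ev F n j.1 = 0 := by
    intro j hj
    rw [h89_mulVec_ev]
    ext i
    rw [hX i j, if_neg hj]
    rfl
  have hX2 : ∀ j : Fin n, 2 ≤ j.1 → X *ᵥ ev F n j.1 = α j • ev F n 0 + β j • ev F n 1 := by
    intro j hj
    rw [h89_mulVec_ev]
    ext i
    rw [hX i j, if_pos hj]
    by_cases hi0 : i.1 = 0
    · have hi1 : i.1 ≠ 1 := by omega
      simp [ev, hi0]
    · by_cases hi1 : i.1 = 1
      · simp [ev, hi1]
      · simp [ev, hi0, hi1]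
  refine ⟨B₀ * (1 + X), ?_, ?_, ?_, ?_⟩
  · rw [Matrix.det_mul]
    exact mul_ne_zero hdet₀ hdetY
  · have h5 := hcol ⟨0, by omega⟩
    rw [hX0 ⟨0, by omega⟩ (by simp), Matrix.mulVec_zero, add_zero] at h5
    exact h5.trans hB0
  · have h5 := hcol ⟨1, by omega⟩
    rw [hX0 ⟨1, by omega⟩ (by simp), Matrix.mulVec_zero, add_zero] at h5
    exact h5.trans hB1
  · intro j hj
    have h5 : (B₀ * (1 + X)) *ᵥ ev F n j.1
        = B₀ *ᵥ ev F n j.1 + (α j • u' + β j • v') := by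
      rw [hcol j, hX2 j hj, Matrix.mulVec_add, Matrix.mulVec_smul, Matrix.mulVec_smul, hB0, hB1]
    rw [h5]
    constructor
    · rw [hadd2, hadd2, hsmul2, hsmul2, hself0, hβ j]
      field_simp
      ring
    · rw [hadd2, hadd2, hsmul2, hsmul2, hself0, hsymm v' u', hα j]
      field_simp
      ring

end Cfsg.Agent.Lib.helper49.SPE
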