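import Cfsg.Agent.Lib.helper49.SPEDefs
import Cfsg.Agent.Lib.helper49.SPEPBIL
import Cfsg.Agent.Lib.helper40.SPEPAIRTR
import Cfsg.Agent.Lib.helper89.SPECROSScore

/-!
# S2333 piece CROSS (`cross_adjust`): wrapper of `h89_cross_adjust_core` on PBIL and PAIRTR
(with a prefixed copy `h89_indep_of_polar` of piece PIND).
-/

set_option autoImplicit false

namespace Cfsg.Agent.Lib.helper49.SPE

open Matrix

/-- PIND (prefixed copy) -/
theorem h89_indep_of_polar {F : Type*} [Field F] {n : ℕ} (h2 : (2 : F) = 0)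
    (Q : (Fin n → F) → F) (hQ : IsQF Q) (u v : Fin n → F) (h : polar Q u v ≠ 0) : Indep u v := by
  obtain ⟨hadd, hsmul, hsymm, -, hself⟩ := polar_bilin Q hQ
  have hself0 : ∀ x, polar Q x x = 0 := by
    intro x
    rw [hself, h2, zero_mul]
  have hzero : ∀ x, polar Q 0 x = 0 := by
    intro x
    have h1 := hsmul 0 x x
    rw [zero_smul, zero_mul] at h1
    exact h1
  intro s t hst
  have h1 : polar Q (s • u + t • v) v = s * polar Q u v := by
    rw [hadd, hsmul, hsmul, hself0, mul_zero, add_zero]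
  have h3 : polar Q (s • u + t • v) u = t * polar Q u v := by
    rw [hadd, hsmul, hsmul, hself0, mul_zero, zero_add, hsymm v u]
  rw [hst, hzero] at h1 h3
  constructor
  · rcases mul_eq_zero.mp h1.symm with h4 | h4
    · exact h4
    · exact absurd h4 h
  · rcases mul_eq_zero.mp h3.symm with h4 | h4
    · exact h4
    · exact absurd h4 h

/-- CROSS (L) -/
theorem cross_adjust {F : Type*} [Field F] {n : ℕ} (hn : 2 ≤ n) (h2 : (2 : F) = 0)
    (Q : (Fin n → F) → F) (hQ : IsQF Q) (u' v' : Fin n → F) (hb : polar Q u' v' ≠ 0)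
    (r s : Fin n → F) :
    ∃ B : Matrix (Fin n) (Fin n) F, B.det ≠ 0 ∧ B *ᵥ ev F n 0 = u' ∧ B *ᵥ ev F n 1 = v' ∧
      ∀ j : Fin n, 2 ≤ j.1 →
        polar Q u' (B *ᵥ ev F n j.1) = r j ∧ polar Q v' (B *ᵥ ev F n j.1) = s j :=
  h89_cross_adjust_core hn h2 Q u' v' hb r s (polar_bilin Q hQ)
    (pair_trans (ev F n 0) (ev F n 1) u' v' (h89_indep_ev hn)
      (h89_indep_of_polar h2 Q hQ u' v' hb))

end Cfsg.Agent.Lib.helper49.SPE
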