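import Mathlib
import Cfsg.Agent.Lib.helper3.GfDefs

/-!
# S4395 piece EXB, sub-split (helper89): the Heisenberg-type group

`H89Data L n` : a ring endomorphism `σ` of `L` with `σ ∘ σ = id` and a "character"
`e : ZMod n → L` (`e 0 = 1`, `e (a + b) = e a * e b`) of norm one (`e a * σ (e a) = 1`).

`H89G D` : the group of triples `(x, z, k)`, `x z : L`, `k : ZMod n`, `z + σ z = x * σ x`, with
`(x, z, k) * (x', z', k') = (x + e k * x', z + z' + x * σ (e k * x'), k + k')`.

`h89N D = {x = 0, k = 0}`, `h89P D = {k = 0}`, `h89y D = (0, 0, 1)`.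
-/

set_option autoImplicit false

namespace Cfsg.Agent.Lib.helper3.Gf

universe u

/-- data for the Heisenberg-type cover -/
structure H89Data (L : Type u) [CommRing L] (n : ℕ) where
  /-- the involution -/
  σ : L →+* L
  /-- the character -/
  e : ZMod n → L
  σ_invol : ∀ w, σ (σ w) = w
  e_zero : e 0 = 1
  e_add : ∀ a b, e (a + b) = e a * e b
  e_norm : ∀ a, e a * σ (e a) = 1

/-- the group: triples `(x, z, k)` with `z + σ z = x * σ x` -/
@[ext]
structure H89G {L : Type u} [CommRing L] {n : ℕ} (D : H89Data L n) where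
  /-- first coordinate -/
  x : L
  /-- central coordinate -/
  z : L
  /-- cyclic coordinate -/
  k : ZMod n
  hz : z + D.σ z = x * D.σ x

namespace H89G

variable {L : Type u} [CommRing L] {n : ℕ} (D : H89Data L n)

instance instMulH89G : Mul (H89G D) where
  mul a b := ⟨a.x + D.e a.k * b.x, a.z + b.z + a.x * D.σ (D.e a.k * b.x), a.k + b.k, by
    have h1 := a.hz
    have h2 := b.hz
    have h3 := D.e_norm a.k
    simp only [map_add, map_mul, D.σ_invol]
    linear_combination h1 + h2 - (b.x * D.σ b.x) * h3⟩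

instance instOneH89G : One (H89G D) where
  one := ⟨0, 0, 0, by simp⟩

instance instInvH89G : Inv (H89G D) where
  inv a := ⟨-(D.e (-a.k) * a.x), -a.z + a.x * D.σ a.x, -a.k, by
    have h1 := a.hz
    have h3 := D.e_norm (-a.k)
    simp only [map_add, map_mul, map_neg, D.σ_invol]
    linear_combination -h1 - (a.x * D.σ a.x) * h3⟩

@[simp] theorem mul_x (a b : H89G D) : (a * b).x = a.x + D.e a.k * b.x := rfl
@[simp] theorem mul_z (a b : H89G D) :
    (a * b).z = a.z + b.z + a.x * D.σ (D.e a.k * b.x) := rfl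
@[simp] theorem mul_k (a b : H89G D) : (a * b).k = a.k + b.k := rfl
@[simp] theorem one_x : (1 : H89G D).x = 0 := rfl
@[simp] theorem one_z : (1 : H89G D).z = 0 := rfl
@[simp] theorem one_k : (1 : H89G D).k = 0 := rfl
@[simp] theorem inv_x (a : H89G D) : (a⁻¹).x = -(D.e (-a.k) * a.x) := rfl
@[simp] theorem inv_z (a : H89G D) : (a⁻¹).z = -a.z + a.x * D.σ a.x := rfl
@[simp] theorem inv_k (a : H89G D) : (a⁻¹).k = -a.k := rfl

instance instGroupH89G : Group (H89G D) :=
  Group.ofLeftAxioms
    (by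
      intro a b c
      ext
      · simp only [mul_x, mul_k, D.e_add]; ring
      · simp only [mul_x, mul_z, mul_k, D.e_add, map_mul, map_add]
        linear_combination (b.x * D.σ (D.e b.k) * D.σ c.x) * (D.e_norm a.k)
      · simp only [mul_k, add_assoc])
    (by
      intro a
      ext
      · simp [D.e_zero]
      · simp
      · simp)
    (by
      intro a
      ext
      · simp
      · simp only [mul_x, mul_z, mul_k, inv_x, inv_z, inv_k, one_z, map_mul, map_neg]
        linear_combination -(a.x * D.σ a.x) * (D.e_norm (-a.k))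
      · simp)

end H89G

variable {L : Type u} [CommRing L] {n : ℕ} (D : H89Data L n)

/-- `N = {(0, z, 0)}` -/
def h89N : Subgroup (H89G D) where
  carrier := {a | a.x = 0 ∧ a.k = 0}
  mul_mem' := by
    rintro a b ⟨ha, hak⟩ ⟨hb, hbk⟩
    refine ⟨?_, ?_⟩
    · show a.x + D.e a.k * b.x = 0
      rw [ha, hb]; simp
    · show a.k + b.k = 0
      rw [hak, hbk]; simp
  one_mem' := ⟨rfl, rfl⟩
  inv_mem' := by
    rintro a ⟨ha, hak⟩
    refine ⟨?_, ?_⟩
    · show -(D.e (-a.k) * a.x) = 0
      rw [ha]; simp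
    · show -a.k = 0
      rw [hak]; simp

/-- `P = {(x, z, 0)}` -/
def h89P : Subgroup (H89G D) where
  carrier := {a | a.k = 0}
  mul_mem' := by
    intro a b ha hb
    show a.k + b.k = 0
    rw [show a.k = 0 from ha, show b.k = 0 from hb]; simp
  one_mem' := rfl
  inv_mem' := by
    intro a ha
    show -a.k = 0
    rw [show a.k = 0 from ha]; simp

/-- `y = (0, 0, 1)` -/
def h89y : H89G D := ⟨0, 0, 1, by simp⟩

theorem mem_h89N (a : H89G D) : a ∈ h89N D ↔ a.x = 0 ∧ a.k = 0 := Iff.rfl

theorem mem_h89P (a : H89G D) : a ∈ h89P D ↔ a.k = 0 := Iff.rfl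

@[simp] theorem h89y_x : (h89y D).x = 0 := rfl
@[simp] theorem h89y_z : (h89y D).z = 0 := rfl
@[simp] theorem h89y_k : (h89y D).k = 1 := rfl

end Cfsg.Agent.Lib.helper3.Gf
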