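import Cfsg.Agent.Lib.helper89.GfHDefs
import Cfsg.Agent.Lib.helper97.GfEXBfield

/-!
# S4395 / EXB sub-split, leaf XF1 (prefixed racer copy): a field with `p ^ a` elements,
`a = orderOf (p : ZMod q)`, and an element of order `q` generating it
(from helper97's `h97_gf_exists_lam`, `h97_gf_irr`, on `ULift (GaloisField p a)`).
-/

set_option autoImplicit false

namespace Cfsg.Agent.Lib.helper3.Gf

universe u

/-- XF1 (prefixed racer copy) -/
theorem h89_exb_field (p q : ℕ) [Fact p.Prime] [Fact q.Prime] (hpq : p ≠ q) :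
    ∃ (L : Type u) (_ : Field L) (_ : Finite L) (_ : CharP L p) (lam : L),
      Nat.card L = p ^ orderOf (p : ZMod q) ∧ lam ^ q = 1 ∧ lam ≠ 1 ∧
      (∀ X : AddSubgroup L, (∀ x ∈ X, lam * x ∈ X) → X = ⊥ ∨ X = ⊤) := by
  have ha : orderOf (p : ZMod q) ≠ 0 := (h97_gf_order_pos p q hpq).ne'
  have hcard : Nat.card (ULift.{u} (GaloisField p (orderOf (p : ZMod q))))
      = p ^ orderOf (p : ZMod q) := by
    rw [Nat.card_ulift]
    exact GaloisField.card p _ ha
  haveI hch : CharP (ULift.{u} (GaloisField p (orderOf (p : ZMod q)))) p :=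
    charP_of_injective_ringHom (f := (ULift.ringEquiv (R := GaloisField p (orderOf (p : ZMod q)))).symm.toRingHom)
      (ULift.ringEquiv (R := GaloisField p (orderOf (p : ZMod q)))).symm.injective p
  obtain ⟨lam, hlam⟩ := h97_gf_exists_lam p q hcard
  refine ⟨ULift.{u} (GaloisField p (orderOf (p : ZMod q))), inferInstance, inferInstance, hch,
    lam, hcard, ?_, ?_, ?_⟩
  · have h1 := pow_orderOf_eq_one lam
    rw [hlam] at h1
    exact h1
  · rintro rfl
    rw [orderOf_one] at hlam
    exact (Fact.out : q.Prime).one_lt.ne hlam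
  · intro X hX
    exact h97_gf_irr p q hcard lam hlam X hX

end Cfsg.Agent.Lib.helper3.Gf
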