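import Cfsg.Agent.Lib.helper89.GfHDefs

/-!
# S4395 / EXB sub-split, leaf XF2: the involution `x ↦ x ^ (p ^ b)` of a field with `p ^ (2 * b)`
elements: trace onto the fixed field, additive Hilbert 90, and `|ker (1 + σ)| = p ^ b`.
-/

set_option autoImplicit false

namespace Cfsg.Agent.Lib.helper3.Gf

universe u

open Polynomial in
/-- a finite set of roots of a nonzero polynomial has at most `natDegree` elements -/
theorem h89_card_le_natDegree {L : Type u} [Field L] [DecidableEq L] (f : L[X]) (hf : f ≠ 0)
    (S : Finset L) (hS : ∀ w ∈ S, f.IsRoot w) : S.card ≤ f.natDegree := by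
  have hsub : S ⊆ f.roots.toFinset := by
    intro w hw
    rw [Multiset.mem_toFinset, Polynomial.mem_roots hf]
    exact hS w hw
  calc S.card ≤ f.roots.toFinset.card := Finset.card_le_card hsub
    _ ≤ Multiset.card f.roots := Multiset.toFinset_card_le _
    _ ≤ f.natDegree := Polynomial.card_roots' f

/-- XF2 (prefixed racer copy) : the involution `x ↦ x ^ (p ^ b)` of a field with `p ^ (2 * b)` elements. -/
theorem h89_exb_frob (p : ℕ) [Fact p.Prime] {L : Type u} [Field L] [Finite L] [CharP L p] (b : ℕ)
    (hcard : Nat.card L = p ^ (2 * b)) :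
    ∃ σ : L →+* L, (∀ x, σ x = x ^ (p ^ b)) ∧ (∀ w, σ (σ w) = w) ∧
      (∀ w : L, σ w = w → ∃ z : L, z + σ z = w) ∧
      (∀ z : L, z + σ z = 0 → ∃ x : L, z = x - σ x) ∧
      Nat.card {z : L // z + σ z = 0} = p ^ b := by
  classical
  letI : Fintype L := Fintype.ofFinite L
  have hb : b ≠ 0 := by
    rintro rfl
    have h1 : 1 < Nat.card L := Finite.one_lt_card
    rw [hcard] at h1
    simp at h1
  have hn1 : 1 < p ^ b := Nat.one_lt_pow hb (Fact.out : p.Prime).one_lt
  have hn0 : 0 < p ^ b := by omega
  have hc : Fintype.card L = p ^ (2 * b) := by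
    rw [← Nat.card_eq_fintype_card]; exact hcard
  obtain ⟨σ, hσ⟩ : ∃ σ : L →+* L, ∀ x, σ x = x ^ (p ^ b) :=
    ⟨iterateFrobenius L p b, fun x => rfl⟩
  have hσ2 : ∀ w, σ (σ w) = w := by
    intro w
    calc σ (σ w) = w ^ (p ^ b * p ^ b) := by rw [hσ, hσ, pow_mul]
      _ = w ^ Fintype.card L := by rw [hc, two_mul, pow_add]
      _ = w := FiniteField.pow_card w
  -- the two finite sets
  obtain ⟨K, hK⟩ : ∃ K : Finset L, K = Finset.univ.filter (fun z : L => z + σ z = 0) := ⟨_, rfl⟩
  obtain ⟨Fx, hFx⟩ : ∃ Fx : Finset L, Fx = Finset.univ.filter (fun w : L => σ w = w) := ⟨_, rfl⟩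
  have hmemK : ∀ z, z ∈ K ↔ z + σ z = 0 := by
    intro z; rw [hK]; simp
  have hmemFx : ∀ w, w ∈ Fx ↔ σ w = w := by
    intro w; rw [hFx]; simp
  have hFxle : Fx.card ≤ p ^ b := by
    have hne : (Polynomial.X ^ (p ^ b) - Polynomial.X : Polynomial L) ≠ 0 :=
      FiniteField.X_pow_card_sub_X_ne_zero L hn1
    have hdeg : (Polynomial.X ^ (p ^ b) - Polynomial.X : Polynomial L).natDegree = p ^ b :=
      FiniteField.X_pow_card_sub_X_natDegree_eq L hn1
    rw [← hdeg]
    apply h89_card_le_natDegree _ hne
    intro w hw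
    have hw' := (hmemFx w).mp hw
    rw [hσ] at hw'
    simp [Polynomial.IsRoot, hw']
  have hKle : K.card ≤ p ^ b := by
    have hdeg : (Polynomial.X ^ (p ^ b) + Polynomial.X : Polynomial L).natDegree = p ^ b := by
      rw [Polynomial.natDegree_add_eq_left_of_natDegree_lt]
      · simp
      · simpa using hn1
    have hne : (Polynomial.X ^ (p ^ b) + Polynomial.X : Polynomial L) ≠ 0 := by
      intro h0
      rw [h0] at hdeg
      simp at hdeg
      omega
    rw [← hdeg]
    apply h89_card_le_natDegree _ hne
    intro w hw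
    have hw' := (hmemK w).mp hw
    rw [hσ] at hw'
    simp only [Polynomial.IsRoot, Polynomial.eval_add, Polynomial.eval_pow, Polynomial.eval_X]
    rw [add_comm]; exact hw'
  -- fibres of `x ↦ x + σ x`
  have hT : Fintype.card L ≤ K.card * (Finset.univ.image (fun x : L => x + σ x)).card := by
    have h3 := Finset.card_le_mul_card_image (f := fun x : L => x + σ x) Finset.univ K.card (by
      intro a ha
      obtain ⟨d, -, rfl⟩ := Finset.mem_image.mp ha
      apply Finset.card_le_card_of_injOn (fun x => x - d)
      · intro x hx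
        have hx' : x + σ x = d + σ d := (Finset.mem_filter.mp (Finset.mem_coe.mp hx)).2
        apply Finset.mem_coe.mpr
        rw [hmemK, map_sub]
        linear_combination hx'
      · intro x _ y _ hxy
        exact sub_left_injective hxy)
    rw [Finset.card_univ] at h3
    exact h3
  have himT : Finset.univ.image (fun x : L => x + σ x) ⊆ Fx := by
    intro a ha
    obtain ⟨d, -, rfl⟩ := Finset.mem_image.mp ha
    rw [hmemFx, map_add, hσ2, add_comm]
  -- fibres of `x ↦ x - σ x`
  have hU : Fintype.card L ≤ Fx.card * (Finset.univ.image (fun x : L => x - σ x)).card := by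
    have h3 := Finset.card_le_mul_card_image (f := fun x : L => x - σ x) Finset.univ Fx.card (by
      intro a ha
      obtain ⟨d, -, rfl⟩ := Finset.mem_image.mp ha
      apply Finset.card_le_card_of_injOn (fun x => x - d)
      · intro x hx
        have hx' : x - σ x = d - σ d := (Finset.mem_filter.mp (Finset.mem_coe.mp hx)).2
        apply Finset.mem_coe.mpr
        rw [hmemFx, map_sub]
        linear_combination -hx'
      · intro x _ y _ hxy
        exact sub_left_injective hxy)
    rw [Finset.card_univ] at h3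
    exact h3
  have himU : Finset.univ.image (fun x : L => x - σ x) ⊆ K := by
    intro a ha
    obtain ⟨d, -, rfl⟩ := Finset.mem_image.mp ha
    rw [hmemK, map_sub, hσ2]
    ring
  -- counting
  have hpp : Fintype.card L = p ^ b * p ^ b := by rw [hc, two_mul, pow_add]
  have hKcard : K.card = p ^ b := by
    apply le_antisymm hKle
    have h4 : p ^ b * p ^ b ≤ K.card * p ^ b := by
      calc p ^ b * p ^ b = Fintype.card L := hpp.symm
        _ ≤ K.card * (Finset.univ.image (fun x : L => x + σ x)).card := hT
        _ ≤ K.card * Fx.card := Nat.mul_le_mul_left _ (Finset.card_le_card himT)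
        _ ≤ K.card * p ^ b := Nat.mul_le_mul_left _ hFxle
    exact Nat.le_of_mul_le_mul_right h4 hn0
  have himTcard : p ^ b ≤ (Finset.univ.image (fun x : L => x + σ x)).card := by
    have h4 : p ^ b * p ^ b ≤ p ^ b * (Finset.univ.image (fun x : L => x + σ x)).card := by
      calc p ^ b * p ^ b = Fintype.card L := hpp.symm
        _ ≤ K.card * (Finset.univ.image (fun x : L => x + σ x)).card := hT
        _ = p ^ b * (Finset.univ.image (fun x : L => x + σ x)).card := by rw [hKcard]
    exact Nat.le_of_mul_le_mul_left h4 hn0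
  have himTeq : Finset.univ.image (fun x : L => x + σ x) = Fx :=
    Finset.eq_of_subset_of_card_le himT (le_trans hFxle himTcard)
  have hFxcard : Fx.card = p ^ b :=
    le_antisymm hFxle (le_trans himTcard (Finset.card_le_card himT))
  have himUcard : p ^ b ≤ (Finset.univ.image (fun x : L => x - σ x)).card := by
    have h4 : p ^ b * p ^ b ≤ p ^ b * (Finset.univ.image (fun x : L => x - σ x)).card := by
      calc p ^ b * p ^ b = Fintype.card L := hpp.symm
        _ ≤ Fx.card * (Finset.univ.image (fun x : L => x - σ x)).card := hU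
        _ = p ^ b * (Finset.univ.image (fun x : L => x - σ x)).card := by rw [hFxcard]
    exact Nat.le_of_mul_le_mul_left h4 hn0
  have himUeq : Finset.univ.image (fun x : L => x - σ x) = K :=
    Finset.eq_of_subset_of_card_le himU (by rw [hKcard]; exact himUcard)
  refine ⟨σ, hσ, hσ2, ?_, ?_, ?_⟩
  · intro w hw
    have h5 : w ∈ Finset.univ.image (fun x : L => x + σ x) := by
      rw [himTeq, hmemFx]; exact hw
    obtain ⟨z, -, hz⟩ := Finset.mem_image.mp h5
    exact ⟨z, hz⟩
  · intro z hz
    have h5 : z ∈ Finset.univ.image (fun x : L => x - σ x) := by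
      rw [himUeq, hmemK]; exact hz
    obtain ⟨x, -, hx⟩ := Finset.mem_image.mp h5
    exact ⟨x, hx.symm⟩
  · rw [Nat.card_eq_fintype_card, Fintype.card_subtype, ← hK, hKcard]

end Cfsg.Agent.Lib.helper3.Gf
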