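import Cfsg.Agent.Lib.helper89.GfHDefs
import Cfsg.Agent.Lib.helper89.GfXXF1
import Cfsg.Agent.Lib.helper89.GfXXF2
import Cfsg.Agent.Lib.helper6.GfXXB1
import Cfsg.Agent.Lib.helper98.GfXB2
import Cfsg.Agent.Lib.helper61.GfXB3
import Cfsg.Agent.Lib.helper61.GfXB4
import Cfsg.Agent.Lib.helper7.GfXF4

/-!
# S4395 piece EXB (`ex_cov_b`), assembled from the leaves of the sub-split (helper89)

Leaves: XB1 `exb_basic` (helper6), XB2 `exb_cyc` (helper98), XB3 `exb_irr`, XB4 `exb_nongen`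
(helper61), XF1 `h89_exb_field` (on helper97's field lemmas), XF2 `h89_exb_frob`,
XF4 `exb_char` (helper7); XF3 (`h89_exb_norm`) and XB5 (`h89_exb_card`) are proved here.
-/

set_option autoImplicit false

namespace Cfsg.Agent.Lib.helper3.Gf

universe u

/-- XF3 (prefixed copy) : norm one (`q ∣ p ^ b + 1`). -/
theorem h89_exb_norm (p q : ℕ) [Fact p.Prime] [Fact q.Prime] (hpq : p ≠ q) (b : ℕ)
    (hord : orderOf (p : ZMod q) = 2 * b) {L : Type u} [CommRing L] (lam : L) (hlam : lam ^ q = 1) :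
    lam * lam ^ (p ^ b) = 1 := by
  have hq : q.Prime := Fact.out
  have hp1 : 1 ≤ p := (Fact.out : p.Prime).one_le
  have hpos := h97_gf_order_pos p q hpq
  have hb : 0 < b := by omega
  have h1 : q ∣ p ^ (2 * b) - 1 := (h97_gf_dvd_iff p q (2 * b) hp1).mpr (by rw [hord])
  have h2 : ¬ q ∣ p ^ b - 1 := by
    intro h
    have h3 := (h97_gf_dvd_iff p q b hp1).mp h
    rw [hord] at h3
    have h4 := Nat.le_of_dvd hb h3
    omega
  have hm : 1 ≤ p ^ b := Nat.one_le_pow _ _ hp1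
  have h3 : p ^ (2 * b) - 1 = (p ^ b - 1) * (p ^ b + 1) := by
    obtain ⟨m, hm'⟩ : ∃ m, p ^ b = m + 1 := ⟨p ^ b - 1, by omega⟩
    rw [two_mul, pow_add, hm']
    have h5 : (m + 1) * (m + 1) = m * (m + 1 + 1) + 1 := by ring
    rw [h5]
    simp
  rw [h3] at h1
  have h4 : q ∣ p ^ b + 1 := (hq.dvd_mul.mp h1).resolve_left h2
  obtain ⟨c, hc⟩ := h4
  calc lam * lam ^ (p ^ b) = lam ^ (p ^ b + 1) := by rw [pow_succ']
    _ = (lam ^ q) ^ c := by rw [hc, pow_mul]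
    _ = 1 := by rw [hlam, one_pow]

/-- XB5 (prefixed copy) : the order. -/
theorem h89_exb_card {L : Type u} [CommRing L] [Finite L] {n : ℕ} [NeZero n] (D : H89Data L n)
    (htr : ∀ w : L, D.σ w = w → ∃ z : L, z + D.σ z = w) :
    Finite (H89G D) ∧
      Nat.card (H89G D) = Nat.card L * Nat.card {z : L // z + D.σ z = 0} * n := by
  have hex : ∀ x : L, ∃ z : L, z + D.σ z = x * D.σ x := by
    intro x
    apply htr
    rw [map_mul, D.σ_invol, mul_comm]
  choose z₀ hz₀ using hex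
  have e : H89G D ≃ L × {z : L // z + D.σ z = 0} × ZMod n :=
    { toFun := fun a => (a.x, ⟨a.z - z₀ a.x, by
        rw [map_sub]
        linear_combination a.hz - hz₀ a.x⟩, a.k)
      invFun := fun t => ⟨t.1, t.2.1.1 + z₀ t.1, t.2.2, by
        rw [map_add]
        linear_combination t.2.1.2 + hz₀ t.1⟩
      left_inv := by
        intro a
        ext <;> simp
      right_inv := by
        rintro ⟨x, ⟨w, hw⟩, k⟩
        simp }
  have hfin : Finite (H89G D) := Finite.of_equiv _ e.symm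
  refine ⟨hfin, ?_⟩
  rw [Nat.card_congr e, Nat.card_prod, Nat.card_prod, Nat.card_zmod, mul_assoc]

/-- EXB (prefixed racer copy of `ex_cov_b`) : Heisenberg-type `p`-group of order `p^(3a/2)`
extended by `C_{q^r}` -/
theorem h89_ex_cov_b (p q r : ℕ) [Fact p.Prime] [Fact q.Prime] (hpq : p ≠ q) (hr : 1 ≤ r)
    (hev : orderOf (p : ZMod q) % 2 = 0) :
    ∃ (G : Type u) (_ : Group G) (_ : Finite G) (N P : Subgroup G) (y : G),
      Cov p q r N P y ∧ NonGen N ∧ Nat.card G = p ^ (3 * orderOf (p : ZMod q) / 2) * q ^ r := by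
  obtain ⟨b, hb⟩ : ∃ b, orderOf (p : ZMod q) = 2 * b := ⟨orderOf (p : ZMod q) / 2, by omega⟩
  obtain ⟨L, iF, iFin, iChar, lam, hcard, hlamq, hlam1, hirrL⟩ := h89_exb_field.{u} p q hpq
  rw [hb] at hcard
  obtain ⟨σ, hσ, hσ2, htr, h90, hker⟩ := h89_exb_frob p b hcard
  have hnorm : lam * σ lam = 1 := by
    rw [hσ]; exact h89_exb_norm p q hpq b hb lam hlamq
  obtain ⟨e, he0, hea, hen, he1, heq⟩ := exb_char q r hr σ lam hlamq hnorm
  obtain ⟨D, hDσ, hDe⟩ : ∃ D : H89Data L (q ^ r), D.σ = σ ∧ D.e = e :=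
    ⟨⟨σ, e, hσ2, he0, hea, hen⟩, rfl, rfl⟩
  subst hDσ
  subst hDe
  haveI : NeZero (q ^ r) := ⟨pow_ne_zero _ (Fact.out : q.Prime).ne_zero⟩
  obtain ⟨hfin, hcardG⟩ := h89_exb_card D htr
  obtain ⟨c1, c2, c3, c4, c5, c6⟩ := exb_basic p D (CharP.cast_eq_zero L p)
  obtain ⟨c7, c8, c9, c10⟩ := exb_cyc q r (Fact.out : q.Prime).pos D heq
  obtain ⟨c11, c12⟩ := exb_irr D (by rw [he1]; exact hlam1) htr (by rw [he1]; exact hirrL)
  refine ⟨H89G D, inferInstance, hfin, h89N D, h89P D, h89y D,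
    ⟨c1, c2, c3, c4, c5, c6, c7, c8, c9, c10, c11, c12⟩, exb_nongen D htr h90, ?_⟩
  rw [hcardG, hcard, hker, hb]
  have h3 : 3 * (2 * b) / 2 = 2 * b + b := by omega
  rw [h3, pow_add]

end Cfsg.Agent.Lib.helper3.Gf
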