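import Cfsg.Agent.Lib.helper89.SmallCenterD

/-!
# Small centre, part E: `Z(S) = [S, S]`

* `essCore_eq_bot_two`: for `p = 2`, `O_2(F) = 1` and `hyp(F) = S`, the core of an essential
  subgroup is trivial;
* `essCore_eq_bot_odd`: for `p` odd and `O_p(F) = 1`, the core of an essential subgroup is trivial.
-/

set_option autoImplicit false
set_option linter.unusedSectionVars false
set_option linter.unusedVariables false

namespace Cfsg.Agent.Lib.helper89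

open Cfsg Cfsg.FusionSystem Subgroup

section Fusion

variable {Ω : Type*} [Group Ω] {S : Subgroup Ω}

namespace SCHyp

variable [Finite S] {F : FusionSystem S}

theorem essCore_eq_bot_two (H : SCHyp 2 F) (hcore : F.core = ⊥)
    (hhyp : F.hyperfocalSubgroup 2 = S) {E₁ V₁ : Subgroup Ω} {x₁ : Ω}
    (h₁ : EssFacts 2 F E₁ V₁ x₁) : essCore F E₁ = ⊥ := by
  rw [Subgroup.eq_bot_iff_forall]
  by_contra hne
  push Not at hne
  obtain ⟨c₁, hc₁, hc₁ne⟩ := hne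
  have hE₁ := h₁.ess
  have hQ : essInf F 2 = ⊥ := by
    have h1 := H.essInf_normal ⟨E₁, hE₁⟩
    have h2 : essInf F 2 ≤ F.core := le_sSup h1
    rw [hcore] at h2
    exact le_bot_iff.mp h2
  have hc₁Q : c₁ ∉ essInf F 2 := by
    rw [hQ, Subgroup.mem_bot]
    exact hc₁ne
  rw [mem_essInf] at hc₁Q
  push Not at hc₁Q
  obtain ⟨E₂, hE₂, hc₁E₂⟩ := hc₁Q
  obtain ⟨V₂, x₂, h₂⟩ := H.exists_essFacts hE₂
  have hne12 : E₁ ≠ E₂ := by
    intro h
    apply hc₁E₂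
    rw [← h]
    exact hc₁
  have hall : ∀ E₃ : Subgroup Ω, F.IsEssential 2 E₃ → E₃ = E₁ ∨ E₃ = E₂ := by
    intro E₃ hE₃
    obtain ⟨V₃, x₃, h₃⟩ := H.exists_essFacts hE₃
    exact H.ess_eq_or h₁ h₂ hne12 h₃
  have hinf : ∀ c, c ∈ essCore F E₁ → c ∈ essCore F E₂ → c = 1 := by
    intro c hc1 hc2
    have h1 : c ∈ essInf F 2 := by
      rw [mem_essInf]
      intro E₃ hE₃
      rcases hall E₃ hE₃ with h | h
      · rw [h]; exact hc1
      · rw [h]; exact hc2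
    rw [hQ, Subgroup.mem_bot] at h1
    exact h1
  obtain ⟨d₀, hD, hd₀ne, hd₀2⟩ := h₁.gen
  have hDcases : ∀ d ∈ commSub S, d = 1 ∨ d = d₀ := by
    intro d hd
    rw [hD] at hd
    obtain ⟨k, rfl⟩ := mem_zpowers_iff.mp hd
    rcases Int.even_or_odd' k with ⟨j, rfl | rfl⟩
    · left
      rw [zpow_mul, zpow_ofNat, hd₀2, one_zpow]
    · right
      rw [zpow_add, zpow_mul, zpow_ofNat, hd₀2, one_zpow, one_mul, zpow_one]
  have hZ₁ := essCore_le_zc F E₁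
  have hc₁Z : c₁ ∈ centralizerIn S S := hZ₁ hc₁
  have hshape : ∀ c ∈ essCore F E₁, c ≠ 1 → ∃ e ∈ essCore F E₂, c = d₀ * e := by
    intro c hc hcne
    obtain ⟨d, hd, e, he, hde⟩ := h₂.dec c (hZ₁ hc)
    rcases hDcases d hd with h | h
    · exfalso
      rw [h, one_mul] at hde
      apply hcne
      apply hinf c hc
      rw [hde]
      exact he
    · rw [h] at hde
      exact ⟨e, he, hde⟩
  have hC₁ : ∀ c ∈ essCore F E₁, c = 1 ∨ c = c₁ := by
    intro c hc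
    by_cases hcne : c = 1
    · exact Or.inl hcne
    · right
      obtain ⟨e, he, hce⟩ := hshape c hc hcne
      obtain ⟨e₁, he₁, hce₁⟩ := hshape c₁ hc₁ hc₁ne
      have h1 : c⁻¹ * c₁ = e⁻¹ * e₁ := by rw [hce, hce₁]; group
      have h2 : c⁻¹ * c₁ = 1 := by
        apply hinf _ (mul_mem (inv_mem hc) hc₁)
        rw [h1]
        exact mul_mem (inv_mem he) he₁
      exact inv_mul_eq_one.mp h2
  have hc₁2 : c₁ ^ 2 = 1 := by
    rcases hC₁ _ (pow_mem hc₁ 2) with h | h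
    · exact h
    · exfalso
      apply hc₁ne
      have h3 : c₁ * c₁ = c₁ * 1 := by rw [mul_one, ← pow_two]; exact h
      exact mul_left_cancel h3
  have hZ2 : ∀ z ∈ centralizerIn S S, z ^ 2 = 1 := by
    intro z hz
    obtain ⟨d, hd, c, hc, hzdc⟩ := h₁.dec z hz
    have hdc : Commute d c := (mem_zc_iff.mp (hZ₁ hc)).2 d (commSub_le S hd)
    have hc2 : c ^ 2 = 1 := by
      rcases hC₁ c hc with h | h
      · rw [h]; exact one_pow 2
      · rw [h]; exact hc₁2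
    rw [hzdc, hdc.mul_pow, h₁.D_pow hd, hc2, one_mul]
  have hγD : ∀ γ ∈ F.autGroup S, ∀ d : S, (d : Ω) ∈ commSub S → γ d = d := by
    intro γ hγ d hd
    rcases hDcases _ hd with h | h
    · have h3 : d = 1 := Subtype.ext h
      rw [h3, map_one]
    · rcases hDcases _ (commSub_invariant γ d hd) with h' | h'
      · exfalso
        have h3 : γ d = 1 := Subtype.ext h'
        have hd1 : d = 1 := (MulEquiv.map_eq_one_iff γ).mp h3
        apply hd₀ne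
        rw [← h, hd1]
        rfl
      · exact Subtype.ext (h'.trans h.symm)
  have hγc : ∀ γ ∈ F.autGroup S, ∀ c : S, (c : Ω) ∈ essCore F E₁ → γ c = c := by
    intro γ hγ c hc
    rcases hC₁ _ hc with h | h
    · have h3 : c = 1 := Subtype.ext h
      rw [h3, map_one]
    · rcases hC₁ _ (H.aut_essCore h₁ hγ c hc) with h' | h'
      · exfalso
        have h3 : γ c = 1 := Subtype.ext h'
        have hc1 : c = 1 := (MulEquiv.map_eq_one_iff γ).mp h3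
        apply hc₁ne
        rw [← h, hc1]
        rfl
      · exact Subtype.ext (h'.trans h.symm)
  have hγZ : ∀ γ ∈ F.autGroup S, ∀ z : S, (z : Ω) ∈ centralizerIn S S → γ z = z := by
    intro γ hγ z hz
    obtain ⟨d, hd, c, hc, hzdc⟩ := h₁.dec' z hz
    rw [hzdc, map_mul, hγD γ hγ d hd, hγc γ hγ c hc]
  have hZE : ∀ {E V : Subgroup Ω} {x : Ω}, EssFacts 2 F E V x → ∀ γ ∈ F.autGroup S,
      ∀ u : S, (u : Ω) ∈ E → (u : Ω)⁻¹ * ((γ u : S) : Ω) ∈ centralizerIn S S := by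
    intro E V x hf γ hγ u hu
    have hfinE : Finite E := finite_of_le hf.ES
    by_cases huZ : (u : Ω) ∈ centralizerIn S S
    · rw [hγZ γ hγ u huZ, inv_mul_cancel]
      exact one_mem _
    · exact mul_mem_of_card_two_mul (H.zc_le hf.ess) (H.card_ess hf.ess).1 (E.inv_mem hu)
        (H.aut_preserves_ess hf hγ u hu) (fun hh => huZ (by simpa using inv_mem hh))
        (fun hh => huZ ((aut_zc_iff γ u).mp hh))
  have hx₂E₁ : x₂ ∉ E₁ := fun hh => hne12 (H.ess_eq_of_mem hE₁ hE₂ hh h₂.xE h₂.xZ)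
  obtain ⟨x₂', hx₂'⟩ : ∃ x₂' : S, (x₂' : Ω) = x₂ := ⟨⟨x₂, h₂.xS⟩, rfl⟩
  have hγS : ∀ γ ∈ F.autGroup S, ∀ u : S,
      (u : Ω)⁻¹ * ((γ u : S) : Ω) ∈ centralizerIn S S := by
    intro γ hγ u
    by_cases hu : (u : Ω) ∈ E₁
    · exact hZE h₁ γ hγ u hu
    · have h1 : (x₂' : Ω)⁻¹ * (u : Ω) ∈ E₁ := by
        rw [hx₂']
        exact mul_mem_of_card_two_mul h₁.ES (H.card_ess hE₁).2 (S.inv_mem h₂.xS) u.2
          (fun hh => hx₂E₁ (by simpa using E₁.inv_mem hh)) hu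
      obtain ⟨e, he⟩ : ∃ e : S, e = x₂'⁻¹ * u := ⟨_, rfl⟩
      have heE : (e : Ω) ∈ E₁ := by rw [he]; exact h1
      have hu' : u = x₂' * e := by rw [he]; group
      have h2 := hZE h₂ γ hγ x₂' (by rw [hx₂']; exact h₂.xE)
      have h3 := hZE h₁ γ hγ e heE
      have hcomm := (mem_zc_iff.mp h2).2 (e : Ω)⁻¹ (S.inv_mem e.2)
      have h4 : (u : Ω)⁻¹ * ((γ u : S) : Ω)
          = ((x₂' : Ω)⁻¹ * ((γ x₂' : S) : Ω)) * ((e : Ω)⁻¹ * ((γ e : S) : Ω)) := by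
        rw [hu', map_mul, Subgroup.coe_mul, Subgroup.coe_mul]
        calc ((x₂' : Ω) * (e : Ω))⁻¹ * (((γ x₂' : S) : Ω) * ((γ e : S) : Ω))
            = ((e : Ω)⁻¹ * ((x₂' : Ω)⁻¹ * ((γ x₂' : S) : Ω))) * ((γ e : S) : Ω) := by group
          _ = (((x₂' : Ω)⁻¹ * ((γ x₂' : S) : Ω)) * (e : Ω)⁻¹) * ((γ e : S) : Ω) := by rw [hcomm]
          _ = _ := by group
      rw [h4]
      exact mul_mem h2 h3
  obtain ⟨m, hm, hinn⟩ := H.exists_coprime_pow_inner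
  obtain ⟨j, hj⟩ : ∃ j, m = 2 * j + 1 := Nat.coprime_two_right.mp hm
  subst hj
  have hγSD : ∀ γ ∈ F.autGroup S, ∀ u : S, (u : Ω)⁻¹ * ((γ u : S) : Ω) ∈ commSub S := by
    intro γ hγ u
    have hfZ : ((cm γ u : S) : Ω) ∈ centralizerIn S S := hγS γ hγ u
    have hfix : γ (cm γ u) = cm γ u := hγZ γ hγ (cm γ u) hfZ
    have h1 := pow_apply_of_fixed γ u hfix (2 * j + 1)
    obtain ⟨g, hg, hgx⟩ := hinn γ hγ
    have h2 := hgx u
    rw [h1] at h2
    have hf2 : (cm γ u) ^ 2 = 1 := by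
      apply Subtype.ext
      rw [Subgroup.coe_pow]
      exact hZ2 _ hfZ
    have h3 : (cm γ u) ^ (2 * j + 1) = cm γ u := by
      rw [pow_succ, pow_mul, hf2, one_pow, one_mul]
    rw [h3] at h2
    have h5 : ((u * cm γ u : S) : Ω) = ((γ u : S) : Ω) := by
      unfold cm
      rw [mul_inv_cancel_left]
    have h4 : (u : Ω)⁻¹ * ((γ u : S) : Ω) = (u : Ω)⁻¹ * g * (u : Ω) * g⁻¹ := by
      rw [← h5, h2]
      group
    rw [h4]
    exact comm_mem_commSub u.2 hg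
  have hH : ⁅S, S⁆ ≤ V₁ ⊔ V₂ := (commutator_le_commSub S).trans (h₁.D_le.trans le_sup_left)
  have aux : ∀ {E V : Subgroup Ω} {x : Ω}, EssFacts 2 F E V x → V ≤ V₁ ⊔ V₂ →
      ∀ α ∈ F.autGroup E, ∀ u : E, (u : Ω)⁻¹ * ((α u : E) : Ω) ∈ V₁ ⊔ V₂ := by
    intro E V x hf hV α hα u
    obtain ⟨γ, hγ, k, hk, -, hkV, hdec⟩ := hf.frat α hα
    obtain ⟨u', huS, hu', hαu⟩ := hdec u
    have h1 : (u : Ω)⁻¹ * ((α u : E) : Ω)
        = ((u : Ω)⁻¹ * (u' : Ω)) * ((u' : Ω)⁻¹ * ((k u' : E) : Ω)) := by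
      rw [hαu]
      group
    rw [h1]
    refine mul_mem ?_ (hV (hkV u'))
    rw [hu']
    exact hV (hf.D_le (hγSD γ hγ ⟨u, huS⟩))
  have hfoc : F.focalSubgroup ≤ V₁ ⊔ V₂ := by
    rw [focalSubgroup_le_iff F (V₁ ⊔ V₂) hH]
    apply Cfsg.Agent.S5082.result 2 H.pS F H.sat (focalSystem F (V₁ ⊔ V₂) hH)
    intro P hP α hα
    have hPS : P ≤ S := by
      rcases hP with h | hess
      · rw [h]
      · exact hess.1.1
    rw [mem_autGroup_iff _ hPS]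
    refine (mem_focalSystem_iff F _ hH _).mpr ⟨(mem_autGroup_iff F hPS α).mp hα, fun u => ?_⟩
    show (u : Ω)⁻¹ * ((α u : P) : Ω) ∈ V₁ ⊔ V₂
    rcases hP with h | hess
    · subst h
      exact (le_sup_left : V₁ ≤ V₁ ⊔ V₂) (h₁.D_le (hγSD α hα u))
    · rcases hall P hess with h | h
      · subst h
        exact aux h₁ le_sup_left α hα u
      · subst h
        exact aux h₂ le_sup_right α hα u
  have hSW : S ≤ V₁ ⊔ V₂ := by
    calc S = F.hyperfocalSubgroup 2 := hhyp.symm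
      _ ≤ F.focalSubgroup := hyperfocalSubgroup_le_focalSubgroup F 2
      _ ≤ V₁ ⊔ V₂ := hfoc
  have hc₁W : c₁ ∈ V₁ ⊔ V₂ := hSW (mem_zc_iff.mp hc₁Z).1
  have hnorm : ∀ k ∈ V₂, ∀ h ∈ V₁, k * h * k⁻¹ ∈ V₁ := by
    intro k hk h hh
    have hkS : k ∈ S := h₂.ES (h₂.V_le hk)
    have hhS : h ∈ S := h₁.ES (h₁.V_le hh)
    have h1 : k * h * k⁻¹ = h * (h⁻¹ * k * h * k⁻¹) := by group
    rw [h1]
    exact V₁.mul_mem hh (h₁.D_le (comm_mem_commSub hhS hkS))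
  obtain ⟨v₁, hv₁, v₂, hv₂, hc₁v⟩ := mem_sup_of_normalizes hnorm hc₁W
  have hZE₁ := H.zc_le hE₁
  have hv₂E₁ : v₂ ∈ E₁ := by
    have h3 : v₂ = v₁⁻¹ * c₁ := by rw [hc₁v]; group
    rw [h3]
    exact E₁.mul_mem (E₁.inv_mem (h₁.V_le hv₁)) (hZE₁ hc₁Z)
  have hv₂Z : v₂ ∈ centralizerIn S S := by
    by_contra hh
    exact hne12 (H.ess_eq_of_mem hE₁ hE₂ hv₂E₁ (h₂.V_le hv₂) hh)
  have hv₂D : v₂ ∈ commSub S := h₂.V_zc v₂ hv₂ hv₂Z
  have hv₁Z : v₁ ∈ centralizerIn S S := by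
    have h3 : v₁ = c₁ * v₂⁻¹ := by rw [hc₁v]; group
    rw [h3]
    exact mul_mem hc₁Z (inv_mem hv₂Z)
  have hv₁D : v₁ ∈ commSub S := h₁.V_zc v₁ hv₁ hv₁Z
  apply hc₁ne
  apply h₁.inf c₁ hc₁
  rw [hc₁v]
  exact mul_mem hv₁D hv₂D

end SCHyp

/-! ### Odd primes -/

namespace SCHyp

variable [Finite S] {p : ℕ} [Fact p.Prime] {F : FusionSystem S}

theorem torus_le (H : SCHyp p F) (hp2 : p ≠ 2) (hDp : ∀ d ∈ commSub S, d ^ p = 1)
    {η₁ η₂ : MulAut S} (h₁ : η₁ ∈ F.autGroup S) (h₂ : η₂ ∈ F.autGroup S) (C₁ C₂ : Subgroup S)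
    (hC₁Z : ∀ c ∈ C₁, (c : Ω) ∈ centralizerIn S S)
    (hη₁D : ∀ d : S, (d : Ω) ∈ commSub S → η₁ d = d ^ ((p + 1) / 2))
    (hη₂D : ∀ d : S, (d : Ω) ∈ commSub S → η₂ d = d ^ ((p + 1) / 2))
    (hη₁C : ∀ c ∈ C₁, η₁ c = c) (hη₂C : ∀ c ∈ C₂, η₂ c = c)
    (hdec₁ : ∀ c ∈ C₂, ∃ d : S, (d : Ω) ∈ commSub S ∧ ∃ c' ∈ C₁, c = d * c')
    (hdec₂ : ∀ c ∈ C₁, ∃ d : S, (d : Ω) ∈ commSub S ∧ ∃ c' ∈ C₂, c = d * c') : C₁ ≤ C₂ := by
  obtain ⟨m, hm, hinn⟩ := H.exists_coprime_pow_inner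
  obtain ⟨z, hz⟩ : ∃ z : ℕ, p = 2 * z + 1 := by
    rcases (Fact.out : p.Prime).eq_two_or_odd' with h2 | ⟨z, hz⟩
    · exact absurd h2 hp2
    · exact ⟨z, hz⟩
  have hz2 : (p + 1) / 2 = z + 1 := by omega
  refine torus_unique (p := p) (k := (p + 1) / 2) (m := m) η₁ η₂ ((commSub S).subgroupOf S)
    C₁ C₂ ?_ ?_ ?_ ?_ ?_ hη₁C hη₂C ?_ ?_ ?_ hm ?_
  · intro c hc g
    exact Subtype.ext ((mem_zc_iff.mp (hC₁Z c hc)).2 g g.2)
  · intro d hd
    apply Subtype.ext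
    rw [Subgroup.coe_pow]
    exact hDp d (mem_subgroupOf.mp hd)
  · intro d hd
    exact mem_subgroupOf.mpr (commSub_invariant η₁⁻¹ d (mem_subgroupOf.mp hd))
  · intro d hd
    exact hη₁D d (mem_subgroupOf.mp hd)
  · intro d hd
    exact hη₂D d (mem_subgroupOf.mp hd)
  · intro c hc
    obtain ⟨d, hd, c', hc', h⟩ := hdec₁ c hc
    exact ⟨d, mem_subgroupOf.mpr hd, c', hc', h⟩
  · intro c hc
    obtain ⟨d, hd, c', hc', h⟩ := hdec₂ c hc
    exact ⟨d, mem_subgroupOf.mpr hd, c', hc', h⟩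
  · intro d hd hdk
    have hdp : d ^ p = 1 := by
      apply Subtype.ext
      rw [Subgroup.coe_pow]
      exact hDp d (mem_subgroupOf.mp hd)
    rw [hz2, pow_succ] at hdk
    have h1 : d ^ z = 1 := by
      have h3 : d ^ z * d = 1 * d := by rw [hdk, one_mul]
      exact mul_right_cancel h3
    have h4 : d ^ (2 * z + 1) = 1 := by rw [← hz]; exact hdp
    rw [pow_succ, pow_mul', h1, one_pow, one_mul] at h4
    exact h4
  · intro c hc
    obtain ⟨g, hg, hgx⟩ := hinn (η₁⁻¹ * η₂) (mul_mem (inv_mem h₁) h₂)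
    apply Subtype.ext
    rw [hgx c]
    have h3 := (mem_zc_iff.mp (hC₁Z c hc)).2 g hg
    rw [h3]
    group

theorem essCore_eq_bot_odd (H : SCHyp p F) (hp2 : p ≠ 2) (hcore : F.core = ⊥)
    {E₁ V₁ : Subgroup Ω} {x₁ : Ω} (h₁ : EssFacts p F E₁ V₁ x₁) : essCore F E₁ = ⊥ := by
  have hE₁ := h₁.ess
  obtain ⟨η, hη, hηC, hηD⟩ := h₁.torus hp2
  have hDp : ∀ d ∈ commSub S, d ^ p = 1 := fun d hd => h₁.D_pow hd
  have hZ₁ := essCore_le_zc F E₁
  have hS : ∀ γ ∈ F.autGroup S, ∀ u : S, (u : Ω) ∈ essCore F E₁ →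
      ((γ u : S) : Ω) ∈ essCore F E₁ := by
    intro γ hγ u hu
    have hle : ((essCore F E₁).subgroupOf S).map γ.toMonoidHom ≤ (essCore F E₁).subgroupOf S := by
      apply H.torus_le hp2 hDp (η₁ := γ * η * γ⁻¹) (η₂ := η)
        (mul_mem (mul_mem hγ hη) (inv_mem hγ)) hη _ _ ?_ ?_ hηD ?_ ?_ ?_ ?_
      · rintro _ ⟨c, hc, rfl⟩
        exact aut_zc γ c (hZ₁ (mem_subgroupOf.mp hc))
      · intro d hd
        have h1 : ((γ⁻¹ d : S) : Ω) ∈ commSub S := commSub_invariant γ⁻¹ d hd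
        show γ (η (γ⁻¹ d)) = d ^ ((p + 1) / 2)
        rw [hηD _ h1, map_pow]
        simp
      · rintro _ ⟨c, hc, rfl⟩
        show γ (η (γ⁻¹ (γ c))) = γ c
        have h3 : γ⁻¹ (γ c) = c := by simp
        rw [h3, hηC c (mem_subgroupOf.mp hc)]
      · intro c hc
        exact hηC c (mem_subgroupOf.mp hc)
      · intro c hc
        have hcZ : ((γ⁻¹ c : S) : Ω) ∈ centralizerIn S S :=
          aut_zc γ⁻¹ c (hZ₁ (mem_subgroupOf.mp hc))
        obtain ⟨d, hd, c', hc', hdc⟩ := h₁.dec' (γ⁻¹ c) hcZ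
        refine ⟨γ d, commSub_invariant γ d hd, γ c', ⟨c', mem_subgroupOf.mpr hc', rfl⟩, ?_⟩
        rw [← map_mul, ← hdc]
        simp
      · rintro _ ⟨c, hc, rfl⟩
        obtain ⟨d, hd, c', hc', hdc⟩ :=
          h₁.dec' (γ c) (aut_zc γ c (hZ₁ (mem_subgroupOf.mp hc)))
        exact ⟨d, hd, c', mem_subgroupOf.mpr hc', hdc⟩
    have h1 : γ u ∈ ((essCore F E₁).subgroupOf S).map γ.toMonoidHom :=
      ⟨u, mem_subgroupOf.mpr hu, rfl⟩
    exact mem_subgroupOf.mp (hle h1)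
  have hnorm : F.IsNormal (essCore F E₁) := by
    apply Cfsg.Agent.Lib.helper86.isNormal_of_aut_invariant H.pS F H.sat
    intro P hP
    rcases hP with h | hess
    · subst h
      exact ⟨fun q hq => (mem_zc_iff.mp (hZ₁ hq)).1, fun γ hγ u hu => hS γ hγ u hu⟩
    · obtain ⟨V', x', h'⟩ := H.exists_essFacts hess
      obtain ⟨η', hη', hηC', hηD'⟩ := h'.torus hp2
      have hZ' := essCore_le_zc F P
      have hle1 : (essCore F E₁).subgroupOf S ≤ (essCore F P).subgroupOf S := by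
        apply H.torus_le hp2 hDp hη hη' _ _ ?_ hηD hηD' ?_ ?_ ?_ ?_
        · intro c hc
          exact hZ₁ (mem_subgroupOf.mp hc)
        · intro c hc
          exact hηC c (mem_subgroupOf.mp hc)
        · intro c hc
          exact hηC' c (mem_subgroupOf.mp hc)
        · intro c hc
          obtain ⟨d, hd, c', hc', hdc⟩ := h₁.dec' c (hZ' (mem_subgroupOf.mp hc))
          exact ⟨d, hd, c', mem_subgroupOf.mpr hc', hdc⟩
        · intro c hc
          obtain ⟨d, hd, c', hc', hdc⟩ := h'.dec' c (hZ₁ (mem_subgroupOf.mp hc))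
          exact ⟨d, hd, c', mem_subgroupOf.mpr hc', hdc⟩
      have hle2 : (essCore F P).subgroupOf S ≤ (essCore F E₁).subgroupOf S := by
        apply H.torus_le hp2 hDp hη' hη _ _ ?_ hηD' hηD ?_ ?_ ?_ ?_
        · intro c hc
          exact hZ' (mem_subgroupOf.mp hc)
        · intro c hc
          exact hηC' c (mem_subgroupOf.mp hc)
        · intro c hc
          exact hηC c (mem_subgroupOf.mp hc)
        · intro c hc
          obtain ⟨d, hd, c', hc', hdc⟩ := h'.dec' c (hZ₁ (mem_subgroupOf.mp hc))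
          exact ⟨d, hd, c', mem_subgroupOf.mpr hc', hdc⟩
        · intro c hc
          obtain ⟨d, hd, c', hc', hdc⟩ := h₁.dec' c (hZ' (mem_subgroupOf.mp hc))
          exact ⟨d, hd, c', mem_subgroupOf.mpr hc', hdc⟩
      refine ⟨fun q hq => H.zc_le hess (hZ₁ hq), fun α hα u hu => ?_⟩
      have huS : (u : Ω) ∈ S := hess.1.1 u.2
      have h1 : (u : Ω) ∈ essCore F P :=
        mem_subgroupOf.mp (hle1 (mem_subgroupOf.mpr
          (show ((⟨u, huS⟩ : S) : Ω) ∈ essCore F E₁ from hu)))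
      have h2 := essCore_invariant hα u h1
      have hαS : ((α u : P) : Ω) ∈ S := hess.1.1 (α u).2
      exact mem_subgroupOf.mp (hle2 (mem_subgroupOf.mpr
        (show ((⟨(α u : P), hαS⟩ : S) : Ω) ∈ essCore F P from h2)))
  have h2 : essCore F E₁ ≤ F.core := le_sSup hnorm
  rw [hcore] at h2
  exact le_bot_iff.mp h2

end SCHyp

end Fusion

end Cfsg.Agent.Lib.helper89
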