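import Cfsg.Agent.Lib.helper81.WTDefs
import Cfsg.Agent.Lib.helper50.WTW0b
import Cfsg.Agent.Lib.helper47.WTP1
import Cfsg.Agent.Lib.helper95.WTQF
import Cfsg.Agent.Lib.helper95.WTCNT2

/-!
# S4414 piece W1: the weights are not a single `T`-orbit

Otherwise the set of weights is the `T`-orbit of `μ₀`, of size a power of `2`; it is `Q`-invariant
(W0b) and `Q` acts freely on it (QF, and the trivial character is not a weight by P1), so
`q ∣ 2 ^ c` (CNT2) and `q = 2`.

The file also carries a prefixed copy `helper89_card_orb` of piece CNT1 (an orbit of a `2`-group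
has `2`-power size), so that it does not depend on the CNT1 module.
-/

set_option autoImplicit false

namespace Cfsg.Agent.Lib.helper81.WT

open scoped TensorProduct

universe u v w

/-- [CNT1, prefixed copy] an orbit of a 2-group has 2-power size -/
theorem helper89_card_orb {S : Type u} [Group S] [Finite S] {F : Type w} [Field F] [Finite F]
    (Y : Subgroup S) [Y.Normal]
    (T : Subgroup S) (hT : IsPGroup 2 ↥T) (μ : ↥Y →* Fˣ) :
    ∃ c : ℕ, Nat.card ↥(orb Y T μ) = 2 ^ c := by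
  letI act : MulAction ↥T (↥Y →* Fˣ) :=
    { smul := fun t ν => cj Y (t : S) ν
      one_smul := fun ν => cj_one Y ν
      mul_smul := fun a b ν => cj_mul Y (a : S) (b : S) ν }
  have horb : orb Y T μ = MulAction.orbit ↥T μ := by
    ext ν
    constructor
    · rintro ⟨t, ht, rfl⟩
      exact ⟨⟨t, ht⟩, rfl⟩
    · rintro ⟨t, rfl⟩
      exact ⟨(t : S), t.2, rfl⟩
  rw [horb]
  haveI : Finite (↥Y →* Fˣ) :=
    Finite.of_injective (fun f : ↥Y →* Fˣ => (f : ↥Y → Fˣ)) DFunLike.coe_injective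
  haveI : Finite ↥(MulAction.orbit ↥T μ) := Subtype.finite
  exact hT.card_orbit μ

/-- [W1] the weights are not a single T-orbit; uses W0b, P1, QF, CNT1, CNT2 -/
theorem weights_not_orbit {S : Type u} [Group S] [Finite S] {F : Type w} [Field F] [Finite F] [CharP F 2]
    {V : Type v} [AddCommGroup V] [Module F V]
    (R : Representation F S V) (Y : Subgroup S) [Y.Normal] [Fintype ↥Y]
    (h0 : ∑ y : ↥Y, R (y : S) = 0) (T : Subgroup S) (hT : IsPGroup 2 ↥T)
    (Q : Subgroup S) (q : ℕ) (hq : q.Prime) (hq2 : q ≠ 2) (hQ : Nat.card ↥Q = q) (hcomm : ⁅Y, Q⁆ = Y)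
    (μ₀ : ↥Y →* Fˣ) (hμ₀ : proj R Y μ₀ ≠ 0) :
    ¬ ∀ ν : ↥Y →* Fˣ, proj R Y ν ≠ 0 → ν ∈ orb Y T μ₀ := by
  intro hall
  -- every member of the orbit is a weight
  have horb : ∀ μ ∈ orb Y T μ₀, proj R Y μ ≠ 0 := by
    rintro μ ⟨t, -, rfl⟩
    exact weights_inv R Y t μ₀ hμ₀
  obtain ⟨c, hc⟩ := helper89_card_orb (F := F) Y T hT μ₀
  have hdvd : q ∣ Nat.card ↥(orb Y T μ₀) := by
    apply card_free Y Q q hq hQ (orb Y T μ₀)
    · intro x _ μ hμ
      exact hall _ (weights_inv R Y x μ (horb μ hμ))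
    · intro x hx hx1 μ hμ hfix
      have h1 : μ = 1 := cj_fixed_eq_one Y Q q hq hq2 hQ hcomm x hx hx1 μ hfix
      apply horb μ hμ
      rw [h1]
      exact proj_one R Y h0
  rw [hc] at hdvd
  have h2 : q ∣ 2 := hq.dvd_of_dvd_pow hdvd
  exact hq2 ((Nat.prime_dvd_prime_iff_eq hq Nat.prime_two).mp h2)

end Cfsg.Agent.Lib.helper81.WT
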