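/-
S1356 piece A3 (helper86's split): `M'' ≤ M_σ ≤ F(M)` when `M_σ` is nilpotent.
-/
import Mathlib
import Cfsg.Prelude.Def_OddOrderLocal
import Cfsg.Agent.Lib.helper86.BG1356Defs
import Cfsg.Agent.Lib.helper60.BGSylU
import Cfsg.Agent.Lib.helper28.Fitting
import Cfsg.Agent.S1420

set_option autoImplicit false

namespace Cfsg.Agent.Lib.helper86.BG1356

open Cfsg Subgroup

variable {G : Type*} [Group G]

/-- `M'' ≤ M_σ` for a maximal subgroup `M` (from `E'` abelian, landed S1420). -/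
theorem derived2_le_sigmaCore [Finite G] (hG : IsMinSimpleOddOrder G)
    (M : Subgroup G) (hM : IsCoatom M) :
    ⁅⁅M, M⁆, ⁅M, M⁆⁆ ≤ sigmaCore M := by
  obtain ⟨E, hE⟩ := Cfsg.Agent.Lib.helper60.BGSylU.exists_compl_sigmaCore hG M hM
  have hE'ab := (Cfsg.Agent.S1420.result hG M hM E hE).2.1
  -- the quotient map of `M` by `M_σ`
  obtain ⟨φ, hφ⟩ : ∃ φ : ↥M →* ↥M ⧸ piCore (sigma M) ↥M,
      φ = QuotientGroup.mk' (piCore (sigma M) ↥M) := ⟨_, rfl⟩
  have hker : φ.ker = piCore (sigma M) ↥M := by rw [hφ, QuotientGroup.ker_mk']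
  have hsurj : Function.Surjective φ := by rw [hφ]; exact QuotientGroup.mk'_surjective _
  -- `E` maps onto the quotient
  have hEtop : (E.subgroupOf M).map φ = ⊤ := by
    rw [eq_top_iff]
    intro y _
    obtain ⟨m, rfl⟩ := hsurj y
    obtain ⟨a, ha, b, hb, hab⟩ := hE.2.2.2 m.1 m.2
    obtain ⟨b', hb', hbb⟩ : ∃ b' ∈ piCore (sigma M) ↥M, (b' : G) = b := hb
    refine ⟨⟨a, hE.1 ha⟩, ?_, ?_⟩
    · rw [SetLike.mem_coe, Subgroup.mem_subgroupOf]; exact ha
    · have hm : m = ⟨a, hE.1 ha⟩ * b' := by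
        apply Subtype.ext
        rw [Subgroup.coe_mul, hbb]; exact hab
      rw [hm, map_mul]
      have : φ b' = 1 := by
        rw [← MonoidHom.mem_ker, hker]; exact hb'
      rw [this, mul_one]
  -- `E''` is trivial, inside `M`
  have hE2 : ⁅⁅E.subgroupOf M, E.subgroupOf M⁆, ⁅E.subgroupOf M, E.subgroupOf M⁆⁆ = ⊥ := by
    apply Subgroup.map_injective M.subtype_injective
    rw [Subgroup.map_commutator, Subgroup.map_commutator,
      Subgroup.map_subgroupOf_eq_of_le hE.1, Subgroup.map_bot,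
      Subgroup.commutator_eq_bot_iff_le_centralizer]
    intro a ha
    rw [Subgroup.mem_centralizer_iff]
    intro b hb
    have := congrArg Subtype.val (mul_comm' (⟨b, hb⟩ : ↥⁅E, E⁆) ⟨a, ha⟩)
    exact this
  -- the second derived group of `M` dies in the quotient
  have hD2 : (⁅commutator ↥M, commutator ↥M⁆).map φ = ⊥ := by
    have h1 : (commutator ↥M).map φ = (⁅E.subgroupOf M, E.subgroupOf M⁆).map φ := by
      rw [commutator_def, Subgroup.map_commutator, Subgroup.map_commutator, hEtop,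
        ← MonoidHom.range_eq_map, MonoidHom.range_eq_top.mpr hsurj]
    rw [Subgroup.map_commutator, h1, ← Subgroup.map_commutator, hE2, Subgroup.map_bot]
  have hle : ⁅commutator ↥M, commutator ↥M⁆ ≤ piCore (sigma M) ↥M := by
    rw [← hker]
    exact (Subgroup.map_eq_bot_iff _).mp hD2
  have hmap : (⁅commutator ↥M, commutator ↥M⁆).map M.subtype = ⁅⁅M, M⁆, ⁅M, M⁆⁆ := by
    rw [Subgroup.map_commutator, Subgroup.map_subtype_commutator]
  rw [← hmap]
  exact Subgroup.map_mono hle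

/-- **A3.** `M'' ≤ M_σ ≤ F(M)` when `M_σ` is nilpotent. -/
theorem derived2_le_fitting_of_nilpotent [Finite G] (hG : IsMinSimpleOddOrder G)
    (M : Subgroup G) (hM : IsCoatom M) (hn : Group.IsNilpotent ↥(sigmaCore M)) :
    ⁅⁅M, M⁆, ⁅M, M⁆⁆ ≤ fittingOf M := by
  refine (derived2_le_sigmaCore hG M hM).trans ?_
  have hnil : Group.IsNilpotent ↥(piCore (sigma M) ↥M) := by
    have e := Subgroup.equivMapOfInjective (piCore (sigma M) ↥M) M.subtype M.subtype_injective
    have hn' : Group.IsNilpotent ↥((piCore (sigma M) ↥M).map M.subtype) := hn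
    exact Group.nilpotent_of_mulEquiv e.symm
  unfold sigmaCore fittingOf
  exact Subgroup.map_mono
    (Cfsg.Agent.Lib.helper28.le_fittingSubgroup (inferInstance : (piCore (sigma M) ↥M).Normal) hnil)

end Cfsg.Agent.Lib.helper86.BG1356
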