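/-
S1356 piece B3 (helper86's split): `C_M(M_F) ≤ F(M)` when `κ(M) = ∅`.
-/
import Mathlib
import Cfsg.Prelude.Def_OddOrderLocal
import Cfsg.Agent.Lib.helper86.BG1356Defs
import Cfsg.Agent.Lib.helper60.BGSylU
import Cfsg.Agent.Lib.helper28.Fitting
import Cfsg.Agent.Lib.helper8.BG1355
import Cfsg.Agent.Lib.helper26.BG1375
import Cfsg.Agent.Lib.helper54.BGSigmaNe
import Cfsg.Agent.Lib.helper54.BGThirteen
import Cfsg.Agent.S1350
import Cfsg.Agent.S1421
import Cfsg.Agent.S1429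
import Cfsg.Agent.S1432

set_option autoImplicit false

namespace Cfsg.Agent.Lib.helper86.BG1356

open Cfsg Subgroup

variable {G : Type*} [Group G]

/-- If `e s` centralizes a subgroup `S ∋ s` and `e`, `s` have coprime orders, then `s` (and `e`)
centralize `S`. -/
theorem cent_split_of_coprime (S : Subgroup G) {e s : G} (hs : s ∈ S)
    (hc : e * s ∈ centralizer (S : Set G)) (hcop : (orderOf e).Coprime (orderOf s)) :
    s ∈ centralizer (S : Set G) ∧ e ∈ centralizer (S : Set G) := by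
  have hstar : ∀ x ∈ S, e * x * e⁻¹ = s⁻¹ * x * s := by
    intro x hx
    have hx' : s⁻¹ * x * s ∈ S := S.mul_mem (S.mul_mem (S.inv_mem hs) hx) hs
    have h := Subgroup.mem_centralizer_iff.mp hc _ hx'
    calc e * x * e⁻¹ = (e * s) * (s⁻¹ * x * s) * (e * s)⁻¹ := by group
      _ = (s⁻¹ * x * s) * (e * s) * (e * s)⁻¹ := by rw [h]
      _ = s⁻¹ * x * s := by group
  have hpow : ∀ j : ℕ, ∀ x ∈ S, e ^ j * x * (e ^ j)⁻¹ = (s ^ j)⁻¹ * x * s ^ j := by
    intro j
    induction j with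
    | zero => intro x _; simp
    | succ j ih =>
      intro x hx
      have hx' : (s ^ j)⁻¹ * x * s ^ j ∈ S :=
        S.mul_mem (S.mul_mem (S.inv_mem (S.pow_mem hs j)) hx) (S.pow_mem hs j)
      calc e ^ (j + 1) * x * (e ^ (j + 1))⁻¹ = e * (e ^ j * x * (e ^ j)⁻¹) * e⁻¹ := by
            rw [pow_succ']; group
        _ = e * ((s ^ j)⁻¹ * x * s ^ j) * e⁻¹ := by rw [ih x hx]
        _ = s⁻¹ * ((s ^ j)⁻¹ * x * s ^ j) * s := hstar _ hx'
        _ = (s ^ (j + 1))⁻¹ * x * s ^ (j + 1) := by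
            rw [pow_succ]; group
  have hsj : s ^ orderOf e ∈ centralizer (S : Set G) := by
    rw [Subgroup.mem_centralizer_iff]
    intro x hx
    have h := hpow (orderOf e) x hx
    rw [pow_orderOf_eq_one, one_mul, inv_one, mul_one] at h
    have h2 : s ^ orderOf e * x = s ^ orderOf e * ((s ^ orderOf e)⁻¹ * x * s ^ orderOf e) :=
      congrArg (fun t => s ^ orderOf e * t) h
    calc x * s ^ orderOf e = s ^ orderOf e * ((s ^ orderOf e)⁻¹ * x * s ^ orderOf e) := by group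
      _ = s ^ orderOf e * x := h2.symm
  obtain ⟨m, hm⟩ := exists_pow_eq_self_of_coprime hcop
  have hsc : s ∈ centralizer (S : Set G) := by
    rw [← hm]
    exact Subgroup.pow_mem _ hsj m
  refine ⟨hsc, ?_⟩
  have : e = e * s * s⁻¹ := by group
  rw [this]
  exact Subgroup.mul_mem _ hc (Subgroup.inv_mem _ hsc)

/-- **B3.** (`κ(M) = ∅`) `C_M(M_F) ≤ F(M)`. -/
theorem cent_le_fitting_of_no_kappa [Finite G] (hG : IsMinSimpleOddOrder G) (M : Subgroup G)
    (hM : IsCoatom M) (hκ : kappa M = ∅) :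
    M ⊓ centralizer (fittingHallOf M : Set G) ≤ fittingOf M := by
  classical
  have hHall := (Cfsg.Agent.S1350.result hG M hM).1
  have hσne := Cfsg.Agent.Lib.helper54.sigmaCore_ne_bot hG M hM
  obtain ⟨E, hE⟩ := Cfsg.Agent.Lib.helper60.BGSylU.exists_compl_sigmaCore hG M hM
  -- a prime of `|M|` outside `σ(M)`
  have hex : ∃ p : ℕ, p.Prime ∧ p ∣ Nat.card M ∧ p ∉ sigma M := by
    by_contra hno
    push Not at hno
    have h1 : (sigmaCore M).relIndex M = 1 := by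
      by_contra h
      obtain ⟨p, hp, hpd⟩ := Nat.exists_prime_and_dvd h
      have hpM : p ∣ Nat.card M := hpd.trans (Subgroup.relIndex_dvd_card _ _)
      exact hHall.2.2 p hp (hno p hp hpM) hpd
    have h2 : M ≤ sigmaCore M := Subgroup.relIndex_eq_one.mp h1
    have h3 := Cfsg.Agent.Lib.helper8.BG1355.sigmaCore_le_commutator hG M hM
    have h4 := Cfsg.Agent.Lib.helper8.BG1355.commutator_lt hG M hM
    exact absurd (h2.trans h3) (not_le_of_gt h4)
  obtain ⟨p, hp, hpM, hpσ⟩ := hex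
  have : Fact p.Prime := ⟨hp⟩
  -- `M_σ` is nilpotent (S1429), so `M_F = M_σ`
  have hnil : Group.IsNilpotent ↥(sigmaCore M) := by
    have hP1 : ¬ (∀ q : ℕ, q.Prime → q ∣ Nat.card M → q ∉ sigma M → q ∈ kappa M) := by
      intro h
      have h' := h p hp hpM hpσ
      rw [hκ] at h'
      exact h'
    have hp' : p ∉ sigma M ∪ kappa M := by
      rw [hκ, Set.union_empty]; exact hpσ
    exact (Cfsg.Agent.S1429.result hG M hM hP1 p hpM hp' default).2.2
  have hF : sigmaCore M = fittingHallOf M :=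
    Cfsg.Agent.Lib.helper26.BG1375.sigmaCore_eq_fittingHallOf hG hM hnil
  rw [← hF]
  -- the hypothesis of S1421
  have h21 : ∀ e ∈ E, e ≠ 1 → (∀ q : ℕ, q.Prime → q ∣ orderOf e → q ∈ tau1 M ∪ tau3 M) →
      sigmaCore M ⊓ centralizer ({e} : Set G) = ⊥ := by
    intro e he he1 hτ
    rw [eq_bot_iff]
    intro z hz
    rw [Subgroup.mem_bot]
    by_contra hz1
    obtain ⟨hzS, hzc⟩ := Subgroup.mem_inf.mp hz
    have hcomm : z * e = e * z := Subgroup.mem_centralizer_singleton_iff.mp hzc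
    have he' : e ∈ M ⊓ centralizer ({z} : Set G) :=
      Subgroup.mem_inf.mpr ⟨hE.1 he, Subgroup.mem_centralizer_singleton_iff.mpr hcomm.symm⟩
    have hσ' : ∀ q : ℕ, q.Prime → q ∣ orderOf e → q ∉ sigma M := by
      intro q hq hd
      rcases hτ q hq hd with h | h
      · exact h.2.1
      · exact h.2.1
    have ho1 : orderOf e ≠ 1 := by rwa [Ne, orderOf_eq_one_iff]
    obtain ⟨q, hq, hqd⟩ := Nat.exists_prime_and_dvd ho1
    rcases Cfsg.Agent.S1432.result hG M hM z hzS hz1 e he' he1 hσ' with h | h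
    · have h' := h.1 q hq hqd
      rw [hκ] at h'
      exact h'
    · have h2 := h.1 q hq hqd
      rcases hτ q hq hqd with h1 | h3
      · exact h2.2.2.2 h1.2.2.2.2
      · exact h2.2.2.2 h3.2.2.2
  obtain ⟨⟨A₀, -, -, hA₀ab, hA₀⟩, -⟩ := Cfsg.Agent.S1421.result hG M hM E hE h21
  obtain ⟨x₀, hx₀1⟩ := (Subgroup.ne_bot_iff_exists_ne_one.mp hσne)
  have hx₀S' : (x₀ : G) ∈ sigmaCore M := x₀.2
  have hx₀1' : (x₀ : G) ≠ 1 := fun h => hx₀1 (Subtype.ext h)
  have hcopES := Cfsg.Agent.Lib.helper54.compl_card_coprime hG M hM E hE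
  -- splitting elements of `C_M(M_σ)`
  have hsplit : ∀ c ∈ M ⊓ centralizer (sigmaCore M : Set G), ∃ e ∈ E, ∃ s ∈ sigmaCore M,
      c = e * s ∧ e ∈ centralizer (sigmaCore M : Set G) ∧
        s ∈ centralizer (sigmaCore M : Set G) := by
    intro c hc
    obtain ⟨hcM, hcc⟩ := Subgroup.mem_inf.mp hc
    obtain ⟨e, he, s, hs, hces⟩ := hE.2.2.2 c hcM
    have hcop : (orderOf e).Coprime (orderOf s) := by
      have h1 : orderOf e ∣ Nat.card E := Subgroup.orderOf_dvd_natCard E he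
      have h2 : orderOf s ∣ Nat.card (sigmaCore M) := Subgroup.orderOf_dvd_natCard _ hs
      exact Nat.Coprime.coprime_dvd_left h1 (Nat.Coprime.coprime_dvd_right h2 hcopES)
    rw [hces] at hcc
    obtain ⟨h1, h2⟩ := cent_split_of_coprime (sigmaCore M) hs hcc hcop
    exact ⟨e, he, s, hs, hces, h2, h1⟩
  -- `C_M(M_σ)` is abelian
  have hab : ∀ c₁ ∈ M ⊓ centralizer (sigmaCore M : Set G),
      ∀ c₂ ∈ M ⊓ centralizer (sigmaCore M : Set G), c₁ * c₂ = c₂ * c₁ := by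
    intro c₁ hc₁ c₂ hc₂
    obtain ⟨e₁, he₁, s₁, hs₁, rfl, he₁c, hs₁c⟩ := hsplit c₁ hc₁
    obtain ⟨e₂, he₂, s₂, hs₂, rfl, he₂c, hs₂c⟩ := hsplit c₂ hc₂
    have hmem : ∀ e ∈ E, e ∈ centralizer (sigmaCore M : Set G) → e ∈ A₀ := by
      intro e he hec
      apply hA₀ (x₀ : G) hx₀S' hx₀1'
      refine Subgroup.mem_inf.mpr ⟨he, ?_⟩
      rw [Subgroup.mem_centralizer_singleton_iff]
      exact (Subgroup.mem_centralizer_iff.mp hec _ hx₀S').symm
    have h_e : e₁ * e₂ = e₂ * e₁ :=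
      congrArg Subtype.val (mul_comm' (⟨e₁, hmem e₁ he₁ he₁c⟩ : ↥A₀) ⟨e₂, hmem e₂ he₂ he₂c⟩)
    have h_s : s₁ * s₂ = s₂ * s₁ := Subgroup.mem_centralizer_iff.mp hs₂c s₁ hs₁
    have h_s1e2 : s₁ * e₂ = e₂ * s₁ := Subgroup.mem_centralizer_iff.mp he₂c s₁ hs₁
    have h_s2e1 : s₂ * e₁ = e₁ * s₂ := Subgroup.mem_centralizer_iff.mp he₁c s₂ hs₂
    calc e₁ * s₁ * (e₂ * s₂) = e₁ * (s₁ * e₂) * s₂ := by group
      _ = e₁ * (e₂ * s₁) * s₂ := by rw [h_s1e2]
      _ = (e₁ * e₂) * (s₁ * s₂) := by group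
      _ = (e₂ * e₁) * (s₂ * s₁) := by rw [h_e, h_s]
      _ = e₂ * (e₁ * s₂) * s₁ := by group
      _ = e₂ * (s₂ * e₁) * s₁ := by rw [h_s2e1]
      _ = e₂ * s₂ * (e₁ * s₁) := by group
  -- `C_M(M_σ)` is normal in `M`
  have hSnorm := Cfsg.Agent.Lib.helper13.le_normalizer_sigmaCore M
  obtain ⟨C', hC'⟩ : ∃ C' : Subgroup ↥M,
      C' = (M ⊓ centralizer (sigmaCore M : Set G)).subgroupOf M := ⟨_, rfl⟩
  have hC'n : C'.Normal := by
    constructor
    intro c hc m
    rw [hC', Subgroup.mem_subgroupOf] at hc ⊢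
    obtain ⟨-, hcc⟩ := Subgroup.mem_inf.mp hc
    refine Subgroup.mem_inf.mpr ⟨(m * c * m⁻¹).2, ?_⟩
    rw [Subgroup.mem_centralizer_iff]
    intro x hx
    have hmN := hSnorm m.2
    have hx' : (m : G)⁻¹ * x * (m : G) ∈ sigmaCore M := by
      have := (Subgroup.mem_normalizer_iff.mp (Subgroup.inv_mem _ hmN) x).mp hx
      rwa [inv_inv] at this
    have h := Subgroup.mem_centralizer_iff.mp hcc _ hx'
    show x * ((m : G) * (c : G) * (m : G)⁻¹) = (m : G) * (c : G) * (m : G)⁻¹ * x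
    calc x * ((m : G) * (c : G) * (m : G)⁻¹)
        = (m : G) * (((m : G)⁻¹ * x * (m : G)) * (c : G)) * (m : G)⁻¹ := by group
      _ = (m : G) * ((c : G) * ((m : G)⁻¹ * x * (m : G))) * (m : G)⁻¹ := by rw [h]
      _ = (m : G) * (c : G) * (m : G)⁻¹ * x := by group
  subst hC'
  have hC'nil : Group.IsNilpotent
      ↥((M ⊓ centralizer (sigmaCore M : Set G)).subgroupOf M) := by
    refine ⟨⟨1, ?_⟩⟩
    rw [Subgroup.upperCentralSeries_one, Subgroup.eq_top_iff']
    intro a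
    rw [Subgroup.mem_center_iff]
    intro b
    apply Subtype.ext
    apply Subtype.ext
    have ha : ((a : ↥M) : G) ∈ M ⊓ centralizer (sigmaCore M : Set G) :=
      Subgroup.mem_subgroupOf.mp a.2
    have hb : ((b : ↥M) : G) ∈ M ⊓ centralizer (sigmaCore M : Set G) :=
      Subgroup.mem_subgroupOf.mp b.2
    exact hab _ hb _ ha
  have hle := Cfsg.Agent.Lib.helper28.le_fittingSubgroup hC'n hC'nil
  have hmap : ((M ⊓ centralizer (sigmaCore M : Set G)).subgroupOf M).map M.subtype =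
      M ⊓ centralizer (sigmaCore M : Set G) :=
    Subgroup.map_subgroupOf_eq_of_le inf_le_left
  rw [← hmap]
  unfold fittingOf
  exact Subgroup.map_mono hle

end Cfsg.Agent.Lib.helper86.BG1356
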