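import Cfsg.Agent.Lib.helper42.FGDefs

/-!
# S1915 piece T1C, core: a self-centralizing abelian `S`- and `U`-invariant subgroup `B` of `S`
has index 2 in `S`

The statements of the leaves T1A (`B` is cyclic), LEMN and LEMM enter as hypotheses.
-/

set_option autoImplicit false

namespace Cfsg.Agent.Lib.helper42.FG

variable {G : Type*} [Group G] [Finite G]

/-- a generator of a cyclic subgroup -/
theorem h89_gen (B : Subgroup G) (hcyc : IsCyclic B) :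
    ∃ b ∈ B, (∀ x ∈ B, x ∈ Subgroup.zpowers b) ∧ orderOf b = Nat.card B := by
  obtain ⟨g, hg⟩ := hcyc.exists_generator
  refine ⟨g, g.2, ?_, ?_⟩
  · intro x hx
    obtain ⟨k, hk⟩ := Subgroup.mem_zpowers_iff.mp (hg ⟨x, hx⟩)
    refine Subgroup.mem_zpowers_iff.mpr ⟨k, ?_⟩
    have h1 := congrArg Subtype.val hk
    simpa using h1
  · rw [← orderOf_eq_card_of_forall_mem_zpowers hg, Subgroup.orderOf_coe]

/-- conjugation by `t` maps `b ^ k` to `(t * b * t⁻¹) ^ k` -/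
theorem h89_conj_mem_zpowers (b c t x : G) (hc : t * b * t⁻¹ = c) (hx : x ∈ Subgroup.zpowers b) :
    t * x * t⁻¹ ∈ Subgroup.zpowers c := by
  obtain ⟨k, rfl⟩ := Subgroup.mem_zpowers_iff.mp hx
  refine Subgroup.mem_zpowers_iff.mpr ⟨k, ?_⟩
  rw [← hc, conj_zpow]

/-- an element normalizing the cyclic `B` maps an element of order 4 of `B` to itself or to its
inverse -/
theorem h89_conj_order_four (B : Subgroup G) (hcyc : IsCyclic B) (b₀ : G) (hb₀ : b₀ ∈ B)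
    (h4 : orderOf b₀ = 4) (t : G) (ht : ∀ x ∈ B, t * x * t⁻¹ ∈ B) :
    t * b₀ * t⁻¹ = b₀ ∨ t * b₀ * t⁻¹ = b₀⁻¹ := by
  classical
  obtain ⟨b, hbB, hgen, -⟩ := h89_gen B hcyc
  -- `t * b₀ * t⁻¹ ∈ zpowers b₀`
  have h1 : t * b₀ * t⁻¹ ∈ Subgroup.zpowers b₀ := by
    obtain ⟨e, he⟩ := Subgroup.mem_zpowers_iff.mp (hgen b₀ hb₀)
    obtain ⟨k, hk⟩ := Subgroup.mem_zpowers_iff.mp (hgen _ (ht b hbB))
    refine Subgroup.mem_zpowers_iff.mpr ⟨k, ?_⟩
    rw [← he, ← conj_zpow, ← hk, ← zpow_mul, ← zpow_mul, mul_comm]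
  rw [mem_zpowers_iff_mem_range_orderOf, h4] at h1
  obtain ⟨i, hi, hi'⟩ := Finset.mem_image.mp h1
  have hi4 : i < 4 := Finset.mem_range.mp hi
  have hpow4 : b₀ ^ 4 = 1 := by rw [← h4]; exact pow_orderOf_eq_one b₀
  have hne1 : b₀ ≠ 1 := by
    rintro rfl
    rw [orderOf_one] at h4
    omega
  have hne2 : b₀ ^ 2 ≠ 1 := by
    intro h2
    have h3 := orderOf_dvd_of_pow_eq_one h2
    rw [h4] at h3
    omega
  have hi'' : b₀ ^ i = t * b₀ * t⁻¹ := hi'
  interval_cases i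
  · exfalso
    apply hne1
    rw [pow_zero] at hi''
    have h5 : t * b₀ * t⁻¹ = 1 := hi''.symm
    have h6 : b₀ = t⁻¹ * (t * b₀ * t⁻¹) * t := by group
    rw [h6, h5]; group
  · left
    rw [← hi'', pow_one]
  · exfalso
    apply hne2
    have h5 : (t * b₀ * t⁻¹) ^ 2 = 1 := by
      rw [← hi'', ← pow_mul]; exact hpow4
    have h6 : b₀ ^ 2 = t⁻¹ * (t * b₀ * t⁻¹) ^ 2 * t := by rw [conj_pow]; group
    rw [h6, h5]; group
  · right
    rw [← hi'']
    apply eq_inv_of_mul_eq_one_left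
    rw [← pow_succ]; exact hpow4

/-- T1C, core: T1A (`hT1A`), LEMN (`hLEMN`), LEMM (`hLEMM`) as hypotheses. -/
theorem h89_index_two_core {A S U : Subgroup G} (h : Cfg A S U) (B : Subgroup G) (hBS : B ≤ S)
    (hSB : S ≤ Subgroup.normalizer (B : Set G)) (hUB : U ≤ Subgroup.normalizer (B : Set G))
    (hcomm : ∀ x ∈ B, ∀ y ∈ B, x * y = y * x)
    (hself : ∀ y ∈ S, (∀ x ∈ B, y * x = x * y) → y ∈ B)
    (hT1A : IsCyclic B)
    (hLEMN : ∀ T B C : Subgroup G, IsPGroup 2 T → B ≤ C → C ≤ T → B ≠ C →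
      T ≤ Subgroup.normalizer (B : Set G) → T ≤ Subgroup.normalizer (C : Set G) →
      ∃ y ∈ C, y ∉ B ∧ y * y ∈ B ∧ ∀ t ∈ T, t * y * t⁻¹ * y⁻¹ ∈ B)
    (hLEMM : ∀ S₁ B : Subgroup G, B ≤ S₁ → IsCyclic B → IsPGroup 2 S₁ → B.relIndex S₁ = 2 →
      (∀ y ∈ S₁, (∀ x ∈ B, y * x = x * y) → y ∈ B) →
      ∀ b₀ : G, b₀ ∈ B → orderOf b₀ = 4 → (∀ y ∈ S₁, y * b₀ = b₀ * y) →
      ∃ X : Subgroup G, X ≤ S₁ ∧ (∀ x ∈ S₁, x ^ 2 = 1 → x ∈ X) ∧ El X ∧ Nat.card X = 4) :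
    B.relIndex S = 2 := by
  classical
  have hS2 : IsPGroup 2 S := IsPGroup.of_card h.hSyl
  have hU2 : IsPGroup 2 U := IsPGroup.of_card (n := 2) (by
    have h1 := h.hU.card_four
    rw [h1]; norm_num)
  have hT2 : IsPGroup 2 (S ⊔ U : Subgroup G) := IsPGroup.to_sup_of_normal_left' hS2 hU2 h.hUS
  -- conjugation facts
  have hSBc : ∀ s ∈ S, ∀ x ∈ B, s * x * s⁻¹ ∈ B := Subgroup.le_normalizer_iff.mp hSB
  have hUBc : ∀ u ∈ U, ∀ x ∈ B, u * x * u⁻¹ ∈ B := Subgroup.le_normalizer_iff.mp hUB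
  have hUSc : ∀ u ∈ U, ∀ x ∈ S, u * x * u⁻¹ ∈ S := Subgroup.le_normalizer_iff.mp h.hUS
  -- Step 1: `B ≠ S`
  have hne : B ≠ S := by
    intro hEq
    obtain ⟨E, hES, hEl, hEc⟩ := h.hc
    have hEB : E ≤ B := hEq ▸ hES
    haveI : IsCyclic B := hT1A
    have hEcyc : IsCyclic E := (Subgroup.subgroupOfEquivOfLe hEB).isCyclic.mp inferInstance
    have hexp : Monoid.exponent E ∣ 2 := Monoid.exponent_dvd_of_forall_pow_eq_one (fun e => by
      apply Subtype.ext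
      simpa using hEl.2 e.1 e.2)
    have hcard : Nat.card E ∣ 2 := by
      rw [← IsCyclic.exponent_eq_card]; exact hexp
    have h3 := Nat.le_of_dvd (by norm_num) hcard
    omega
  obtain ⟨b, hbB, hgen, hbord⟩ := h89_gen B hT1A
  obtain ⟨m, hm⟩ := IsPGroup.iff_card.mp (hS2.to_le hBS)
  -- Step 2: `4 ≤ card B`
  have hm2 : 2 ≤ m := by
    by_contra hm1
    apply hne
    apply le_antisymm hBS
    intro s hs
    apply hself s hs
    have hb2 : b ^ 2 = 1 := by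
      have h1 : orderOf b ∣ 2 := by
        rw [hbord, hm]
        have h2 : m = 0 ∨ m = 1 := by omega
        rcases h2 with rfl | rfl <;> norm_num
      exact orderOf_dvd_iff_pow_eq_one.mp h1
    -- `s` commutes with `b`
    have hsb : s * b * s⁻¹ = b := by
      have h1 : s * b * s⁻¹ ∈ Subgroup.zpowers b := hgen _ (hSBc s hs b hbB)
      by_cases hb1 : b = 1
      · rw [hb1]; group
      · have hord2 : orderOf b = 2 := orderOf_eq_prime hb2 hb1
        rw [mem_zpowers_iff_mem_range_orderOf, hord2] at h1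
        obtain ⟨i, hi, hi'⟩ := Finset.mem_image.mp h1
        have hi2 : i < 2 := Finset.mem_range.mp hi
        have hi'' : b ^ i = s * b * s⁻¹ := hi'
        interval_cases i
        · exfalso
          apply hb1
          rw [pow_zero] at hi''
          have h6 : b = s⁻¹ * (s * b * s⁻¹) * s := by group
          rw [h6, ← hi'']; group
        · rw [← hi'', pow_one]
    intro x hx
    have h1 := h89_conj_mem_zpowers b b s x hsb (hgen x hx)
    -- `s * x * s⁻¹ ∈ zpowers b` is not enough; redo with the exponent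
    obtain ⟨k, rfl⟩ := Subgroup.mem_zpowers_iff.mp (hgen x hx)
    have h2 : s * b ^ k * s⁻¹ = b ^ k := by rw [← conj_zpow, hsb]
    calc s * b ^ k = s * b ^ k * s⁻¹ * s := by group
      _ = b ^ k * s := by rw [h2]
  -- Step 3: an element of order 4
  obtain ⟨b₀, hb₀B, hb₀4⟩ : ∃ b₀ ∈ B, orderOf b₀ = 4 := by
    refine ⟨b ^ 2 ^ (m - 2), B.pow_mem hbB _, ?_⟩
    rw [orderOf_pow_of_dvd (by positivity) (by
      rw [hbord, hm]; exact pow_dvd_pow 2 (by omega)), hbord, hm,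
      Nat.pow_div (by omega) (by norm_num)]
    have h1 : m - (m - 2) = 2 := by omega
    rw [h1]
  have hb₀S : b₀ ∈ S := hBS hb₀B
  -- conjugates of `b₀`
  have hcS : ∀ s ∈ S, s * b₀ * s⁻¹ = b₀ ∨ s * b₀ * s⁻¹ = b₀⁻¹ := fun s hs =>
    h89_conj_order_four B hT1A b₀ hb₀B hb₀4 s (hSBc s hs)
  have hcU : ∀ u ∈ U, u * b₀ * u⁻¹ = b₀ ∨ u * b₀ * u⁻¹ = b₀⁻¹ := fun u hu =>
    h89_conj_order_four B hT1A b₀ hb₀B hb₀4 u (hUBc u hu)
  -- Step 4: `C₁ := C_S(b₀)`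
  obtain ⟨C₁, hC₁⟩ : ∃ C₁ : Subgroup G, C₁ = S ⊓ Subgroup.centralizer ({b₀} : Set G) := ⟨_, rfl⟩
  have hmemC : ∀ s, s ∈ C₁ ↔ s ∈ S ∧ s * b₀ = b₀ * s := by
    intro s
    rw [hC₁, Subgroup.mem_inf, Subgroup.mem_centralizer_iff]
    constructor
    · rintro ⟨h1, h2⟩
      exact ⟨h1, (h2 b₀ rfl).symm⟩
    · rintro ⟨h1, h2⟩
      refine ⟨h1, ?_⟩
      intro x hx
      rw [Set.mem_singleton_iff] at hx
      rw [hx]; exact h2.symm
  have hBC : B ≤ C₁ := fun x hx => (hmemC x).mpr ⟨hBS hx, hcomm x hx b₀ hb₀B⟩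
  have hC₁S : C₁ ≤ S := fun x hx => ((hmemC x).mp hx).1
  -- a `t` normalizing `S` with `t⁻¹ b₀ t = b₀^{±1}` maps `C₁` into itself
  have hkey : ∀ t : G, (∀ x ∈ S, t * x * t⁻¹ ∈ S) →
      (t⁻¹ * b₀ * t⁻¹⁻¹ = b₀ ∨ t⁻¹ * b₀ * t⁻¹⁻¹ = b₀⁻¹) → ∀ x ∈ C₁, t * x * t⁻¹ ∈ C₁ := by
    intro t htS htb x hx
    obtain ⟨hxS, hxb⟩ := (hmemC x).mp hx
    refine (hmemC _).mpr ⟨htS x hxS, ?_⟩
    have hxb' : x * b₀⁻¹ = b₀⁻¹ * x := by
      calc x * b₀⁻¹ = b₀⁻¹ * (b₀ * x) * b₀⁻¹ := by group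
        _ = b₀⁻¹ * (x * b₀) * b₀⁻¹ := by rw [hxb]
        _ = b₀⁻¹ * x := by group
    rcases htb with h1 | h1
    · calc t * x * t⁻¹ * b₀ = t * (x * (t⁻¹ * b₀ * t⁻¹⁻¹)) * t⁻¹ := by group
        _ = t * (x * b₀) * t⁻¹ := by rw [h1]
        _ = t * (b₀ * x) * t⁻¹ := by rw [hxb]
        _ = t * ((t⁻¹ * b₀ * t⁻¹⁻¹) * x) * t⁻¹ := by rw [h1]
        _ = b₀ * (t * x * t⁻¹) := by group
    · calc t * x * t⁻¹ * b₀ = t * (x * (t⁻¹ * b₀ * t⁻¹⁻¹)) * t⁻¹ := by group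
        _ = t * (x * b₀⁻¹) * t⁻¹ := by rw [h1]
        _ = t * (b₀⁻¹ * x) * t⁻¹ := by rw [hxb']
        _ = t * ((t⁻¹ * b₀ * t⁻¹⁻¹) * x) * t⁻¹ := by rw [h1]
        _ = b₀ * (t * x * t⁻¹) := by group
  have hTC : (S ⊔ U : Subgroup G) ≤ Subgroup.normalizer (C₁ : Set G) := by
    apply sup_le
    · rw [Subgroup.le_normalizer_iff]
      intro s hs x hx
      exact hkey s (fun x hx => S.mul_mem (S.mul_mem hs hx) (S.inv_mem hs))
        (hcS s⁻¹ (S.inv_mem hs)) x hx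
    · rw [Subgroup.le_normalizer_iff]
      intro u hu x hx
      exact hkey u (hUSc u hu) (hcU u⁻¹ (U.inv_mem hu)) x hx
  -- Step 5
  by_cases hCB : C₁ = B
  · -- `B = C_S(b₀)` has index 2
    obtain ⟨a, haS, haB⟩ := SetLike.exists_of_lt (lt_of_le_of_ne hBS hne)
    have hnc : ∀ s ∈ S, s ∉ B → s * b₀ * s⁻¹ = b₀⁻¹ := by
      intro s hs hsB
      rcases hcS s hs with h1 | h1
      · exfalso
        apply hsB
        rw [← hCB]
        refine (hmemC s).mpr ⟨hs, ?_⟩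
        calc s * b₀ = s * b₀ * s⁻¹ * s := by group
          _ = b₀ * s := by rw [h1]
      · exact h1
    rw [Subgroup.relIndex_eq_two_iff]
    refine ⟨a, haS, ?_⟩
    intro s hs
    by_cases hsB : s ∈ B
    · refine Or.inr ⟨hsB, ?_⟩
      intro hsa
      apply haB
      have h1 : a = s⁻¹ * (s * a) := by group
      rw [h1]
      exact B.mul_mem (B.inv_mem hsB) hsa
    · refine Or.inl ⟨?_, hsB⟩
      rw [← hCB]
      refine (hmemC _).mpr ⟨S.mul_mem hs haS, ?_⟩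
      have h1 := hnc s hs hsB
      have h2 := hnc a haS haB
      have h3 : s * b₀⁻¹ * s⁻¹ = b₀ := by
        have h4 : s * b₀⁻¹ * s⁻¹ = (s * b₀ * s⁻¹)⁻¹ := by group
        rw [h4, h1, inv_inv]
      calc s * a * b₀ = s * (a * b₀ * a⁻¹) * s⁻¹ * (s * a) := by group
        _ = s * b₀⁻¹ * s⁻¹ * (s * a) := by rw [h2]
        _ = b₀ * (s * a) := by rw [h3]
  · -- `B < C₁`: contradiction
    exfalso
    obtain ⟨y, hyC, hyB, hyy, hyT⟩ := hLEMN (S ⊔ U) B C₁ hT2 hBC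
      (hC₁S.trans le_sup_left) (Ne.symm hCB) (sup_le hSB hUB) hTC
    have hyS : y ∈ S := hC₁S hyC
    obtain ⟨S₁, hS₁⟩ : ∃ S₁ : Subgroup G, S₁ = Subgroup.closure ((B : Set G) ∪ {y}) := ⟨_, rfl⟩
    have hBS₁ : B ≤ S₁ := by
      intro x hx
      rw [hS₁]
      exact Subgroup.subset_closure (Or.inl hx)
    have hyS₁ : y ∈ S₁ := by
      rw [hS₁]
      exact Subgroup.subset_closure (Or.inr rfl)
    have hS₁C : S₁ ≤ C₁ := by
      rw [hS₁, Subgroup.closure_le]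
      rintro x (hx | hx)
      · exact hBC hx
      · rw [Set.mem_singleton_iff] at hx
        rw [hx]; exact hyC
    have hS₁S : S₁ ≤ S := hS₁C.trans hC₁S
    have hyinvS : y⁻¹ ∈ S := S.inv_mem hyS
    -- every element of `S₁` lies in `B` or in `B y⁻¹`
    have hcos : ∀ s ∈ S₁, s ∈ S ∧ (s ∈ B ∨ s * y ∈ B) := by
      intro s hs
      rw [hS₁] at hs
      induction hs using Subgroup.closure_induction with
      | mem x hx =>
        rcases hx with hx | hx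
        · exact ⟨hBS hx, Or.inl hx⟩
        · rw [Set.mem_singleton_iff] at hx
          rw [hx]
          exact ⟨hyS, Or.inr hyy⟩
      | one => exact ⟨S.one_mem, Or.inl B.one_mem⟩
      | mul x₁ x₂ _ _ h1 h2 =>
        obtain ⟨h1S, h1⟩ := h1
        obtain ⟨h2S, h2⟩ := h2
        refine ⟨S.mul_mem h1S h2S, ?_⟩
        rcases h1 with h1 | h1 <;> rcases h2 with h2 | h2
        · exact Or.inl (B.mul_mem h1 h2)
        · right
          rw [mul_assoc]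
          exact B.mul_mem h1 h2
        · right
          have h3 : x₁ * x₂ * y = x₁ * y * (y⁻¹ * x₂ * y⁻¹⁻¹) := by group
          rw [h3]
          exact B.mul_mem h1 (hSBc y⁻¹ hyinvS x₂ h2)
        · left
          have h3 : x₁ * x₂ = x₁ * y * (y⁻¹ * (x₂ * y) * y⁻¹⁻¹) * (y * y)⁻¹ := by group
          rw [h3]
          exact B.mul_mem (B.mul_mem h1 (hSBc y⁻¹ hyinvS _ h2)) (B.inv_mem hyy)
      | inv x₁ _ h1 =>
        obtain ⟨h1S, h1⟩ := h1
        refine ⟨S.inv_mem h1S, ?_⟩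
        rcases h1 with h1 | h1
        · exact Or.inl (B.inv_mem h1)
        · right
          have h3 : x₁⁻¹ * y = y * (x₁ * y)⁻¹ * y⁻¹ * (y * y) := by group
          rw [h3]
          exact B.mul_mem (hSBc y hyS _ (B.inv_mem h1)) hyy
    have hidx : B.relIndex S₁ = 2 := by
      rw [Subgroup.relIndex_eq_two_iff]
      refine ⟨y, hyS₁, ?_⟩
      intro s hs
      rcases (hcos s hs).2 with h1 | h1
      · refine Or.inr ⟨h1, ?_⟩
        intro h2
        apply hyB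
        have h3 : y = s⁻¹ * (s * y) := by group
        rw [h3]
        exact B.mul_mem (B.inv_mem h1) h2
      · refine Or.inl ⟨h1, ?_⟩
        intro h2
        apply hyB
        have h3 : y = s⁻¹ * (s * y) := by group
        rw [h3]
        exact B.mul_mem (B.inv_mem h2) h1
    obtain ⟨X, hXS₁, hXall, hXEl, hXcard⟩ := hLEMM S₁ B hBS₁ hT1A (hS2.to_le hS₁S) hidx
      (fun y' hy' hc => hself y' (hS₁S hy') hc) b₀ hb₀B hb₀4
      (fun y' hy' => ((hmemC y').mp (hS₁C hy')).2)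
    -- `U` normalizes `S₁`
    have hUS₁ : ∀ u ∈ U, ∀ s ∈ S₁, u * s * u⁻¹ ∈ S₁ := by
      intro u hu s hs
      have hs' := hs
      rw [hS₁] at hs'
      induction hs' using Subgroup.closure_induction with
      | mem x hx =>
        rcases hx with hx | hx
        · exact hBS₁ (hUBc u hu x hx)
        · rw [Set.mem_singleton_iff] at hx
          rw [hx]
          have h1 : u * y * u⁻¹ = (u * y * u⁻¹ * y⁻¹) * y := by group
          rw [h1]
          exact S₁.mul_mem (hBS₁ (hyT u (Subgroup.mem_sup_right hu))) hyS₁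
      | one =>
        have h1 : u * 1 * u⁻¹ = 1 := by group
        rw [h1]; exact S₁.one_mem
      | mul x₁ x₂ hx₁ hx₂ h1 h2 =>
        have h3 : u * (x₁ * x₂) * u⁻¹ = (u * x₁ * u⁻¹) * (u * x₂ * u⁻¹) := by group
        rw [h3]
        exact S₁.mul_mem (h1 (hS₁ ▸ hx₁)) (h2 (hS₁ ▸ hx₂))
      | inv x₁ hx₁ h1 =>
        have h3 : u * x₁⁻¹ * u⁻¹ = (u * x₁ * u⁻¹)⁻¹ := by group
        rw [h3]
        exact S₁.inv_mem (h1 (hS₁ ▸ hx₁))
    have hUX : U ≤ Subgroup.normalizer (X : Set G) := by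
      rw [Subgroup.le_normalizer_iff]
      intro u hu x hx
      apply hXall _ (hUS₁ u hu x (hXS₁ hx))
      have h1 : (u * x * u⁻¹) ^ 2 = u * x ^ 2 * u⁻¹ := conj_pow
      rw [h1, hXEl.2 x hx]; group
    have h5 := h.ha X (hXS₁.trans hS₁S) hUX hXEl
    omega

end Cfsg.Agent.Lib.helper42.FG
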