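import Cfsg.Agent.Lib.helper38.TN2
import Mathlib

/-!
helper89: piece J of S4415 (helper38's split): the determinant lemma in monomial form.
-/

set_option autoImplicit false

namespace Cfsg.Agent.Lib.helper89

open Cfsg.Agent.Lib.helper38.TN Module

variable {G : Type*} [Group G] [Finite G] {V : Type*} [AddCommGroup V] [Module (ZMod 3) V] [Finite V]
variable {ρ : Representation (ZMod 3) G V} {R : Subgroup G} {b q₁ q₂ q₃ : G} {u₁ u₂ u₃ : V}

omit [Finite G] [Finite V] in
/-- every element of `R` has determinant one. -/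
theorem tnj_det_one (h : Ctx ρ R b q₁ q₂ q₃ u₁ u₂ u₃) : ∀ r ∈ R, LinearMap.det (ρ r) = 1 := by
  obtain ⟨K, hK⟩ : ∃ K : Subgroup G, ∀ g, g ∈ K ↔ LinearMap.det (ρ g) = 1 := by
    refine ⟨{ carrier := {g | LinearMap.det (ρ g) = 1}
              mul_mem' := ?_, one_mem' := ?_, inv_mem' := ?_ }, fun _ => Iff.rfl⟩
    · intro x y hx hy
      have hx' : LinearMap.det (ρ x) = 1 := hx
      have hy' : LinearMap.det (ρ y) = 1 := hy
      show LinearMap.det (ρ (x * y)) = 1
      rw [map_mul, map_mul, hx', hy', mul_one]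
    · show LinearMap.det (ρ 1) = 1
      rw [map_one, map_one]
    · intro x hx
      have hx' : LinearMap.det (ρ x) = 1 := hx
      show LinearMap.det (ρ x⁻¹) = 1
      have e : LinearMap.det (ρ x⁻¹) * LinearMap.det (ρ x) = 1 := by
        rw [← map_mul, ← map_mul, inv_mul_cancel, map_one, map_one]
      rwa [hx', mul_one] at e
  have hbK : b ∈ K := by
    rw [hK]
    have e3 : LinearMap.det (ρ b) ^ 3 = 1 := by
      rw [← map_pow, ← map_pow, h.frame.b3, map_one, map_one]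
    have hcube : ∀ x : ZMod 3, x ^ 3 = x := by decide
    rw [← hcube (LinearMap.det (ρ b))]; exact e3
  have hconj : ∀ r ∈ R, ∀ k ∈ K, r * k * r⁻¹ ∈ K := by
    intro r _ k hk
    rw [hK] at hk ⊢
    have e : LinearMap.det (ρ r) * LinearMap.det (ρ r⁻¹) = 1 := by
      rw [← map_mul, ← map_mul, mul_inv_cancel, map_one, map_one]
    rw [map_mul, map_mul, map_mul, map_mul, hk, mul_one, e]
  intro r hr
  exact (hK r).mp (h.gen K hbK hconj hr)

omit [Finite G] [Finite V] in
/-- the four vectors form a basis. -/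
theorem tnj_basis (h : Ctx ρ R b q₁ q₂ q₃ u₁ u₂ u₃) (u₄ : V) (hu₄ : CLine ρ q₁ q₂ u₄) :
    ∃ B : Basis (Fin 4) (ZMod 3) V, ∀ i, B i = ![u₁, u₂, u₃, u₄] i := by
  have F := h.frame
  have hli : LinearIndependent (ZMod 3) ![u₁, u₂, u₃, u₄] := by
    rw [Fintype.linearIndependent_iff]
    intro g hg
    rw [Fin.sum_univ_four] at hg
    have hc : g 3 • u₄ ∈ fixQ ρ q₁ q₂ :=
      Submodule.smul_mem _ _ ⟨hu₄.2.1, hu₄.2.2.1⟩
    have hg' : g 0 • u₁ + g 1 • u₂ + g 2 • u₃ + g 3 • u₄ = 0 := hg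
    obtain ⟨e0, e1, e2, e3⟩ := F.indep hc hg'
    have e3' : g 3 = 0 := (smul_eq_zero.mp e3).resolve_right hu₄.1
    intro i
    fin_cases i
    · exact e0
    · exact e1
    · exact e2
    · exact e3'
  have hsp : ⊤ ≤ Submodule.span (ZMod 3) (Set.range ![u₁, u₂, u₃, u₄]) := by
    intro v _
    obtain ⟨a₁, a₂, a₃, c, hc, rfl⟩ := F.decomp v
    obtain ⟨a₄, rfl⟩ := hu₄.2.2.2 c hc.1 hc.2
    have m : ∀ i : Fin 4, ![u₁, u₂, u₃, u₄] i ∈
        Submodule.span (ZMod 3) (Set.range ![u₁, u₂, u₃, u₄]) :=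
      fun i => Submodule.subset_span ⟨i, rfl⟩
    exact Submodule.add_mem _ (Submodule.add_mem _ (Submodule.add_mem _
      (Submodule.smul_mem _ _ (m 0)) (Submodule.smul_mem _ _ (m 1)))
      (Submodule.smul_mem _ _ (m 2))) (Submodule.smul_mem _ _ (m 3))
  exact ⟨Basis.mk hli hsp, fun i => Basis.mk_apply hli hsp i⟩

omit [Finite G] [Finite V] in
/-- PIECE J: the determinant lemma in monomial form. -/
theorem mono_det (h : Ctx ρ R b q₁ q₂ q₃ u₁ u₂ u₃) (u₄ : V) (hu₄ : CLine ρ q₁ q₂ u₄) :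
    MonoDet ρ R u₁ u₂ u₃ u₄ := by
  intro g hg σ ε hmono
  obtain ⟨B, hB⟩ := tnj_basis h u₄ hu₄
  have hdet := tnj_det_one h g hg
  have hM : LinearMap.toMatrix B B (ρ g) =
      (Equiv.Perm.permMatrix (ZMod 3) σ).transpose * Matrix.diagonal ε := by
    ext i j
    rw [LinearMap.toMatrix_apply, Matrix.mul_diagonal, Matrix.transpose_apply, hB j, hmono j,
      map_smul, ← hB (σ j), Basis.repr_self]
    simp only [Finsupp.smul_apply, Finsupp.single_apply, smul_eq_mul, Equiv.Perm.permMatrix,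
      PEquiv.toMatrix_apply, Equiv.toPEquiv_apply, Option.mem_def, Option.some.injEq]
    rw [mul_comm]
  have e := LinearMap.det_toMatrix B (ρ g)
  rw [hM, Matrix.det_mul, Matrix.det_transpose, Matrix.det_permutation, Matrix.det_diagonal,
    hdet] at e
  exact e

end Cfsg.Agent.Lib.helper89
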