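import Mathlib
import Cfsg.Agent.Lib.helper54.MetaIdxDefs

set_option autoImplicit false

/-!
# S4245 piece C4 (helper89): the odd-order case
-/

namespace Cfsg.Agent.Lib.helper54.MetaIdx

universe u

theorem case_odd_odd {G : Type u} [Group G] [Finite G] (p : ℕ) (hp : p.Prime) (A : Subgroup G)
    (B : Subgroup A) [B.Normal] (hB : IsCyclic B) (s r : ℕ) (hA : A.index = p ^ s)
    (hr : Nat.card (A ⧸ B) = 2 ^ r) (hodd : Odd (Nat.card G)) :
    (∃ x : G, x ≠ 1 ∧ ∃ k : ℕ, (Subgroup.centralizer ({x} : Set G)).index = p ^ k) ∨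
      ∃ n : ℕ, Nat.card G = p ^ n := by
  have hAodd : Odd (Nat.card A) := Odd.of_dvd_nat hodd (Subgroup.card_subgroup_dvd_card A)
  have hidx : B.index = 2 ^ r := by rw [Subgroup.index_eq_card]; exact hr
  have hr0 : r = 0 := by
    by_contra h
    have h2 : 2 ∣ Nat.card A := by
      have h1 : B.index ∣ Nat.card A := Subgroup.index_dvd_card B
      rw [hidx] at h1
      exact (dvd_pow_self 2 h).trans h1
    exact (Nat.not_even_iff_odd.mpr hAodd) (even_iff_two_dvd.mpr h2)
  have hBtop : B = ⊤ := by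
    rw [← Subgroup.index_eq_one, hidx, hr0, pow_zero]
  have hcomm : ∀ a b : A, a * b = b * a := by
    intro a b
    have ha : a ∈ B := hBtop ▸ Subgroup.mem_top a
    have hb : b ∈ B := hBtop ▸ Subgroup.mem_top b
    have hc : IsMulCommutative B := IsCyclic.isMulCommutative
    have h1 : (⟨a, ha⟩ : B) * ⟨b, hb⟩ = ⟨b, hb⟩ * ⟨a, ha⟩ := mul_comm' _ _
    exact congrArg Subtype.val h1
  by_cases hA1 : A = ⊥
  · right
    exact ⟨s, by rw [← hA, hA1, Subgroup.index_bot]⟩
  · left
    obtain ⟨z, hz⟩ := (Subgroup.ne_bot_iff_exists_ne_one).mp hA1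
    refine ⟨(z : G), fun h => hz (Subtype.ext h), ?_⟩
    have hle : A ≤ Subgroup.centralizer ({(z : G)} : Set G) := by
      intro a ha
      rw [Subgroup.mem_centralizer_singleton_iff]
      have h1 := hcomm ⟨a, ha⟩ z
      exact congrArg Subtype.val h1
    have hdvd : (Subgroup.centralizer ({(z : G)} : Set G)).index ∣ p ^ s := by
      rw [← hA]; exact Subgroup.index_dvd_of_le hle
    obtain ⟨k, -, hk⟩ := (Nat.dvd_prime_pow hp).mp hdvd
    exact ⟨k, hk⟩

end Cfsg.Agent.Lib.helper54.MetaIdx
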