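import Mathlib

/-! S0892 split, piece G2 (insurance copy by helper89): reduction to a 2-group kernel.
Mathlib only. -/

set_option autoImplicit false

namespace Cfsg.Agent.Lib.helper70.SM

universe u

/-- the 2-part of a central subgroup. -/
def h89_twoPart {Γ : Type u} [Group Γ] (K : Subgroup Γ) (hc : K ≤ Subgroup.center Γ) :
    Subgroup Γ where
  carrier := {g | g ∈ K ∧ ∃ m : ℕ, g ^ (2 ^ m) = 1}
  one_mem' := ⟨K.one_mem, 0, by simp⟩
  mul_mem' := by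
    rintro a b ⟨ha, m, hm⟩ ⟨hb, n, hn⟩
    refine ⟨K.mul_mem ha hb, m + n, ?_⟩
    have hcomm : Commute a b := (Subgroup.mem_center_iff.mp (hc ha) b).symm
    have h1 : a ^ 2 ^ (m + n) = 1 := by rw [pow_add, pow_mul, hm, one_pow]
    have h2 : b ^ 2 ^ (m + n) = 1 := by rw [pow_add, mul_comm, pow_mul, hn, one_pow]
    rw [hcomm.mul_pow, h1, h2, one_mul]
  inv_mem' := by
    rintro a ⟨ha, m, hm⟩
    exact ⟨K.inv_mem ha, m, by rw [inv_pow, hm, inv_one]⟩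

/-- G2 (reduction to a 2-group kernel). -/
theorem h89_ker_isPGroup_two_of_odd {Γ : Type u} [Group Γ] [Finite Γ] {P : Type*} [Group P]
    (hodd : ∀ (Δ : Type u) [Group Δ] [Finite Δ] (ρ : Δ →* P), Function.Surjective ρ →
      ρ.ker ≤ Subgroup.center Δ → ρ.ker ≤ commutator Δ → Odd (Nat.card ρ.ker) → ρ.ker = ⊥)
    (π : Γ →* P) (hπ : Function.Surjective π)
    (hc : π.ker ≤ Subgroup.center Γ) (hd : π.ker ≤ commutator Γ) : IsPGroup 2 π.ker := by
  classical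
  obtain ⟨K₂, hK₂⟩ : ∃ K₂ : Subgroup Γ, K₂ = h89_twoPart π.ker hc := ⟨_, rfl⟩
  have hmem : ∀ g : Γ, g ∈ K₂ ↔ g ∈ π.ker ∧ ∃ m : ℕ, g ^ (2 ^ m) = 1 := by
    intro g; rw [hK₂]; rfl
  have hK₂le : K₂ ≤ π.ker := fun g hg => ((hmem g).mp hg).1
  have hN : K₂.Normal := by
    refine ⟨fun g hg t => ?_⟩
    have hgc := Subgroup.mem_center_iff.mp (hc (hK₂le hg)) t
    have : t * g * t⁻¹ = g := by
      rw [hgc]; group
    rw [this]; exact hg
  obtain ⟨ρ, hρ⟩ : ∃ ρ : Γ ⧸ K₂ →* P, ρ = QuotientGroup.lift K₂ π (fun g hg => hK₂le hg) :=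
    ⟨_, rfl⟩
  have hρmk : ∀ g : Γ, ρ (QuotientGroup.mk g) = π g := by
    intro g; rw [hρ]; rfl
  have hρsurj : Function.Surjective ρ := by
    intro x; obtain ⟨g, rfl⟩ := hπ x; exact ⟨QuotientGroup.mk g, hρmk g⟩
  have hker : ∀ d : Γ ⧸ K₂, d ∈ ρ.ker ↔ ∃ g ∈ π.ker, (QuotientGroup.mk g : Γ ⧸ K₂) = d := by
    intro d
    constructor
    · intro hd'
      obtain ⟨g, rfl⟩ := QuotientGroup.mk_surjective d
      refine ⟨g, ?_, rfl⟩
      rw [MonoidHom.mem_ker] at hd' ⊢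
      rw [← hρmk g]; exact hd'
    · rintro ⟨g, hg, rfl⟩
      rw [MonoidHom.mem_ker, hρmk g]; exact MonoidHom.mem_ker.mp hg
  have hρc : ρ.ker ≤ Subgroup.center (Γ ⧸ K₂) := by
    intro d hd'
    obtain ⟨g, hg, rfl⟩ := (hker d).mp hd'
    rw [Subgroup.mem_center_iff]
    intro e
    obtain ⟨t, rfl⟩ := QuotientGroup.mk_surjective e
    have hgc := Subgroup.mem_center_iff.mp (hc hg) t
    rw [← QuotientGroup.mk_mul, ← QuotientGroup.mk_mul, hgc]
  have hρd : ρ.ker ≤ commutator (Γ ⧸ K₂) := by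
    intro d hd'
    obtain ⟨g, hg, rfl⟩ := (hker d).mp hd'
    have h1 : g ∈ commutator Γ := hd hg
    have h2 : (commutator Γ).map (QuotientGroup.mk' K₂) ≤ commutator (Γ ⧸ K₂) := by
      rw [commutator_def, commutator_def, Subgroup.map_commutator]
      exact Subgroup.commutator_mono le_top le_top
    exact h2 (Subgroup.mem_map_of_mem _ h1)
  have hρodd : Odd (Nat.card ρ.ker) := by
    by_contra hno
    rw [Nat.not_odd_iff_even] at hno
    have h2 : 2 ∣ Nat.card ρ.ker := hno.two_dvd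
    have : Fact (Nat.Prime 2) := ⟨Nat.prime_two⟩
    obtain ⟨d, hdord⟩ := exists_prime_orderOf_dvd_card' 2 h2
    obtain ⟨g, hg, hgd⟩ := (hker d.1).mp d.2
    have hd2 : (d : Γ ⧸ K₂) ^ 2 = 1 := by
      have h3 := pow_orderOf_eq_one d
      rw [hdord] at h3
      have h4 := congrArg Subtype.val h3
      simpa using h4
    have hg2 : g ^ 2 ∈ K₂ := by
      rw [← QuotientGroup.eq_one_iff, QuotientGroup.mk_pow, hgd]; exact hd2
    obtain ⟨_, m, hm⟩ := (hmem _).mp hg2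
    have hgK₂ : g ∈ K₂ := (hmem g).mpr ⟨hg, m + 1, by rw [pow_succ', pow_mul]; exact hm⟩
    have hd1 : (d : Γ ⧸ K₂) = 1 := by
      rw [← hgd]; exact (QuotientGroup.eq_one_iff g).mpr hgK₂
    have hd1' : d = 1 := Subtype.ext hd1
    rw [hd1', orderOf_one] at hdord
    omega
  have hbot := hodd (Γ ⧸ K₂) ρ hρsurj hρc hρd hρodd
  intro g
  have hg1 : (QuotientGroup.mk (g : Γ) : Γ ⧸ K₂) ∈ ρ.ker := (hker _).mpr ⟨g, g.2, rfl⟩
  rw [hbot, Subgroup.mem_bot, QuotientGroup.eq_one_iff] at hg1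
  obtain ⟨_, m, hm⟩ := (hmem _).mp hg1
  exact ⟨m, Subtype.ext (by simpa using hm)⟩

end Cfsg.Agent.Lib.helper70.SM
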