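import Mathlib
import Cfsg.Prelude.Def_FusionSystem
import Cfsg.Agent.Lib.helper88.FusionBasic
import Cfsg.Agent.Lib.helper89.GroupAux
import Cfsg.Agent.Lib.helper89.FusionSat

set_option autoImplicit false

namespace Cfsg.Agent.Lib.helper89

open Cfsg Cfsg.FusionSystem
open scoped commutatorElement

/-! ### `O^p` of a finite group and a Sylow `p`-subgroup -/

/-- `O^p(A)` is a normal subgroup. -/
theorem pResidual_conj_mem (p : ℕ) {A : Type*} [Group A] (g : A) :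
    ∀ n ∈ Cfsg.pResidual p A, g * n * g⁻¹ ∈ Cfsg.pResidual p A := by
  intro n hn
  unfold Cfsg.pResidual at hn ⊢
  refine Subgroup.closure_induction
    (p := fun n _ => g * n * g⁻¹ ∈ Subgroup.closure {g : A | Nat.Coprime (orderOf g) p}) ?_ ?_ ?_ ?_ hn
  · intro x hx
    refine Subgroup.subset_closure ?_
    show Nat.Coprime (orderOf (g * x * g⁻¹)) p
    have : orderOf (g * x * g⁻¹) = orderOf x := by
      have := MulEquiv.orderOf_eq (MulAut.conj g) x
      simpa [MulAut.conj_apply] using this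
    rw [this]
    exact hx
  · simp
  · intro x y _ _ hx hy
    have : g * (x * y) * g⁻¹ = (g * x * g⁻¹) * (g * y * g⁻¹) := by group
    rw [this]
    exact Subgroup.mul_mem _ hx hy
  · intro x _ hx
    have : g * x⁻¹ * g⁻¹ = (g * x * g⁻¹)⁻¹ := by group
    rw [this]
    exact Subgroup.inv_mem _ hx

instance pResidual_normal (p : ℕ) (A : Type*) [Group A] : (Cfsg.pResidual p A).Normal :=
  ⟨fun n hn g => pResidual_conj_mem p g n hn⟩

/-- In a finite group, some `p`-power power of every element lies in `O^p`. -/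
theorem exists_pow_mem_pResidual {p : ℕ} [Fact p.Prime] {A : Type*} [Group A] [Finite A] (a : A) :
    ∃ k : ℕ, a ^ (p ^ k) ∈ Cfsg.pResidual p A := by
  have hpp : p.Prime := Fact.out
  obtain ⟨k, m, hm, hN⟩ := Nat.exists_eq_pow_mul_and_not_dvd (orderOf_pos a).ne' p hpp.ne_one
  refine ⟨k, Subgroup.subset_closure ?_⟩
  show Nat.Coprime (orderOf (a ^ (p ^ k))) p
  have h1 : (a ^ (p ^ k)) ^ m = 1 := by rw [← pow_mul, ← hN, pow_orderOf_eq_one]
  exact Nat.Coprime.coprime_dvd_left (orderOf_dvd_of_pow_eq_one h1)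
    ((Nat.Prime.coprime_iff_not_dvd hpp).mpr hm).symm

/-- A finite group is the product of any Sylow `p`-subgroup and `O^p`. -/
theorem exists_mul_sylow_pResidual {p : ℕ} [Fact p.Prime] {A : Type*} [Group A] [Finite A]
    (P₀ : Sylow p A) (a : A) :
    ∃ u ∈ (P₀ : Subgroup A), ∃ v ∈ Cfsg.pResidual p A, a = u * v := by
  have hpp : p.Prime := Fact.out
  set N : Subgroup A := Cfsg.pResidual p A with hN
  have hquot : IsPGroup p (A ⧸ N) := by
    intro x
    induction x using QuotientGroup.induction_on with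
    | _ a =>
      obtain ⟨k, hk⟩ := exists_pow_mem_pResidual (p := p) a
      refine ⟨k, ?_⟩
      rw [← QuotientGroup.mk_pow]
      exact (QuotientGroup.eq_one_iff _).mpr hk
  obtain ⟨j, hj⟩ := IsPGroup.iff_card.mp hquot
  have h1 : ((P₀ : Subgroup A) ⊔ N).index ∣ (P₀ : Subgroup A).index :=
    Subgroup.index_dvd_of_le le_sup_left
  have h2 : ((P₀ : Subgroup A) ⊔ N).index ∣ p ^ j := by
    have := Subgroup.index_dvd_of_le (le_sup_right : N ≤ (P₀ : Subgroup A) ⊔ N)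
    rwa [Subgroup.index_eq_card N, hj] at this
  have h3 : ((P₀ : Subgroup A) ⊔ N).index = 1 := by
    obtain ⟨i, -, hi⟩ := (Nat.dvd_prime_pow hpp).mp h2
    rcases Nat.eq_zero_or_pos i with h0 | hpos
    · rw [hi, h0, pow_zero]
    · exfalso
      have hpdvd : p ∣ ((P₀ : Subgroup A) ⊔ N).index := by
        rw [hi]
        exact dvd_pow_self p hpos.ne'
      exact P₀.not_dvd_index (hpdvd.trans h1)
  have h4 : (P₀ : Subgroup A) ⊔ N = ⊤ := Subgroup.index_eq_one.mp h3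
  have h5 : a ∈ ((((P₀ : Subgroup A) ⊔ N : Subgroup A)) : Set A) := by
    rw [h4]
    exact Set.mem_univ a
  rw [Subgroup.mul_normal] at h5
  obtain ⟨u, hu, v, hv, huv⟩ := Set.mem_mul.mp h5
  exact ⟨u, hu, v, hv, huv.symm⟩

variable {Ω : Type*} [Group Ω] {S : Subgroup Ω}

/-! ### The focal system -/

/-- The maps of `F` that move every element by an element of `H ⊇ [S, S]` form a fusion system. -/
def focalSystem (F : FusionSystem S) (H : Subgroup Ω) (hH : ⁅S, S⁆ ≤ H) : FusionSystem S where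
  Hom P := {φ | φ ∈ F.Hom P ∧ ∀ x : P, (x : Ω)⁻¹ * φ x ∈ H}
  le_of_mem h := F.le_of_mem h.1
  injective_of_mem h := F.injective_of_mem h.1
  conj_mem := by
    intro P g hP hg
    refine ⟨F.conj_mem hP hg, fun x => hH ?_⟩
    have h1 : (x : Ω)⁻¹ * conjHom P g x = ⁅(x : Ω)⁻¹, g⁆ := by
      rw [commutatorElement_def]
      simp [conjHom, mul_assoc]
    rw [h1]
    exact Subgroup.commutator_mem_commutator (S.inv_mem (hP x.2)) hg
  comp_mem := by
    rintro P Q φ ψ ⟨hφ, hφH⟩ ⟨hψ, hψH⟩ h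
    refine ⟨F.comp_mem hφ hψ h, fun x => ?_⟩
    show (x : Ω)⁻¹ * ψ ⟨φ x, h x⟩ ∈ H
    have h1 : (x : Ω)⁻¹ * ψ ⟨φ x, h x⟩ = ((x : Ω)⁻¹ * φ x) * ((φ x)⁻¹ * ψ ⟨φ x, h x⟩) := by group
    rw [h1]
    exact H.mul_mem (hφH x) (hψH ⟨φ x, h x⟩)
  inv_mem := by
    rintro P φ ⟨hφ, hφH⟩
    obtain ⟨σ, hσ, hσinv⟩ := F.inv_mem hφ
    refine ⟨σ, ⟨hσ, ?_⟩, hσinv⟩
    rintro ⟨_, x, rfl⟩
    rw [hσinv x]
    have h1 : (φ x)⁻¹ * (x : Ω) = ((x : Ω)⁻¹ * φ x)⁻¹ := by group
    show (φ x)⁻¹ * (x : Ω) ∈ H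
    rw [h1]
    exact H.inv_mem (hφH x)

theorem mem_focalSystem_iff (F : FusionSystem S) (H : Subgroup Ω) (hH : ⁅S, S⁆ ≤ H)
    {P : Subgroup Ω} (φ : P →* Ω) :
    φ ∈ (focalSystem F H hH).Hom P ↔ φ ∈ F.Hom P ∧ ∀ x : P, (x : Ω)⁻¹ * φ x ∈ H := Iff.rfl

/-- The focal subgroup lies in `H ⊇ [S, S]` iff every map of `F` moves elements by elements of `H`. -/
theorem focalSubgroup_le_iff (F : FusionSystem S) (H : Subgroup Ω) (hH : ⁅S, S⁆ ≤ H) :
    F.focalSubgroup ≤ H ↔ ∀ P : Subgroup Ω, F.Hom P ⊆ (focalSystem F H hH).Hom P := by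
  constructor
  · intro h P φ hφ
    exact ⟨hφ, fun x => h (Subgroup.subset_closure ⟨P, φ, x, hφ, rfl⟩)⟩
  · intro h
    unfold FusionSystem.focalSubgroup
    rw [Subgroup.closure_le]
    rintro y ⟨P, φ, x, hφ, rfl⟩
    exact (h P hφ).2 x

/-- `[S, S] ≤ foc(F)`. -/
theorem commutator_le_focalSubgroup (F : FusionSystem S) : ⁅S, S⁆ ≤ F.focalSubgroup := by
  rw [Subgroup.commutator_le]
  intro g hg h hh
  have h1 : ⁅g, h⁆ = (g⁻¹)⁻¹ * conjHom S h ⟨g⁻¹, S.inv_mem hg⟩ := by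
    rw [commutatorElement_def]
    simp [conjHom, mul_assoc]
  rw [h1]
  exact Subgroup.subset_closure ⟨S, conjHom S h, ⟨g⁻¹, S.inv_mem hg⟩, F.conj_mem le_rfl hh, rfl⟩

/-- `hyp(F) ≤ foc(F)`. -/
theorem hyperfocalSubgroup_le_focalSubgroup (F : FusionSystem S) (p : ℕ) :
    F.hyperfocalSubgroup p ≤ F.focalSubgroup := by
  unfold FusionSystem.hyperfocalSubgroup
  rw [Subgroup.closure_le]
  rintro y ⟨P, α, x, hP, -, rfl⟩
  exact Subgroup.subset_closure ⟨P, P.subtype.comp (α : MulAut P).toMonoidHom, x,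
    (mem_autGroup_iff F hP (α : MulAut P)).mp α.2, rfl⟩

/-- `hyp(F) ≤ S`. -/
theorem hyperfocalSubgroup_le (F : FusionSystem S) (p : ℕ) : F.hyperfocalSubgroup p ≤ S := by
  unfold FusionSystem.hyperfocalSubgroup
  rw [Subgroup.closure_le]
  rintro y ⟨P, α, x, hP, -, rfl⟩
  exact S.mul_mem (S.inv_mem (hP x.2)) (hP (_ : P).2)

/-- `foc(F) ≤ S`. -/
theorem focalSubgroup_le (F : FusionSystem S) : F.focalSubgroup ≤ S := by
  unfold FusionSystem.focalSubgroup
  rw [Subgroup.closure_le]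
  rintro y ⟨P, φ, x, hφ, rfl⟩
  exact S.mul_mem (S.inv_mem ((F.le_of_mem hφ).1 x.2)) ((F.le_of_mem hφ).2 x)

/-- **Focal subgroup theorem for fusion systems**: `foc(F) = hyp(F) [S, S]` for saturated `F`. -/
theorem focalSubgroup_eq (F : FusionSystem S) [Finite S] {p : ℕ} [Fact p.Prime] (hS : IsPGroup p S)
    (hF : F.IsSaturated p) : F.focalSubgroup = F.hyperfocalSubgroup p ⊔ ⁅S, S⁆ := by
  apply le_antisymm
  · set H : Subgroup Ω := F.hyperfocalSubgroup p ⊔ ⁅S, S⁆ with hHdef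
    have hH : ⁅S, S⁆ ≤ H := le_sup_right
    rw [focalSubgroup_le_iff F H hH]
    refine saturated_induction F (focalSystem F H hH) hS hF ?_
    intro R hfa hrec _ α hα
    have hRS : R ≤ S := hfa.1
    refine ⟨(mem_autGroup_iff F hRS α).mp hα, fun x => ?_⟩
    obtain ⟨-, P₀, hP₀⟩ := hfa
    have hfin : Finite ↥(F.autGroup R) := finite_autGroup F hRS
    obtain ⟨u, hu, v, hv, huv⟩ := exists_mul_sylow_pResidual P₀ (⟨α, hα⟩ : F.autGroup R)
    rw [hP₀, Subgroup.mem_subgroupOf, mem_autInducedBy_iff] at hu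
    obtain ⟨s, hs, hus⟩ := hu
    have hα' : α = (u : MulAut R) * (v : MulAut R) := by
      have := congrArg Subtype.val huv
      simpa using this
    show (x : Ω)⁻¹ * ((α x : R) : Ω) ∈ H
    have h1 : (x : Ω)⁻¹ * ((α x : R) : Ω) =
        ((x : Ω)⁻¹ * (((v : MulAut R) x : R) : Ω)) *
          ⁅(((v : MulAut R) x : R) : Ω)⁻¹, s⁆ := by
      rw [hα', MulAut.mul_apply, hus, commutatorElement_def]
      group
    rw [h1]
    refine H.mul_mem (Subgroup.mem_sup_left ?_) (Subgroup.mem_sup_right ?_)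
    · exact Subgroup.subset_closure ⟨R, v, x, hRS, hv, rfl⟩
    · exact Subgroup.commutator_mem_commutator (S.inv_mem (hRS (_ : R).2)) hs
  · exact sup_le (hyperfocalSubgroup_le_focalSubgroup F p) (commutator_le_focalSubgroup F)

end Cfsg.Agent.Lib.helper89
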