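import Mathlib
import Cfsg.Agent.Lib.helper42.AICDefs

/-!
helper89: S2202 pieces QB1 (aic_quot), QB3 (cp_quot), QB4 (odd_quot), QB5 (inv_lift):
the quotient by an odd normal subgroup centralizing all Sylow 2-subgroups.
-/

set_option autoImplicit false

open Cfsg.Agent.Lib.helper42.AIC

namespace Cfsg.Agent.Lib.helper89.AIC

/-- an element whose order is odd and divides a power of two is trivial. -/
theorem qb_eq_one_of_odd_of_pow {G : Type*} [Group G] {z : G} (hz : Odd (orderOf z)) (k : ℕ)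
    (hk : z ^ (2 ^ k) = 1) : z = 1 := by
  have h1 : orderOf z ∣ 2 ^ k := orderOf_dvd_of_pow_eq_one hk
  have h2 : Nat.Coprime (orderOf z) (2 ^ k) :=
    Nat.Coprime.pow_right k (Nat.Coprime.symm (Nat.coprime_two_left.mpr hz))
  have h3 : orderOf z = 1 := Nat.Coprime.eq_one_of_dvd h2 h1
  exact orderOf_eq_one_iff.mp h3

/-- lifting commutation with a 2-element centralized by `Z`. -/
theorem qb_lift_comm {G : Type*} [Group G] [Finite G] (Z : Subgroup G) [Z.Normal]
    (hZo : ∀ z ∈ Z, Odd (orderOf z)) (p : G) (k : ℕ) (hp : p ^ (2 ^ k) = 1)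
    (hZp : ∀ z ∈ Z, z * p = p * z) (y : G)
    (h : (QuotientGroup.mk' Z y) * (QuotientGroup.mk' Z p) =
      (QuotientGroup.mk' Z p) * (QuotientGroup.mk' Z y)) : y * p = p * y := by
  have hz : y * p * y⁻¹ * p⁻¹ ∈ Z := by
    rw [← QuotientGroup.eq_one_iff, ← QuotientGroup.mk'_apply]
    rw [map_mul, map_mul, map_mul, map_inv, map_inv, h]
    group
  obtain ⟨z, hzdef⟩ : ∃ z, z = y * p * y⁻¹ * p⁻¹ := ⟨_, rfl⟩
  rw [← hzdef] at hz
  have hzp : y * p * y⁻¹ = z * p := by rw [hzdef]; group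
  have hcomm : Commute z p := hZp z hz
  have h1 : (y * p * y⁻¹) ^ (2 ^ k) = 1 := by
    rw [conj_pow, hp]; group
  have h2 : z ^ (2 ^ k) = 1 := by
    have := h1
    rw [hzp, hcomm.mul_pow, hp, mul_one] at this
    exact this
  have hz1 : z = 1 := qb_eq_one_of_odd_of_pow (hZo z hz) k h2
  rw [hz1, one_mul] at hzp
  calc y * p = y * p * y⁻¹ * y := by group
    _ = p * y := by rw [hzp]

/-- QB4 -/
theorem odd_quot {G : Type*} [Group G] [Finite G] (Z : Subgroup G) [Z.Normal]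
    (hZo : ∀ z ∈ Z, Odd (orderOf z)) (x : G) :
    Odd (orderOf (QuotientGroup.mk' Z x)) ↔ Odd (orderOf x) := by
  constructor
  · intro h
    have hxn : x ^ orderOf (QuotientGroup.mk' Z x) ∈ Z := by
      rw [← QuotientGroup.eq_one_iff, ← QuotientGroup.mk'_apply, map_pow, pow_orderOf_eq_one]
    have hm := hZo _ hxn
    have h1 : x ^ (orderOf (QuotientGroup.mk' Z x) *
        orderOf (x ^ orderOf (QuotientGroup.mk' Z x))) = 1 := by
      rw [pow_mul, pow_orderOf_eq_one]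
    have h2 := orderOf_dvd_of_pow_eq_one h1
    exact Odd.of_dvd_nat (h.mul hm) h2
  · intro h
    exact Odd.of_dvd_nat h (orderOf_map_dvd _ x)

/-- QB5 -/
theorem inv_lift {G : Type*} [Group G] [Finite G] (Z : Subgroup G) [Z.Normal]
    (hZo : ∀ z ∈ Z, Odd (orderOf z)) (t' : G ⧸ Z) (ht' : orderOf t' = 2) :
    ∃ t : G, orderOf t = 2 ∧ QuotientGroup.mk' Z t = t' := by
  obtain ⟨x, hx⟩ := QuotientGroup.mk'_surjective Z t'
  have ht2 : t' ^ 2 = 1 := by rw [← ht', pow_orderOf_eq_one]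
  have ht1 : t' ≠ 1 := by
    intro h
    rw [h, orderOf_one] at ht'
    omega
  have hx2 : x ^ 2 ∈ Z := by
    rw [← QuotientGroup.eq_one_iff, ← QuotientGroup.mk'_apply, map_pow, hx, ht2]
  have hm := hZo _ hx2
  obtain ⟨m, hmdef⟩ : ∃ m, m = orderOf (x ^ 2) := ⟨_, rfl⟩
  rw [← hmdef] at hm
  obtain ⟨j, hj⟩ := hm
  have hmk : QuotientGroup.mk' Z (x ^ m) = t' := by
    rw [map_pow, hx, hj, pow_succ, pow_mul, ht2, one_pow, one_mul]
  refine ⟨x ^ m, ?_, hmk⟩
  have h1 : (x ^ m) ^ 2 = 1 := by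
    rw [← pow_mul, mul_comm, pow_mul, hmdef, pow_orderOf_eq_one]
  have h2 : x ^ m ≠ 1 := by
    intro h
    rw [h, map_one] at hmk
    exact ht1 hmk.symm
  exact orderOf_eq_prime h1 h2

/-- QB3 -/
theorem cp_quot {G : Type*} [Group G] [Finite G] (Z : Subgroup G) [Z.Normal]
    (hZo : ∀ z ∈ Z, Odd (orderOf z)) (hZc : ∀ z ∈ Z, ∀ P : Sylow 2 G, z ∈ CP P)
    (P : Sylow 2 G) (x : G) :
    (QuotientGroup.mk' Z x) ∈ Subgroup.centralizer
      ((((P : Subgroup G).map (QuotientGroup.mk' Z) : Subgroup (G ⧸ Z))) : Set (G ⧸ Z)) ↔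
      x ∈ CP P := by
  constructor
  · intro h
    rw [Subgroup.mem_centralizer_iff] at h
    change x ∈ Subgroup.centralizer ((P : Subgroup G) : Set G)
    rw [Subgroup.mem_centralizer_iff]
    intro p hp
    obtain ⟨k, hk⟩ := (IsPGroup.iff_orderOf.mp P.isPGroup' ⟨p, hp⟩)
    have hpk : p ^ (2 ^ k) = 1 := by
      have h1 : orderOf p = 2 ^ k := by
        rw [← hk]; exact Subgroup.orderOf_coe ⟨p, hp⟩
      rw [← h1, pow_orderOf_eq_one]
    have hZp : ∀ z ∈ Z, z * p = p * z := by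
      intro z hz
      have := hZc z hz P
      change z ∈ Subgroup.centralizer ((P : Subgroup G) : Set G) at this
      rw [Subgroup.mem_centralizer_iff] at this
      exact (this p hp).symm
    have hq := h (QuotientGroup.mk' Z p) (Subgroup.mem_map_of_mem _ hp)
    exact (qb_lift_comm Z hZo p k hpk hZp x hq.symm).symm
  · intro h
    change x ∈ Subgroup.centralizer ((P : Subgroup G) : Set G) at h
    rw [Subgroup.mem_centralizer_iff] at h
    rw [Subgroup.mem_centralizer_iff]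
    rintro _ ⟨p, hp, rfl⟩
    rw [← map_mul, ← map_mul, h p hp]

/-- QB1 -/
theorem aic_quot {G : Type*} [Group G] [Finite G] (hA : AIC G) (Z : Subgroup G) [Z.Normal]
    (hZo : ∀ z ∈ Z, Odd (orderOf z)) (hZc : ∀ z ∈ Z, ∀ P : Sylow 2 G, z ∈ CP P) :
    AIC (G ⧸ Z) := by
  intro t' ht'
  obtain ⟨t, ht, rfl⟩ := inv_lift Z hZo t' ht'
  have ht2 : t ^ (2 ^ 1) = 1 := by rw [pow_one, ← ht, pow_orderOf_eq_one]
  -- `t` lies in a Sylow 2-subgroup
  have hpg : IsPGroup 2 (Subgroup.zpowers t) := by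
    apply IsPGroup.of_card (n := 1)
    rw [Nat.card_zpowers, ht, pow_one]
  obtain ⟨P, hP⟩ := hpg.exists_le_sylow
  have htP : t ∈ (P : Subgroup G) := hP (Subgroup.mem_zpowers t)
  have hZt : ∀ z ∈ Z, z * t = t * z := by
    intro z hz
    have := hZc z hz P
    change z ∈ Subgroup.centralizer ((P : Subgroup G) : Set G) at this
    rw [Subgroup.mem_centralizer_iff] at this
    exact (this t htP).symm
  have hcomm := hA t ht
  have key : ∀ a b : G ⧸ Z, a ∈ Subgroup.centralizer ({QuotientGroup.mk' Z t} : Set (G ⧸ Z)) →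
      b ∈ Subgroup.centralizer ({QuotientGroup.mk' Z t} : Set (G ⧸ Z)) → a * b = b * a := by
    intro a b ha hb
    obtain ⟨ya, rfl⟩ := QuotientGroup.mk'_surjective Z a
    obtain ⟨yb, rfl⟩ := QuotientGroup.mk'_surjective Z b
    rw [Subgroup.mem_centralizer_singleton_iff] at ha hb
    have h1 := qb_lift_comm Z hZo t 1 ht2 hZt ya ha
    have h2 := qb_lift_comm Z hZo t 1 ht2 hZt yb hb
    have h1' : ya ∈ Subgroup.centralizer ({t} : Set G) :=
      Subgroup.mem_centralizer_singleton_iff.mpr h1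
    have h2' : yb ∈ Subgroup.centralizer ({t} : Set G) :=
      Subgroup.mem_centralizer_singleton_iff.mpr h2
    have h3 := hcomm.is_comm.comm (⟨ya, h1'⟩ : ↥(Subgroup.centralizer ({t} : Set G))) ⟨yb, h2'⟩
    have h4 : ya * yb = yb * ya := congrArg Subtype.val h3
    rw [← map_mul, ← map_mul, h4]
  exact ⟨⟨fun a b => Subtype.ext (key a.1 b.1 a.2 b.2)⟩⟩

end Cfsg.Agent.Lib.helper89.AIC
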