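import Mathlib
import Cfsg.Agent.Lib.helper42.AICDefs
import Cfsg.Agent.Lib.helper42.AIC_A
import Cfsg.Agent.Lib.helper89.AIC_QB

/-!
helper89: S2202 pieces A5 (odd_of_cp_np) and A9 (card_cp).
-/

set_option autoImplicit false

open Cfsg.Agent.Lib.helper42.AIC

namespace Cfsg.Agent.Lib.helper89.AIC

/-- A5 -/
theorem odd_of_cp_np {G : Type*} [Group G] [Finite G] (hA : AIC G) (hnc : NCyc G) (P Q : Sylow 2 G)
    (hPQ : P ≠ Q) {x : G} (hxP : x ∈ CP P) (hxQ : x ∈ NP Q) : Odd (orderOf x) := by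
  have hn : orderOf x ≠ 0 := (orderOf_pos x).ne'
  obtain ⟨k, m, hm, hkm⟩ := Nat.exists_eq_two_pow_mul_odd hn
  rcases k with _ | k
  · rw [hkm, pow_zero, one_mul]; exact hm
  exfalso
  have hmpos : 0 < m := hm.pos
  have ht1 : x ^ m ≠ 1 := by
    apply pow_ne_one_of_lt_orderOf hmpos.ne'
    rw [hkm]
    have h2 : 2 ≤ 2 ^ (k + 1) := by
      calc 2 = 2 ^ 1 := by norm_num
        _ ≤ 2 ^ (k + 1) := Nat.pow_le_pow_right (by norm_num) (by omega)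
    nlinarith
  have ht2 : (x ^ m) ^ (2 ^ (k + 1)) = 1 := by
    rw [← pow_mul, mul_comm, ← hkm, pow_orderOf_eq_one]
  have htP : x ^ m ∈ (P : Subgroup G) :=
    mem_of_np P (cp_le_np P (pow_mem hxP m)) (k + 1) ht2
  have htQ : x ^ m ∈ (Q : Subgroup G) :=
    mem_of_np Q (pow_mem hxQ m) (k + 1) ht2
  exact hPQ (sylow_ti hA hnc P Q htP htQ ht1)

/-- A9 -/
theorem card_cp {G : Type*} [Group G] [Finite G] (hA : AIC G) (hnc : NCyc G) (P : Sylow 2 G) :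
    Nat.card (CP P) =
      Nat.card (P : Subgroup G) * Nat.card {x : G // Odd (orderOf x) ∧ x ∈ CP P} := by
  have hPle := sylow_le_cp hA hnc P
  have hcomm := cp_comm hA hnc P
  rw [← Nat.card_prod]
  symm
  refine Nat.card_congr (Equiv.ofBijective
    (fun a : ↥(P : Subgroup G) × {x : G // Odd (orderOf x) ∧ x ∈ CP P} =>
      (⟨a.1.1 * a.2.1, mul_mem (hPle a.1.2) a.2.2.2⟩ : ↥(CP P))) ⟨?_, ?_⟩)
  · rintro ⟨⟨p, hp⟩, ⟨x, hxo, hx⟩⟩ ⟨⟨p', hp'⟩, ⟨x', hxo', hx'⟩⟩ h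
    have h0 : p * x = p' * x' := congrArg Subtype.val h
    have h1 : p'⁻¹ * p = x' * x⁻¹ := by
      calc p'⁻¹ * p = p'⁻¹ * (p * x) * x⁻¹ := by group
        _ = x' * x⁻¹ := by rw [h0]; group
    have hu : p'⁻¹ * p ∈ (P : Subgroup G) := mul_mem (inv_mem hp') hp
    obtain ⟨k, hk⟩ := (IsPGroup.iff_orderOf.mp P.isPGroup' ⟨p'⁻¹ * p, hu⟩)
    have hk' : orderOf (p'⁻¹ * p) = 2 ^ k := by
      rw [← hk]; exact Subgroup.orderOf_coe ⟨p'⁻¹ * p, hu⟩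
    have hpk : (p'⁻¹ * p) ^ (2 ^ k) = 1 := by rw [← hk', pow_orderOf_eq_one]
    have hc : Commute x' x⁻¹ := hcomm x' hx' x⁻¹ (inv_mem hx)
    have hodd : Odd (orderOf (p'⁻¹ * p)) := by
      have h2 : (p'⁻¹ * p) ^ (orderOf x' * orderOf x) = 1 := by
        rw [h1, hc.mul_pow, pow_mul, pow_orderOf_eq_one, one_pow, one_mul, mul_comm, pow_mul,
          inv_pow, pow_orderOf_eq_one, inv_one, one_pow]
      exact Odd.of_dvd_nat (hxo'.mul hxo) (orderOf_dvd_of_pow_eq_one h2)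
    have hone : p'⁻¹ * p = 1 := qb_eq_one_of_odd_of_pow hodd k hpk
    have hpp : p = p' := by
      calc p = p' * (p'⁻¹ * p) := by group
        _ = p' := by rw [hone, mul_one]
    subst hpp
    have hxx : x = x' := mul_left_cancel h0
    subst hxx
    rfl
  · rintro ⟨y, hy⟩
    have hn : orderOf y ≠ 0 := (orderOf_pos y).ne'
    obtain ⟨k, m, hm, hkm⟩ := Nat.exists_eq_two_pow_mul_odd hn
    have hcop : Nat.Coprime (2 ^ k) m :=
      Nat.Coprime.pow_left k (Nat.coprime_two_left.mpr hm)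
    obtain ⟨a, b, hab⟩ := (Nat.isCoprime_iff_coprime.mpr hcop)
    have hp2 : (y ^ (b * (m : ℤ))) ^ (2 ^ k) = 1 := by
      rw [← zpow_natCast, ← zpow_mul,
        show b * (m : ℤ) * ((2 ^ k : ℕ) : ℤ) = ((orderOf y : ℕ) : ℤ) * b by
          rw [hkm]; push_cast; ring,
        zpow_mul, zpow_natCast, pow_orderOf_eq_one, one_zpow]
    have hxm : (y ^ (a * ((2 ^ k : ℕ) : ℤ))) ^ m = 1 := by
      rw [← zpow_natCast, ← zpow_mul,
        show a * ((2 ^ k : ℕ) : ℤ) * (m : ℤ) = ((orderOf y : ℕ) : ℤ) * a by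
          rw [hkm]; push_cast; ring,
        zpow_mul, zpow_natCast, pow_orderOf_eq_one, one_zpow]
    have hpC : y ^ (b * (m : ℤ)) ∈ CP P := zpow_mem hy _
    have hxC : y ^ (a * ((2 ^ k : ℕ) : ℤ)) ∈ CP P := zpow_mem hy _
    have hpP : y ^ (b * (m : ℤ)) ∈ (P : Subgroup G) := mem_of_np P (cp_le_np P hpC) k hp2
    have hxo : Odd (orderOf (y ^ (a * ((2 ^ k : ℕ) : ℤ)))) :=
      Odd.of_dvd_nat hm (orderOf_dvd_of_pow_eq_one hxm)
    refine ⟨(⟨y ^ (b * (m : ℤ)), hpP⟩, ⟨y ^ (a * ((2 ^ k : ℕ) : ℤ)), hxo, hxC⟩), ?_⟩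
    apply Subtype.ext
    change y ^ (b * (m : ℤ)) * y ^ (a * ((2 ^ k : ℕ) : ℤ)) = y
    rw [← zpow_add, add_comm, hab, zpow_one]

end Cfsg.Agent.Lib.helper89.AIC
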