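import Mathlib
import Cfsg.Agent.Lib.helper89.GroupAux

/-!
# Automorphism groups of abelian `p`-groups whose Sylow `p`-subgroups are generated by a transvection

`E` is a finite abelian `p`-group, `A ≤ Aut(E)`, `t ∈ A` an automorphism with `[E, t] = ⟨d₀⟩` of
order `p` and `[E, t, t] = 1`, and every `p`-subgroup of `A` has order at most `p`
(`TransvData`). If `⟨t⟩` is not normal in `A`, then `E = V × C` with `C = C_E(⟨t^A⟩)`
(`Ccore`), `C_E(t) = ⟨d₀⟩ × C`, all conjugates of `⟨t⟩` lie in `⟨t, t^a⟩`, there is a "torus"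
element normalizing `⟨t⟩` (for `p` odd), and a Frattini decomposition `A = ⟨t^A⟩ N_A(⟨t⟩)`.
-/

set_option autoImplicit false
set_option linter.unusedSectionVars false

namespace Cfsg.Agent.Lib.helper89

open Subgroup

section Transvec

variable {E : Type*} [Group E]

/-- The subgroup of fixed points of an automorphism. -/
def fixedSub (δ : MulAut E) : Subgroup E where
  carrier := {x | δ x = x}
  one_mem' := map_one δ
  mul_mem' := by
    intro a b ha hb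
    have ha' : δ a = a := ha
    have hb' : δ b = b := hb
    show δ (a * b) = a * b
    rw [map_mul, ha', hb']
  inv_mem' := by
    intro a ha
    have ha' : δ a = a := ha
    show δ a⁻¹ = a⁻¹
    rw [map_inv, ha']

theorem mem_fixedSub {δ : MulAut E} {x : E} : x ∈ fixedSub δ ↔ δ x = x := Iff.rfl

/-- An element fixed by `δ` is fixed by every element of `⟨δ⟩`. -/
theorem fixed_of_mem_zpowers {δ ε : MulAut E} (hε : ε ∈ zpowers δ) {x : E} (hx : δ x = x) :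
    ε x = x := by
  have h1 : δ ∈ MulAction.stabilizer (MulAut E) x := by
    rw [MulAction.mem_stabilizer_iff, MulAut.smul_def]; exact hx
  have h2 : ε ∈ MulAction.stabilizer (MulAut E) x := (zpowers_le.mpr h1) hε
  rw [MulAction.mem_stabilizer_iff, MulAut.smul_def] at h2
  exact h2

/-- The "commutator" `x⁻¹ δ(x)`. -/
def cm (δ : MulAut E) (x : E) : E := x⁻¹ * δ x

theorem cm_conj (g δ : MulAut E) (x : E) : cm (g * δ * g⁻¹) x = g (cm δ (g⁻¹ x)) := by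
  simp [cm, MulAut.mul_apply]

theorem cm_eq_one_iff {δ : MulAut E} {x : E} : cm δ x = 1 ↔ δ x = x := by
  unfold cm
  rw [inv_mul_eq_one]
  exact eq_comm

theorem apply_eq_mul_cm (δ : MulAut E) (x : E) : δ x = x * cm δ x := by
  unfold cm; group

theorem pow_apply_of_fixed (δ : MulAut E) (x : E) (hfix : δ (cm δ x) = cm δ x) (n : ℕ) :
    (δ ^ n) x = x * (cm δ x) ^ n := by
  induction n with
  | zero => simp
  | succ n ih =>
    rw [pow_succ', MulAut.mul_apply, ih, map_mul, map_pow, hfix, pow_succ', apply_eq_mul_cm δ x]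
    group

theorem cm_mul_of_comm (hc : ∀ x y : E, x * y = y * x) (δ : MulAut E) (x y : E) :
    cm δ (x * y) = cm δ x * cm δ y := by
  unfold cm
  have e1 := hc y⁻¹ (x⁻¹ * δ x)
  calc (x * y)⁻¹ * δ (x * y) = y⁻¹ * (x⁻¹ * δ x) * δ y := by rw [map_mul]; group
    _ = (x⁻¹ * δ x) * y⁻¹ * δ y := by rw [e1]
    _ = x⁻¹ * δ x * (y⁻¹ * δ y) := by group

/-- `x ↦ x⁻¹ δ(x)` as a homomorphism, for `E` abelian. -/
def cmHom' (hc : ∀ x y : E, x * y = y * x) (δ : MulAut E) : E →* E where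
  toFun := cm δ
  map_one' := by simp [cm]
  map_mul' := cm_mul_of_comm hc δ

theorem cmHom'_apply (hc : ∀ x y : E, x * y = y * x) (δ : MulAut E) (x : E) :
    cmHom' hc δ x = cm δ x := rfl

theorem mem_ker_cmHom' (hc : ∀ x y : E, x * y = y * x) (δ : MulAut E) (x : E) :
    x ∈ (cmHom' hc δ).ker ↔ δ x = x := by
  rw [MonoidHom.mem_ker, cmHom'_apply, cm_eq_one_iff]

/-- If all `x⁻¹ t(x)` lie in `⟨d₀⟩`, which is fixed by `t` and has exponent `n`, then `t ^ n = 1`. -/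
theorem pow_eq_one_of_cm (t : MulAut E) (d₀ : E) (n : ℕ) (hd : d₀ ^ n = 1) (htd : t d₀ = d₀)
    (hcm : ∀ x, cm t x ∈ zpowers d₀) : t ^ n = 1 := by
  ext x
  have hfix : t (cm t x) = cm t x := by
    obtain ⟨k, hk⟩ := mem_zpowers_iff.mp (hcm x)
    rw [← hk, map_zpow, htd]
  rw [pow_apply_of_fixed t x hfix n]
  obtain ⟨k, hk⟩ := mem_zpowers_iff.mp (hcm x)
  rw [← hk, ← zpow_natCast, ← zpow_mul, mul_comm, zpow_mul, zpow_natCast, hd, one_zpow, mul_one]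
  rfl

/-- `δ` stabilizes the chain `1 ≤ N₁ ≤ N₂ ≤ E`. -/
def Stab3 (N₁ N₂ : Subgroup E) (δ : MulAut E) : Prop :=
  (∀ x ∈ N₁, δ x = x) ∧ (∀ x ∈ N₂, x⁻¹ * δ x ∈ N₁) ∧ (∀ x, x⁻¹ * δ x ∈ N₂)

theorem Stab3.one (N₁ N₂ : Subgroup E) : Stab3 N₁ N₂ 1 :=
  ⟨fun _ _ => rfl, fun x _ => by simp [N₁.one_mem], fun x => by simp [N₂.one_mem]⟩

theorem Stab3.mul {N₁ N₂ : Subgroup E} (hle : N₁ ≤ N₂) {δ ε : MulAut E} (h1 : Stab3 N₁ N₂ δ)
    (h2 : Stab3 N₁ N₂ ε) : Stab3 N₁ N₂ (δ * ε) := by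
  refine ⟨fun x hx => ?_, fun x hx => ?_, fun x => ?_⟩
  · rw [MulAut.mul_apply, h2.1 x hx, h1.1 x hx]
  · have hεx : ε x ∈ N₂ := by
      have h3 : ε x = x * (x⁻¹ * ε x) := by group
      rw [h3]; exact N₂.mul_mem hx (hle (h2.2.1 x hx))
    have h4 : x⁻¹ * (δ * ε) x = (x⁻¹ * ε x) * ((ε x)⁻¹ * δ (ε x)) := by
      rw [MulAut.mul_apply]; group
    rw [h4]; exact N₁.mul_mem (h2.2.1 x hx) (h1.2.1 _ hεx)
  · have h4 : x⁻¹ * (δ * ε) x = (x⁻¹ * ε x) * ((ε x)⁻¹ * δ (ε x)) := by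
      rw [MulAut.mul_apply]; group
    rw [h4]; exact N₂.mul_mem (h2.2.2 x) (h1.2.2 _)

theorem Stab3.inv {N₁ N₂ : Subgroup E} {δ : MulAut E} (h : Stab3 N₁ N₂ δ) :
    Stab3 N₁ N₂ δ⁻¹ := by
  refine ⟨fun x hx => ?_, fun x hx => ?_, fun x => ?_⟩
  · have h1 := h.1 x hx
    calc δ⁻¹ x = δ⁻¹ (δ x) := by rw [h1]
      _ = x := by simp
  · obtain ⟨y, hy⟩ : ∃ y, y = δ⁻¹ x := ⟨_, rfl⟩
    have hδy : δ y = x := by rw [hy]; simp
    have h3 := h.2.2 y
    rw [hδy] at h3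
    have hyN : y ∈ N₂ := by
      have h5 : y = x * (y⁻¹ * x)⁻¹ := by group
      rw [h5]; exact N₂.mul_mem hx (N₂.inv_mem h3)
    have h4 := h.2.1 y hyN
    rw [hδy] at h4
    have h6 : x⁻¹ * δ⁻¹ x = (y⁻¹ * x)⁻¹ := by rw [← hy]; group
    rw [h6]; exact N₁.inv_mem h4
  · obtain ⟨y, hy⟩ : ∃ y, y = δ⁻¹ x := ⟨_, rfl⟩
    have hδy : δ y = x := by rw [hy]; simp
    have h3 := h.2.2 y
    rw [hδy] at h3
    have h6 : x⁻¹ * δ⁻¹ x = (y⁻¹ * x)⁻¹ := by rw [← hy]; group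
    rw [h6]; exact N₂.inv_mem h3

/-- Automorphisms of a finite `p`-group stabilizing a chain `1 ≤ N₁ ≤ N₂ ≤ E` generate a
`p`-group. -/
theorem isPGroup_closure_of_stab3 [Finite E] {p : ℕ} [Fact p.Prime] (hE : IsPGroup p E)
    (N₁ N₂ : Subgroup E) (hle : N₁ ≤ N₂) (s : Set (MulAut E)) (hs : ∀ δ ∈ s, Stab3 N₁ N₂ δ) :
    IsPGroup p (closure s) := by
  rintro ⟨δ, hδ⟩
  have hst : Stab3 N₁ N₂ δ := by
    induction hδ using Subgroup.closure_induction with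
    | mem x hx => exact hs x hx
    | one => exact Stab3.one N₁ N₂
    | mul x y _ _ ihx ihy => exact ihx.mul hle ihy
    | inv x _ ih => exact ih.inv
  have h0 : ∃ k : ℕ, ∀ x ∈ (⊥ : Subgroup E), (δ ^ (p ^ k)) x = x := unip_bot δ
  have h1 := unip_step hE δ ⊥ N₁ bot_le h0 (fun x hx => by
    rw [Subgroup.mem_bot, hst.1 x hx]; group)
  have h2 := unip_step hE δ N₁ N₂ hle h1 hst.2.1
  have h3 := unip_step hE δ N₂ ⊤ le_top h2 (fun x _ => hst.2.2 x)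
  obtain ⟨k, hk⟩ := exists_pow_eq_one_of_unip δ h3
  exact ⟨k, Subtype.ext hk⟩

/-- In a group where `x ^ p = 1`, `p` prime, a nontrivial element of `⟨x⟩` generates `⟨x⟩`. -/
theorem zpowers_eq_of_mem [Finite E] {p : ℕ} [Fact p.Prime] {x y : E} (hx : x ^ p = 1)
    (hy : y ∈ zpowers x) (hy1 : y ≠ 1) : zpowers y = zpowers x := by
  have hx1 : x ≠ 1 := by
    rintro rfl
    rw [zpowers_one_eq_bot, mem_bot] at hy
    exact hy1 hy
  have hyp : y ^ p = 1 := by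
    obtain ⟨k, rfl⟩ := mem_zpowers_iff.mp hy
    rw [← zpow_natCast, ← zpow_mul, mul_comm, zpow_mul, zpow_natCast, hx, one_zpow]
  refine eq_of_le_of_card_ge (zpowers_le.mpr hy) ?_
  rw [Nat.card_zpowers, Nat.card_zpowers, orderOf_eq_prime hx hx1, orderOf_eq_prime hyp hy1]

/-- The data of a "transvection" `t` in a subgroup `A` of `Aut(E)`, `E` abelian. -/
structure TransvData (p : ℕ) (A : Subgroup (MulAut E)) (t : MulAut E) (d₀ : E) : Prop where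
  comm : ∀ x y : E, x * y = y * x
  pgrp : IsPGroup p E
  tA : t ∈ A
  d₀_ne : d₀ ≠ 1
  d₀_pow : d₀ ^ p = 1
  t_d₀ : t d₀ = d₀
  t_cm : ∀ x, cm t x ∈ zpowers d₀
  ex_cm : ∃ y, cm t y = d₀
  syl : ∀ Q : Subgroup (MulAut E), Q ≤ A → IsPGroup p Q → Nat.card Q ≤ p

namespace TransvData

variable {p : ℕ} [hp : Fact p.Prime] [Finite E] {A : Subgroup (MulAut E)} {t : MulAut E} {d₀ : E}

theorem cm_mul (h : TransvData p A t d₀) (δ : MulAut E) (x y : E) :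
    cm δ (x * y) = cm δ x * cm δ y := by
  unfold cm
  have e1 := h.comm y⁻¹ (x⁻¹ * δ x)
  calc (x * y)⁻¹ * δ (x * y) = y⁻¹ * (x⁻¹ * δ x) * δ y := by rw [map_mul]; group
    _ = (x⁻¹ * δ x) * y⁻¹ * δ y := by rw [e1]
    _ = x⁻¹ * δ x * (y⁻¹ * δ y) := by group

/-- `x ↦ x⁻¹ δ(x)` as a homomorphism (`E` abelian). -/
def cmHom (h : TransvData p A t d₀) (δ : MulAut E) : E →* E where
  toFun := cm δ
  map_one' := by simp [cm]
  map_mul' := h.cm_mul δ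

theorem cmHom_apply (h : TransvData p A t d₀) (δ : MulAut E) (x : E) : h.cmHom δ x = cm δ x := rfl

theorem conj_d₀_pow (h : TransvData p A t d₀) (g : MulAut E) : (g d₀) ^ p = 1 := by
  rw [← map_pow, h.d₀_pow, map_one]

theorem conj_d₀_ne (h : TransvData p A t d₀) (g : MulAut E) : g d₀ ≠ 1 := by
  intro h1
  exact h.d₀_ne (by simpa using h1)

theorem cm_conj_mem (h : TransvData p A t d₀) (g : MulAut E) (x : E) :
    cm (g * t * g⁻¹) x ∈ zpowers (g d₀) := by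
  obtain ⟨k, hk⟩ := mem_zpowers_iff.mp (h.t_cm (g⁻¹ x))
  rw [cm_conj, ← hk, map_zpow]
  exact zpow_mem_zpowers _ _

theorem conj_fix (h : TransvData p A t d₀) (g : MulAut E) : (g * t * g⁻¹) (g d₀) = g d₀ := by
  simp [MulAut.mul_apply, h.t_d₀]

theorem zpowers_le_fixedSub (h : TransvData p A t d₀) (g : MulAut E) :
    zpowers (g d₀) ≤ fixedSub (g * t * g⁻¹) :=
  zpowers_le.mpr (h.conj_fix g)

theorem conj_fix_cm (h : TransvData p A t d₀) (g : MulAut E) (x : E) :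
    (g * t * g⁻¹) (cm (g * t * g⁻¹) x) = cm (g * t * g⁻¹) x :=
  h.zpowers_le_fixedSub g (h.cm_conj_mem g x)

theorem conj_pow_apply (h : TransvData p A t d₀) (g : MulAut E) (x : E) (n : ℕ) :
    ((g * t * g⁻¹) ^ n) x = x * (cm (g * t * g⁻¹) x) ^ n :=
  pow_apply_of_fixed _ x (h.conj_fix_cm g x) n

theorem conj_pow_p (h : TransvData p A t d₀) (g : MulAut E) : (g * t * g⁻¹) ^ p = 1 := by
  ext x
  rw [h.conj_pow_apply g x p]
  obtain ⟨k, hk⟩ := mem_zpowers_iff.mp (h.cm_conj_mem g x)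
  rw [← hk, ← zpow_natCast, ← zpow_mul, mul_comm, zpow_mul, zpow_natCast, h.conj_d₀_pow g,
    one_zpow, mul_one]
  rfl

theorem conj_ne_one (h : TransvData p A t d₀) (g : MulAut E) : g * t * g⁻¹ ≠ 1 := by
  intro h1
  obtain ⟨y, hy⟩ := h.ex_cm
  have h2 : cm (g * t * g⁻¹) (g y) = g d₀ := by rw [cm_conj]; simp [hy]
  rw [h1] at h2
  have h3 : cm (1 : MulAut E) (g y) = 1 := by simp [cm]
  rw [h3] at h2
  exact h.conj_d₀_ne g h2.symm

theorem card_zpowers_conj (h : TransvData p A t d₀) (g : MulAut E) :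
    Nat.card (zpowers (g * t * g⁻¹)) = p := by
  rw [Nat.card_zpowers, orderOf_eq_prime (h.conj_pow_p g) (h.conj_ne_one g)]

theorem conj_mem (h : TransvData p A t d₀) {g : MulAut E} (hg : g ∈ A) : g * t * g⁻¹ ∈ A :=
  A.mul_mem (A.mul_mem hg h.tA) (A.inv_mem hg)

/-- Two conjugates of `t` such that the second fixes the centre of the first generate the same
subgroup. -/
theorem zpowers_conj_eq (h : TransvData p A t d₀) {g k : MulAut E} (hg : g ∈ A) (hk : k ∈ A)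
    (hfix : (k * t * k⁻¹) (g d₀) = g d₀) :
    zpowers (g * t * g⁻¹) = zpowers (k * t * k⁻¹) := by
  have hs : ∀ δ ∈ ({g * t * g⁻¹, k * t * k⁻¹} : Set (MulAut E)),
      Stab3 (zpowers (g d₀)) (zpowers (g d₀) ⊔ zpowers (k d₀)) δ := by
    intro δ hδ
    rcases hδ with rfl | rfl
    · exact ⟨fun x hx => h.zpowers_le_fixedSub g hx, fun x _ => h.cm_conj_mem g x,
        fun x => (le_sup_left : zpowers (g d₀) ≤ zpowers (g d₀) ⊔ zpowers (k d₀))
          (h.cm_conj_mem g x)⟩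
    · have hle1 : zpowers (g d₀) ≤ fixedSub (k * t * k⁻¹) := zpowers_le.mpr hfix
      have hle2 : zpowers (g d₀) ⊔ zpowers (k d₀) ≤ fixedSub (k * t * k⁻¹) :=
        sup_le hle1 (h.zpowers_le_fixedSub k)
      refine ⟨fun x hx => hle1 hx, fun x hx => ?_, fun x =>
        (le_sup_right : zpowers (k d₀) ≤ zpowers (g d₀) ⊔ zpowers (k d₀)) (h.cm_conj_mem k x)⟩
      have h1 : (k * t * k⁻¹) x = x := hle2 hx
      rw [h1, inv_mul_cancel]
      exact one_mem _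
  have hP := isPGroup_closure_of_stab3 h.pgrp _ _ le_sup_left _ hs
  have hPA : closure ({g * t * g⁻¹, k * t * k⁻¹} : Set (MulAut E)) ≤ A := by
    rw [closure_le]
    rintro x (rfl | rfl)
    · exact h.conj_mem hg
    · exact h.conj_mem hk
  have hcard := h.syl _ hPA hP
  have h1 : zpowers (g * t * g⁻¹) = closure ({g * t * g⁻¹, k * t * k⁻¹} : Set (MulAut E)) :=
    eq_of_le_of_card_ge (zpowers_le.mpr (subset_closure (by simp)))
      (by rw [h.card_zpowers_conj g]; exact hcard)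
  have h2 : zpowers (k * t * k⁻¹) = closure ({g * t * g⁻¹, k * t * k⁻¹} : Set (MulAut E)) :=
    eq_of_le_of_card_ge (zpowers_le.mpr (subset_closure (by simp)))
      (by rw [h.card_zpowers_conj k]; exact hcard)
  rw [h1, h2]


/-! ### A second conjugate -/

theorem conj_not_fix_d₀ (h : TransvData p A t d₀) {a : MulAut E} (haA : a ∈ A)
    (ha : a * t * a⁻¹ ∉ zpowers t) : (a * t * a⁻¹) d₀ ≠ d₀ := by
  intro hfix
  have h1 := h.zpowers_conj_eq (g := 1) (k := a) A.one_mem haA (by simpa using hfix)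
  simp only [one_mul, inv_one, mul_one] at h1
  exact ha (h1 ▸ mem_zpowers _)

theorem not_fix_conj_d₀ (h : TransvData p A t d₀) {a : MulAut E} (haA : a ∈ A)
    (ha : a * t * a⁻¹ ∉ zpowers t) : t (a d₀) ≠ a d₀ := by
  intro hfix
  have h1 := h.zpowers_conj_eq (g := a) (k := 1) haA A.one_mem (by simpa using hfix)
  simp only [one_mul, inv_one, mul_one] at h1
  exact ha (h1 ▸ mem_zpowers _)

theorem t_fix_of_mem (h : TransvData p A t d₀) {x : E} (hx : x ∈ zpowers d₀) : t x = x := by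
  have h1 := h.zpowers_le_fixedSub 1
  simp only [one_mul, inv_one, mul_one, MulAut.one_apply] at h1
  exact h1 hx

theorem exists_pow_eq_of_mem_zpowers {x y : E} (hy : y ∈ zpowers x) : ∃ n : ℕ, x ^ n = y := by
  have h1 : y ∈ Submonoid.powers x := (isOfFinOrder_of_finite x).mem_powers_iff_mem_zpowers.mpr hy
  exact (Submonoid.mem_powers_iff _ _).mp h1

/-- A "basis" `u, u'` of `⟨d₀⟩ × ⟨a d₀⟩` adapted to `t` and `t' = a t a⁻¹`. -/
theorem exists_basis (h : TransvData p A t d₀) {a : MulAut E} (haA : a ∈ A)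
    (ha : a * t * a⁻¹ ∉ zpowers t) :
    ∃ (u u' : E) (t₁ : MulAut E), t₁ ∈ zpowers t ∧ zpowers u = zpowers d₀ ∧
      zpowers u' = zpowers (a d₀) ∧ (a * t * a⁻¹) u = u * u' ∧ t₁ u' = u' * u ∧
      u = cm t (a d₀) := by
  have hu_mem : cm t (a d₀) ∈ zpowers d₀ := h.t_cm _
  have hu1 : cm t (a d₀) ≠ 1 := fun h1 => h.not_fix_conj_d₀ haA ha (cm_eq_one_iff.mp h1)
  have hzu : zpowers (cm t (a d₀)) = zpowers d₀ := zpowers_eq_of_mem h.d₀_pow hu_mem hu1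
  obtain ⟨u, hu⟩ : ∃ u, u = cm t (a d₀) := ⟨_, rfl⟩
  rw [← hu] at hzu hu_mem hu1
  have hu'_mem : cm (a * t * a⁻¹) u ∈ zpowers (a d₀) := h.cm_conj_mem a u
  have hu'1 : cm (a * t * a⁻¹) u ≠ 1 := by
    intro h1
    have h2 : u ∈ fixedSub (a * t * a⁻¹) := cm_eq_one_iff.mp h1
    have h3 : zpowers u ≤ fixedSub (a * t * a⁻¹) := zpowers_le.mpr h2
    rw [hzu] at h3
    exact h.conj_not_fix_d₀ haA ha (h3 (mem_zpowers d₀))
  have hzu' : zpowers (cm (a * t * a⁻¹) u) = zpowers (a d₀) :=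
    zpowers_eq_of_mem (h.conj_d₀_pow a) hu'_mem hu'1
  obtain ⟨u', hu'⟩ : ∃ u', u' = cm (a * t * a⁻¹) u := ⟨_, rfl⟩
  rw [← hu'] at hzu' hu'_mem hu'1
  have hv_mem : cm t u' ∈ zpowers d₀ := h.t_cm _
  have hv1 : cm t u' ≠ 1 := by
    intro h1
    have h2 : u' ∈ fixedSub t := cm_eq_one_iff.mp h1
    have h3 : zpowers u' ≤ fixedSub t := zpowers_le.mpr h2
    rw [hzu'] at h3
    exact h.not_fix_conj_d₀ haA ha (h3 (mem_zpowers (a d₀)))
  have hzv : zpowers (cm t u') = zpowers d₀ := zpowers_eq_of_mem h.d₀_pow hv_mem hv1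
  have huv : u ∈ zpowers (cm t u') := by rw [hzv]; exact hu_mem
  obtain ⟨i, hi⟩ := exists_pow_eq_of_mem_zpowers huv
  refine ⟨u, u', t ^ i, pow_mem (mem_zpowers t) i, hzu, hzu', ?_, ?_, hu⟩
  · rw [apply_eq_mul_cm, hu']
  · rw [pow_apply_of_fixed t u' (h.t_fix_of_mem hv_mem) i, hi]

/-- Every conjugate of `⟨t⟩` is `⟨t⟩` or a conjugate of `⟨t'⟩` by a power of `t`. -/
theorem conj_cases (h : TransvData p A t d₀) {a : MulAut E} (haA : a ∈ A)
    (ha : a * t * a⁻¹ ∉ zpowers t) {b : MulAut E} (hb : b ∈ A) :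
    zpowers (b * t * b⁻¹) = zpowers t ∨
      ∃ k : ℕ, zpowers (b * t * b⁻¹) = zpowers ((t ^ k * a) * t * (t ^ k * a)⁻¹) := by
  by_cases hfix : (b * t * b⁻¹) d₀ = d₀
  · left
    have h1 := h.zpowers_conj_eq (g := 1) (k := b) A.one_mem hb (by simpa using hfix)
    simp only [one_mul, inv_one, mul_one] at h1
    exact h1.symm
  · right
    have hw_mem : cm (b * t * b⁻¹) d₀ ∈ zpowers (b d₀) := h.cm_conj_mem b d₀
    have hw1 : cm (b * t * b⁻¹) d₀ ≠ 1 := fun h1 => hfix (cm_eq_one_iff.mp h1)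
    have hzw := zpowers_eq_of_mem (h.conj_d₀_pow b) hw_mem hw1
    have h2 : cm (b * t * b⁻¹) (a d₀) ∈ zpowers (cm (b * t * b⁻¹) d₀) := by
      rw [hzw]; exact h.cm_conj_mem b _
    obtain ⟨j, hj⟩ := mem_zpowers_iff.mp h2
    -- `x = a d₀ * d₀ ^ (-j)` is fixed by `b t b⁻¹`
    have hx : (b * t * b⁻¹) (a d₀ * d₀ ^ (-j)) = a d₀ * d₀ ^ (-j) := by
      apply cm_eq_one_iff.mp
      rw [← h.cmHom_apply, map_mul, map_zpow, h.cmHom_apply, h.cmHom_apply, ← hj, zpow_neg,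
        mul_inv_cancel]
    obtain ⟨u, u', t₁, -, hzu, -, -, -, hu⟩ := h.exists_basis haA ha
    have h3 : d₀ ^ (-j) ∈ zpowers u := by rw [hzu]; exact zpow_mem_zpowers _ _
    obtain ⟨k, hk⟩ := exists_pow_eq_of_mem_zpowers h3
    have hgd : (t ^ k * a) d₀ = a d₀ * d₀ ^ (-j) := by
      rw [MulAut.mul_apply, pow_apply_of_fixed t (a d₀) (h.t_fix_of_mem (h.t_cm _)) k, ← hu, hk]
    have hgA : t ^ k * a ∈ A := A.mul_mem (A.pow_mem h.tA k) haA
    have h4 := h.zpowers_conj_eq (g := t ^ k * a) (k := b) hgA hb (by rw [hgd]; exact hx)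
    exact ⟨k, h4.symm⟩

/-! ### The centralizer of all conjugates of `t` -/

end TransvData

/-- The common fixed points of all `A`-conjugates of `t`. -/
def Ccore (A : Subgroup (MulAut E)) (t : MulAut E) : Subgroup E where
  carrier := {x | ∀ b ∈ A, (b * t * b⁻¹) x = x}
  one_mem' := fun b _ => map_one _
  mul_mem' := by
    intro x y hx hy b hb
    rw [map_mul, hx b hb, hy b hb]
  inv_mem' := by
    intro x hx b hb
    rw [map_inv, hx b hb]

theorem mem_Ccore {A : Subgroup (MulAut E)} {t : MulAut E} {x : E} :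
    x ∈ Ccore A t ↔ ∀ b ∈ A, (b * t * b⁻¹) x = x := Iff.rfl

theorem Ccore_invariant {A : Subgroup (MulAut E)} {t : MulAut E} {g : MulAut E} (hg : g ∈ A)
    {x : E} (hx : x ∈ Ccore A t) : g x ∈ Ccore A t := by
  intro b hb
  have h1 := hx (g⁻¹ * b) (A.mul_mem (A.inv_mem hg) hb)
  have h2 : (b * t * b⁻¹) (g x) = g (((g⁻¹ * b) * t * (g⁻¹ * b)⁻¹) x) := by
    simp [MulAut.mul_apply, mul_inv_rev]
  rw [h2, h1]

theorem Ccore_fixed {A : Subgroup (MulAut E)} {t : MulAut E} {x : E} (hx : x ∈ Ccore A t) :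
    t x = x := by
  simpa using hx 1 A.one_mem

/-- The subgroup generated by the `A`-conjugates of `t`. -/
def Kcl (A : Subgroup (MulAut E)) (t : MulAut E) : Subgroup (MulAut E) :=
  closure {τ | ∃ b ∈ A, τ = b * t * b⁻¹}

/-- The subgroup generated by the `A`-images of `d₀`. -/
def Vspan (A : Subgroup (MulAut E)) (d₀ : E) : Subgroup E :=
  closure {y | ∃ b ∈ A, y = b d₀}

theorem conj_mem_Kcl {A : Subgroup (MulAut E)} {t : MulAut E} {b : MulAut E} (hb : b ∈ A) :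
    b * t * b⁻¹ ∈ Kcl A t :=
  subset_closure ⟨b, hb, rfl⟩

theorem self_mem_Kcl (A : Subgroup (MulAut E)) (t : MulAut E) : t ∈ Kcl A t := by
  have h1 := conj_mem_Kcl (t := t) A.one_mem
  simpa using h1

theorem Kcl_le {A : Subgroup (MulAut E)} {t : MulAut E} (ht : t ∈ A) : Kcl A t ≤ A := by
  unfold Kcl
  rw [closure_le]
  rintro _ ⟨b, hb, rfl⟩
  exact A.mul_mem (A.mul_mem hb ht) (A.inv_mem hb)

theorem Kcl_fixes {A : Subgroup (MulAut E)} {t : MulAut E} {k : MulAut E} (hk : k ∈ Kcl A t)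
    {c : E} (hc : c ∈ Ccore A t) : k c = c := by
  unfold Kcl at hk
  induction hk using Subgroup.closure_induction with
  | mem x hx =>
    obtain ⟨b, hb, rfl⟩ := hx
    exact hc b hb
  | one => rfl
  | mul x y _ _ ihx ihy => rw [MulAut.mul_apply, ihy, ihx]
  | inv x _ ih =>
    calc x⁻¹ c = x⁻¹ (x c) := by rw [ih]
      _ = c := by simp

namespace TransvData

variable {p : ℕ} [hp : Fact p.Prime] [Finite E] {A : Subgroup (MulAut E)} {t : MulAut E} {d₀ : E}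

theorem mem_Ccore_iff (h : TransvData p A t d₀) {a : MulAut E} (haA : a ∈ A)
    (ha : a * t * a⁻¹ ∉ zpowers t) {x : E} :
    x ∈ Ccore A t ↔ t x = x ∧ (a * t * a⁻¹) x = x := by
  constructor
  · intro hx
    exact ⟨Ccore_fixed hx, hx a haA⟩
  · rintro ⟨hx1, hx2⟩ b hb
    rcases h.conj_cases haA ha hb with h1 | ⟨k, h1⟩
    · have hm : b * t * b⁻¹ ∈ zpowers t := h1 ▸ mem_zpowers _
      exact fixed_of_mem_zpowers hm hx1
    · have hm : b * t * b⁻¹ ∈ zpowers ((t ^ k * a) * t * (t ^ k * a)⁻¹) := h1 ▸ mem_zpowers _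
      refine fixed_of_mem_zpowers hm ?_
      have e : (t ^ k * a) * t * (t ^ k * a)⁻¹ = t ^ k * (a * t * a⁻¹) * (t ^ k)⁻¹ := by group
      have h3 : (t ^ k)⁻¹ x = x :=
        fixed_of_mem_zpowers (inv_mem (pow_mem (mem_zpowers t) k)) hx1
      have h4 : (t ^ k) x = x := fixed_of_mem_zpowers (pow_mem (mem_zpowers t) k) hx1
      rw [e, MulAut.mul_apply, MulAut.mul_apply, h3, hx2, h4]

theorem Ccore_inf (h : TransvData p A t d₀) {a : MulAut E} (haA : a ∈ A)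
    (ha : a * t * a⁻¹ ∉ zpowers t) {x : E} (hx : x ∈ Ccore A t) (hxd : x ∈ zpowers d₀) :
    x = 1 := by
  by_contra hne
  have hz := zpowers_eq_of_mem h.d₀_pow hxd hne
  have h2 : x ∈ fixedSub (a * t * a⁻¹) := hx a haA
  have h3 : zpowers x ≤ fixedSub (a * t * a⁻¹) := zpowers_le.mpr h2
  rw [hz] at h3
  exact h.conj_not_fix_d₀ haA ha (h3 (mem_zpowers d₀))

theorem exists_mul_of_fixed (h : TransvData p A t d₀) {a : MulAut E} (haA : a ∈ A)
    (ha : a * t * a⁻¹ ∉ zpowers t) {x : E} (hx : t x = x) :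
    ∃ d ∈ zpowers d₀, ∃ c ∈ Ccore A t, x = d * c := by
  have hw_mem : cm (a * t * a⁻¹) d₀ ∈ zpowers (a d₀) := h.cm_conj_mem a d₀
  have hw1 : cm (a * t * a⁻¹) d₀ ≠ 1 :=
    fun h1 => h.conj_not_fix_d₀ haA ha (cm_eq_one_iff.mp h1)
  have hzw := zpowers_eq_of_mem (h.conj_d₀_pow a) hw_mem hw1
  have h2 : cm (a * t * a⁻¹) x ∈ zpowers (cm (a * t * a⁻¹) d₀) := by
    rw [hzw]; exact h.cm_conj_mem a _
  obtain ⟨j, hj⟩ := mem_zpowers_iff.mp h2
  have hc1 : (a * t * a⁻¹) (x * d₀ ^ (-j)) = x * d₀ ^ (-j) := by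
    apply cm_eq_one_iff.mp
    rw [← h.cmHom_apply, map_mul, map_zpow, h.cmHom_apply, h.cmHom_apply, ← hj, zpow_neg,
      mul_inv_cancel]
  have hc2 : t (x * d₀ ^ (-j)) = x * d₀ ^ (-j) := by
    rw [map_mul, map_zpow, hx, h.t_d₀]
  refine ⟨d₀ ^ j, zpow_mem_zpowers _ _, x * d₀ ^ (-j), (h.mem_Ccore_iff haA ha).mpr ⟨hc2, hc1⟩, ?_⟩
  rw [h.comm x, ← mul_assoc, zpow_neg, mul_inv_cancel, one_mul]

/-! ### The torus element (`p` odd) -/

theorem exists_torus (h : TransvData p A t d₀) {a : MulAut E} (haA : a ∈ A)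
    (ha : a * t * a⁻¹ ∉ zpowers t) (hp2 : p ≠ 2) :
    ∃ η ∈ A, η * t * η⁻¹ ∈ zpowers t ∧ (∀ c ∈ Ccore A t, η c = c) ∧
      ∀ d ∈ zpowers d₀, η d = d ^ ((p + 1) / 2) := by
  obtain ⟨u, u', t₁, ht₁, hzu, hzu', htu, ht₁u', -⟩ := h.exists_basis haA ha
  obtain ⟨z, hz⟩ : ∃ z : ℕ, p = 2 * z + 1 := by
    rcases hp.out.eq_two_or_odd' with h2 | ⟨z, hz⟩
    · exact absurd h2 hp2
    · exact ⟨z, hz⟩
  have hz2 : (p + 1) / 2 = z + 1 := by omega
  have hu_mem : u ∈ zpowers d₀ := hzu ▸ mem_zpowers u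
  have hu'_mem : u' ∈ zpowers (a d₀) := hzu' ▸ mem_zpowers u'
  have htu_fix : t u = u := h.t_fix_of_mem hu_mem
  have ht₁u : t₁ u = u := fixed_of_mem_zpowers ht₁ htu_fix
  have ht'u' : (a * t * a⁻¹) u' = u' := h.zpowers_le_fixedSub a hu'_mem
  have hu'p : u' ^ p = 1 := by
    obtain ⟨k, hk⟩ := mem_zpowers_iff.mp hu'_mem
    rw [← hk, ← zpow_natCast, ← zpow_mul, mul_comm, zpow_mul, zpow_natCast, h.conj_d₀_pow a,
      one_zpow]
  have ht₁A : t₁ ∈ A := (zpowers_le.mpr h.tA) ht₁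
  have hcuu' : Commute u u' := h.comm u u'
  -- the element
  have hηu : ((a * t * a⁻¹) * t₁ * (a * t * a⁻¹) ^ z) u = u ^ (z + 1) := by
    have e1 : ((a * t * a⁻¹) ^ z) u = u * u' ^ z := by
      rw [h.conj_pow_apply a u z]
      have : cm (a * t * a⁻¹) u = u' := by
        unfold cm; rw [htu]; group
      rw [this]
    have e2 : t₁ (u * u' ^ z) = u * (u' ^ z * u ^ z) := by
      rw [map_mul, map_pow, ht₁u, ht₁u', (hcuu'.symm).mul_pow]
    have e3 : (a * t * a⁻¹) (u * (u' ^ z * u ^ z)) = (u * u') * (u' ^ z * (u ^ z * u' ^ z)) := by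
      rw [map_mul, map_mul, map_pow, map_pow, htu, ht'u', hcuu'.mul_pow]
    rw [MulAut.mul_apply, MulAut.mul_apply, e1, e2, e3]
    have e4 : u' ^ z * (u ^ z * u' ^ z) = u ^ z * (u' ^ z * u' ^ z) := by
      rw [← mul_assoc, ((hcuu'.symm).pow_pow z z).eq, mul_assoc]
    have e5 : u' * u ^ z = u ^ z * u' := ((hcuu'.symm).pow_right z).eq
    calc (u * u') * (u' ^ z * (u ^ z * u' ^ z)) = u * (u' * u ^ z) * (u' ^ z * u' ^ z) := by
          rw [e4]; group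
      _ = u * (u ^ z * u') * (u' ^ z * u' ^ z) := by rw [e5]
      _ = u ^ (z + 1) * u' ^ (2 * z + 1) := by group
      _ = u ^ (z + 1) := by rw [← hz, hu'p, mul_one]
  refine ⟨(a * t * a⁻¹) * t₁ * (a * t * a⁻¹) ^ z, ?_, ?_, ?_, ?_⟩
  · exact A.mul_mem (A.mul_mem (h.conj_mem haA) ht₁A) (A.pow_mem (h.conj_mem haA) z)
  · -- normalizes `⟨t⟩`
    have hηA : (a * t * a⁻¹) * t₁ * (a * t * a⁻¹) ^ z ∈ A :=
      A.mul_mem (A.mul_mem (h.conj_mem haA) ht₁A) (A.pow_mem (h.conj_mem haA) z)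
    have hd₀ : ((a * t * a⁻¹) * t₁ * (a * t * a⁻¹) ^ z) d₀ ∈ zpowers d₀ := by
      have h1 : d₀ ∈ zpowers u := hzu ▸ mem_zpowers d₀
      obtain ⟨k, hk⟩ := mem_zpowers_iff.mp h1
      have e : ((a * t * a⁻¹) * t₁ * (a * t * a⁻¹) ^ z) d₀ = (u ^ (z + 1)) ^ k := by
        rw [← hk, map_zpow, hηu]
      rw [e]
      exact zpow_mem (pow_mem hu_mem _) _
    have h1 := h.zpowers_conj_eq (g := (a * t * a⁻¹) * t₁ * (a * t * a⁻¹) ^ z) (k := 1) hηA
      A.one_mem (by simpa using h.t_fix_of_mem hd₀)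
    simp only [one_mul, inv_one, mul_one] at h1
    exact h1 ▸ mem_zpowers _
  · intro c hc
    have hc1 : t c = c := Ccore_fixed hc
    have hc2 : (a * t * a⁻¹) c = c := hc a haA
    have hc3 : ((a * t * a⁻¹) ^ z) c = c :=
      fixed_of_mem_zpowers (pow_mem (mem_zpowers _) z) hc2
    have hc4 : t₁ c = c := fixed_of_mem_zpowers ht₁ hc1
    rw [MulAut.mul_apply, MulAut.mul_apply, hc3, hc4, hc2]
  · intro d hd
    have h1 : d ∈ zpowers u := hzu ▸ hd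
    obtain ⟨k, hk⟩ := mem_zpowers_iff.mp h1
    rw [← hk, map_zpow, hηu, hz2, ← zpow_natCast, ← zpow_natCast, ← zpow_mul, ← zpow_mul, mul_comm]

/-! ### The subgroup generated by the conjugates of `t` -/

theorem Kcl_cm_mem (h : TransvData p A t d₀) {k : MulAut E} (hk : k ∈ Kcl A t) (x : E) :
    x⁻¹ * k x ∈ Vspan A d₀ := by
  unfold Kcl at hk
  induction hk using Subgroup.closure_induction generalizing x with
  | mem y hy =>
    obtain ⟨b, hb, rfl⟩ := hy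
    have h1 : zpowers (b d₀) ≤ Vspan A d₀ := zpowers_le.mpr (subset_closure ⟨b, hb, rfl⟩)
    exact h1 (h.cm_conj_mem b x)
  | one => simp [one_mem]
  | mul y y' _ _ ihy ihy' =>
    have h4 : x⁻¹ * (y * y') x = (x⁻¹ * y' x) * ((y' x)⁻¹ * y (y' x)) := by
      rw [MulAut.mul_apply]; group
    rw [h4]; exact mul_mem (ihy' x) (ihy _)
  | inv y _ ih =>
    have h5 := ih (y⁻¹ x)
    have h6 : x⁻¹ * y⁻¹ x = ((y⁻¹ x)⁻¹ * y (y⁻¹ x))⁻¹ := by simp
    rw [h6]; exact inv_mem h5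

theorem Vspan_le (h : TransvData p A t d₀) {a : MulAut E} (haA : a ∈ A)
    (ha : a * t * a⁻¹ ∉ zpowers t) : Vspan A d₀ ≤ zpowers d₀ ⊔ zpowers (a d₀) := by
  unfold Vspan
  rw [closure_le]
  rintro _ ⟨b, hb, rfl⟩
  obtain ⟨y₀, hy₀⟩ := h.ex_cm
  have hbd : b d₀ = cm (b * t * b⁻¹) (b y₀) := by rw [cm_conj]; simp [hy₀]
  have key : ∀ g : MulAut E, zpowers (b * t * b⁻¹) = zpowers (g * t * g⁻¹) →
      b d₀ ∈ zpowers (g d₀) := by
    intro g hg
    have hm : b * t * b⁻¹ ∈ zpowers (g * t * g⁻¹) := hg ▸ mem_zpowers _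
    obtain ⟨n, hn⟩ := exists_pow_eq_of_mem_zpowers hm
    rw [hbd, ← hn]
    have h1 := h.conj_pow_apply g (b y₀) n
    have h2 : cm ((g * t * g⁻¹) ^ n) (b y₀) = (cm (g * t * g⁻¹) (b y₀)) ^ n := by
      unfold cm at h1 ⊢
      rw [h1]; group
    rw [h2]
    exact pow_mem (h.cm_conj_mem g _) n
  rcases h.conj_cases haA ha hb with h1 | ⟨k, h1⟩
  · have h2 := key 1 (by simpa using h1)
    simp only [MulAut.one_apply] at h2
    exact (le_sup_left : zpowers d₀ ≤ zpowers d₀ ⊔ zpowers (a d₀)) h2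
  · have h2 := key (t ^ k * a) h1
    have h3 : (t ^ k * a) d₀ ∈ zpowers d₀ ⊔ zpowers (a d₀) := by
      rw [MulAut.mul_apply, pow_apply_of_fixed t (a d₀) (h.t_fix_of_mem (h.t_cm _)) k]
      exact mul_mem ((le_sup_right : zpowers (a d₀) ≤ zpowers d₀ ⊔ zpowers (a d₀))
        (mem_zpowers _)) ((le_sup_left : zpowers d₀ ≤ zpowers d₀ ⊔ zpowers (a d₀))
        (pow_mem (h.t_cm _) k))
    exact (zpowers_le.mpr h3) h2

theorem Vspan_fixed (h : TransvData p A t d₀) {a : MulAut E} (haA : a ∈ A)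
    (ha : a * t * a⁻¹ ∉ zpowers t) {v : E} (hv : v ∈ Vspan A d₀) (hfix : t v = v) :
    v ∈ zpowers d₀ := by
  have hv2 := h.Vspan_le haA ha hv
  have : (zpowers (a d₀)).Normal := ⟨fun n hn g => by
    rw [h.comm g n, mul_inv_cancel_right]; exact hn⟩
  have hv3 : v ∈ ((zpowers d₀ ⊔ zpowers (a d₀) : Subgroup E) : Set E) := hv2
  rw [Subgroup.mul_normal] at hv3
  obtain ⟨d, hd, w, hw, rfl⟩ := Set.mem_mul.mp hv3
  have hd' : d ∈ zpowers d₀ := hd
  have hw' : w ∈ zpowers (a d₀) := hw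
  have htw : t w = w := by
    rw [map_mul, h.t_fix_of_mem hd'] at hfix
    exact mul_left_cancel hfix
  obtain ⟨j, hj⟩ := mem_zpowers_iff.mp hw'
  have h1 : cm t w = (cm t (a d₀)) ^ j := by
    rw [← hj, ← h.cmHom_apply, map_zpow, h.cmHom_apply]
  have h2 : (cm t (a d₀)) ^ j = 1 := by rw [← h1]; exact cm_eq_one_iff.mpr htw
  have hu1 : cm t (a d₀) ≠ 1 := fun h1 => h.not_fix_conj_d₀ haA ha (cm_eq_one_iff.mp h1)
  have hup : (cm t (a d₀)) ^ p = 1 := by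
    obtain ⟨k, hk⟩ := mem_zpowers_iff.mp (h.t_cm (a d₀))
    rw [← hk, ← zpow_natCast, ← zpow_mul, mul_comm, zpow_mul, zpow_natCast, h.d₀_pow, one_zpow]
  have hord : orderOf (cm t (a d₀)) = p := orderOf_eq_prime hup hu1
  have hdvd : (p : ℤ) ∣ j := by
    rw [← hord]; exact orderOf_dvd_iff_zpow_eq_one.mpr h2
  have hw1 : w = 1 := by
    obtain ⟨m, rfl⟩ := hdvd
    rw [← hj, zpow_mul, zpow_natCast, h.conj_d₀_pow a, one_zpow]
  rw [hw1, mul_one]
  exact hd'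

theorem zpowers_conj_congr {x y : MulAut E} (c : MulAut E) (hxy : zpowers x = zpowers y) :
    zpowers (c * x * c⁻¹) = zpowers (c * y * c⁻¹) := by
  have key : ∀ x y : MulAut E, x ∈ zpowers y → c * x * c⁻¹ ∈ zpowers (c * y * c⁻¹) := by
    intro x y hx
    obtain ⟨i, rfl⟩ := mem_zpowers_iff.mp hx
    rw [← conj_zpow]
    exact zpow_mem_zpowers _ _
  apply le_antisymm
  · exact zpowers_le.mpr (key x y (hxy ▸ mem_zpowers x))
  · exact zpowers_le.mpr (key y x (hxy ▸ mem_zpowers y))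

/-- Frattini: `A = ⟨t^A⟩ · N_A(⟨t⟩)`. -/
theorem frattini (h : TransvData p A t d₀) {a : MulAut E} (haA : a ∈ A)
    (ha : a * t * a⁻¹ ∉ zpowers t) {g : MulAut E} (hg : g ∈ A) :
    ∃ k ∈ Kcl A t, (k⁻¹ * g) * t * (k⁻¹ * g)⁻¹ ∈ zpowers t := by
  have fin : ∀ k : MulAut E, zpowers (g * t * g⁻¹) = zpowers (k * t * k⁻¹) →
      (k⁻¹ * g) * t * (k⁻¹ * g)⁻¹ ∈ zpowers t := by
    intro k hk
    have hm : g * t * g⁻¹ ∈ zpowers (k * t * k⁻¹) := hk ▸ mem_zpowers _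
    obtain ⟨i, hi⟩ := mem_zpowers_iff.mp hm
    have e : (k⁻¹ * g) * t * (k⁻¹ * g)⁻¹ = k⁻¹ * (g * t * g⁻¹) * k := by group
    rw [e, ← hi, conj_zpow]
    have e2 : k⁻¹ * (k * t ^ i * k⁻¹) * k = t ^ i := by group
    rw [e2]
    exact zpow_mem_zpowers _ _
  rcases h.conj_cases haA ha hg with h1 | ⟨k₀, h1⟩
  · exact ⟨1, one_mem _, fin 1 (by simpa using h1)⟩
  · obtain ⟨u, u', t₁, ht₁, hzu, hzu', htu, ht₁u', -⟩ := h.exists_basis haA ha
    have ht₁K : t₁ ∈ Kcl A t := (zpowers_le.mpr (self_mem_Kcl A t)) ht₁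
    have hκK : t₁⁻¹ * (a * t * a⁻¹) ∈ Kcl A t := mul_mem (inv_mem ht₁K) (conj_mem_Kcl haA)
    have hκA : t₁⁻¹ * (a * t * a⁻¹) ∈ A := Kcl_le h.tA hκK
    have hκu : (t₁⁻¹ * (a * t * a⁻¹)) u = u' := by
      rw [MulAut.mul_apply, htu, h.comm u u', ← ht₁u']
      simp
    have hκd : (t₁⁻¹ * (a * t * a⁻¹)) d₀ ∈ zpowers (a d₀) := by
      have h2 : d₀ ∈ zpowers u := hzu ▸ mem_zpowers d₀
      obtain ⟨i, hi⟩ := mem_zpowers_iff.mp h2
      have e : (t₁⁻¹ * (a * t * a⁻¹)) d₀ = u' ^ i := by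
        rw [← hi, map_zpow, hκu]
      rw [e, ← hzu']
      exact zpow_mem_zpowers _ _
    have h2 := h.zpowers_conj_eq (g := t₁⁻¹ * (a * t * a⁻¹)) (k := a) hκA haA
      (h.zpowers_le_fixedSub a hκd)
    have h3 := zpowers_conj_congr (t ^ k₀) h2
    have e1 : (t ^ k₀ * a) * t * (t ^ k₀ * a)⁻¹ = t ^ k₀ * (a * t * a⁻¹) * (t ^ k₀)⁻¹ := by group
    have e2 : t ^ k₀ * ((t₁⁻¹ * (a * t * a⁻¹)) * t * (t₁⁻¹ * (a * t * a⁻¹))⁻¹) * (t ^ k₀)⁻¹
        = (t ^ k₀ * (t₁⁻¹ * (a * t * a⁻¹))) * t * (t ^ k₀ * (t₁⁻¹ * (a * t * a⁻¹)))⁻¹ := by group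
    rw [← e1, e2] at h3
    refine ⟨t ^ k₀ * (t₁⁻¹ * (a * t * a⁻¹)),
      mul_mem (pow_mem (self_mem_Kcl A t) k₀) hκK, fin _ (h1.trans h3.symm)⟩

end TransvData

end Transvec

end Cfsg.Agent.Lib.helper89
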