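import Mathlib
import Cfsg.Agent.Lib.helper89.Transvec

/-!
# A Sylow bound for automorphism groups of abelian `p`-groups with a cyclic quotient

`E = Zf⟨x₀⟩` is a finite abelian `p`-group, `T ≤ A ≤ Aut(E)` where `T` centralizes `Zf` and `E/Zf`,
every `p`-subgroup of `A` is conjugate into `T`, and the elements of `A` conjugating a nontrivial
element of `T` into `T` lie in a proper subgroup. Then `T` is generated by any of its nontrivial
elements (`transv_sylow_le`).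
-/

set_option autoImplicit false
set_option linter.unusedSectionVars false

namespace Cfsg.Agent.Lib.helper89

open Subgroup

section TransvSyl

variable {E : Type*} [Group E]

theorem transv_sylow_le [Finite E] {p : ℕ} [Fact p.Prime] (hE : IsPGroup p E)
    (hc : ∀ x y : E, x * y = y * x) (A T K : Subgroup (MulAut E)) (hTA : T ≤ A)
    (Zf : Subgroup E) (x₀ : E)
    (hfix : ∀ τ ∈ T, ∀ z ∈ Zf, τ z = z)
    (hcm : ∀ τ ∈ T, cm τ x₀ ∈ Zf)
    (hgen : ∀ u : E, ∃ z ∈ Zf, ∃ i : ℤ, u = z * x₀ ^ i)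
    (hxp : x₀ ^ p ∈ Zf)
    (t : MulAut E) (htT : t ∈ T) (ht1 : t ≠ 1)
    (hsyl : ∀ Q : Subgroup (MulAut E), Q ≤ A → IsPGroup p Q →
      ∃ b ∈ A, ∀ q ∈ Q, b * q * b⁻¹ ∈ T)
    (hext : ∀ β ∈ A, ∀ τ ∈ T, τ ≠ 1 → β * τ * β⁻¹ ∈ T → β ∈ K)
    (hK : ¬ A ≤ K) : T ≤ zpowers t := by
  by_contra hnot
  have hcmu : ∀ τ ∈ T, ∀ (z : E), z ∈ Zf → ∀ i : ℤ, cm τ (z * x₀ ^ i) = (cm τ x₀) ^ i := by
    intro τ hτ z hz i
    have h1 : cm τ (z * x₀ ^ i) = cmHom' hc τ (z * x₀ ^ i) := rfl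
    rw [h1, map_mul, map_zpow, cmHom'_apply, cmHom'_apply]
    have h2 : cm τ z = 1 := cm_eq_one_iff.mpr (hfix τ hτ z hz)
    rw [h2, one_mul]
  have hinj : ∀ τ ∈ T, ∀ τ' ∈ T, cm τ x₀ = cm τ' x₀ → τ = τ' := by
    intro τ hτ τ' hτ' h
    ext u
    obtain ⟨z, hz, i, rfl⟩ := hgen u
    have h1 := hcmu τ hτ z hz i
    have h2 := hcmu τ' hτ' z hz i
    rw [h] at h1
    rw [← h2] at h1
    rw [apply_eq_mul_cm τ, apply_eq_mul_cm τ', h1]
  obtain ⟨d₀, hd₀⟩ : ∃ d₀, d₀ = cm t x₀ := ⟨_, rfl⟩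
  have hd₀Z : d₀ ∈ Zf := by rw [hd₀]; exact hcm t htT
  have hd₀ne : d₀ ≠ 1 := by
    intro h1
    apply ht1
    apply hinj t htT 1 T.one_mem
    rw [← hd₀, h1]
    simp [cm]
  have hd₀p : d₀ ^ p = 1 := by
    have h1 := hcmu t htT 1 Zf.one_mem (p : ℤ)
    rw [one_mul, zpow_natCast, zpow_natCast, ← hd₀] at h1
    rw [← h1]
    exact cm_eq_one_iff.mpr (hfix t htT _ hxp)
  have hord : orderOf d₀ = p := orderOf_eq_prime hd₀p hd₀ne
  have htcm : ∀ u, cm t u ∈ zpowers d₀ := by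
    intro u
    obtain ⟨z, hz, i, rfl⟩ := hgen u
    rw [hcmu t htT z hz i, ← hd₀]
    exact zpow_mem_zpowers _ _
  have htd₀ : t d₀ = d₀ := hfix t htT d₀ hd₀Z
  have htp : t ^ p = 1 := pow_eq_one_of_cm t d₀ p hd₀p htd₀ htcm
  have hcardt : Nat.card (zpowers t) = p := by
    rw [Nat.card_zpowers, orderOf_eq_prime htp ht1]
  have hfixT : ∀ u : E, t u = u → u ∈ Zf := by
    intro u hu
    obtain ⟨z, hz, i, rfl⟩ := hgen u
    have h1 := hcmu t htT z hz i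
    rw [cm_eq_one_iff.mpr hu, ← hd₀] at h1
    have h2 : (orderOf d₀ : ℤ) ∣ i := orderOf_dvd_iff_zpow_eq_one.mpr h1.symm
    rw [hord] at h2
    obtain ⟨j, rfl⟩ := h2
    refine Zf.mul_mem hz ?_
    rw [zpow_mul, zpow_natCast]
    exact zpow_mem hxp j
  have hcardT : p < Nat.card T := by
    by_contra hle
    push Not at hle
    have hle2 : zpowers t ≤ T := zpowers_le.mpr htT
    have h1 : zpowers t = T := eq_of_le_of_card_ge hle2 (by rw [hcardt]; exact hle)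
    exact hnot (le_of_eq h1.symm)
  have hmul : ∀ τ ∈ T, ∀ τ' ∈ T, cm (τ * τ') x₀ = cm τ x₀ * cm τ' x₀ := by
    intro τ hτ τ' hτ'
    have h1 : (τ * τ') x₀ = τ (τ' x₀) := rfl
    have h2 : τ (cm τ' x₀) = cm τ' x₀ := hfix τ hτ _ (hcm τ' hτ')
    have h3 : cm (τ * τ') x₀ = x₀⁻¹ * τ (x₀ * cm τ' x₀) := by
      rw [← apply_eq_mul_cm τ' x₀]
      rfl
    rw [h3, map_mul, h2]
    unfold cm
    group
  have hinv : ∀ τ ∈ T, cm τ⁻¹ x₀ = (cm τ x₀)⁻¹ := by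
    intro τ hτ
    have h1 := hmul τ hτ τ⁻¹ (T.inv_mem hτ)
    rw [mul_inv_cancel] at h1
    have h2 : cm (1 : MulAut E) x₀ = 1 := by simp [cm]
    rw [h2] at h1
    exact eq_inv_of_mul_eq_one_right h1.symm
  have key : ∀ γ : MulAut E, ∃ τ ∈ T, τ ≠ 1 ∧ (γ * t * γ⁻¹) (cm τ x₀) = cm τ x₀ := by
    intro γ
    have hmem : ∀ u : E, cm (γ * t * γ⁻¹) u ∈ zpowers (γ d₀) := by
      intro u
      rw [cm_conj]
      obtain ⟨k, hk⟩ := mem_zpowers_iff.mp (htcm (γ⁻¹ u))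
      rw [← hk, map_zpow]
      exact zpow_mem_zpowers _ _
    have hγp : (γ d₀) ^ p = 1 := by rw [← map_pow, hd₀p, map_one]
    have hcardγ : Nat.card (zpowers (γ d₀)) ≤ p := by
      rw [Nat.card_zpowers]
      exact orderOf_le_of_pow_eq_one (Fact.out : p.Prime).pos hγp
    by_contra hcon
    push Not at hcon
    have hfinj : Function.Injective (fun τ : T =>
        (⟨cm (γ * t * γ⁻¹) (cm (τ : MulAut E) x₀), hmem _⟩ : zpowers (γ d₀))) := by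
      intro τ τ' hff
      have h1 : cm (γ * t * γ⁻¹) (cm (τ : MulAut E) x₀)
          = cm (γ * t * γ⁻¹) (cm (τ' : MulAut E) x₀) := congrArg Subtype.val hff
      by_contra hne
      have hne' : (τ : MulAut E) * (τ' : MulAut E)⁻¹ ≠ 1 := by
        intro h2
        apply hne
        apply Subtype.ext
        exact mul_inv_eq_one.mp h2
      have hmem' : (τ : MulAut E) * (τ' : MulAut E)⁻¹ ∈ T := T.mul_mem τ.2 (T.inv_mem τ'.2)
      apply hcon _ hmem' hne'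
      apply cm_eq_one_iff.mp
      rw [hmul _ τ.2 _ (T.inv_mem τ'.2), hinv _ τ'.2]
      have h3 : cm (γ * t * γ⁻¹) (cm (τ : MulAut E) x₀ * (cm (τ' : MulAut E) x₀)⁻¹)
          = cmHom' hc (γ * t * γ⁻¹) (cm (τ : MulAut E) x₀ * (cm (τ' : MulAut E) x₀)⁻¹) := rfl
      rw [h3, map_mul, map_inv, cmHom'_apply, cmHom'_apply, h1, mul_inv_cancel]
    have h4 := Nat.card_le_card_of_injective _ hfinj
    omega
  apply hK
  intro α hα
  obtain ⟨τ₁, hτ₁, hτ₁ne, hτ₁fix⟩ := key α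
  obtain ⟨τ₂, hτ₂, hτ₂ne, hτ₂fix⟩ := key α⁻¹
  obtain ⟨N, hN⟩ : ∃ N : Subgroup E, N = fixedSub t ⊓ fixedSub (α * t * α⁻¹) := ⟨_, rfl⟩
  have hNmem : ∀ u, u ∈ N ↔ t u = u ∧ (α * t * α⁻¹) u = u := by
    intro u
    rw [hN, Subgroup.mem_inf]
    rfl
  have hs1 : Stab3 N N τ₁ := by
    have hall : ∀ u, cm τ₁ u ∈ N := by
      intro u
      obtain ⟨z, hz, i, rfl⟩ := hgen u
      rw [hcmu τ₁ hτ₁ z hz i]
      apply zpow_mem
      rw [hNmem]
      exact ⟨hfix t htT _ (hcm τ₁ hτ₁), hτ₁fix⟩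
    refine ⟨fun u hu => ?_, fun u _ => hall u, hall⟩
    exact hfix τ₁ hτ₁ u (hfixT u ((hNmem u).mp hu).1)
  have hs2 : Stab3 N N (α * τ₂ * α⁻¹) := by
    have hall : ∀ u, cm (α * τ₂ * α⁻¹) u ∈ N := by
      intro u
      rw [cm_conj]
      obtain ⟨z, hz, i, hu⟩ := hgen (α⁻¹ u)
      rw [hu, hcmu τ₂ hτ₂ z hz i, map_zpow]
      apply zpow_mem
      rw [hNmem]
      constructor
      · have h1 : (α⁻¹ * t * α⁻¹⁻¹) (cm τ₂ x₀) = α⁻¹ (t (α (cm τ₂ x₀))) := by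
          rw [inv_inv]; rfl
        rw [h1] at hτ₂fix
        have h2 := congrArg α hτ₂fix
        simpa using h2
      · show α (t (α⁻¹ (α (cm τ₂ x₀)))) = α (cm τ₂ x₀)
        have h3 : α⁻¹ (α (cm τ₂ x₀)) = cm τ₂ x₀ := by simp
        rw [h3, hfix t htT _ (hcm τ₂ hτ₂)]
    refine ⟨fun u hu => ?_, fun u _ => hall u, hall⟩
    have h1 : t (α⁻¹ u) = α⁻¹ u := by
      have h2 := ((hNmem u).mp hu).2
      have h3 : (α * t * α⁻¹) u = α (t (α⁻¹ u)) := rfl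
      rw [h3] at h2
      have h4 : α⁻¹ (α (t (α⁻¹ u))) = α⁻¹ u := congrArg (fun y => α⁻¹ y) h2
      have h5 : α⁻¹ (α (t (α⁻¹ u))) = t (α⁻¹ u) := by simp
      rw [h5] at h4
      exact h4
    show α (τ₂ (α⁻¹ u)) = u
    rw [hfix τ₂ hτ₂ _ (hfixT _ h1)]
    simp
  have hQp : IsPGroup p (closure ({τ₁, α * τ₂ * α⁻¹} : Set (MulAut E))) := by
    apply isPGroup_closure_of_stab3 hE N N le_rfl
    intro δ hδ
    rcases hδ with rfl | rfl
    · exact hs1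
    · exact hs2
  have hQA : closure ({τ₁, α * τ₂ * α⁻¹} : Set (MulAut E)) ≤ A := by
    rw [closure_le]
    intro δ hδ
    rcases hδ with rfl | rfl
    · exact hTA hτ₁
    · exact A.mul_mem (A.mul_mem hα (hTA hτ₂)) (A.inv_mem hα)
  obtain ⟨b, hbA, hb⟩ := hsyl _ hQA hQp
  have hb1 : b ∈ K := hext b hbA τ₁ hτ₁ hτ₁ne (hb τ₁ (subset_closure (Set.mem_insert _ _)))
  have hb2 : b * α ∈ K := by
    apply hext (b * α) (A.mul_mem hbA hα) τ₂ hτ₂ hτ₂ne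
    have h1 := hb (α * τ₂ * α⁻¹) (subset_closure (Set.mem_insert_of_mem _ rfl))
    have h2 : b * α * τ₂ * (b * α)⁻¹ = b * (α * τ₂ * α⁻¹) * b⁻¹ := by group
    rw [h2]; exact h1
  have h3 : α = b⁻¹ * (b * α) := by group
  rw [h3]
  exact K.mul_mem (K.inv_mem hb1) hb2

/-- `(a k)⁻¹ g (a k) g⁻¹ = k⁻¹ g k g⁻¹` when `a` commutes with `g`. -/
theorem comm_reduce {a k g : E} (hcomm : a * g = g * a) :
    (a * k)⁻¹ * g * (a * k) * g⁻¹ = k⁻¹ * g * k * g⁻¹ := by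
  calc (a * k)⁻¹ * g * (a * k) * g⁻¹ = k⁻¹ * a⁻¹ * (g * a) * k * g⁻¹ := by group
    _ = k⁻¹ * a⁻¹ * (a * g) * k * g⁻¹ := by rw [hcomm]
    _ = k⁻¹ * g * k * g⁻¹ := by group

/-- If `C_A(x)` has order at most `p`, the commutator map `m ↦ m⁻¹ x m x⁻¹` on a subgroup `M` of the
abelian group `A` normalized by `x` has fibres of order at most `p`. -/
theorem card_le_mul_of_comm {A M N Z : Subgroup E} [Finite M] [Finite N] [Finite Z] {x : E} {p : ℕ}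
    (hA : ∀ a ∈ A, ∀ b ∈ A, a * b = b * a) (hx : ∀ a ∈ A, x * a * x⁻¹ ∈ A) (hMA : M ≤ A)
    (hMN : ∀ m ∈ M, m⁻¹ * x * m * x⁻¹ ∈ N) (hZ : ∀ a ∈ A, x * a = a * x → a ∈ Z)
    (hcard : Nat.card Z ≤ p) : Nat.card M ≤ p * Nat.card N := by
  let f : M →* N :=
    { toFun := fun m => ⟨(m : E)⁻¹ * x * m * x⁻¹, hMN m m.2⟩
      map_one' := by
        apply Subtype.ext
        simp
      map_mul' := by
        intro m m'
        apply Subtype.ext
        show ((m * m' : M) : E)⁻¹ * x * ((m * m' : M) : E) * x⁻¹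
          = ((m : E)⁻¹ * x * m * x⁻¹) * ((m' : E)⁻¹ * x * m' * x⁻¹)
        rw [Subgroup.coe_mul]
        have h1 : (m : E)⁻¹ * (x * m * x⁻¹) ∈ A :=
          A.mul_mem (A.inv_mem (hMA m.2)) (hx _ (hMA m.2))
        have h2 := hA _ (A.inv_mem (hMA m'.2)) _ h1
        calc ((m : E) * m')⁻¹ * x * (m * m') * x⁻¹
            = (m' : E)⁻¹ * ((m : E)⁻¹ * (x * m * x⁻¹)) * (x * m' * x⁻¹) := by group
          _ = ((m : E)⁻¹ * (x * m * x⁻¹)) * (m' : E)⁻¹ * (x * m' * x⁻¹) := by rw [h2]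
          _ = _ := by group }
  have h1 := Subgroup.card_mul_index f.ker
  rw [Subgroup.index_ker] at h1
  have h2 : Nat.card f.range ≤ Nat.card N := Subgroup.card_le_card_group _
  have hker : ∀ m : f.ker, ((m : M) : E) ∈ Z := by
    intro m
    apply hZ _ (hMA (m : M).2)
    have h3 : f (m : M) = 1 := MonoidHom.mem_ker.mp m.2
    have h4 : ((m : M) : E)⁻¹ * x * (m : M) * x⁻¹ = 1 := congrArg Subtype.val h3
    calc x * ((m : M) : E) = ((m : M) : E) * (((m : M) : E)⁻¹ * x * (m : M) * x⁻¹) * x := by group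
      _ = ((m : M) : E) * x := by rw [h4, mul_one]
  have h3 : Nat.card f.ker ≤ Nat.card Z := by
    apply Nat.card_le_card_of_injective (fun m : f.ker => (⟨((m : M) : E), hker m⟩ : Z))
    intro m m' h
    apply Subtype.ext
    apply Subtype.ext
    exact congrArg (fun z : Z => (z : E)) h
  calc Nat.card M = Nat.card f.ker * Nat.card f.range := h1.symm
    _ ≤ p * Nat.card N := Nat.mul_le_mul (h3.trans hcard) h2

end TransvSyl

end Cfsg.Agent.Lib.helper89
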