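import Cfsg.Agent.Lib.helper89.SmallCenterF
import Cfsg.Agent.Lib.helper89.TransvSyl

/-!
# Nonabelian `p`-groups with a unique abelian subgroup of index `p`: basic facts

`AIHyp p F A`: `F` is a saturated fusion system over the finite nonabelian `p`-group `S`, and `A` is
the unique abelian subgroup of index `p` of `S`, not `F`-essential. We collect the elementary
consequences: `A` is normal and self-centralizing, `Z(S) ≤ A`, `S = A⟨x⟩` for `x ∉ A`, an abelian
essential subgroup is `Z(S)⟨x⟩`, and automorphisms of nonabelian essential subgroups preserve `Z(S)`.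
-/

set_option autoImplicit false
set_option linter.unusedSectionVars false

namespace Cfsg.Agent.Lib.helper89

open Cfsg Cfsg.FusionSystem Subgroup

section Fusion

variable {Ω : Type*} [Group Ω] {S : Subgroup Ω}

/-- Standing hypotheses: `A` is the unique abelian subgroup of index `p` of the nonabelian
`p`-group `S`, and is not essential in the saturated fusion system `F`. -/
structure AIHyp (p : ℕ) (F : FusionSystem S) (A : Subgroup Ω) : Prop where
  pS : IsPGroup p S
  sat : F.IsSaturated p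
  AS : A ≤ S
  comm : ∀ u ∈ A, ∀ v ∈ A, u * v = v * u
  card : Nat.card S = p * Nat.card A
  uniq : ∀ B : Subgroup Ω, B ≤ S → (∀ u ∈ B, ∀ v ∈ B, u * v = v * u) →
    Nat.card S = p * Nat.card B → B = A
  nonab : ∃ u ∈ S, ∃ v ∈ S, u * v ≠ v * u
  notEss : ¬ F.IsEssential p A

theorem zc_isFullyNormalized (F : FusionSystem S) [Finite S] :
    F.IsFullyNormalized (centralizerIn S S) := by
  refine ⟨inf_le_left, fun Q _ => ?_⟩
  have h1 : normalizerIn S Q ≤ normalizerIn S (centralizerIn S S) := by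
    intro x hx
    exact Subgroup.mem_inf.mpr ⟨(Subgroup.mem_inf.mp hx).1,
      le_normalizer_zc (Subgroup.mem_inf.mp hx).1⟩
  have hfin : Finite ↥(normalizerIn S (centralizerIn S S)) := finite_of_le inf_le_left
  exact Nat.card_le_card_of_injective (inclusion h1) (inclusion_injective h1)

/-- An automorphism in `Aut_F(P)` preserving `Z(S) ≤ P` agrees on `Z(S)` with an element of
`Aut_F(S)`. -/
theorem exists_extension_of_zc [Finite S] {p : ℕ} [Fact p.Prime] (hS : IsPGroup p S)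
    (F : FusionSystem S) (hF : F.IsSaturated p) {P : Subgroup Ω} (hPS : P ≤ S)
    (hZP : centralizerIn S S ≤ P) {n : MulAut P} (hn : n ∈ F.autGroup P)
    (hinv : ∀ x : P, (x : Ω) ∈ centralizerIn S S → ((n x : P) : Ω) ∈ centralizerIn S S) :
    ∃ γ ∈ F.autGroup S, ∀ (x : P) (hxS : (x : Ω) ∈ S), (x : Ω) ∈ centralizerIn S S →
      ((γ ⟨x, hxS⟩ : S) : Ω) = n x := by
  have h1 : P.subtype.comp n.toMonoidHom ∈ F.Hom P := (mem_autGroup_iff F hPS n).mp hn
  have hφ := Cfsg.Agent.Lib.helper88.restrict_mem F hZP h1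
  obtain ⟨φ, hφdef⟩ : ∃ φ : centralizerIn S S →* Ω,
      φ = (P.subtype.comp n.toMonoidHom).comp (Subgroup.inclusion hZP) := ⟨_, rfl⟩
  rw [← hφdef] at hφ
  have hφapp : ∀ z : centralizerIn S S, φ z = ((n ⟨z, hZP z.2⟩ : P) : Ω) := by
    intro z
    rw [hφdef]
    rfl
  have hφZ : ∀ z : centralizerIn S S, φ z ∈ centralizerIn S S := by
    intro z
    rw [hφapp]
    exact hinv _ z.2
  obtain ⟨α, hα⟩ := exists_aut_of_mem F hφ hφZ
  have hφR : φ.range = centralizerIn S S := by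
    ext y
    constructor
    · rintro ⟨z, rfl⟩
      exact hφZ z
    · intro hy
      refine ⟨α⁻¹ ⟨y, hy⟩, ?_⟩
      rw [← hα]
      simp
  have hrec := (Cfsg.Agent.Lib.helper88.fullyAutomized_receptive_of_fullyNormalized hS F hF
    (zc_isFullyNormalized F)).2
  have hN : ∀ g ∈ S, g ∈ S ∧ g ∈ Subgroup.normalizer ((centralizerIn S S : Subgroup Ω) : Set Ω) ∧
      ∃ h ∈ S, ∀ (x : centralizerIn S S) (hx : g * (x : Ω) * g⁻¹ ∈ centralizerIn S S),
        φ ⟨g * x * g⁻¹, hx⟩ = h * φ x * h⁻¹ := by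
    intro g hg
    refine ⟨hg, le_normalizer_zc hg, 1, S.one_mem, fun x hx => ?_⟩
    have h2 : (⟨g * x * g⁻¹, hx⟩ : centralizerIn S S) = x := by
      apply Subtype.ext
      show g * (x : Ω) * g⁻¹ = x
      rw [(mem_zc_iff.mp x.2).2 g hg]
      group
    rw [h2]
    simp
  obtain ⟨ψ, hψ, hψext⟩ := exists_extension F hrec hφ hφR S hN
  obtain ⟨γ, hγ⟩ := exists_aut_of_mem F hψ (fun x => (F.le_of_mem hψ).2 x)
  refine ⟨γ, ?_, fun x hxS hxZ => ?_⟩
  · rw [mem_autGroup_iff F le_rfl]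
    have h5 : S.subtype.comp γ.toMonoidHom = ψ := by
      ext x
      exact hγ x
    rw [h5]
    exact hψ
  · rw [hγ, hψext x hxZ hxS, hφapp]

/-- Some power, prime to `p`, of every `F`-automorphism of `S` is inner. -/
theorem exists_coprime_pow_inner' [Finite S] {p : ℕ} [Fact p.Prime] (hS : IsPGroup p S)
    (F : FusionSystem S) (hF : F.IsSaturated p) :
    ∃ m : ℕ, m.Coprime p ∧ ∀ γ ∈ F.autGroup S, ∃ g ∈ S,
      ∀ x : S, (((γ ^ m) x : S) : Ω) = g * x * g⁻¹ := by
  have hfa := (Cfsg.Agent.Lib.helper88.fullyAutomized_receptive_of_fullyNormalized hS F hF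
    (isFullyNormalized_self F)).1
  obtain ⟨-, R, hR⟩ := hfa
  have hN : (R : Subgroup (F.autGroup S)).Normal := by
    rw [hR]
    constructor
    intro n hn g
    rw [mem_subgroupOf] at hn ⊢
    obtain ⟨h, hh, hnh⟩ := (mem_autInducedBy_iff S S _).mp hn
    refine (mem_autInducedBy_iff S S _).mpr
      ⟨((g : MulAut S) ⟨h, hh⟩ : S), ((g : MulAut S) ⟨h, hh⟩).2, fun x => ?_⟩
    have h1 : ((g * n * g⁻¹ : F.autGroup S) : MulAut S) x
        = (g : MulAut S) ((n : MulAut S) ((g : MulAut S)⁻¹ x)) := rfl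
    have h2 : (n : MulAut S) ((g : MulAut S)⁻¹ x)
        = ⟨h, hh⟩ * ((g : MulAut S)⁻¹ x) * (⟨h, hh⟩ : S)⁻¹ := Subtype.ext (hnh _)
    rw [h1, h2, map_mul, map_mul, map_inv]
    simp
  have hfin : Finite (F.autGroup S) := inferInstance
  refine ⟨(R : Subgroup (F.autGroup S)).index, ?_, ?_⟩
  · have h1 := Sylow.not_dvd_index R
    exact ((Nat.Prime.coprime_iff_not_dvd Fact.out).mpr h1).symm
  · intro γ hγ
    have h1 := Subgroup.pow_index_mem (R : Subgroup (F.autGroup S)) (⟨γ, hγ⟩ : F.autGroup S)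
    have h2 : ((⟨γ, hγ⟩ : F.autGroup S) ^ (R : Subgroup (F.autGroup S)).index)
        ∈ (autInducedBy S S).subgroupOf (F.autGroup S) := by rw [← hR]; exact h1
    rw [mem_subgroupOf] at h2
    obtain ⟨g, hg, hgx⟩ := (mem_autInducedBy_iff S S _).mp h2
    exact ⟨g, hg, fun x => hgx x⟩

/-- `Aut_S(E)` is not normal in `Aut_F(E)` for an essential `E` carrying transvection data. -/
theorem exists_not_normal' [Finite S] {p : ℕ} [Fact p.Prime] (hS : IsPGroup p S)
    (F : FusionSystem S) (hF : F.IsSaturated p) {E : Subgroup Ω} (hE : F.IsEssential p E)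
    {t : MulAut E} {d₀ : E} (hT : TransvData p (F.autGroup E) t d₀) :
    ∃ a ∈ F.autGroup E, a * t * a⁻¹ ∉ zpowers t := by
  by_contra hcon
  push Not at hcon
  have hES : E ≤ S := hE.1.1
  have hfinE : Finite E := finite_of_le hES
  have hrad := Cfsg.Agent.S5080.result p hS F hF E hE
  have hD : zpowers t ≤ Inn E := by
    refine Cfsg.Agent.Lib.helper86.le_inn_of_radical F hrad (zpowers t) (zpowers_le.mpr hT.tA) ?_ ?_
    · intro a ha d hd
      obtain ⟨i, rfl⟩ := mem_zpowers_iff.mp hd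
      rw [← conj_zpow]
      exact zpow_mem (hcon a ha) i
    · have h1 : Nat.card (zpowers t) = p := by simpa using hT.card_zpowers_conj 1
      exact IsPGroup.of_card (n := 1) (by rw [h1, pow_one])
  obtain ⟨e, he⟩ := hD (mem_zpowers t)
  have h1 : t = 1 := by
    rw [← he]
    ext x
    have h2 : (MulAut.conj e) x = e * x * e⁻¹ := rfl
    rw [h2, hT.comm e x, mul_inv_cancel_right]
    rfl
  have h3 := hT.conj_ne_one 1
  simp only [one_mul, inv_one, mul_one] at h3
  exact h3 h1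

/-- `essCore` is the common fixed-point subgroup of the conjugates of a transvection whose fixed
points are exactly `Z(S)`. -/
theorem mem_essCore_iff_Ccore' {F : FusionSystem S} {E : Subgroup Ω} {t : MulAut E}
    (hfix : ∀ y : E, t y = y ↔ (y : Ω) ∈ centralizerIn S S) (y : E) :
    (y : Ω) ∈ essCore F E ↔ y ∈ Ccore (F.autGroup E) t := by
  rw [mem_essCore_iff, mem_Ccore]
  constructor
  · intro h b hb
    have h1 := (hfix (b⁻¹ y)).mpr (h b⁻¹ (inv_mem hb))
    show b (t (b⁻¹ y)) = y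
    rw [h1]
    simp
  · intro h b hb
    have h1 := h b⁻¹ (inv_mem hb)
    have h2 : t (b y) = b y := by
      have h3 : (b⁻¹ * t * b⁻¹⁻¹) y = b⁻¹ (t (b y)) := by
        rw [inv_inv]; rfl
      rw [h3] at h1
      have h4 := congrArg b h1
      simpa using h4
    exact (hfix (b y)).mp h2

namespace AIHyp

variable [Finite S] {p : ℕ} [Fact p.Prime] {F : FusionSystem S} {A : Subgroup Ω}

theorem A_ne (H : AIHyp p F A) : A ≠ S := by
  intro h
  obtain ⟨u, hu, v, hv, huv⟩ := H.nonab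
  rw [← h] at hu hv
  exact huv (H.comm u hu v hv)

theorem normal (H : AIHyp p F A) : S ≤ Subgroup.normalizer (A : Set Ω) := by
  have hlt : A < S := lt_of_le_of_ne H.AS H.A_ne
  have h1 := lt_normalizerIn H.pS hlt
  have h2 : normalizerIn S A = S :=
    eq_of_card_prime_mul h1.le inf_le_left H.card (ne_of_gt h1)
  intro x hx
  have h3 : x ∈ normalizerIn S A := by rw [h2]; exact hx
  exact (Subgroup.mem_inf.mp h3).2

theorem conj_mem (H : AIHyp p F A) {g a : Ω} (hg : g ∈ S) (ha : a ∈ A) : g * a * g⁻¹ ∈ A :=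
  (Subgroup.mem_normalizer_iff.mp (H.normal hg) a).mp ha

theorem conj_mem' (H : AIHyp p F A) {g a : Ω} (hg : g ∈ S) (ha : a ∈ A) : g⁻¹ * a * g ∈ A := by
  have h1 := H.conj_mem (S.inv_mem hg) ha
  rwa [inv_inv] at h1

/-- An element of `S` centralizing `A` and some element outside `A` is central. -/
theorem mem_zc_of_commute (H : AIHyp p F A) {u x : Ω} (hu : u ∈ S)
    (huA : ∀ a ∈ A, a * u = u * a) (hx : x ∈ S) (hxA : x ∉ A) (hxu : x * u = u * x) :
    u ∈ centralizerIn S S := by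
  have hM : S ⊓ Subgroup.centralizer ({u} : Set Ω) = S := by
    apply eq_of_card_prime_mul (H := A) (le_inf H.AS ?_) inf_le_left H.card ?_
    · intro a ha
      rw [Subgroup.mem_centralizer_iff]
      intro h hh
      rw [Set.mem_singleton_iff] at hh
      rw [hh]
      exact (huA a ha).symm
    · intro h2
      apply hxA
      rw [← h2]
      refine Subgroup.mem_inf.mpr ⟨hx, Subgroup.mem_centralizer_iff.mpr ?_⟩
      intro h hh
      rw [Set.mem_singleton_iff] at hh
      rw [hh]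
      exact hxu.symm
  refine mem_zc_iff.mpr ⟨hu, fun g hg => ?_⟩
  have hg' : g ∈ S ⊓ Subgroup.centralizer ({u} : Set Ω) := by rw [hM]; exact hg
  exact ((Subgroup.mem_centralizer_iff.mp (Subgroup.mem_inf.mp hg').2) u rfl).symm

theorem zc_le (H : AIHyp p F A) : centralizerIn S S ≤ A := by
  intro z hz
  by_contra hzA
  obtain ⟨hzS, hzc⟩ := mem_zc_iff.mp hz
  have hM : S ⊓ Subgroup.centralizer (A : Set Ω) = S := by
    apply eq_of_card_prime_mul (H := A) (le_inf H.AS ?_) inf_le_left H.card ?_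
    · intro a ha
      rw [Subgroup.mem_centralizer_iff]
      intro h hh
      exact H.comm h hh a ha
    · intro h2
      apply hzA
      rw [← h2]
      refine Subgroup.mem_inf.mpr ⟨hzS, Subgroup.mem_centralizer_iff.mpr ?_⟩
      intro h hh
      exact hzc h (H.AS hh)
  have hall : ∀ u ∈ S, u ∈ centralizerIn S S := by
    intro u hu
    have hu' : u ∈ S ⊓ Subgroup.centralizer (A : Set Ω) := by rw [hM]; exact hu
    have huA : ∀ a ∈ A, a * u = u * a := fun a ha =>
      (Subgroup.mem_centralizer_iff.mp (Subgroup.mem_inf.mp hu').2) a ha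
    exact H.mem_zc_of_commute hu huA hzS hzA (hzc u hu).symm
  obtain ⟨u, hu, v, hv, huv⟩ := H.nonab
  exact huv ((mem_zc_iff.mp (hall v hv)).2 u hu)

theorem self_centralizing (H : AIHyp p F A) {u : Ω} (hu : u ∈ S)
    (huA : ∀ a ∈ A, a * u = u * a) : u ∈ A := by
  by_contra hne
  exact hne (H.zc_le (H.mem_zc_of_commute hu huA hu hne rfl))

theorem exists_dec (H : AIHyp p F A) {x : Ω} (hx : x ∈ S) (hxA : x ∉ A) {g : Ω} (hg : g ∈ S) :
    ∃ a ∈ A, ∃ k ∈ zpowers x, g = a * k := by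
  have h1 : A ⊔ zpowers x = S := by
    apply eq_of_card_prime_mul (H := A) le_sup_left (sup_le H.AS (zpowers_le.mpr hx)) H.card
    intro h2
    apply hxA
    rw [← h2]
    exact mem_sup_right (mem_zpowers x)
  apply mem_sup_of_normalizes (H := A) (K := zpowers x)
  · intro k hk h hh
    exact H.conj_mem (zpowers_le.mpr hx hk) hh
  · rw [h1]; exact hg

theorem pow_mem (H : AIHyp p F A) {g : Ω} (hg : g ∈ S) : g ^ p ∈ A :=
  pow_mem_of_card_prime_mul H.AS H.normal H.card hg

theorem comm_mem (H : AIHyp p F A) {u v : Ω} (hu : u ∈ S) (hv : v ∈ S) :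
    u * v * u⁻¹ * v⁻¹ ∈ A := by
  have hN : (A.subgroupOf S).Normal := (normal_subgroupOf_iff_le_normalizer H.AS).mpr H.normal
  have hfinA : Finite A := finite_of_le H.AS
  have h2 : Nat.card (A.subgroupOf S) = Nat.card A := by
    rw [← Subgroup.card_subtype S (A.subgroupOf S), Subgroup.map_subgroupOf_eq_of_le H.AS]
  have hq : Nat.card (↥S ⧸ A.subgroupOf S) = p := by
    rw [← Subgroup.index_eq_card]
    have h1 := Subgroup.card_mul_index (A.subgroupOf S)
    rw [h2, H.card, mul_comm p] at h1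
    exact Nat.eq_of_mul_eq_mul_left Nat.card_pos h1
  have hcyc : IsCyclic (↥S ⧸ A.subgroupOf S) := isCyclic_of_prime_card hq
  have hcomm' : ∀ a b : ↥S ⧸ A.subgroupOf S, a * b * a⁻¹ * b⁻¹ = 1 := by
    intro a b
    obtain ⟨g, hg⟩ := hcyc.exists_generator
    obtain ⟨i, rfl⟩ := mem_zpowers_iff.mp (hg a)
    obtain ⟨j, rfl⟩ := mem_zpowers_iff.mp (hg b)
    rw [(Commute.zpow_zpow_self g i j).eq]
    group
  have h3 : (((⟨u, hu⟩ : S) * ⟨v, hv⟩ * (⟨u, hu⟩ : S)⁻¹ * (⟨v, hv⟩ : S)⁻¹ : S) :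
      ↥S ⧸ A.subgroupOf S) = 1 := by
    rw [QuotientGroup.mk_mul, QuotientGroup.mk_mul, QuotientGroup.mk_mul, QuotientGroup.mk_inv,
      QuotientGroup.mk_inv]
    exact hcomm' _ _
  have h4 := (QuotientGroup.eq_one_iff _).mp h3
  exact mem_subgroupOf.mp h4

/-- Every automorphism of `S` preserves `A`. -/
theorem aut_A (H : AIHyp p F A) (γ : MulAut S) (x : S) (hx : (x : Ω) ∈ A) :
    ((γ x : S) : Ω) ∈ A := by
  obtain ⟨B, hB⟩ : ∃ B : Subgroup Ω,
      B = ((A.subgroupOf S).map γ.toMonoidHom).map S.subtype := ⟨_, rfl⟩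
  have hBS : B ≤ S := by
    rw [hB]
    rintro _ ⟨y, -, rfl⟩
    exact y.2
  have hBc : ∀ u ∈ B, ∀ v ∈ B, u * v = v * u := by
    rw [hB]
    rintro _ ⟨_, ⟨a, ha, rfl⟩, rfl⟩ _ ⟨_, ⟨b, hb, rfl⟩, rfl⟩
    have h1 : a * b = b * a :=
      Subtype.ext (H.comm a (mem_subgroupOf.mp ha) b (mem_subgroupOf.mp hb))
    have h2 := congrArg (fun y => ((γ y : S) : Ω)) h1
    simpa using h2
  have hfinA : Finite A := finite_of_le H.AS
  have hcard : Nat.card B = Nat.card A := by
    rw [hB, Subgroup.card_subtype, Subgroup.card_map_of_injective γ.injective,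
      ← Subgroup.card_subtype S (A.subgroupOf S), Subgroup.map_subgroupOf_eq_of_le H.AS]
  have hBA : B = A := H.uniq B hBS hBc (by rw [hcard]; exact H.card)
  rw [← hBA, hB]
  exact ⟨γ x, ⟨x, mem_subgroupOf.mpr hx, rfl⟩, rfl⟩

theorem zc_le_ess (_H : AIHyp p F A) {P : Subgroup Ω} (hP : F.IsEssential p P) :
    centralizerIn S S ≤ P := by
  have hPS : P ≤ S := hP.1.1
  intro x hx
  obtain ⟨hxS, hxc⟩ := Subgroup.mem_inf.mp hx
  apply hP.1.2 P (Cfsg.Agent.Lib.helper88.isConj_refl F hPS)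
  exact Subgroup.mem_inf.mpr ⟨hxS, Subgroup.centralizer_le (SetLike.coe_subset_coe.mpr hPS) hxc⟩

theorem exists_not_mem (H : AIHyp p F A) {P : Subgroup Ω} (hP : F.IsEssential p P) :
    ∃ x ∈ P, x ∉ A := by
  by_contra hcon
  push Not at hcon
  have hPS : P ≤ S := hP.1.1
  have hAP : A ≤ P := by
    intro a ha
    apply hP.1.2 P (Cfsg.Agent.Lib.helper88.isConj_refl F hPS)
    refine Subgroup.mem_inf.mpr ⟨H.AS ha, Subgroup.mem_centralizer_iff.mpr ?_⟩
    intro h hh
    exact H.comm h (hcon h hh) a ha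
  have hPA : P = A := le_antisymm (fun x hx => hcon x hx) hAP
  rw [hPA] at hP
  exact H.notEss hP

/-- For an abelian essential subgroup `P`, `P ∩ A ≤ Z(S)`. -/
theorem ess_inf (H : AIHyp p F A) {P : Subgroup Ω} (hP : F.IsEssential p P)
    (hab : ∀ u ∈ P, ∀ v ∈ P, u * v = v * u) {u : Ω} (hu : u ∈ P) (huA : u ∈ A) :
    u ∈ centralizerIn S S := by
  obtain ⟨x, hxP, hxA⟩ := H.exists_not_mem hP
  exact H.mem_zc_of_commute (hP.1.1 hu) (fun a ha => H.comm a ha u huA) (hP.1.1 hxP) hxA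
    (hab x hxP u hu)

/-- An abelian essential subgroup is `Z(S)⟨x⟩`. -/
theorem ess_eq (H : AIHyp p F A) {P : Subgroup Ω} (hP : F.IsEssential p P)
    (hab : ∀ u ∈ P, ∀ v ∈ P, u * v = v * u) {x : Ω} (hxP : x ∈ P) (hxA : x ∉ A) :
    P = centralizerIn S S ⊔ zpowers x := by
  have hPS : P ≤ S := hP.1.1
  apply le_antisymm
  · intro u hu
    obtain ⟨a, ha, k, hk, rfl⟩ := H.exists_dec (hPS hxP) hxA (hPS hu)
    have hkP : k ∈ P := zpowers_le.mpr hxP hk
    have haP : a ∈ P := by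
      have h1 : a = a * k * k⁻¹ := by group
      rw [h1]; exact P.mul_mem hu (P.inv_mem hkP)
    exact mul_mem (mem_sup_left (H.ess_inf hP hab haP ha)) (mem_sup_right hk)
  · exact sup_le (H.zc_le_ess hP) (zpowers_le.mpr hxP)

/-- In a nonabelian essential subgroup `P`, the centre of `P` is `Z(S)`. -/
theorem mem_zc_of_central_ess (H : AIHyp p F A) {P : Subgroup Ω} (hP : F.IsEssential p P)
    (hnab : ¬ ∀ u ∈ P, ∀ v ∈ P, u * v = v * u) {w : Ω} (hw : w ∈ P)
    (hwc : ∀ v ∈ P, w * v = v * w) : w ∈ centralizerIn S S := by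
  have hPS : P ≤ S := hP.1.1
  obtain ⟨x, hxP, hxA⟩ := H.exists_not_mem hP
  by_cases hwA : w ∈ A
  · exact H.mem_zc_of_commute (hPS hw) (fun a ha => H.comm a ha w hwA) (hPS hxP) hxA
      (hwc x hxP).symm
  · exfalso
    apply hnab
    have key : ∀ u ∈ P, ∃ a ∈ centralizerIn S S, ∃ i : ℤ, u = a * w ^ i := by
      intro u hu
      obtain ⟨a, ha, k, hk, rfl⟩ := H.exists_dec (hPS hw) hwA (hPS hu)
      have hkP : k ∈ P := zpowers_le.mpr hw hk
      have haP : a ∈ P := by
        have h1 : a = a * k * k⁻¹ := by group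
        rw [h1]; exact P.mul_mem hu (P.inv_mem hkP)
      obtain ⟨i, rfl⟩ := mem_zpowers_iff.mp hk
      refine ⟨a, ?_, i, rfl⟩
      exact H.mem_zc_of_commute (hPS haP) (fun b hb => H.comm b hb a ha) (hPS hw) hwA
        (hwc a haP)
    intro u hu v hv
    obtain ⟨a, ha, i, rfl⟩ := key u hu
    obtain ⟨b, hb, j, rfl⟩ := key v hv
    have hac := (mem_zc_iff.mp ha).2
    have hbc := (mem_zc_iff.mp hb).2
    have hbS := (mem_zc_iff.mp hb).1
    have hwi : w ^ i ∈ S := S.zpow_mem (hPS hw) i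
    have hwj : w ^ j ∈ S := S.zpow_mem (hPS hw) j
    have hk := (Commute.zpow_zpow_self w i j).eq
    calc a * w ^ i * (b * w ^ j) = a * (w ^ i * b) * w ^ j := by simp only [mul_assoc]
      _ = a * (b * w ^ i) * w ^ j := by rw [hbc _ hwi]
      _ = a * b * (w ^ i * w ^ j) := by simp only [mul_assoc]
      _ = a * b * (w ^ j * w ^ i) := by rw [hk]
      _ = b * a * (w ^ j * w ^ i) := by rw [hac b hbS]
      _ = b * (a * w ^ j) * w ^ i := by simp only [mul_assoc]
      _ = b * (w ^ j * a) * w ^ i := by rw [hac _ hwj]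
      _ = b * w ^ j * (a * w ^ i) := by simp only [mul_assoc]

/-- Automorphisms of a nonabelian essential subgroup preserve `Z(S)`. -/
theorem ess_aut_zc (H : AIHyp p F A) {P : Subgroup Ω} (hP : F.IsEssential p P)
    (hnab : ¬ ∀ u ∈ P, ∀ v ∈ P, u * v = v * u) (α : MulAut P) (u : P)
    (hu : (u : Ω) ∈ centralizerIn S S) : ((α u : P) : Ω) ∈ centralizerIn S S := by
  have hPS : P ≤ S := hP.1.1
  apply H.mem_zc_of_central_ess hP hnab (α u).2
  intro v hv
  have huc := (mem_zc_iff.mp hu).2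
  have h1 : α.symm ⟨v, hv⟩ * u = u * α.symm ⟨v, hv⟩ :=
    Subtype.ext (huc _ (hPS (α.symm ⟨v, hv⟩).2))
  have h2 := congrArg (fun y => ((α y : P) : Ω)) h1
  have h3 : v * ((α u : P) : Ω) = ((α u : P) : Ω) * v := by simpa using h2
  exact h3.symm

end AIHyp

end Fusion

end Cfsg.Agent.Lib.helper89
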