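import Cfsg.Agent.Lib.helper89.AbIdxA

/-!
# Unique abelian subgroup of index `p`: abelian essential subgroups

For an abelian essential subgroup `P = Z(S)⟨x⟩` we show `|Aut_S(P)| = p` (via `transv_sylow_le`),
produce the transvection data, identify the canonical subgroup `zcomm S A = [A ∩ Z₂(S), S]` with
`[P, Aut_S(P)]`, and collect the facts used by the global argument (`AbFacts`).
-/

set_option autoImplicit false
set_option linter.unusedSectionVars false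

namespace Cfsg.Agent.Lib.helper89

open Cfsg Cfsg.FusionSystem Subgroup

section Fusion

variable {Ω : Type*} [Group Ω] {S : Subgroup Ω}

/-- The subgroup `[A ∩ Z₂(S), S]`. -/
def zcomm (S A : Subgroup Ω) : Subgroup Ω :=
  closure {w | ∃ g ∈ A, ∃ h ∈ S, w = h⁻¹ * g * h * g⁻¹ ∧
    ∀ h' ∈ S, h'⁻¹ * g * h' * g⁻¹ ∈ centralizerIn S S}

theorem zcomm_invariant {A : Subgroup Ω} (hAS : A ≤ S)
    (hA : ∀ (γ : MulAut S) (x : S), (x : Ω) ∈ A → ((γ x : S) : Ω) ∈ A)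
    (γ : MulAut S) (x : S) (hx : (x : Ω) ∈ zcomm S A) : ((γ x : S) : Ω) ∈ zcomm S A := by
  have hle : zcomm S A ≤ (((zcomm S A).subgroupOf S).comap γ.toMonoidHom).map S.subtype := by
    unfold zcomm
    rw [closure_le]
    rintro _ ⟨g, hg, h, hh, rfl, hZ⟩
    refine ⟨(⟨h, hh⟩ : S)⁻¹ * ⟨g, hAS hg⟩ * ⟨h, hh⟩ * (⟨g, hAS hg⟩ : S)⁻¹, ?_, rfl⟩
    show γ ((⟨h, hh⟩ : S)⁻¹ * ⟨g, hAS hg⟩ * ⟨h, hh⟩ * (⟨g, hAS hg⟩ : S)⁻¹)
      ∈ (Subgroup.closure _).subgroupOf S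
    rw [map_mul, map_mul, map_mul, map_inv, map_inv, mem_subgroupOf]
    refine subset_closure ⟨_, hA γ ⟨g, hAS hg⟩ hg, _, (γ ⟨h, hh⟩).2, rfl, ?_⟩
    intro h' hh'
    have h1 := hZ _ (γ⁻¹ ⟨h', hh'⟩).2
    have h2 := aut_zc γ
      ((γ⁻¹ ⟨h', hh'⟩)⁻¹ * ⟨g, hAS hg⟩ * (γ⁻¹ ⟨h', hh'⟩) * (⟨g, hAS hg⟩ : S)⁻¹) h1
    rw [map_mul, map_mul, map_mul, map_inv, map_inv] at h2
    have h3 : γ (γ⁻¹ ⟨h', hh'⟩) = ⟨h', hh'⟩ := by simp
    rw [h3] at h2
    exact h2
  obtain ⟨y, hy, hyx⟩ := hle hx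
  have hyx' : y = x := Subtype.ext hyx
  rw [← hyx']
  exact hy

/-- The facts about an abelian essential subgroup `P` used by the global argument; `D` is the
canonical subgroup `zcomm S A`. -/
structure AbFacts (p : ℕ) (F : FusionSystem S) (P D : Subgroup Ω) : Prop where
  ess : F.IsEssential p P
  dec : ∀ z ∈ centralizerIn S S, ∃ d ∈ D, ∃ c ∈ essCore F P, z = d * c
  torus : ∃ η ∈ F.autGroup S, (∀ c : S, (c : Ω) ∈ essCore F P → η c = c) ∧
      ∀ d : S, (d : Ω) ∈ D → η d = d ^ ((p + 1) / 2)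
  gen : ∃ x ∈ S, ∃ s ∈ S, D = zpowers (x⁻¹ * s * x * s⁻¹) ∧ (x⁻¹ * s * x * s⁻¹) ^ p = 1
  D_zc : D ≤ centralizerIn S S

namespace AIHyp

variable [Finite S] {p : ℕ} [Fact p.Prime] {F : FusionSystem S} {A : Subgroup Ω}

theorem exists_s (H : AIHyp p F A) {P : Subgroup Ω} (hP : F.IsEssential p P) {x : Ω}
    (hxP : x ∈ P) (hxA : x ∉ A) :
    ∃ s ∈ A, s ∈ Subgroup.normalizer (P : Set Ω) ∧ s ∉ P := by
  have hPS : P ≤ S := hP.1.1
  have hlt := Cfsg.Agent.Lib.helper86.essential_lt H.pS F H.sat hP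
  obtain ⟨g, hgN, hgP⟩ := exists_mem_normalizerIn_not_mem H.pS hlt
  obtain ⟨hgS, hgN'⟩ := Subgroup.mem_inf.mp hgN
  obtain ⟨a, ha, k, hk, rfl⟩ := H.exists_dec (hPS hxP) hxA hgS
  have hkP : k ∈ P := zpowers_le.mpr hxP hk
  refine ⟨a, ha, ?_, ?_⟩
  · have h1 : a = a * k * k⁻¹ := by group
    rw [h1]
    exact Subgroup.mul_mem _ hgN' (Subgroup.inv_mem _ (Subgroup.le_normalizer hkP))
  · intro haP
    exact hgP (P.mul_mem haP hkP)

/-- The transvection data of an abelian essential subgroup. -/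
theorem exists_abData (H : AIHyp p F A) {P : Subgroup Ω} (hP : F.IsEssential p P)
    (hab : ∀ u ∈ P, ∀ v ∈ P, u * v = v * u) :
    ∃ (s : Ω) (hsN : s ∈ Subgroup.normalizer (P : Set Ω)) (d₀ : P) (x : Ω),
      s ∈ A ∧ s ∉ P ∧ x ∈ P ∧ x ∉ A ∧
      TransvData p (F.autGroup P) (Cfsg.Agent.Lib.helper88.conjAut P s hsN) d₀ ∧
      (∀ u : P, Cfsg.Agent.Lib.helper88.conjAut P s hsN u = u ↔ (u : Ω) ∈ centralizerIn S S) ∧
      (d₀ : Ω) = x⁻¹ * s * x * s⁻¹ ∧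
      autInducedBy S P ≤ zpowers (Cfsg.Agent.Lib.helper88.conjAut P s hsN) ∧
      (∀ u : P, ((cm (Cfsg.Agent.Lib.helper88.conjAut P s hsN) u : P) : Ω)
        ∈ centralizerIn S S) := by
  have hPS : P ≤ S := hP.1.1
  have hfinP : Finite P := finite_of_le hPS
  have hZP := H.zc_le_ess hP
  obtain ⟨x, hxP, hxA⟩ := H.exists_not_mem hP
  obtain ⟨s, hsA, hsN, hsP⟩ := H.exists_s hP hxP hxA
  have hsS : s ∈ S := H.AS hsA
  have hxS : x ∈ S := hPS hxP
  have hcE : ∀ u v : P, u * v = v * u := fun u v => Subtype.ext (hab u u.2 v v.2)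
  obtain ⟨t, ht⟩ : ∃ t, t = Cfsg.Agent.Lib.helper88.conjAut P s hsN := ⟨_, rfl⟩
  have htapp : ∀ u : P, ((t u : P) : Ω) = s * u * s⁻¹ := fun u => by
    rw [ht]; exact Cfsg.Agent.Lib.helper88.conjAut_apply P s hsN u
  have hfix : ∀ u : P, t u = u ↔ (u : Ω) ∈ centralizerIn S S := by
    intro u
    constructor
    · intro h
      have h1 : s * (u : Ω) * s⁻¹ = u := by
        have h0 := congrArg Subtype.val h
        rwa [htapp] at h0
      have h2 : (u : Ω) * s = s * u := by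
        calc (u : Ω) * s = (s * u * s⁻¹) * s := by rw [h1]
          _ = s * u := by group
      by_cases huA : (u : Ω) ∈ A
      · exact H.ess_inf hP hab u.2 huA
      · exfalso
        apply hsP
        apply hZP
        exact H.mem_zc_of_commute hsS (fun a ha => H.comm a ha s hsA) (hPS u.2) huA h2
    · intro hu
      apply Subtype.ext
      rw [htapp]
      have h1 := (mem_zc_iff.mp hu).2 s hsS
      rw [h1]; group
  have hcmA : ∀ u : P, ((cm t u : P) : Ω) = (u : Ω)⁻¹ * s * u * s⁻¹ := by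
    intro u
    unfold cm
    rw [Subgroup.coe_mul, Subgroup.coe_inv, htapp]; group
  have hcmZ : ∀ u : P, ((cm t u : P) : Ω) ∈ centralizerIn S S := by
    intro u
    apply H.ess_inf hP hab (cm t u).2
    rw [hcmA]
    exact A.mul_mem (H.conj_mem' (hPS u.2) hsA) (A.inv_mem hsA)
  obtain ⟨x₀, hx₀⟩ : ∃ x₀ : P, x₀ = ⟨x, hxP⟩ := ⟨_, rfl⟩
  have hx₀c : (x₀ : Ω) = x := by rw [hx₀]
  have hgen : ∀ u : P, ∃ z ∈ (centralizerIn S S).subgroupOf P, ∃ i : ℤ, u = z * x₀ ^ i := by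
    intro u
    obtain ⟨a, ha, k, hk, huak⟩ := H.exists_dec hxS hxA (hPS u.2)
    have hkP : k ∈ P := zpowers_le.mpr hxP hk
    have haP : a ∈ P := by
      have h1 : a = (u : Ω) * k⁻¹ := by rw [huak]; group
      rw [h1]; exact P.mul_mem u.2 (P.inv_mem hkP)
    obtain ⟨i, rfl⟩ := mem_zpowers_iff.mp hk
    refine ⟨⟨a, haP⟩, mem_subgroupOf.mpr (H.ess_inf hP hab haP ha), i, ?_⟩
    apply Subtype.ext
    rw [Subgroup.coe_mul, Subgroup.coe_zpow, hx₀c]
    exact huak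
  have hxpZ : x₀ ^ p ∈ (centralizerIn S S).subgroupOf P := by
    rw [mem_subgroupOf, Subgroup.coe_pow, hx₀c]
    exact H.ess_inf hP hab (P.pow_mem hxP p) (H.pow_mem hxS)
  have htT : t ∈ autInducedBy S P := by
    rw [ht]; exact Cfsg.Agent.Lib.helper88.conjAut_mem S P s hsN hsS
  have hx₀Z : (x₀ : Ω) ∉ centralizerIn S S := by
    rw [hx₀c]; exact fun h => hxA (H.zc_le h)
  have ht1 : t ≠ 1 := by
    intro h1
    apply hx₀Z
    apply (hfix x₀).mp
    rw [h1]; rfl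
  have hTfix : ∀ τ ∈ autInducedBy S P, ∀ z ∈ (centralizerIn S S).subgroupOf P, τ z = z := by
    intro τ hτ z hz
    obtain ⟨g, hg, hτg⟩ := (mem_autInducedBy_iff S P τ).mp hτ
    apply Subtype.ext
    rw [hτg]
    have h1 := (mem_zc_iff.mp (mem_subgroupOf.mp hz)).2 g hg
    rw [h1]; group
  have hTcm : ∀ τ ∈ autInducedBy S P, cm τ x₀ ∈ (centralizerIn S S).subgroupOf P := by
    intro τ hτ
    obtain ⟨g, hg, hτg⟩ := (mem_autInducedBy_iff S P τ).mp hτ
    rw [mem_subgroupOf]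
    apply H.ess_inf hP hab (cm τ x₀).2
    obtain ⟨a, ha, k, hk, rfl⟩ := H.exists_dec hxS hxA hg
    have h1 : ((cm τ x₀ : P) : Ω) = x⁻¹ * a * x * a⁻¹ := by
      unfold cm
      rw [Subgroup.coe_mul, Subgroup.coe_inv, hτg, hx₀c]
      obtain ⟨i, rfl⟩ := mem_zpowers_iff.mp hk
      have h2 : x ^ i * x * (x ^ i)⁻¹ = x := by
        rw [(Commute.zpow_self x i).eq, mul_inv_cancel_right]
      calc x⁻¹ * (a * x ^ i * x * (a * x ^ i)⁻¹)
          = x⁻¹ * a * (x ^ i * x * (x ^ i)⁻¹) * a⁻¹ := by simp only [mul_assoc, mul_inv_rev]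
        _ = x⁻¹ * a * x * a⁻¹ := by rw [h2]
    rw [h1]
    exact A.mul_mem (H.conj_mem' hxS ha) (A.inv_mem ha)
  have hfa_rec := Cfsg.Agent.Lib.helper88.fullyAutomized_receptive_of_fullyNormalized H.pS F
    H.sat hP.2.1
  have hle : autInducedBy S P ≤ zpowers t := by
    apply transv_sylow_le (H.pS.to_le hPS) hcE (F.autGroup P) (autInducedBy S P)
      (closure (Cfsg.Agent.Lib.helper86.extSet F P)) (autInducedBy_le_autGroup F hPS)
      ((centralizerIn S S).subgroupOf P) x₀ hTfix hTcm hgen hxpZ t htT ht1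
    · intro Q hQA hQp
      exact exists_conj_into_autS F hfa_rec.1 Q hQA hQp
    · intro β hβ τ hτ hτ1 hconj
      obtain ⟨w, hwS, hτw⟩ := (mem_autInducedBy_iff S P τ).mp hτ
      have hwN : w ∈ Subgroup.normalizer (P : Set Ω) := by
        rw [Subgroup.mem_normalizer_iff]
        intro h
        constructor
        · intro hh
          rw [← hτw ⟨h, hh⟩]
          exact (τ ⟨h, hh⟩).2
        · intro hh
          have h1 := hτw (τ⁻¹ ⟨w * h * w⁻¹, hh⟩)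
          have h2 : τ (τ⁻¹ ⟨w * h * w⁻¹, hh⟩) = ⟨w * h * w⁻¹, hh⟩ := by simp
          rw [h2] at h1
          have h3 : h = ((τ⁻¹ ⟨w * h * w⁻¹, hh⟩ : P) : Ω) := by
            have h4 : w * h * w⁻¹ = w * ((τ⁻¹ ⟨w * h * w⁻¹, hh⟩ : P) : Ω) * w⁻¹ := h1
            have e2 : ∀ y : Ω, w⁻¹ * (w * y * w⁻¹) * w = y := fun y => by group
            calc h = w⁻¹ * (w * h * w⁻¹) * w := (e2 h).symm
              _ = w⁻¹ * (w * ((τ⁻¹ ⟨w * h * w⁻¹, hh⟩ : P) : Ω) * w⁻¹) * w := by rw [← h4]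
              _ = _ := e2 _
          rw [h3]
          exact (τ⁻¹ ⟨w * h * w⁻¹, hh⟩).2
      have hwP : w ∉ P := by
        intro hwP
        apply hτ1
        apply MulEquiv.ext
        intro u
        apply Subtype.ext
        rw [hτw u]
        show w * (u : Ω) * w⁻¹ = u
        rw [hab w hwP u u.2, mul_inv_cancel_right]
      exact subset_closure
        (Cfsg.Agent.Lib.helper86.mem_extSet_of_conj F hfa_rec.2 hβ hwS hwN hwP hτw hconj)
    · intro hAK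
      obtain ⟨α, hα, hαK⟩ :=
        Cfsg.Agent.Lib.helper86.exists_not_mem_closure_extSet H.pS F H.sat hP
      exact hαK (hAK hα)
  obtain ⟨d₀, hd₀⟩ : ∃ d₀ : P, d₀ = cm t x₀ := ⟨_, rfl⟩
  have hcmu : ∀ (z : P), z ∈ (centralizerIn S S).subgroupOf P → ∀ i : ℤ,
      cm t (z * x₀ ^ i) = d₀ ^ i := by
    intro z hz i
    have h1 : cm t (z * x₀ ^ i) = cmHom' hcE t (z * x₀ ^ i) := rfl
    rw [h1, map_mul, map_zpow, cmHom'_apply, cmHom'_apply, ← hd₀]
    have h2 : cm t z = 1 := cm_eq_one_iff.mpr ((hfix z).mpr (mem_subgroupOf.mp hz))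
    rw [h2, one_mul]
  have hd₀ne : d₀ ≠ 1 := by
    intro h1
    apply hx₀Z
    apply (hfix x₀).mp
    apply cm_eq_one_iff.mp
    rw [← hd₀]; exact h1
  have hd₀pow : d₀ ^ p = 1 := by
    have h1 := hcmu 1 (Subgroup.one_mem _) (p : ℤ)
    rw [one_mul, zpow_natCast, zpow_natCast] at h1
    rw [← h1]
    exact cm_eq_one_iff.mpr ((hfix _).mpr (mem_subgroupOf.mp hxpZ))
  have htcm : ∀ u, cm t u ∈ zpowers d₀ := by
    intro u
    obtain ⟨z, hz, i, rfl⟩ := hgen u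
    rw [hcmu z hz i]
    exact zpow_mem_zpowers _ _
  have htd₀ : t d₀ = d₀ := by
    apply (hfix d₀).mpr
    rw [hd₀]; exact hcmZ x₀
  have htp : t ^ p = 1 := pow_eq_one_of_cm t d₀ p hd₀pow htd₀ htcm
  have hsyl : ∀ Q : Subgroup (MulAut P), Q ≤ F.autGroup P → IsPGroup p Q → Nat.card Q ≤ p := by
    intro Q hQA hQp
    have hle2 : autInducedBy S P ≤ F.autGroup P := autInducedBy_le_autGroup F hPS
    have h1 := (Cfsg.Agent.Lib.helper87.sylowIn_iff hle2).mp hfa_rec.1.2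
    have h2 := h1.2 Q hQA hQp
    have h3 : Nat.card (autInducedBy S P) ≤ Nat.card (zpowers t) :=
      Nat.card_le_card_of_injective (inclusion hle) (inclusion_injective hle)
    have h4 : Nat.card (zpowers t) ≤ p := by
      rw [Nat.card_zpowers]; exact orderOf_le_of_pow_eq_one (Fact.out : p.Prime).pos htp
    exact h2.trans (h3.trans h4)
  have hT : TransvData p (F.autGroup P) t d₀ :=
    ⟨hcE, H.pS.to_le hPS, autInducedBy_le_autGroup F hPS htT, hd₀ne, hd₀pow, htd₀, htcm,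
      ⟨x₀, hd₀.symm⟩, hsyl⟩
  have hd₀c : (d₀ : Ω) = x⁻¹ * s * x * s⁻¹ := by
    rw [hd₀, hcmA, hx₀c]
  subst ht
  exact ⟨s, hsN, d₀, x, hsA, hsP, hxP, hxA, hT, hfix, hd₀c, hle, hcmZ⟩

/-- The canonical subgroup `zcomm S A` is `[P, Aut_S(P)]` for every abelian essential `P`. -/
theorem zcomm_eq (H : AIHyp p F A) {P : Subgroup Ω} (hP : F.IsEssential p P)
    {x s : Ω} (hxP : x ∈ P) (hxA : x ∉ A) (hsA : s ∈ A)
    (hsN : s ∈ Subgroup.normalizer (P : Set Ω)) {d₀ : P}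
    (hT : TransvData p (F.autGroup P) (Cfsg.Agent.Lib.helper88.conjAut P s hsN) d₀)
    (hle : autInducedBy S P ≤ zpowers (Cfsg.Agent.Lib.helper88.conjAut P s hsN))
    (hcmZ : ∀ u : P, ((cm (Cfsg.Agent.Lib.helper88.conjAut P s hsN) u : P) : Ω)
      ∈ centralizerIn S S)
    (hd₀ : (d₀ : Ω) = x⁻¹ * s * x * s⁻¹) : zcomm S A = zpowers (d₀ : Ω) := by
  have hPS : P ≤ S := hP.1.1
  have hfinP : Finite P := finite_of_le hPS
  have hZP := H.zc_le_ess hP
  have hxS : x ∈ S := hPS hxP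
  have bridge : ∀ y : P, y ∈ zpowers d₀ → (y : Ω) ∈ zpowers (d₀ : Ω) := by
    intro y hy
    obtain ⟨k, rfl⟩ := mem_zpowers_iff.mp hy
    rw [Subgroup.coe_zpow]
    exact zpow_mem_zpowers _ _
  have hcmA : ∀ u : P, ((cm (Cfsg.Agent.Lib.helper88.conjAut P s hsN) u : P) : Ω)
      = (u : Ω)⁻¹ * s * u * s⁻¹ := by
    intro u
    unfold cm
    rw [Subgroup.coe_mul, Subgroup.coe_inv, Cfsg.Agent.Lib.helper88.conjAut_apply]; group
  apply le_antisymm
  · unfold zcomm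
    rw [closure_le]
    rintro _ ⟨g, hg, h, hh, rfl, hZ⟩
    have hgS : g ∈ S := H.AS hg
    have hgN : g ∈ Subgroup.normalizer (P : Set Ω) := by
      rw [Subgroup.mem_normalizer_iff]
      intro u
      constructor
      · intro hu
        have h1 : g * u * g⁻¹ = u * (u⁻¹ * g * u * g⁻¹) := by group
        rw [h1]
        exact P.mul_mem hu (hZP (hZ u (hPS hu)))
      · intro hv
        obtain ⟨z, hzdef⟩ : ∃ z, z = (g * u * g⁻¹)⁻¹ * g * (g * u * g⁻¹) * g⁻¹ := ⟨_, rfl⟩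
        have hz : z ∈ centralizerIn S S := by rw [hzdef]; exact hZ _ (hPS hv)
        have hzc := (mem_zc_iff.mp (inv_mem hz)).2 g hgS
        have h1 : u = (g * u * g⁻¹) * z⁻¹ := by
          calc u = g⁻¹ * (g * u * g⁻¹ * z * z⁻¹) * g := by group
            _ = g⁻¹ * (g * (g * u * g⁻¹) * g⁻¹ * z⁻¹) * g := by
                have e : g * u * g⁻¹ * z = g * (g * u * g⁻¹) * g⁻¹ := by rw [hzdef]; group
                rw [e]
            _ = g⁻¹ * g * (g * u * g⁻¹) * g⁻¹ * (z⁻¹ * g) := by group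
            _ = g⁻¹ * g * (g * u * g⁻¹) * g⁻¹ * (g * z⁻¹) := by rw [hzc]
            _ = (g * u * g⁻¹) * z⁻¹ := by group
        rw [h1]
        exact P.mul_mem hv (P.inv_mem (hZP hz))
    have hcg : Cfsg.Agent.Lib.helper88.conjAut P g hgN
        ∈ zpowers (Cfsg.Agent.Lib.helper88.conjAut P s hsN) :=
      hle (Cfsg.Agent.Lib.helper88.conjAut_mem S P g hgN hgS)
    obtain ⟨n, hn⟩ := TransvData.exists_pow_eq_of_mem_zpowers hcg
    have hk : ∀ k ∈ P, k⁻¹ * g * k * g⁻¹ ∈ zpowers (d₀ : Ω) := by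
      intro k hkP
      have h3 := hT.conj_pow_apply 1 ⟨k, hkP⟩ n
      simp only [one_mul, inv_one, mul_one] at h3
      rw [hn] at h3
      have h5 := congrArg Subtype.val h3
      rw [Cfsg.Agent.Lib.helper88.conjAut_apply] at h5
      have h4 : k⁻¹ * g * k * g⁻¹
          = ((cm (Cfsg.Agent.Lib.helper88.conjAut P s hsN) ⟨k, hkP⟩ ^ n : P) : Ω) := by
        have h6 : k⁻¹ * g * k * g⁻¹ = k⁻¹ * (g * k * g⁻¹) := by group
        rw [h6, h5, Subgroup.coe_mul]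
        group
      rw [h4]
      exact bridge _ (Subgroup.pow_mem _ (hT.t_cm _) n)
    obtain ⟨a, ha, k, hk', rfl⟩ := H.exists_dec hxS hxA hh
    rw [comm_reduce (H.comm a ha g hg)]
    exact hk k (zpowers_le.mpr hxP hk')
  · rw [zpowers_le]
    refine subset_closure ⟨s, hsA, x, hxS, hd₀, ?_⟩
    intro h' hh'
    obtain ⟨a, ha, k, hk', rfl⟩ := H.exists_dec hxS hxA hh'
    rw [comm_reduce (H.comm a ha s hsA)]
    have hkP : k ∈ P := zpowers_le.mpr hxP hk'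
    have h1 := hcmZ ⟨k, hkP⟩
    rw [hcmA] at h1
    exact h1

theorem exists_abFacts (H : AIHyp p F A) (hp2 : p ≠ 2) {P : Subgroup Ω}
    (hP : F.IsEssential p P) (hab : ∀ u ∈ P, ∀ v ∈ P, u * v = v * u) :
    AbFacts p F P (zcomm S A) := by
  obtain ⟨s, hsN, d₀, x, hsA, hsP, hxP, hxA, hT, hfix, hd₀c, hle, hcmZ⟩ := H.exists_abData hP hab
  have hPS : P ≤ S := hP.1.1
  have hfinP : Finite P := finite_of_le hPS
  have hZP := H.zc_le_ess hP
  obtain ⟨a, haA, ha⟩ := exists_not_normal' H.pS F H.sat hP hT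
  have hDeq := H.zcomm_eq hP hxP hxA hsA hsN hT hle hcmZ hd₀c
  have hcore := mem_essCore_iff_Ccore' (F := F) hfix
  have hD : ∀ y : P, y ∈ zpowers d₀ ↔ (y : Ω) ∈ zcomm S A := by
    intro y
    rw [hDeq]
    constructor
    · intro hy
      obtain ⟨k, rfl⟩ := mem_zpowers_iff.mp hy
      rw [Subgroup.coe_zpow]
      exact zpow_mem_zpowers _ _
    · intro hy
      obtain ⟨k, hk⟩ := mem_zpowers_iff.mp hy
      have h1 : y = d₀ ^ k := Subtype.ext (by rw [Subgroup.coe_zpow]; exact hk.symm)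
      rw [h1]
      exact zpow_mem_zpowers _ _
  have hd₀Z : (d₀ : Ω) ∈ centralizerIn S S := (hfix d₀).mp hT.t_d₀
  have hDZ : zcomm S A ≤ centralizerIn S S := by
    rw [hDeq, zpowers_le]; exact hd₀Z
  refine { ess := hP, dec := ?_, torus := ?_, gen := ?_, D_zc := hDZ }
  · intro z hz
    obtain ⟨d, hd, c, hc, hdc⟩ := hT.exists_mul_of_fixed haA ha ((hfix ⟨z, hZP hz⟩).mpr hz)
    exact ⟨d, (hD d).mp hd, c, (hcore c).mpr hc, congrArg Subtype.val hdc⟩
  · obtain ⟨η, hηA, hηnorm, hηC, hηD⟩ := hT.exists_torus haA ha hp2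
    have hηZ : ∀ u : P, (u : Ω) ∈ centralizerIn S S →
        ((η u : P) : Ω) ∈ centralizerIn S S := by
      intro u hu
      obtain ⟨d, hd, c, hc, hdc⟩ := hT.exists_mul_of_fixed haA ha ((hfix u).mpr hu)
      rw [hdc, map_mul, hηC c hc, hηD d hd, Subgroup.coe_mul, Subgroup.coe_pow]
      refine mul_mem (Subgroup.pow_mem _ (hDZ ((hD d).mp hd)) _) ?_
      exact (hfix c).mp (Ccore_fixed hc)
    obtain ⟨γ, hγ, hγn⟩ := exists_extension_of_zc H.pS F H.sat hPS hZP hηA hηZ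
    refine ⟨γ, hγ, ?_, ?_⟩
    · intro c hc
      have hcP : (c : Ω) ∈ P := essCore_le F P hc
      apply Subtype.ext
      have h1 := hγn ⟨c, hcP⟩ c.2 (essCore_le_zc F P hc)
      rw [hηC ⟨c, hcP⟩ ((hcore ⟨c, hcP⟩).mp hc)] at h1
      exact h1
    · intro d hd
      have hdP : (d : Ω) ∈ P := hZP (hDZ hd)
      apply Subtype.ext
      have h1 := hγn ⟨d, hdP⟩ d.2 (hDZ hd)
      rw [hηD ⟨d, hdP⟩ ((hD ⟨d, hdP⟩).mpr hd)] at h1
      exact h1
  · refine ⟨x, hPS hxP, s, H.AS hsA, ?_, ?_⟩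
    · rw [hDeq, hd₀c]
    · rw [← hd₀c, ← Subgroup.coe_pow, hT.d₀_pow]
      rfl

end AIHyp

end Fusion

end Cfsg.Agent.Lib.helper89
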