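import Cfsg.Agent.Lib.helper89.AbIdxB

/-!
# Unique abelian subgroup of index `p`: the global argument

If `O_p(F) = 1`, `p` odd, then some `Z(S)⟨x⟩` is essential, `Z(S)` has order `p` and lies in
`[S, S]`, and `S` has maximal class.
-/

set_option autoImplicit false
set_option linter.unusedSectionVars false

namespace Cfsg.Agent.Lib.helper89

open Cfsg Cfsg.FusionSystem Subgroup

section Fusion

variable {Ω : Type*} [Group Ω] {S : Subgroup Ω}

theorem torus_le' [Finite S] {p : ℕ} [Fact p.Prime] (hS : IsPGroup p S) (F : FusionSystem S)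
    (hF : F.IsSaturated p) (hp2 : p ≠ 2) (D : Subgroup Ω) (hDp : ∀ d ∈ D, d ^ p = 1)
    (hDinv : ∀ (γ : MulAut S) (d : S), (d : Ω) ∈ D → ((γ d : S) : Ω) ∈ D)
    {η₁ η₂ : MulAut S} (h₁ : η₁ ∈ F.autGroup S) (h₂ : η₂ ∈ F.autGroup S) (C₁ C₂ : Subgroup S)
    (hC₁Z : ∀ c ∈ C₁, (c : Ω) ∈ centralizerIn S S)
    (hη₁D : ∀ d : S, (d : Ω) ∈ D → η₁ d = d ^ ((p + 1) / 2))
    (hη₂D : ∀ d : S, (d : Ω) ∈ D → η₂ d = d ^ ((p + 1) / 2))
    (hη₁C : ∀ c ∈ C₁, η₁ c = c) (hη₂C : ∀ c ∈ C₂, η₂ c = c)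
    (hdec₁ : ∀ c ∈ C₂, ∃ d : S, (d : Ω) ∈ D ∧ ∃ c' ∈ C₁, c = d * c')
    (hdec₂ : ∀ c ∈ C₁, ∃ d : S, (d : Ω) ∈ D ∧ ∃ c' ∈ C₂, c = d * c') : C₁ ≤ C₂ := by
  obtain ⟨m, hm, hinn⟩ := exists_coprime_pow_inner' hS F hF
  obtain ⟨z, hz⟩ : ∃ z : ℕ, p = 2 * z + 1 := by
    rcases (Fact.out : p.Prime).eq_two_or_odd' with h2 | ⟨z, hz⟩
    · exact absurd h2 hp2
    · exact ⟨z, hz⟩
  have hz2 : (p + 1) / 2 = z + 1 := by omega
  refine torus_unique (p := p) (k := (p + 1) / 2) (m := m) η₁ η₂ (D.subgroupOf S)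
    C₁ C₂ ?_ ?_ ?_ ?_ ?_ hη₁C hη₂C ?_ ?_ ?_ hm ?_
  · intro c hc g
    exact Subtype.ext ((mem_zc_iff.mp (hC₁Z c hc)).2 g g.2)
  · intro d hd
    apply Subtype.ext
    rw [Subgroup.coe_pow]
    exact hDp d (mem_subgroupOf.mp hd)
  · intro d hd
    exact mem_subgroupOf.mpr (hDinv η₁⁻¹ d (mem_subgroupOf.mp hd))
  · intro d hd
    exact hη₁D d (mem_subgroupOf.mp hd)
  · intro d hd
    exact hη₂D d (mem_subgroupOf.mp hd)
  · intro c hc
    obtain ⟨d, hd, c', hc', h⟩ := hdec₁ c hc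
    exact ⟨d, mem_subgroupOf.mpr hd, c', hc', h⟩
  · intro c hc
    obtain ⟨d, hd, c', hc', h⟩ := hdec₂ c hc
    exact ⟨d, mem_subgroupOf.mpr hd, c', hc', h⟩
  · intro d hd hdk
    have hdp : d ^ p = 1 := by
      apply Subtype.ext
      rw [Subgroup.coe_pow]
      exact hDp d (mem_subgroupOf.mp hd)
    rw [hz2, pow_succ] at hdk
    have h1 : d ^ z = 1 := by
      have h3 : d ^ z * d = 1 * d := by rw [hdk, one_mul]
      exact mul_right_cancel h3
    have h4 : d ^ (2 * z + 1) = 1 := by rw [← hz]; exact hdp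
    rw [pow_succ, pow_mul', h1, one_pow, one_mul] at h4
    exact h4
  · intro c hc
    obtain ⟨g, hg, hgx⟩ := hinn (η₁⁻¹ * η₂) (mul_mem (inv_mem h₁) h₂)
    apply Subtype.ext
    rw [hgx c]
    have h3 := (mem_zc_iff.mp (hC₁Z c hc)).2 g hg
    rw [h3]
    group

namespace AbFacts

variable {p : ℕ} {F : FusionSystem S} {P D : Subgroup Ω}

theorem D_pow (h : AbFacts p F P D) {d : Ω} (hd : d ∈ D) : d ^ p = 1 := by
  obtain ⟨x, -, s, -, hD, hpow⟩ := h.gen
  rw [hD] at hd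
  obtain ⟨k, rfl⟩ := mem_zpowers_iff.mp hd
  rw [← zpow_natCast, ← zpow_mul, mul_comm, zpow_mul, zpow_natCast, hpow, one_zpow]

theorem dec' (h : AbFacts p F P D) (z : S) (hz : (z : Ω) ∈ centralizerIn S S) :
    ∃ d : S, (d : Ω) ∈ D ∧ ∃ c : S, (c : Ω) ∈ essCore F P ∧ z = d * c := by
  obtain ⟨d, hd, c, hc, hzdc⟩ := h.dec z hz
  have hdS : d ∈ S := (mem_zc_iff.mp (h.D_zc hd)).1
  have hcS : c ∈ S := (mem_zc_iff.mp (essCore_le_zc F P hc)).1
  exact ⟨⟨d, hdS⟩, hd, ⟨c, hcS⟩, hc, Subtype.ext hzdc⟩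

end AbFacts

namespace AIHyp

variable [Finite S] {p : ℕ} [Fact p.Prime] {F : FusionSystem S} {A : Subgroup Ω}

theorem essCore_eq_bot' (H : AIHyp p F A) (hp2 : p ≠ 2) (hcore : F.core = ⊥) {P₁ : Subgroup Ω}
    (h₁ : AbFacts p F P₁ (zcomm S A)) : essCore F P₁ = ⊥ := by
  have hE₁ := h₁.ess
  obtain ⟨η, hη, hηC, hηD⟩ := h₁.torus
  have hDp : ∀ d ∈ zcomm S A, d ^ p = 1 := fun d hd => h₁.D_pow hd
  have hDinv : ∀ (γ : MulAut S) (d : S), (d : Ω) ∈ zcomm S A → ((γ d : S) : Ω) ∈ zcomm S A :=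
    fun γ d hd => zcomm_invariant H.AS H.aut_A γ d hd
  have hZ₁ := essCore_le_zc F P₁
  have hS : ∀ γ ∈ F.autGroup S, ∀ u : S, (u : Ω) ∈ essCore F P₁ →
      ((γ u : S) : Ω) ∈ essCore F P₁ := by
    intro γ hγ u hu
    have hle : ((essCore F P₁).subgroupOf S).map γ.toMonoidHom ≤ (essCore F P₁).subgroupOf S := by
      apply torus_le' H.pS F H.sat hp2 (zcomm S A) hDp hDinv (η₁ := γ * η * γ⁻¹) (η₂ := η)
        (mul_mem (mul_mem hγ hη) (inv_mem hγ)) hη _ _ ?_ ?_ hηD ?_ ?_ ?_ ?_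
      · rintro _ ⟨c, hc, rfl⟩
        exact aut_zc γ c (hZ₁ (mem_subgroupOf.mp hc))
      · intro d hd
        have h1 : ((γ⁻¹ d : S) : Ω) ∈ zcomm S A := hDinv γ⁻¹ d hd
        show γ (η (γ⁻¹ d)) = d ^ ((p + 1) / 2)
        rw [hηD _ h1, map_pow]
        simp
      · rintro _ ⟨c, hc, rfl⟩
        show γ (η (γ⁻¹ (γ c))) = γ c
        have h3 : γ⁻¹ (γ c) = c := by simp
        rw [h3, hηC c (mem_subgroupOf.mp hc)]
      · intro c hc
        exact hηC c (mem_subgroupOf.mp hc)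
      · intro c hc
        have hcZ : ((γ⁻¹ c : S) : Ω) ∈ centralizerIn S S :=
          aut_zc γ⁻¹ c (hZ₁ (mem_subgroupOf.mp hc))
        obtain ⟨d, hd, c', hc', hdc⟩ := h₁.dec' (γ⁻¹ c) hcZ
        refine ⟨γ d, hDinv γ d hd, γ c', ⟨c', mem_subgroupOf.mpr hc', rfl⟩, ?_⟩
        rw [← map_mul, ← hdc]
        simp
      · rintro _ ⟨c, hc, rfl⟩
        obtain ⟨d, hd, c', hc', hdc⟩ :=
          h₁.dec' (γ c) (aut_zc γ c (hZ₁ (mem_subgroupOf.mp hc)))
        exact ⟨d, hd, c', mem_subgroupOf.mpr hc', hdc⟩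
    have h1 : γ u ∈ ((essCore F P₁).subgroupOf S).map γ.toMonoidHom :=
      ⟨u, mem_subgroupOf.mpr hu, rfl⟩
    exact mem_subgroupOf.mp (hle h1)
  have hnorm : F.IsNormal (essCore F P₁) := by
    apply Cfsg.Agent.Lib.helper86.isNormal_of_aut_invariant H.pS F H.sat
    intro P hP
    rcases hP with h | hess
    · subst h
      exact ⟨fun q hq => (mem_zc_iff.mp (hZ₁ hq)).1, fun γ hγ u hu => hS γ hγ u hu⟩
    · by_cases hab : ∀ u ∈ P, ∀ v ∈ P, u * v = v * u
      · have h' := H.exists_abFacts hp2 hess hab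
        obtain ⟨η', hη', hηC', hηD'⟩ := h'.torus
        have hZ' := essCore_le_zc F P
        have hle1 : (essCore F P₁).subgroupOf S ≤ (essCore F P).subgroupOf S := by
          apply torus_le' H.pS F H.sat hp2 (zcomm S A) hDp hDinv hη hη' _ _ ?_ hηD hηD'
            ?_ ?_ ?_ ?_
          · intro c hc
            exact hZ₁ (mem_subgroupOf.mp hc)
          · intro c hc
            exact hηC c (mem_subgroupOf.mp hc)
          · intro c hc
            exact hηC' c (mem_subgroupOf.mp hc)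
          · intro c hc
            obtain ⟨d, hd, c', hc', hdc⟩ := h₁.dec' c (hZ' (mem_subgroupOf.mp hc))
            exact ⟨d, hd, c', mem_subgroupOf.mpr hc', hdc⟩
          · intro c hc
            obtain ⟨d, hd, c', hc', hdc⟩ := h'.dec' c (hZ₁ (mem_subgroupOf.mp hc))
            exact ⟨d, hd, c', mem_subgroupOf.mpr hc', hdc⟩
        have hle2 : (essCore F P).subgroupOf S ≤ (essCore F P₁).subgroupOf S := by
          apply torus_le' H.pS F H.sat hp2 (zcomm S A) hDp hDinv hη' hη _ _ ?_ hηD' hηD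
            ?_ ?_ ?_ ?_
          · intro c hc
            exact hZ' (mem_subgroupOf.mp hc)
          · intro c hc
            exact hηC' c (mem_subgroupOf.mp hc)
          · intro c hc
            exact hηC c (mem_subgroupOf.mp hc)
          · intro c hc
            obtain ⟨d, hd, c', hc', hdc⟩ := h'.dec' c (hZ₁ (mem_subgroupOf.mp hc))
            exact ⟨d, hd, c', mem_subgroupOf.mpr hc', hdc⟩
          · intro c hc
            obtain ⟨d, hd, c', hc', hdc⟩ := h₁.dec' c (hZ' (mem_subgroupOf.mp hc))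
            exact ⟨d, hd, c', mem_subgroupOf.mpr hc', hdc⟩
        refine ⟨fun q hq => H.zc_le_ess hess (hZ₁ hq), fun α hα u hu => ?_⟩
        have huS : (u : Ω) ∈ S := hess.1.1 u.2
        have h1 : (u : Ω) ∈ essCore F P :=
          mem_subgroupOf.mp (hle1 (mem_subgroupOf.mpr
            (show ((⟨u, huS⟩ : S) : Ω) ∈ essCore F P₁ from hu)))
        have h2 := essCore_invariant hα u h1
        have hαS : ((α u : P) : Ω) ∈ S := hess.1.1 (α u).2
        exact mem_subgroupOf.mp (hle2 (mem_subgroupOf.mpr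
          (show ((⟨(α u : P), hαS⟩ : S) : Ω) ∈ essCore F P from h2)))
      · refine ⟨fun q hq => H.zc_le_ess hess (hZ₁ hq), fun α hα u hu => ?_⟩
        have hPS : P ≤ S := hess.1.1
        obtain ⟨γ, hγ, hγn⟩ := exists_extension_of_zc H.pS F H.sat hPS (H.zc_le_ess hess) hα
          (fun y hy => H.ess_aut_zc hess hab α y hy)
        have h1 := hγn u (hPS u.2) (hZ₁ hu)
        rw [← h1]
        exact hS γ hγ ⟨u, hPS u.2⟩ hu
  have h2 : essCore F P₁ ≤ F.core := le_sSup hnorm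
  rw [hcore] at h2
  exact le_bot_iff.mp h2

/-- Some abelian subgroup is essential. -/
theorem exists_ab_ess (H : AIHyp p F A) (hcore : F.core = ⊥) :
    ∃ P, F.IsEssential p P ∧ ∀ u ∈ P, ∀ v ∈ P, u * v = v * u := by
  by_contra hno
  have hnab : ∀ P, F.IsEssential p P → ¬ ∀ u ∈ P, ∀ v ∈ P, u * v = v * u :=
    fun P hess hab => hno ⟨P, hess, hab⟩
  have hnorm : F.IsNormal (centralizerIn S S) := by
    apply Cfsg.Agent.Lib.helper86.isNormal_of_aut_invariant H.pS F H.sat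
    intro P hP
    rcases hP with h | hess
    · rw [h]
      exact ⟨inf_le_left, fun γ _ u hu => aut_zc γ u hu⟩
    · exact ⟨H.zc_le_ess hess, fun α _ u hu => H.ess_aut_zc hess (hnab P hess) α u hu⟩
  have h2 : centralizerIn S S ≤ F.core := le_sSup hnorm
  rw [hcore] at h2
  obtain ⟨u, hu, v, hv, huv⟩ := H.nonab
  have hnt : Nontrivial ↥S := by
    refine ⟨⟨⟨u, hu⟩, 1, ?_⟩⟩
    intro h
    have h3 : u = 1 := congrArg Subtype.val h
    apply huv
    rw [h3, one_mul, mul_one]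
  have hcnt := IsPGroup.center_nontrivial H.pS
  obtain ⟨c, hc⟩ := exists_ne (1 : Subgroup.center ↥S)
  apply hc
  have h4 : ((c : S) : Ω) ∈ centralizerIn S S := (mem_center_iff_zc (c : S)).mp c.2
  have h5 := h2 h4
  rw [Subgroup.mem_bot] at h5
  apply Subtype.ext
  apply Subtype.ext
  exact h5

theorem final (H : AIHyp p F A) (hp2 : p ≠ 2) (hcore : F.core = ⊥) :
    (∃ x ∈ S, x ∉ A ∧ F.IsEssential p (centralizerIn S S ⊔ zpowers x)) ∧
    ∃ x ∈ S, ∃ s ∈ S, centralizerIn S S = zpowers (x⁻¹ * s * x * s⁻¹) ∧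
      (x⁻¹ * s * x * s⁻¹) ^ p = 1 := by
  obtain ⟨P, hP, hab⟩ := H.exists_ab_ess hcore
  have h' := H.exists_abFacts hp2 hP hab
  have hbot := H.essCore_eq_bot' hp2 hcore h'
  constructor
  · obtain ⟨x, hxP, hxA⟩ := H.exists_not_mem hP
    refine ⟨x, hP.1.1 hxP, hxA, ?_⟩
    rw [← H.ess_eq hP hab hxP hxA]
    exact hP
  · obtain ⟨x, hx, s, hs, hD, hpow⟩ := h'.gen
    refine ⟨x, hx, s, hs, ?_, hpow⟩
    rw [← hD]
    apply le_antisymm
    · intro z hz
      obtain ⟨d, hd, c, hc, rfl⟩ := h'.dec z hz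
      rw [hbot, Subgroup.mem_bot] at hc
      rw [hc, mul_one]
      exact hd
    · exact h'.D_zc

/-- If `Z(S)` has order at most `p` then `S` has maximal class. -/
theorem lcs_ne_bot (H : AIHyp p F A) (hZ : Nat.card (centralizerIn S S) ≤ p) (n : ℕ)
    (hn : Nat.card S = p ^ n) (h3 : 3 ≤ n) : Subgroup.lowerCentralSeries S (n - 2) ≠ ⊥ := by
  have hp := (Fact.out : p.Prime)
  obtain ⟨x, hxS, hxA⟩ := SetLike.exists_of_lt (lt_of_le_of_ne H.AS H.A_ne)
  have hfinZ : Finite (centralizerIn S S) := finite_of_le inf_le_left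
  have hfinA : Finite A := finite_of_le H.AS
  have hLS : ∀ k, S.lowerCentralSeries k ≤ S := fun k =>
    S.lowerCentralSeries_antitone (Nat.zero_le k)
  have hL1 : S.lowerCentralSeries 1 ≤ A := by
    rw [Subgroup.lowerCentralSeries_succ, Subgroup.lowerCentralSeries_zero, Subgroup.commutator_le]
    intro g₁ hg₁ g₂ hg₂
    rw [commutatorElement_def]
    exact H.comm_mem hg₁ hg₂
  have hLA : ∀ k, S.lowerCentralSeries (k + 1) ≤ A := fun k =>
    (S.lowerCentralSeries_antitone (Nat.succ_le_succ (Nat.zero_le k))).trans hL1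
  have hxn : ∀ a ∈ A, x * a * x⁻¹ ∈ A := fun a ha => H.conj_mem hxS ha
  have hZ' : ∀ a ∈ A, x * a = a * x → a ∈ centralizerIn S S := fun a ha h =>
    H.mem_zc_of_commute (H.AS ha) (fun b hb => H.comm b hb a ha) hxS hxA h
  have hcomm : ∀ (M : Subgroup Ω), M ≤ S → ∀ m ∈ M, m⁻¹ * x * m * x⁻¹ ∈ ⁅M, S⁆ := by
    intro M _ m hm
    have h1 := Subgroup.commutator_mem_commutator (M.inv_mem hm) hxS
    rw [commutatorElement_def, inv_inv] at h1
    exact h1
  have step0 : Nat.card A ≤ p * Nat.card (S.lowerCentralSeries 1) := by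
    have hfinN : Finite (S.lowerCentralSeries 1) := finite_of_le (hLS 1)
    apply card_le_mul_of_comm (A := A) (M := A) (Z := centralizerIn S S) (x := x) H.comm hxn
      le_rfl ?_ hZ' hZ
    intro m hm
    have h1 := Subgroup.commutator_mem_commutator (S.inv_mem (H.AS hm)) hxS
    rw [commutatorElement_def, inv_inv] at h1
    exact h1
  have step : ∀ k, Nat.card (S.lowerCentralSeries (k + 1))
      ≤ p * Nat.card (S.lowerCentralSeries (k + 2)) := by
    intro k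
    have hfinM : Finite (S.lowerCentralSeries (k + 1)) := finite_of_le (hLS _)
    have hfinN : Finite (S.lowerCentralSeries (k + 2)) := finite_of_le (hLS _)
    apply card_le_mul_of_comm (A := A) (Z := centralizerIn S S) (x := x) H.comm hxn
      (hLA k) ?_ hZ' hZ
    intro m hm
    exact hcomm _ (hLS _) m hm
  have key : ∀ k, Nat.card A ≤ p ^ (k + 1) * Nat.card (S.lowerCentralSeries (k + 1)) := by
    intro k
    induction k with
    | zero => rw [zero_add, pow_one]; exact step0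
    | succ k ih =>
      calc Nat.card A ≤ p ^ (k + 1) * Nat.card (S.lowerCentralSeries (k + 1)) := ih
        _ ≤ p ^ (k + 1) * (p * Nat.card (S.lowerCentralSeries (k + 2))) :=
            Nat.mul_le_mul_left _ (step k)
        _ = p ^ (k + 1 + 1) * Nat.card (S.lowerCentralSeries (k + 1 + 1)) := by
            rw [pow_succ (p) (k + 1), mul_assoc]
  obtain ⟨m, rfl⟩ : ∃ m, n = m + 3 := ⟨n - 3, by omega⟩
  have hm2 : m + 3 - 2 = m + 1 := by omega
  rw [hm2]
  intro hbot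
  have hcardA : Nat.card A = p ^ (m + 2) := by
    have h1 : p * Nat.card A = p * p ^ (m + 2) := by
      rw [← H.card, hn, pow_succ p (m + 2), mul_comm]
    exact Nat.eq_of_mul_eq_mul_left hp.pos h1
  have h4 := key m
  rw [hbot, Subgroup.card_bot, mul_one, hcardA, pow_succ p (m + 1)] at h4
  have h5 : p ≤ 1 := by
    have h6 : p ^ (m + 1) * p ≤ p ^ (m + 1) * 1 := by rw [mul_one]; exact h4
    exact Nat.le_of_mul_le_mul_left h6 (pow_pos hp.pos _)
  exact absurd hp.two_le (by omega)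

end AIHyp

end Fusion

end Cfsg.Agent.Lib.helper89
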