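import Cfsg.Agent.Lib.helper89.AbIdxC

/-!
# Unique abelian subgroup of index `p`: essential subgroups in general

`AJHyp p F A`: as `AIHyp`, but `A` is allowed to be essential. The basic facts are repeated in this
generality; then we add the general tools used for the analysis of all essential subgroups `P ≠ A`:
a radical criterion (`mem_of_stab`), and group-theoretic counting lemmas.
-/

set_option autoImplicit false
set_option linter.unusedSectionVars false

namespace Cfsg.Agent.Lib.helper89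

open Cfsg Cfsg.FusionSystem Subgroup

section Generic

variable {E : Type*} [Group E]

/-- If `δ` is trivial modulo the normal subgroup `Q` on `M₀` and on `x₀`, and `E = M₀⟨x₀⟩`, then
`δ` is trivial modulo `Q`. -/
theorem cm_mem_of_gen (δ : MulAut E) (Q : Subgroup E) (hQ : Q.Normal) (M₀ : Subgroup E) (x₀ : E)
    (h₀ : ∀ z ∈ M₀, z⁻¹ * δ z ∈ Q) (hx : x₀⁻¹ * δ x₀ ∈ Q)
    (hgen : ∀ y : E, ∃ z ∈ M₀, ∃ i : ℤ, y = z * x₀ ^ i) (y : E) : y⁻¹ * δ y ∈ Q := by
  have := hQ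
  have key : ∀ w : E, (QuotientGroup.mk (δ w) : E ⧸ Q) = QuotientGroup.mk w ↔ w⁻¹ * δ w ∈ Q := by
    intro w
    rw [eq_comm, QuotientGroup.eq]
  obtain ⟨z, hz, i, rfl⟩ := hgen y
  rw [← key, map_mul, map_zpow, QuotientGroup.mk_mul, QuotientGroup.mk_mul, QuotientGroup.mk_zpow,
    QuotientGroup.mk_zpow, (key z).mpr (h₀ z hz), (key x₀).mpr hx]

/-- `|K : H| = p` when `K = H⟨y⟩` with `y ∉ H`, `y ^ p ∈ H`, `H` normal in `K`. -/
theorem card_eq_prime_mul_of_gen {p : ℕ} [Fact p.Prime] {H K : Subgroup E} [Finite K]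
    (hHK : H ≤ K) (hn : K ≤ normalizer (H : Set E)) {y : E} (hy : y ∈ K) (hyH : y ∉ H)
    (hyp : y ^ p ∈ H) (hgen : ∀ g ∈ K, ∃ h ∈ H, ∃ i : ℤ, g = h * y ^ i) :
    Nat.card K = p * Nat.card H := by
  have hfinH : Finite H := Finite.of_injective _ (inclusion_injective hHK)
  have : (H.subgroupOf K).Normal := (normal_subgroupOf_iff_le_normalizer hHK).mpr hn
  have h2 : Nat.card (H.subgroupOf K) = Nat.card H := by
    rw [← Subgroup.card_subtype K (H.subgroupOf K), Subgroup.map_subgroupOf_eq_of_le hHK]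
  obtain ⟨q, hq⟩ : ∃ q : K ⧸ H.subgroupOf K, q = QuotientGroup.mk (⟨y, hy⟩ : K) := ⟨_, rfl⟩
  have hall : ∀ r : K ⧸ H.subgroupOf K, r ∈ zpowers q := by
    intro r
    obtain ⟨g, rfl⟩ := QuotientGroup.mk_surjective r
    obtain ⟨h, hh, i, hgi⟩ := hgen g g.2
    have hhK : h ∈ K := hHK hh
    have e : g = ⟨h, hhK⟩ * (⟨y, hy⟩ : K) ^ i :=
      Subtype.ext (by rw [Subgroup.coe_mul, Subgroup.coe_zpow]; exact hgi)
    rw [e, QuotientGroup.mk_mul, QuotientGroup.mk_zpow, ← hq]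
    have h1 : (QuotientGroup.mk (⟨h, hhK⟩ : K) : K ⧸ H.subgroupOf K) = 1 :=
      (QuotientGroup.eq_one_iff _).mpr (mem_subgroupOf.mpr hh)
    rw [h1, one_mul]
    exact zpow_mem_zpowers q i
  have hqp : q ^ p = 1 := by
    rw [hq, ← QuotientGroup.mk_pow]
    exact (QuotientGroup.eq_one_iff _).mpr
      (mem_subgroupOf.mpr (by rw [Subgroup.coe_pow]; exact hyp))
  have hq1 : q ≠ 1 := by
    rw [hq]
    intro h
    exact hyH (mem_subgroupOf.mp ((QuotientGroup.eq_one_iff _).mp h))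
  have hcardq : Nat.card (K ⧸ H.subgroupOf K) = p := by
    rw [← orderOf_eq_card_of_forall_mem_zpowers hall, orderOf_eq_prime hqp hq1]
  have h1 := Subgroup.card_mul_index (H.subgroupOf K)
  rw [Subgroup.index_eq_card, hcardq, h2] at h1
  rw [← h1, mul_comm]

/-- The index of `H` in `K`, computed from the orders. -/
theorem index_subgroupOf_of_card {p : ℕ} {H K : Subgroup E} [Finite K] (hHK : H ≤ K)
    (hcard : Nat.card K = p * Nat.card H) : (H.subgroupOf K).index = p := by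
  have hfinH : Finite H := Finite.of_injective _ (inclusion_injective hHK)
  have h2 : Nat.card (H.subgroupOf K) = Nat.card H := by
    rw [← Subgroup.card_subtype K (H.subgroupOf K), Subgroup.map_subgroupOf_eq_of_le hHK]
  have h1 := Subgroup.card_mul_index (H.subgroupOf K)
  rw [h2, hcard, mul_comm p] at h1
  exact Nat.eq_of_mul_eq_mul_left Nat.card_pos h1

end Generic

section Fusion

variable {Ω : Type*} [Group Ω] {S : Subgroup Ω}

/-- Standing hypotheses: `A` is the unique abelian subgroup of index `p` of the nonabelian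
`p`-group `S`, and `F` is a saturated fusion system over `S`. -/
structure AJHyp (p : ℕ) (F : FusionSystem S) (A : Subgroup Ω) : Prop where
  pS : IsPGroup p S
  sat : F.IsSaturated p
  AS : A ≤ S
  comm : ∀ u ∈ A, ∀ v ∈ A, u * v = v * u
  card : Nat.card S = p * Nat.card A
  uniq : ∀ B : Subgroup Ω, B ≤ S → (∀ u ∈ B, ∀ v ∈ B, u * v = v * u) →
    Nat.card S = p * Nat.card B → B = A
  nonab : ∃ u ∈ S, ∃ v ∈ S, u * v ≠ v * u

/-- An element of `S` whose commutators with `P` are central in `S` normalizes `P ≥ Z(S)`. -/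
theorem mem_normalizer_of_comm_mem_zc {P : Subgroup Ω} (hZP : centralizerIn S S ≤ P) (hPS : P ≤ S)
    {g : Ω} (hgS : g ∈ S) (hZ : ∀ u ∈ P, u⁻¹ * g * u * g⁻¹ ∈ centralizerIn S S) :
    g ∈ Subgroup.normalizer (P : Set Ω) := by
  rw [Subgroup.mem_normalizer_iff]
  intro u
  constructor
  · intro hu
    have h1 : g * u * g⁻¹ = u * (u⁻¹ * g * u * g⁻¹) := by group
    rw [h1]
    exact P.mul_mem hu (hZP (hZ u hu))
  · intro hv
    obtain ⟨z, hzdef⟩ : ∃ z, z = (g * u * g⁻¹)⁻¹ * g * (g * u * g⁻¹) * g⁻¹ := ⟨_, rfl⟩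
    have hz : z ∈ centralizerIn S S := by rw [hzdef]; exact hZ _ hv
    have hzc := (mem_zc_iff.mp (inv_mem hz)).2 g hgS
    have h1 : u = (g * u * g⁻¹) * z⁻¹ := by
      calc u = g⁻¹ * (g * u * g⁻¹ * z * z⁻¹) * g := by group
        _ = g⁻¹ * (g * (g * u * g⁻¹) * g⁻¹ * z⁻¹) * g := by
            have e : g * u * g⁻¹ * z = g * (g * u * g⁻¹) * g⁻¹ := by rw [hzdef]; group
            rw [e]
        _ = g⁻¹ * g * (g * u * g⁻¹) * g⁻¹ * (z⁻¹ * g) := by group
        _ = g⁻¹ * g * (g * u * g⁻¹) * g⁻¹ * (g * z⁻¹) := by rw [hzc]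
        _ = (g * u * g⁻¹) * z⁻¹ := by group
    rw [h1]
    exact P.mul_mem hv (P.inv_mem (hZP hz))

/-- **Radical criterion.** If all `Aut_F(P)`-conjugates of `c_a` stabilize a chain `1 ≤ N ≤ P`,
`P` essential, then `a ∈ P`. -/
theorem mem_of_stab [Finite S] {p : ℕ} [Fact p.Prime] (hS : IsPGroup p S) (F : FusionSystem S)
    (hF : F.IsSaturated p) {P : Subgroup Ω} (hP : F.IsEssential p P) (N : Subgroup P) {a : Ω}
    (haS : a ∈ S) (haN : a ∈ Subgroup.normalizer (P : Set Ω))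
    (hst : ∀ β ∈ F.autGroup P,
      Stab3 N N (β * Cfsg.Agent.Lib.helper88.conjAut P a haN * β⁻¹)) : a ∈ P := by
  have hPS : P ≤ S := hP.1.1
  have hfinP : Finite P := finite_of_le hPS
  obtain ⟨t, ht⟩ : ∃ t, t = Cfsg.Agent.Lib.helper88.conjAut P a haN := ⟨_, rfl⟩
  rw [← ht] at hst
  have htA : t ∈ F.autGroup P := by
    rw [ht]
    exact autInducedBy_le_autGroup F hPS (Cfsg.Agent.Lib.helper88.conjAut_mem S P a haN haS)
  have hrad := Cfsg.Agent.S5080.result p hS F hF P hP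
  have hDp : IsPGroup p (Kcl (F.autGroup P) t) := by
    unfold Kcl
    apply isPGroup_closure_of_stab3 (hS.to_le hPS) N N le_rfl
    rintro _ ⟨b, hb, rfl⟩
    exact hst b hb
  have hDn : ∀ a' ∈ F.autGroup P, ∀ d ∈ Kcl (F.autGroup P) t,
      a' * d * a'⁻¹ ∈ Kcl (F.autGroup P) t := by
    intro a' ha' d hd
    unfold Kcl at hd ⊢
    induction hd using Subgroup.closure_induction with
    | mem y hy =>
      obtain ⟨b, hb, rfl⟩ := hy
      refine subset_closure ⟨a' * b, mul_mem ha' hb, ?_⟩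
      group
    | one => simp [one_mem]
    | mul y y' _ _ ihy ihy' =>
      have e : a' * (y * y') * a'⁻¹ = (a' * y * a'⁻¹) * (a' * y' * a'⁻¹) := by group
      rw [e]; exact mul_mem ihy ihy'
    | inv y _ ih =>
      have e : a' * y⁻¹ * a'⁻¹ = (a' * y * a'⁻¹)⁻¹ := by group
      rw [e]; exact inv_mem ih
  have hD : Kcl (F.autGroup P) t ≤ Inn P :=
    Cfsg.Agent.Lib.helper86.le_inn_of_radical F hrad _ (Kcl_le htA) hDn hDp
  obtain ⟨e, he⟩ := hD (self_mem_Kcl (F.autGroup P) t)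
  have hcent : (e : Ω)⁻¹ * a ∈ centralizerIn S P := by
    refine Subgroup.mem_inf.mpr ⟨S.mul_mem (S.inv_mem (hPS e.2)) haS, ?_⟩
    rw [Subgroup.mem_centralizer_iff]
    intro y hy
    have h1 : ((t ⟨y, hy⟩ : P) : Ω) = a * y * a⁻¹ := by rw [ht]; rfl
    have h2 : ((t ⟨y, hy⟩ : P) : Ω) = (e : Ω) * y * (e : Ω)⁻¹ := by rw [← he]; rfl
    have h3 : a * y * a⁻¹ = (e : Ω) * y * (e : Ω)⁻¹ := h1.symm.trans h2
    calc y * ((e : Ω)⁻¹ * a) = (e : Ω)⁻¹ * ((e : Ω) * y * (e : Ω)⁻¹) * a := by group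
      _ = (e : Ω)⁻¹ * (a * y * a⁻¹) * a := by rw [h3]
      _ = (e : Ω)⁻¹ * a * y := by group
  have h4 := hP.1.2 P (Cfsg.Agent.Lib.helper88.isConj_refl F hPS) hcent
  have h5 : a = (e : Ω) * ((e : Ω)⁻¹ * a) := by group
  rw [h5]
  exact P.mul_mem e.2 h4

/-- The second centre of `S`, as a subgroup of the ambient group. -/
def zc2 (S : Subgroup Ω) : Subgroup Ω := (Subgroup.upperCentralSeries ↥S 2).map S.subtype

theorem mem_zc2_iff {u : Ω} :
    u ∈ zc2 S ↔ u ∈ S ∧ ∀ g ∈ S, u * g * u⁻¹ * g⁻¹ ∈ centralizerIn S S := by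
  unfold zc2
  constructor
  · rintro ⟨y, hy, rfl⟩
    refine ⟨y.2, fun g hg => ?_⟩
    have h1 := Subgroup.mem_upperCentralSeries_succ_iff.mp hy ⟨g, hg⟩
    rw [Subgroup.upperCentralSeries_one, commutatorElement_def] at h1
    exact (mem_center_iff_zc _).mp h1
  · rintro ⟨huS, hu⟩
    refine ⟨⟨u, huS⟩, ?_, rfl⟩
    apply Subgroup.mem_upperCentralSeries_succ_iff.mpr
    intro g
    rw [Subgroup.upperCentralSeries_one, commutatorElement_def]
    exact (mem_center_iff_zc _).mpr (hu g g.2)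

theorem zc2_le (S : Subgroup Ω) : zc2 S ≤ S := fun _ hu => (mem_zc2_iff.mp hu).1

theorem zc_le_zc2 (S : Subgroup Ω) : centralizerIn S S ≤ zc2 S := by
  intro z hz
  refine mem_zc2_iff.mpr ⟨(mem_zc_iff.mp hz).1, fun g hg => ?_⟩
  have h1 := (mem_zc_iff.mp hz).2 g hg
  have h2 : z * g * z⁻¹ * g⁻¹ = 1 := by rw [← h1]; group
  rw [h2]
  exact one_mem _

/-- For `u ∈ Z₂(S)` the other commutator `w⁻¹ u w u⁻¹` is central too. -/
theorem comm_mem_zc_of_mem_zc2 {u w : Ω} (hu : u ∈ zc2 S) (hw : w ∈ S) :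
    w⁻¹ * u * w * u⁻¹ ∈ centralizerIn S S := by
  obtain ⟨c, hc⟩ : ∃ c, c = u⁻¹ * w * u⁻¹⁻¹ * w⁻¹ := ⟨_, rfl⟩
  have h1 : c ∈ centralizerIn S S := by rw [hc]; exact (mem_zc2_iff.mp (inv_mem hu)).2 w hw
  have hci : c⁻¹ ∈ centralizerIn S S := inv_mem h1
  have huS : u ∈ S := zc2_le S hu
  have e1 : w⁻¹ * u * w * u⁻¹ = w⁻¹ * (u * c⁻¹ * u⁻¹) * w := by rw [hc]; group
  have e2 : u * c⁻¹ * u⁻¹ = c⁻¹ := by rw [(mem_zc_iff.mp hci).2 u huS]; group
  have e3 : w⁻¹ * c⁻¹ * w = c⁻¹ := by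
    have h5 := (mem_zc_iff.mp hci).2 w⁻¹ (S.inv_mem hw)
    rw [h5]; group
  rw [e1, e2, e3]
  exact hci

namespace AJHyp

variable [Finite S] {p : ℕ} [Fact p.Prime] {F : FusionSystem S} {A : Subgroup Ω}

theorem A_ne (H : AJHyp p F A) : A ≠ S := by
  intro h
  obtain ⟨u, hu, v, hv, huv⟩ := H.nonab
  rw [← h] at hu hv
  exact huv (H.comm u hu v hv)

theorem normal (H : AJHyp p F A) : S ≤ Subgroup.normalizer (A : Set Ω) := by
  have hlt : A < S := lt_of_le_of_ne H.AS H.A_ne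
  have h1 := lt_normalizerIn H.pS hlt
  have h2 : normalizerIn S A = S :=
    eq_of_card_prime_mul h1.le inf_le_left H.card (ne_of_gt h1)
  intro x hx
  have h3 : x ∈ normalizerIn S A := by rw [h2]; exact hx
  exact (Subgroup.mem_inf.mp h3).2

theorem conj_mem (H : AJHyp p F A) {g a : Ω} (hg : g ∈ S) (ha : a ∈ A) : g * a * g⁻¹ ∈ A :=
  (Subgroup.mem_normalizer_iff.mp (H.normal hg) a).mp ha

theorem conj_mem' (H : AJHyp p F A) {g a : Ω} (hg : g ∈ S) (ha : a ∈ A) : g⁻¹ * a * g ∈ A := by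
  have h1 := H.conj_mem (S.inv_mem hg) ha
  rwa [inv_inv] at h1

/-- An element of `S` centralizing `A` and some element outside `A` is central. -/
theorem mem_zc_of_commute (H : AJHyp p F A) {u x : Ω} (hu : u ∈ S)
    (huA : ∀ a ∈ A, a * u = u * a) (hx : x ∈ S) (hxA : x ∉ A) (hxu : x * u = u * x) :
    u ∈ centralizerIn S S := by
  have hM : S ⊓ Subgroup.centralizer ({u} : Set Ω) = S := by
    apply eq_of_card_prime_mul (H := A) (le_inf H.AS ?_) inf_le_left H.card ?_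
    · intro a ha
      rw [Subgroup.mem_centralizer_iff]
      intro h hh
      rw [Set.mem_singleton_iff] at hh
      rw [hh]
      exact (huA a ha).symm
    · intro h2
      apply hxA
      rw [← h2]
      refine Subgroup.mem_inf.mpr ⟨hx, Subgroup.mem_centralizer_iff.mpr ?_⟩
      intro h hh
      rw [Set.mem_singleton_iff] at hh
      rw [hh]
      exact hxu.symm
  refine mem_zc_iff.mpr ⟨hu, fun g hg => ?_⟩
  have hg' : g ∈ S ⊓ Subgroup.centralizer ({u} : Set Ω) := by rw [hM]; exact hg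
  exact ((Subgroup.mem_centralizer_iff.mp (Subgroup.mem_inf.mp hg').2) u rfl).symm

theorem zc_le (H : AJHyp p F A) : centralizerIn S S ≤ A := by
  intro z hz
  by_contra hzA
  obtain ⟨hzS, hzc⟩ := mem_zc_iff.mp hz
  have hM : S ⊓ Subgroup.centralizer (A : Set Ω) = S := by
    apply eq_of_card_prime_mul (H := A) (le_inf H.AS ?_) inf_le_left H.card ?_
    · intro a ha
      rw [Subgroup.mem_centralizer_iff]
      intro h hh
      exact H.comm h hh a ha
    · intro h2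
      apply hzA
      rw [← h2]
      refine Subgroup.mem_inf.mpr ⟨hzS, Subgroup.mem_centralizer_iff.mpr ?_⟩
      intro h hh
      exact hzc h (H.AS hh)
  have hall : ∀ u ∈ S, u ∈ centralizerIn S S := by
    intro u hu
    have hu' : u ∈ S ⊓ Subgroup.centralizer (A : Set Ω) := by rw [hM]; exact hu
    have huA : ∀ a ∈ A, a * u = u * a := fun a ha =>
      (Subgroup.mem_centralizer_iff.mp (Subgroup.mem_inf.mp hu').2) a ha
    exact H.mem_zc_of_commute hu huA hzS hzA (hzc u hu).symm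
  obtain ⟨u, hu, v, hv, huv⟩ := H.nonab
  exact huv ((mem_zc_iff.mp (hall v hv)).2 u hu)

theorem self_centralizing (H : AJHyp p F A) {u : Ω} (hu : u ∈ S)
    (huA : ∀ a ∈ A, a * u = u * a) : u ∈ A := by
  by_contra hne
  exact hne (H.zc_le (H.mem_zc_of_commute hu huA hu hne rfl))

theorem exists_dec (H : AJHyp p F A) {x : Ω} (hx : x ∈ S) (hxA : x ∉ A) {g : Ω} (hg : g ∈ S) :
    ∃ a ∈ A, ∃ k ∈ zpowers x, g = a * k := by
  have h1 : A ⊔ zpowers x = S := by
    apply eq_of_card_prime_mul (H := A) le_sup_left (sup_le H.AS (zpowers_le.mpr hx)) H.card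
    intro h2
    apply hxA
    rw [← h2]
    exact mem_sup_right (mem_zpowers x)
  apply mem_sup_of_normalizes (H := A) (K := zpowers x)
  · intro k hk h hh
    exact H.conj_mem (zpowers_le.mpr hx hk) hh
  · rw [h1]; exact hg

theorem pow_mem (H : AJHyp p F A) {g : Ω} (hg : g ∈ S) : g ^ p ∈ A :=
  pow_mem_of_card_prime_mul H.AS H.normal H.card hg

theorem comm_mem (H : AJHyp p F A) {u v : Ω} (hu : u ∈ S) (hv : v ∈ S) :
    u * v * u⁻¹ * v⁻¹ ∈ A := by
  have hN : (A.subgroupOf S).Normal := (normal_subgroupOf_iff_le_normalizer H.AS).mpr H.normal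
  have hfinA : Finite A := finite_of_le H.AS
  have h2 : Nat.card (A.subgroupOf S) = Nat.card A := by
    rw [← Subgroup.card_subtype S (A.subgroupOf S), Subgroup.map_subgroupOf_eq_of_le H.AS]
  have hq : Nat.card (↥S ⧸ A.subgroupOf S) = p := by
    rw [← Subgroup.index_eq_card]
    have h1 := Subgroup.card_mul_index (A.subgroupOf S)
    rw [h2, H.card, mul_comm p] at h1
    exact Nat.eq_of_mul_eq_mul_left Nat.card_pos h1
  have hcyc : IsCyclic (↥S ⧸ A.subgroupOf S) := isCyclic_of_prime_card hq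
  have hcomm' : ∀ a b : ↥S ⧸ A.subgroupOf S, a * b * a⁻¹ * b⁻¹ = 1 := by
    intro a b
    obtain ⟨g, hg⟩ := hcyc.exists_generator
    obtain ⟨i, rfl⟩ := mem_zpowers_iff.mp (hg a)
    obtain ⟨j, rfl⟩ := mem_zpowers_iff.mp (hg b)
    rw [(Commute.zpow_zpow_self g i j).eq]
    group
  have h3 : (((⟨u, hu⟩ : S) * ⟨v, hv⟩ * (⟨u, hu⟩ : S)⁻¹ * (⟨v, hv⟩ : S)⁻¹ : S) :
      ↥S ⧸ A.subgroupOf S) = 1 := by
    rw [QuotientGroup.mk_mul, QuotientGroup.mk_mul, QuotientGroup.mk_mul, QuotientGroup.mk_inv,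
      QuotientGroup.mk_inv]
    exact hcomm' _ _
  have h4 := (QuotientGroup.eq_one_iff _).mp h3
  exact mem_subgroupOf.mp h4

/-- Every automorphism of `S` preserves `A`. -/
theorem aut_A (H : AJHyp p F A) (γ : MulAut S) (x : S) (hx : (x : Ω) ∈ A) :
    ((γ x : S) : Ω) ∈ A := by
  obtain ⟨B, hB⟩ : ∃ B : Subgroup Ω,
      B = ((A.subgroupOf S).map γ.toMonoidHom).map S.subtype := ⟨_, rfl⟩
  have hBS : B ≤ S := by
    rw [hB]
    rintro _ ⟨y, -, rfl⟩
    exact y.2
  have hBc : ∀ u ∈ B, ∀ v ∈ B, u * v = v * u := by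
    rw [hB]
    rintro _ ⟨_, ⟨a, ha, rfl⟩, rfl⟩ _ ⟨_, ⟨b, hb, rfl⟩, rfl⟩
    have h1 : a * b = b * a :=
      Subtype.ext (H.comm a (mem_subgroupOf.mp ha) b (mem_subgroupOf.mp hb))
    have h2 := congrArg (fun y => ((γ y : S) : Ω)) h1
    simpa using h2
  have hfinA : Finite A := finite_of_le H.AS
  have hcard : Nat.card B = Nat.card A := by
    rw [hB, Subgroup.card_subtype, Subgroup.card_map_of_injective γ.injective,
      ← Subgroup.card_subtype S (A.subgroupOf S), Subgroup.map_subgroupOf_eq_of_le H.AS]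
  have hBA : B = A := H.uniq B hBS hBc (by rw [hcard]; exact H.card)
  rw [← hBA, hB]
  exact ⟨γ x, ⟨x, mem_subgroupOf.mpr hx, rfl⟩, rfl⟩

theorem zc_le_ess (_H : AJHyp p F A) {P : Subgroup Ω} (hP : F.IsEssential p P) :
    centralizerIn S S ≤ P := by
  have hPS : P ≤ S := hP.1.1
  intro x hx
  obtain ⟨hxS, hxc⟩ := Subgroup.mem_inf.mp hx
  apply hP.1.2 P (Cfsg.Agent.Lib.helper88.isConj_refl F hPS)
  exact Subgroup.mem_inf.mpr ⟨hxS, Subgroup.centralizer_le (SetLike.coe_subset_coe.mpr hPS) hxc⟩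

theorem exists_not_mem (H : AJHyp p F A) {P : Subgroup Ω} (hP : F.IsEssential p P)
    (hPA' : P ≠ A) : ∃ x ∈ P, x ∉ A := by
  by_contra hcon
  push Not at hcon
  have hPS : P ≤ S := hP.1.1
  have hAP : A ≤ P := by
    intro a ha
    apply hP.1.2 P (Cfsg.Agent.Lib.helper88.isConj_refl F hPS)
    refine Subgroup.mem_inf.mpr ⟨H.AS ha, Subgroup.mem_centralizer_iff.mpr ?_⟩
    intro h hh
    exact H.comm h (hcon h hh) a ha
  exact hPA' (le_antisymm (fun x hx => hcon x hx) hAP)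

/-- For an abelian essential subgroup `P`, `P ∩ A ≤ Z(S)`. -/
theorem ess_inf (H : AJHyp p F A) {P : Subgroup Ω} (hP : F.IsEssential p P) (hPA : P ≠ A)
    (hab : ∀ u ∈ P, ∀ v ∈ P, u * v = v * u) {u : Ω} (hu : u ∈ P) (huA : u ∈ A) :
    u ∈ centralizerIn S S := by
  obtain ⟨x, hxP, hxA⟩ := H.exists_not_mem hP hPA
  exact H.mem_zc_of_commute (hP.1.1 hu) (fun a ha => H.comm a ha u huA) (hP.1.1 hxP) hxA
    (hab x hxP u hu)

/-- An abelian essential subgroup is `Z(S)⟨x⟩`. -/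
theorem ess_eq (H : AJHyp p F A) {P : Subgroup Ω} (hP : F.IsEssential p P) (hPA : P ≠ A)
    (hab : ∀ u ∈ P, ∀ v ∈ P, u * v = v * u) {x : Ω} (hxP : x ∈ P) (hxA : x ∉ A) :
    P = centralizerIn S S ⊔ zpowers x := by
  have hPS : P ≤ S := hP.1.1
  apply le_antisymm
  · intro u hu
    obtain ⟨a, ha, k, hk, rfl⟩ := H.exists_dec (hPS hxP) hxA (hPS hu)
    have hkP : k ∈ P := zpowers_le.mpr hxP hk
    have haP : a ∈ P := by
      have h1 : a = a * k * k⁻¹ := by group
      rw [h1]; exact P.mul_mem hu (P.inv_mem hkP)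
    exact mul_mem (mem_sup_left (H.ess_inf hP hPA hab haP ha)) (mem_sup_right hk)
  · exact sup_le (H.zc_le_ess hP) (zpowers_le.mpr hxP)

/-- In a nonabelian essential subgroup `P`, the centre of `P` is `Z(S)`. -/
theorem mem_zc_of_central_ess (H : AJHyp p F A) {P : Subgroup Ω} (hP : F.IsEssential p P)
    (hnab : ¬ ∀ u ∈ P, ∀ v ∈ P, u * v = v * u) {w : Ω} (hw : w ∈ P)
    (hwc : ∀ v ∈ P, w * v = v * w) : w ∈ centralizerIn S S := by
  have hPS : P ≤ S := hP.1.1
  have hPA : P ≠ A := fun h => hnab (by rw [h]; exact H.comm)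
  obtain ⟨x, hxP, hxA⟩ := H.exists_not_mem hP hPA
  by_cases hwA : w ∈ A
  · exact H.mem_zc_of_commute (hPS hw) (fun a ha => H.comm a ha w hwA) (hPS hxP) hxA
      (hwc x hxP).symm
  · exfalso
    apply hnab
    have key : ∀ u ∈ P, ∃ a ∈ centralizerIn S S, ∃ i : ℤ, u = a * w ^ i := by
      intro u hu
      obtain ⟨a, ha, k, hk, rfl⟩ := H.exists_dec (hPS hw) hwA (hPS hu)
      have hkP : k ∈ P := zpowers_le.mpr hw hk
      have haP : a ∈ P := by
        have h1 : a = a * k * k⁻¹ := by group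
        rw [h1]; exact P.mul_mem hu (P.inv_mem hkP)
      obtain ⟨i, rfl⟩ := mem_zpowers_iff.mp hk
      refine ⟨a, ?_, i, rfl⟩
      exact H.mem_zc_of_commute (hPS haP) (fun b hb => H.comm b hb a ha) (hPS hw) hwA
        (hwc a haP)
    intro u hu v hv
    obtain ⟨a, ha, i, rfl⟩ := key u hu
    obtain ⟨b, hb, j, rfl⟩ := key v hv
    have hac := (mem_zc_iff.mp ha).2
    have hbc := (mem_zc_iff.mp hb).2
    have hbS := (mem_zc_iff.mp hb).1
    have hwi : w ^ i ∈ S := S.zpow_mem (hPS hw) i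
    have hwj : w ^ j ∈ S := S.zpow_mem (hPS hw) j
    have hk := (Commute.zpow_zpow_self w i j).eq
    calc a * w ^ i * (b * w ^ j) = a * (w ^ i * b) * w ^ j := by simp only [mul_assoc]
      _ = a * (b * w ^ i) * w ^ j := by rw [hbc _ hwi]
      _ = a * b * (w ^ i * w ^ j) := by simp only [mul_assoc]
      _ = a * b * (w ^ j * w ^ i) := by rw [hk]
      _ = b * a * (w ^ j * w ^ i) := by rw [hac b hbS]
      _ = b * (a * w ^ j) * w ^ i := by simp only [mul_assoc]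
      _ = b * (w ^ j * a) * w ^ i := by rw [hac _ hwj]
      _ = b * w ^ j * (a * w ^ i) := by simp only [mul_assoc]

/-- Automorphisms of a nonabelian essential subgroup preserve `Z(S)`. -/
theorem ess_aut_zc (H : AJHyp p F A) {P : Subgroup Ω} (hP : F.IsEssential p P)
    (hnab : ¬ ∀ u ∈ P, ∀ v ∈ P, u * v = v * u) (α : MulAut P) (u : P)
    (hu : (u : Ω) ∈ centralizerIn S S) : ((α u : P) : Ω) ∈ centralizerIn S S := by
  have hPS : P ≤ S := hP.1.1
  apply H.mem_zc_of_central_ess hP hnab (α u).2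
  intro v hv
  have huc := (mem_zc_iff.mp hu).2
  have h1 : α.symm ⟨v, hv⟩ * u = u * α.symm ⟨v, hv⟩ :=
    Subtype.ext (huc _ (hPS (α.symm ⟨v, hv⟩).2))
  have h2 := congrArg (fun y => ((α y : P) : Ω)) h1
  have h3 : v * ((α u : P) : Ω) = ((α u : P) : Ω) * v := by simpa using h2
  exact h3.symm

end AJHyp

end Fusion

end Cfsg.Agent.Lib.helper89
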