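import Cfsg.Agent.Lib.helper89.AbJA

/-!
# Unique abelian subgroup of index `p`: the essential subgroups other than `A`

For `H : AJHyp p F A` and an essential subgroup `P ≠ A`:
* `exists_zpow_mem`: `(A ∩ N_S(P)) P / P` is cyclic;
* `card_normalizer`: `|N_S(P) : P| = p`;
* `ess_nonab`: a nonabelian `P` is `Z₂(S)⟨x⟩`, and `Z₂(S) ≤ A`;
* `exists_gen`: `Z₂(S) ≤ A` and `A ∩ Z₂(S) = Z(S)⟨a₀⟩` with `a₀ ^ p ∈ Z(S)`.
-/

set_option autoImplicit false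
set_option linter.unusedSectionVars false

namespace Cfsg.Agent.Lib.helper89

open Cfsg Cfsg.FusionSystem Subgroup

theorem comm_dec {G : Type*} [Group G] {s a' k : G} (e1 : s * a' = a' * s)
    (e2 : a' * (s * k * s⁻¹ * k⁻¹) = (s * k * s⁻¹ * k⁻¹) * a') :
    s * (a' * k) * s⁻¹ * (a' * k)⁻¹ = s * k * s⁻¹ * k⁻¹ := by
  calc s * (a' * k) * s⁻¹ * (a' * k)⁻¹ = (s * a') * (k * s⁻¹ * k⁻¹ * a'⁻¹) := by
        simp only [mul_assoc, mul_inv_rev]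
    _ = (a' * s) * (k * s⁻¹ * k⁻¹ * a'⁻¹) := by rw [e1]
    _ = (a' * (s * k * s⁻¹ * k⁻¹)) * a'⁻¹ := by simp only [mul_assoc]
    _ = s * k * s⁻¹ * k⁻¹ := by rw [e2, mul_inv_cancel_right]

section Fusion

variable {Ω : Type*} [Group Ω] {S : Subgroup Ω}

namespace AJHyp

variable [Finite S] {p : ℕ} [Fact p.Prime] {F : FusionSystem S} {A : Subgroup Ω}

theorem exists_s (H : AJHyp p F A) {P : Subgroup Ω} (hP : F.IsEssential p P) {x : Ω}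
    (hxP : x ∈ P) (hxA : x ∉ A) :
    ∃ s ∈ A, s ∈ Subgroup.normalizer (P : Set Ω) ∧ s ∉ P := by
  have hPS : P ≤ S := hP.1.1
  have hlt := Cfsg.Agent.Lib.helper86.essential_lt H.pS F H.sat hP
  obtain ⟨g, hgN, hgP⟩ := exists_mem_normalizerIn_not_mem H.pS hlt
  obtain ⟨hgS, hgN'⟩ := Subgroup.mem_inf.mp hgN
  obtain ⟨a, ha, k, hk, rfl⟩ := H.exists_dec (hPS hxP) hxA hgS
  have hkP : k ∈ P := zpowers_le.mpr hxP hk
  refine ⟨a, ha, ?_, ?_⟩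
  · have h1 : a = a * k * k⁻¹ := by group
    rw [h1]
    exact Subgroup.mul_mem _ hgN' (Subgroup.inv_mem _ (Subgroup.le_normalizer hkP))
  · intro haP
    exact hgP (P.mul_mem haP hkP)

theorem ess_gen (H : AJHyp p F A) {P : Subgroup Ω} (hPS : P ≤ S) {x : Ω} (hxP : x ∈ P)
    (hxA : x ∉ A) (y : P) : ∃ z ∈ A.subgroupOf P, ∃ i : ℤ, y = z * (⟨x, hxP⟩ : P) ^ i := by
  obtain ⟨a, ha, k, hk, hyak⟩ := H.exists_dec (hPS hxP) hxA (hPS y.2)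
  have hkP : k ∈ P := zpowers_le.mpr hxP hk
  have haP : a ∈ P := by
    have h1 : a = (y : Ω) * k⁻¹ := by rw [hyak]; group
    rw [h1]; exact P.mul_mem y.2 (P.inv_mem hkP)
  obtain ⟨i, rfl⟩ := mem_zpowers_iff.mp hk
  refine ⟨⟨a, haP⟩, mem_subgroupOf.mpr ha, i, ?_⟩
  apply Subtype.ext
  rw [Subgroup.coe_mul, Subgroup.coe_zpow]
  exact hyak

/-- `(A ∩ N_S(P)) P / P` is cyclic, generated by any element outside `P`. -/
theorem exists_zpow_mem (H : AJHyp p F A) {P : Subgroup Ω} (hP : F.IsEssential p P) {x : Ω}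
    (hxP : x ∈ P) (hxA : x ∉ A) {a₁ a₂ : Ω} (ha₁ : a₁ ∈ A)
    (ha₁N : a₁ ∈ Subgroup.normalizer (P : Set Ω)) (ha₁P : a₁ ∉ P) (ha₂ : a₂ ∈ A)
    (ha₂N : a₂ ∈ Subgroup.normalizer (P : Set Ω)) : ∃ j : ℤ, a₂ * a₁ ^ j ∈ P := by
  by_contra hcon
  push Not at hcon
  have hPS : P ≤ S := hP.1.1
  have hfinP : Finite P := finite_of_le hPS
  have hxS : x ∈ S := hPS hxP
  obtain ⟨x₀, hx₀⟩ : ∃ x₀ : P, x₀ = ⟨x, hxP⟩ := ⟨_, rfl⟩
  have hx₀c : (x₀ : Ω) = x := by rw [hx₀]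
  have hcA : ∀ u v : A, u * v = v * u := fun u v => Subtype.ext (H.comm u u.2 v v.2)
  have hxN : x⁻¹ ∈ Subgroup.normalizer (A : Set Ω) := H.normal (S.inv_mem hxS)
  obtain ⟨ψ, hψ⟩ : ∃ ψ : A →* A,
      ψ = cmHom' hcA (Cfsg.Agent.Lib.helper88.conjAut A x⁻¹ hxN) := ⟨_, rfl⟩
  have hψapp : ∀ (b : Ω) (hb : b ∈ A), ((ψ ⟨b, hb⟩ : A) : Ω) = x⁻¹ * (b * x * b⁻¹) := by
    intro b hb
    rw [hψ, cmHom'_apply]
    unfold cm
    rw [Subgroup.coe_mul, Subgroup.coe_inv, Cfsg.Agent.Lib.helper88.conjAut_apply]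
    show b⁻¹ * (x⁻¹ * b * x⁻¹⁻¹) = x⁻¹ * (b * x * b⁻¹)
    have h1 : x⁻¹ * b * x ∈ A := H.conj_mem' hxS hb
    have h2 := H.comm b⁻¹ (A.inv_mem hb) (x⁻¹ * b * x) h1
    rw [inv_inv]
    calc b⁻¹ * (x⁻¹ * b * x) = (x⁻¹ * b * x) * b⁻¹ := h2
      _ = x⁻¹ * (b * x * b⁻¹) := by group
  have hcmψ : ∀ (b : Ω) (hb : b ∈ A) (hbN : b ∈ Subgroup.normalizer (P : Set Ω)),
      ((cm (Cfsg.Agent.Lib.helper88.conjAut P b hbN) x₀ : P) : Ω) = ((ψ ⟨b, hb⟩ : A) : Ω) := by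
    intro b hb hbN
    rw [hψapp]
    unfold cm
    rw [Subgroup.coe_mul, Subgroup.coe_inv, Cfsg.Agent.Lib.helper88.conjAut_apply, hx₀c]
  have key : ∀ γ : MulAut P, ∃ (a : Ω) (haN : a ∈ Subgroup.normalizer (P : Set Ω)),
      a ∈ A ∧ a ∉ P ∧
      ((γ (cm (Cfsg.Agent.Lib.helper88.conjAut P a haN) x₀) : P) : Ω) ∈ A := by
    intro γ
    by_cases h1 : ((γ (cm (Cfsg.Agent.Lib.helper88.conjAut P a₁ ha₁N) x₀) : P) : Ω) ∈ A
    · exact ⟨a₁, ha₁N, ha₁, ha₁P, h1⟩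
    · obtain ⟨y₁, hy₁⟩ : ∃ y₁ : P,
          y₁ = γ (cm (Cfsg.Agent.Lib.helper88.conjAut P a₁ ha₁N) x₀) := ⟨_, rfl⟩
      obtain ⟨y₂, hy₂⟩ : ∃ y₂ : P,
          y₂ = γ (cm (Cfsg.Agent.Lib.helper88.conjAut P a₂ ha₂N) x₀) := ⟨_, rfl⟩
      rw [← hy₁] at h1
      obtain ⟨a', ha', k, hk, hy₂ak⟩ := H.exists_dec (hPS y₁.2) h1 (hPS y₂.2)
      obtain ⟨i, rfl⟩ := mem_zpowers_iff.mp hk
      have haA : a₂ * a₁ ^ (-i) ∈ A := A.mul_mem ha₂ (A.zpow_mem ha₁ _)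
      have haN : a₂ * a₁ ^ (-i) ∈ Subgroup.normalizer (P : Set Ω) :=
        Subgroup.mul_mem _ ha₂N (Subgroup.zpow_mem _ ha₁N _)
      refine ⟨a₂ * a₁ ^ (-i), haN, haA, hcon (-i), ?_⟩
      have e1 : cm (Cfsg.Agent.Lib.helper88.conjAut P (a₂ * a₁ ^ (-i)) haN) x₀ =
          cm (Cfsg.Agent.Lib.helper88.conjAut P a₂ ha₂N) x₀ *
            (cm (Cfsg.Agent.Lib.helper88.conjAut P a₁ ha₁N) x₀) ^ (-i) := by
        apply Subtype.ext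
        rw [Subgroup.coe_mul, Subgroup.coe_zpow, hcmψ _ haA, hcmψ _ ha₂, hcmψ _ ha₁]
        have e2 : (⟨a₂ * a₁ ^ (-i), haA⟩ : A) = ⟨a₂, ha₂⟩ * (⟨a₁, ha₁⟩ : A) ^ (-i) := by
          apply Subtype.ext
          simp only [Subgroup.coe_mul, Subgroup.coe_zpow]
        rw [e2, map_mul, map_zpow, Subgroup.coe_mul, Subgroup.coe_zpow]
      rw [e1, map_mul, map_zpow, ← hy₁, ← hy₂, Subgroup.coe_mul, Subgroup.coe_zpow, hy₂ak]
      have e3 : a' * (y₁ : Ω) ^ i * (y₁ : Ω) ^ (-i) = a' := by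
        rw [mul_assoc, ← zpow_add, add_neg_cancel, zpow_zero, mul_one]
      rw [e3]
      exact ha'
  have hM₀n : (A.subgroupOf P).Normal := by
    refine ⟨fun n hn g => ?_⟩
    rw [mem_subgroupOf] at hn ⊢
    rw [Subgroup.coe_mul, Subgroup.coe_mul, Subgroup.coe_inv]
    exact H.conj_mem (hPS g.2) hn
  have hgen : ∀ y : P, ∃ z ∈ A.subgroupOf P, ∃ i : ℤ, y = z * x₀ ^ i := by
    intro y
    rw [hx₀]
    exact H.ess_gen hPS hxP hxA y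
  have hfix : ∀ (b : Ω) (_ : b ∈ A) (hbN : b ∈ Subgroup.normalizer (P : Set Ω)) (y : P),
      (y : Ω) ∈ A → Cfsg.Agent.Lib.helper88.conjAut P b hbN y = y := by
    intro b hb hbN y hy
    apply Subtype.ext
    rw [Cfsg.Agent.Lib.helper88.conjAut_apply, H.comm b hb y hy, mul_inv_cancel_right]
  have hcmA : ∀ (b : Ω) (_ : b ∈ A) (hbN : b ∈ Subgroup.normalizer (P : Set Ω)) (y : P),
      ((cm (Cfsg.Agent.Lib.helper88.conjAut P b hbN) y : P) : Ω) ∈ A := by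
    intro b hb hbN y
    unfold cm
    rw [Subgroup.coe_mul, Subgroup.coe_inv, Cfsg.Agent.Lib.helper88.conjAut_apply]
    have h1 : (y : Ω)⁻¹ * (b * y * b⁻¹) = ((y : Ω)⁻¹ * b * y) * b⁻¹ := by group
    rw [h1]
    exact A.mul_mem (H.conj_mem' (hPS y.2) hb) (A.inv_mem hb)
  have hfa_rec := Cfsg.Agent.Lib.helper88.fullyAutomized_receptive_of_fullyNormalized H.pS F
    H.sat hP.2.1
  obtain ⟨α, hα, hαK⟩ := Cfsg.Agent.Lib.helper86.exists_not_mem_closure_extSet H.pS F H.sat hP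
  apply hαK
  obtain ⟨b₁, hb₁N, hb₁, hb₁P, hb₁α⟩ := key α⁻¹
  obtain ⟨b₂, hb₂N, hb₂, hb₂P, hb₂α⟩ := key α
  obtain ⟨τ₁, hτ₁⟩ : ∃ τ₁, τ₁ = Cfsg.Agent.Lib.helper88.conjAut P b₁ hb₁N := ⟨_, rfl⟩
  obtain ⟨τ₂, hτ₂⟩ : ∃ τ₂, τ₂ = Cfsg.Agent.Lib.helper88.conjAut P b₂ hb₂N := ⟨_, rfl⟩
  rw [← hτ₁] at hb₁α
  rw [← hτ₂] at hb₂α
  obtain ⟨N, hN⟩ : ∃ N : Subgroup P,
      N = A.subgroupOf P ⊓ (A.subgroupOf P).comap (α⁻¹ : MulAut P).toMonoidHom := ⟨_, rfl⟩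
  have hmemN : ∀ y : P, y ∈ N ↔ (y : Ω) ∈ A ∧ ((α⁻¹ y : P) : Ω) ∈ A := by
    intro y
    simp only [hN, Subgroup.mem_inf, Subgroup.mem_comap, mem_subgroupOf,
      MulEquiv.coe_toMonoidHom]
  have hQ₁n : ((A.subgroupOf P).comap (α⁻¹ : MulAut P).toMonoidHom).Normal := hM₀n.comap _
  have hQ₂n : ((A.subgroupOf P).comap (α : MulAut P).toMonoidHom).Normal := hM₀n.comap _
  have hS1 : Stab3 N N τ₁ := by
    have hfixN : ∀ y ∈ N, τ₁ y = y := by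
      intro y hy
      rw [hτ₁]
      exact hfix b₁ hb₁ hb₁N y ((hmemN y).mp hy).1
    refine ⟨hfixN, fun y hy => ?_, fun y => ?_⟩
    · rw [hfixN y hy, inv_mul_cancel]
      exact N.one_mem
    · rw [hmemN]
      constructor
      · have h1 := hcmA b₁ hb₁ hb₁N y
        rw [← hτ₁] at h1
        exact h1
      · have h₀ : ∀ z ∈ A.subgroupOf P,
            z⁻¹ * τ₁ z ∈ (A.subgroupOf P).comap (α⁻¹ : MulAut P).toMonoidHom := by
          intro z hz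
          rw [hτ₁, hfix b₁ hb₁ hb₁N z (mem_subgroupOf.mp hz), inv_mul_cancel]
          exact Subgroup.one_mem _
        have hx : x₀⁻¹ * τ₁ x₀ ∈ (A.subgroupOf P).comap (α⁻¹ : MulAut P).toMonoidHom := hb₁α
        exact cm_mem_of_gen τ₁ _ hQ₁n (A.subgroupOf P) x₀ h₀ hx hgen y
  have hS2 : Stab3 N N (α * τ₂ * α⁻¹) := by
    have hfixN : ∀ y ∈ N, (α * τ₂ * α⁻¹) y = y := by
      intro y hy
      have h1 : (α * τ₂ * α⁻¹) y = α (τ₂ (α⁻¹ y)) := rfl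
      rw [h1, hτ₂, hfix b₂ hb₂ hb₂N (α⁻¹ y) ((hmemN y).mp hy).2]
      simp
    refine ⟨hfixN, fun y hy => ?_, fun y => ?_⟩
    · rw [hfixN y hy, inv_mul_cancel]
      exact N.one_mem
    · have h1 : y⁻¹ * (α * τ₂ * α⁻¹) y = α (cm τ₂ (α⁻¹ y)) := cm_conj α τ₂ y
      rw [h1, hmemN]
      constructor
      · have h₀ : ∀ z ∈ A.subgroupOf P,
            z⁻¹ * τ₂ z ∈ (A.subgroupOf P).comap (α : MulAut P).toMonoidHom := by
          intro z hz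
          rw [hτ₂, hfix b₂ hb₂ hb₂N z (mem_subgroupOf.mp hz), inv_mul_cancel]
          exact Subgroup.one_mem _
        have hx : x₀⁻¹ * τ₂ x₀ ∈ (A.subgroupOf P).comap (α : MulAut P).toMonoidHom := hb₂α
        exact cm_mem_of_gen τ₂ _ hQ₂n (A.subgroupOf P) x₀ h₀ hx hgen (α⁻¹ y)
      · have h2 : α⁻¹ (α (cm τ₂ (α⁻¹ y))) = cm τ₂ (α⁻¹ y) := by simp
        rw [h2]
        have h3 := hcmA b₂ hb₂ hb₂N (α⁻¹ y)
        rw [← hτ₂] at h3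
        exact h3
  have hτ₁A : τ₁ ∈ F.autGroup P := by
    rw [hτ₁]
    exact autInducedBy_le_autGroup F hPS
      (Cfsg.Agent.Lib.helper88.conjAut_mem S P b₁ hb₁N (H.AS hb₁))
  have hτ₂A : τ₂ ∈ F.autGroup P := by
    rw [hτ₂]
    exact autInducedBy_le_autGroup F hPS
      (Cfsg.Agent.Lib.helper88.conjAut_mem S P b₂ hb₂N (H.AS hb₂))
  obtain ⟨B, hB⟩ : ∃ B : Set (MulAut P), B = {τ₁, α * τ₂ * α⁻¹} := ⟨_, rfl⟩
  have hBst : ∀ δ ∈ B, Stab3 N N δ := by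
    intro δ hδ
    rw [hB] at hδ
    rcases hδ with h | h
    · rw [h]; exact hS1
    · rw [Set.mem_singleton_iff] at h
      rw [h]; exact hS2
  have hBA : closure B ≤ F.autGroup P := by
    rw [closure_le]
    intro δ hδ
    rw [hB] at hδ
    rcases hδ with h | h
    · rw [h]; exact hτ₁A
    · rw [Set.mem_singleton_iff] at h
      rw [h]; exact mul_mem (mul_mem hα hτ₂A) (inv_mem hα)
  have hBp : IsPGroup p (closure B) :=
    isPGroup_closure_of_stab3 (H.pS.to_le hPS) N N le_rfl B hBst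
  obtain ⟨β, hβ, hβB⟩ := exists_conj_into_autS F hfa_rec.1 (closure B) hBA hBp
  have h1 : β ∈ Cfsg.Agent.Lib.helper86.extSet F P := by
    refine Cfsg.Agent.Lib.helper86.mem_extSet_of_conj F hfa_rec.2 hβ (H.AS hb₁) hb₁N hb₁P
      (c := τ₁) ?_ ?_
    · intro u
      rw [hτ₁]
      rfl
    · exact hβB τ₁ (subset_closure (by rw [hB]; exact Set.mem_insert _ _))
  have h2 : β * α ∈ Cfsg.Agent.Lib.helper86.extSet F P := by
    refine Cfsg.Agent.Lib.helper86.mem_extSet_of_conj F hfa_rec.2 (mul_mem hβ hα) (H.AS hb₂)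
      hb₂N hb₂P (c := τ₂) ?_ ?_
    · intro u
      rw [hτ₂]
      rfl
    · have h3 := hβB (α * τ₂ * α⁻¹)
        (subset_closure (by rw [hB]; exact Set.mem_insert_of_mem _ (Set.mem_singleton _)))
      have e : β * α * τ₂ * (β * α)⁻¹ = β * (α * τ₂ * α⁻¹) * β⁻¹ := by group
      rw [e]
      exact h3
  have h3 : α = β⁻¹ * (β * α) := by group
  rw [h3]
  exact mul_mem (inv_mem (subset_closure h1)) (subset_closure h2)

theorem pow_mem_ess (H : AJHyp p F A) {P : Subgroup Ω} (hP : F.IsEssential p P) {x : Ω}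
    (hxP : x ∈ P) (hxA : x ∉ A) {a₁ : Ω} (ha₁ : a₁ ∈ A)
    (ha₁N : a₁ ∈ Subgroup.normalizer (P : Set Ω)) : a₁ ^ p ∈ P := by
  by_contra hpP
  have hpA : a₁ ^ p ∈ A := Subgroup.pow_mem _ ha₁ p
  have hpN : a₁ ^ p ∈ Subgroup.normalizer (P : Set Ω) := Subgroup.pow_mem _ ha₁N p
  obtain ⟨j, hj⟩ := H.exists_zpow_mem hP hxP hxA hpA hpN hpP ha₁ ha₁N
  have e : a₁ * (a₁ ^ p) ^ j = a₁ ^ (1 + (p : ℤ) * j) := by
    rw [zpow_add, zpow_one, zpow_mul, zpow_natCast]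
  rw [e] at hj
  obtain ⟨k, hk⟩ := H.pS ⟨a₁, H.AS ha₁⟩
  have hk' : a₁ ^ (p ^ k) = 1 := congrArg Subtype.val hk
  have hcop : IsCoprime (1 + (p : ℤ) * j) ((p : ℤ) ^ k) := by
    apply IsCoprime.pow_right
    exact ⟨1, -j, by ring⟩
  obtain ⟨u, v, huv⟩ := hcop
  have h1 : a₁ = (a₁ ^ (1 + (p : ℤ) * j)) ^ u * (a₁ ^ ((p : ℤ) ^ k)) ^ v := by
    rw [← zpow_mul, ← zpow_mul, ← zpow_add, mul_comm _ u, mul_comm _ v, huv, zpow_one]
  have h2 : a₁ ^ ((p : ℤ) ^ k) = 1 := by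
    rw [← Nat.cast_pow, zpow_natCast, hk']
  rw [h2, one_zpow, mul_one] at h1
  apply hpP
  have h3 : a₁ ∈ P := by
    rw [h1]
    exact P.zpow_mem hj u
  exact P.pow_mem h3 p

theorem card_normalizer (H : AJHyp p F A) {P : Subgroup Ω} (hP : F.IsEssential p P)
    (hPA : P ≠ A) : Nat.card ↥(S ⊓ Subgroup.normalizer (P : Set Ω)) = p * Nat.card P := by
  have hPS : P ≤ S := hP.1.1
  obtain ⟨x, hxP, hxA⟩ := H.exists_not_mem hP hPA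
  obtain ⟨s, hsA, hsN, hsP⟩ := H.exists_s hP hxP hxA
  have hfinK : Finite ↥(S ⊓ Subgroup.normalizer (P : Set Ω)) := finite_of_le inf_le_left
  apply card_eq_prime_mul_of_gen (le_inf hPS Subgroup.le_normalizer) inf_le_right
    (Subgroup.mem_inf.mpr ⟨H.AS hsA, hsN⟩) hsP (H.pow_mem_ess hP hxP hxA hsA hsN)
  intro g hg
  obtain ⟨hgS, hgN⟩ := Subgroup.mem_inf.mp hg
  obtain ⟨a, ha, k, hk, rfl⟩ := H.exists_dec (hPS hxP) hxA hgS
  have hkP : k ∈ P := zpowers_le.mpr hxP hk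
  have haN : a ∈ Subgroup.normalizer (P : Set Ω) := by
    have h1 : a = a * k * k⁻¹ := by group
    rw [h1]
    exact Subgroup.mul_mem _ hgN (Subgroup.inv_mem _ (Subgroup.le_normalizer hkP))
  obtain ⟨j, hj⟩ := H.exists_zpow_mem hP hxP hxA hsA hsN hsP ha haN
  obtain ⟨c, hc⟩ : ∃ c, c = s ^ j := ⟨_, rfl⟩
  rw [← hc] at hj
  have hcN : c⁻¹ ∈ Subgroup.normalizer (P : Set Ω) := by
    rw [hc]; exact Subgroup.inv_mem _ (Subgroup.zpow_mem _ hsN j)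
  have h2 : c⁻¹ * k * c⁻¹⁻¹ ∈ P := (Subgroup.mem_normalizer_iff.mp hcN k).mp hkP
  refine ⟨(a * c) * (c⁻¹ * k * c⁻¹⁻¹), P.mul_mem hj h2, -j, ?_⟩
  rw [zpow_neg, ← hc]
  group

/-- The radical criterion with `Z(S)`: an element of `N_S(P)` centralizing `P / Z(S)` lies in `P`
(`P` nonabelian essential). -/
theorem mem_of_comm_zc (H : AJHyp p F A) {P : Subgroup Ω} (hP : F.IsEssential p P)
    (hnab : ¬ ∀ u ∈ P, ∀ v ∈ P, u * v = v * u) {a : Ω} (haS : a ∈ S)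
    (haN : a ∈ Subgroup.normalizer (P : Set Ω))
    (hZ : ∀ w ∈ P, w⁻¹ * a * w * a⁻¹ ∈ centralizerIn S S) : a ∈ P := by
  have hPS : P ≤ S := hP.1.1
  apply mem_of_stab H.pS F H.sat hP ((centralizerIn S S).subgroupOf P) haS haN
  intro β hβ
  obtain ⟨τ, hτ⟩ : ∃ τ, τ = Cfsg.Agent.Lib.helper88.conjAut P a haN := ⟨_, rfl⟩
  rw [← hτ]
  have hτfix : ∀ y : P, (y : Ω) ∈ centralizerIn S S → τ y = y := by
    intro y hy
    apply Subtype.ext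
    rw [hτ, Cfsg.Agent.Lib.helper88.conjAut_apply, (mem_zc_iff.mp hy).2 a haS,
      mul_inv_cancel_right]
  have hfixN : ∀ y ∈ (centralizerIn S S).subgroupOf P, (β * τ * β⁻¹) y = y := by
    intro y hy
    have h1 : (β * τ * β⁻¹) y = β (τ (β⁻¹ y)) := rfl
    rw [h1, hτfix _ (H.ess_aut_zc hP hnab β⁻¹ y (mem_subgroupOf.mp hy))]
    simp
  refine ⟨hfixN, fun y hy => ?_, fun y => ?_⟩
  · rw [hfixN y hy, inv_mul_cancel]
    exact Subgroup.one_mem _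
  · have h1 : y⁻¹ * (β * τ * β⁻¹) y = β (cm τ (β⁻¹ y)) := cm_conj β τ y
    rw [h1, mem_subgroupOf]
    apply H.ess_aut_zc hP hnab β
    unfold cm
    rw [Subgroup.coe_mul, Subgroup.coe_inv, hτ, Cfsg.Agent.Lib.helper88.conjAut_apply]
    have h2 := hZ _ (β⁻¹ y).2
    have e : ((β⁻¹ y : P) : Ω)⁻¹ * (a * ((β⁻¹ y : P) : Ω) * a⁻¹) =
        ((β⁻¹ y : P) : Ω)⁻¹ * a * ((β⁻¹ y : P) : Ω) * a⁻¹ := by group
    rw [e]
    exact h2

/-- A nonabelian essential subgroup is `Z₂(S)⟨x⟩`, and `Z₂(S) ≤ A`. -/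
theorem ess_nonab (H : AJHyp p F A) {P : Subgroup Ω} (hP : F.IsEssential p P)
    (hnab : ¬ ∀ u ∈ P, ∀ v ∈ P, u * v = v * u) {x : Ω} (hxP : x ∈ P) (hxA : x ∉ A) :
    zc2 S ≤ A ∧ P = zc2 S ⊔ zpowers x ∧ ∃ y₁ ∈ A, y₁ ∈ zc2 S ∧ y₁ ∉ centralizerIn S S ∧
      y₁ ^ p ∈ centralizerIn S S ∧
      ∀ a ∈ A, a ∈ zc2 S → ∃ z ∈ centralizerIn S S, ∃ j : ℤ, a = z * y₁ ^ j := by
  have hPS : P ≤ S := hP.1.1
  have hfinP : Finite P := finite_of_le hPS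
  have hZP := H.zc_le_ess hP
  have hxS : x ∈ S := hPS hxP
  obtain ⟨s, hsA, hsN, hsP⟩ := H.exists_s hP hxP hxA
  have hsS : s ∈ S := H.AS hsA
  have hex : ∃ α ∈ F.autGroup P, ∃ y₁ : P, (y₁ : Ω) ∈ A ∧ ((α y₁ : P) : Ω) ∉ A := by
    by_contra hcon
    push Not at hcon
    apply hsP
    apply mem_of_stab H.pS F H.sat hP (A.subgroupOf P) hsS hsN
    intro β hβ
    obtain ⟨τ, hτ⟩ : ∃ τ, τ = Cfsg.Agent.Lib.helper88.conjAut P s hsN := ⟨_, rfl⟩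
    rw [← hτ]
    have hτfix : ∀ y : P, (y : Ω) ∈ A → τ y = y := by
      intro y hy
      apply Subtype.ext
      rw [hτ, Cfsg.Agent.Lib.helper88.conjAut_apply, H.comm s hsA y hy, mul_inv_cancel_right]
    have hfixN : ∀ y ∈ A.subgroupOf P, (β * τ * β⁻¹) y = y := by
      intro y hy
      have h1 : (β * τ * β⁻¹) y = β (τ (β⁻¹ y)) := rfl
      rw [h1, hτfix _ (hcon β⁻¹ (inv_mem hβ) y (mem_subgroupOf.mp hy))]
      simp
    refine ⟨hfixN, fun y hy => ?_, fun y => ?_⟩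
    · rw [hfixN y hy, inv_mul_cancel]
      exact Subgroup.one_mem _
    · have h1 : y⁻¹ * (β * τ * β⁻¹) y = β (cm τ (β⁻¹ y)) := cm_conj β τ y
      rw [h1, mem_subgroupOf]
      apply hcon β hβ
      unfold cm
      rw [Subgroup.coe_mul, Subgroup.coe_inv, hτ, Cfsg.Agent.Lib.helper88.conjAut_apply]
      have e : ((β⁻¹ y : P) : Ω)⁻¹ * (s * ((β⁻¹ y : P) : Ω) * s⁻¹) =
          (((β⁻¹ y : P) : Ω)⁻¹ * s * ((β⁻¹ y : P) : Ω)) * s⁻¹ := by group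
      rw [e]
      exact A.mul_mem (H.conj_mem' (hPS (β⁻¹ y).2) hsA) (A.inv_mem hsA)
  obtain ⟨α, hα, y₁, hy₁A, hb⟩ := hex
  obtain ⟨b, hbdef⟩ : ∃ b : Ω, b = ((α y₁ : P) : Ω) := ⟨_, rfl⟩
  rw [← hbdef] at hb
  have hbP : b ∈ P := by rw [hbdef]; exact (α y₁).2
  have hbS : b ∈ S := hPS hbP
  have hy₁S : (y₁ : Ω) ∈ S := hPS y₁.2
  have hL : ∀ m : P, (m : Ω) ∈ A → ((α⁻¹ m : P) : Ω) ∈ A → (m : Ω) ∈ centralizerIn S S := by
    intro m hm hm'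
    have h1 : α⁻¹ m * y₁ = y₁ * α⁻¹ m := Subtype.ext (H.comm _ hm' _ hy₁A)
    have h2 := congrArg (fun w => ((α w : P) : Ω)) h1
    simp only [map_mul, MulAut.apply_inv_self, Subgroup.coe_mul] at h2
    rw [← hbdef] at h2
    exact H.mem_zc_of_commute (hPS m.2) (fun a ha => H.comm a ha m hm) hbS hb h2.symm
  have hdec : ∀ u : P, (u : Ω) ∈ A →
      ∃ z ∈ centralizerIn S S, ∃ j : ℤ, (u : Ω) = z * (y₁ : Ω) ^ j := by
    intro u hu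
    obtain ⟨a', ha', k, hk, hαu⟩ := H.exists_dec hbS hb (hPS (α u).2)
    obtain ⟨j, rfl⟩ := mem_zpowers_iff.mp hk
    obtain ⟨n, hn⟩ : ∃ n : P, n = α u * (α y₁) ^ (-j) := ⟨_, rfl⟩
    have hnval : (n : Ω) = a' := by
      rw [hn, Subgroup.coe_mul, Subgroup.coe_zpow, ← hbdef, hαu, mul_assoc, ← zpow_add,
        add_neg_cancel, zpow_zero, mul_one]
    have hn' : α⁻¹ n = u * y₁ ^ (-j) := by
      rw [hn, map_mul, map_zpow]
      simp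
    have hnZ : (n : Ω) ∈ centralizerIn S S := by
      apply hL n
      · rw [hnval]; exact ha'
      · rw [hn', Subgroup.coe_mul, Subgroup.coe_zpow]
        exact A.mul_mem hu (A.zpow_mem hy₁A _)
    have hz := H.ess_aut_zc hP hnab α⁻¹ n hnZ
    refine ⟨((α⁻¹ n : P) : Ω), hz, j, ?_⟩
    rw [hn', Subgroup.coe_mul, Subgroup.coe_zpow, mul_assoc, ← zpow_add, neg_add_cancel,
      zpow_zero, mul_one]
  have hy₁Z : (y₁ : Ω) ∉ centralizerIn S S := by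
    intro h
    apply hb
    rw [hbdef]
    exact H.zc_le (H.ess_aut_zc hP hnab α y₁ h)
  have hy₁p : (y₁ : Ω) ^ p ∈ centralizerIn S S := by
    obtain ⟨m, hm⟩ : ∃ m : P, m = α (y₁ ^ p) := ⟨_, rfl⟩
    have hmval : (m : Ω) = b ^ p := by
      rw [hm, map_pow, Subgroup.coe_pow, ← hbdef]
    have hm' : α⁻¹ m = y₁ ^ p := by rw [hm]; simp
    have hmZ : (m : Ω) ∈ centralizerIn S S := by
      apply hL m
      · rw [hmval]; exact H.pow_mem hbS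
      · rw [hm', Subgroup.coe_pow]; exact Subgroup.pow_mem _ hy₁A p
    have h1 := H.ess_aut_zc hP hnab α⁻¹ m hmZ
    rw [hm', Subgroup.coe_pow] at h1
    exact h1
  obtain ⟨c, hcdef⟩ : ∃ c : Ω, c = (y₁ : Ω) * b * (y₁ : Ω)⁻¹ * b⁻¹ := ⟨_, rfl⟩
  have hcZ : c ∈ centralizerIn S S := by
    obtain ⟨m, hm⟩ : ∃ m : P, m = y₁ * α y₁ * y₁⁻¹ * (α y₁)⁻¹ := ⟨_, rfl⟩
    have hmval : (m : Ω) = c := by
      rw [hm, hcdef, hbdef]
      simp only [Subgroup.coe_mul, Subgroup.coe_inv]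
    have hm' : α⁻¹ m = α⁻¹ y₁ * y₁ * (α⁻¹ y₁)⁻¹ * y₁⁻¹ := by
      rw [hm]; simp
    rw [← hmval]
    apply hL m
    · rw [hmval, hcdef]; exact H.comm_mem hy₁S hbS
    · rw [hm']
      simp only [Subgroup.coe_mul, Subgroup.coe_inv]
      exact A.mul_mem (H.conj_mem (hPS (α⁻¹ y₁).2) hy₁A) (A.inv_mem hy₁A)
  have hy₁zc2 : (y₁ : Ω) ∈ zc2 S := by
    rw [mem_zc2_iff]
    refine ⟨hy₁S, fun g hg => ?_⟩
    obtain ⟨a', ha', k, hk, rfl⟩ := H.exists_dec hbS hb hg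
    obtain ⟨i, rfl⟩ := mem_zpowers_iff.mp hk
    have hcb : Commute c b := ((mem_zc_iff.mp hcZ).2 b hbS).symm
    have h1 : (y₁ : Ω) * b ^ i * (y₁ : Ω)⁻¹ = c ^ i * b ^ i := by
      rw [← conj_zpow, ← hcb.mul_zpow]
      congr 1
      rw [hcdef]; group
    have hci : c ^ i ∈ centralizerIn S S := Subgroup.zpow_mem _ hcZ i
    have h1' : (y₁ : Ω) * b ^ i * (y₁ : Ω)⁻¹ * (b ^ i)⁻¹ = c ^ i := by
      rw [h1, mul_inv_cancel_right]
    have e1 : (y₁ : Ω) * a' = a' * y₁ := H.comm _ hy₁A _ ha'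
    have e2 : a' * ((y₁ : Ω) * b ^ i * (y₁ : Ω)⁻¹ * (b ^ i)⁻¹) =
        ((y₁ : Ω) * b ^ i * (y₁ : Ω)⁻¹ * (b ^ i)⁻¹) * a' := by
      rw [h1']; exact (mem_zc_iff.mp hci).2 a' (H.AS ha')
    rw [comm_dec e1 e2, h1']
    exact hci
  have hzc2A : zc2 S ≤ A := by
    intro u hu
    by_contra huA
    have huS : u ∈ S := zc2_le S hu
    apply hsP
    apply H.mem_of_comm_zc hP hnab hsS hsN
    intro w hw
    obtain ⟨a', ha', k, hk, rfl⟩ := H.exists_dec huS huA (hPS hw)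
    have hkz : k ∈ zc2 S := (zpowers_le.mpr hu) hk
    have h1 := (mem_zc2_iff.mp (inv_mem hkz)).2 s hsS
    rw [inv_inv] at h1
    have e : (a' * k)⁻¹ * s * (a' * k) * s⁻¹ = k⁻¹ * s * k * s⁻¹ := by
      have e1 : a'⁻¹ * s * a' = s := by
        rw [mul_assoc, H.comm s hsA a' ha', inv_mul_cancel_left]
      calc (a' * k)⁻¹ * s * (a' * k) * s⁻¹ = k⁻¹ * (a'⁻¹ * s * a') * k * s⁻¹ := by
            simp only [mul_assoc, mul_inv_rev]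
        _ = k⁻¹ * s * k * s⁻¹ := by rw [e1]
    rw [e]
    exact h1
  have hzc2P : zc2 S ≤ P := by
    intro u hu
    have huS : u ∈ S := zc2_le S hu
    have hZ : ∀ w ∈ P, w⁻¹ * u * w * u⁻¹ ∈ centralizerIn S S := fun w hw =>
      comm_mem_zc_of_mem_zc2 hu (hPS hw)
    exact H.mem_of_comm_zc hP hnab huS (mem_normalizer_of_comm_mem_zc hZP hPS huS hZ) hZ
  have hPAzc2 : ∀ u ∈ P, u ∈ A → u ∈ zc2 S := by
    intro u hu huA
    obtain ⟨z, hz, j, huz⟩ := hdec ⟨u, hu⟩ huA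
    have h1 : u = z * (y₁ : Ω) ^ j := huz
    rw [h1]
    exact Subgroup.mul_mem _ (zc_le_zc2 S hz) (Subgroup.zpow_mem _ hy₁zc2 j)
  refine ⟨hzc2A, ?_, (y₁ : Ω), hy₁A, hy₁zc2, hy₁Z, hy₁p, ?_⟩
  · apply le_antisymm
    · intro u hu
      obtain ⟨a, ha, k, hk, rfl⟩ := H.exists_dec hxS hxA (hPS hu)
      have hkP : k ∈ P := zpowers_le.mpr hxP hk
      have haP : a ∈ P := by
        have h1 : a = a * k * k⁻¹ := by group
        rw [h1]; exact P.mul_mem hu (P.inv_mem hkP)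
      exact Subgroup.mul_mem _ (mem_sup_left (hPAzc2 a haP ha)) (mem_sup_right hk)
    · exact sup_le hzc2P (zpowers_le.mpr hxP)
  · intro a ha hazc2
    exact hdec ⟨a, hzc2P hazc2⟩ ha

/-- An abelian essential subgroup `P ≠ A`: `Z₂(S) ≤ A` and `A ∩ Z₂(S) = Z(S)⟨a₀⟩`. -/
theorem ess_ab (H : AJHyp p F A) {P : Subgroup Ω} (hP : F.IsEssential p P) (hPA : P ≠ A)
    (hab : ∀ u ∈ P, ∀ v ∈ P, u * v = v * u) :
    zc2 S ≤ A ∧ ∃ a₀ ∈ A, a₀ ∈ zc2 S ∧ a₀ ∉ centralizerIn S S ∧ a₀ ^ p ∈ centralizerIn S S ∧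
      ∀ a ∈ A, a ∈ zc2 S → ∃ z ∈ centralizerIn S S, ∃ j : ℤ, a = z * a₀ ^ j := by
  have hPS : P ≤ S := hP.1.1
  have hZP := H.zc_le_ess hP
  obtain ⟨x, hxP, hxA⟩ := H.exists_not_mem hP hPA
  have hxS : x ∈ S := hPS hxP
  obtain ⟨s, hsA, hsN, hsP⟩ := H.exists_s hP hxP hxA
  have hsS : s ∈ S := H.AS hsA
  have hzN : ∀ u ∈ zc2 S, u ∈ Subgroup.normalizer (P : Set Ω) := fun u hu =>
    mem_normalizer_of_comm_mem_zc hZP hPS (zc2_le S hu)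
      (fun w hw => comm_mem_zc_of_mem_zc2 hu (hPS hw))
  have hzc2A : zc2 S ≤ A := by
    intro u hu
    by_contra huA
    have huS : u ∈ S := zc2_le S hu
    have hAz : A ≤ zc2 S := by
      intro a ha
      rw [mem_zc2_iff]
      refine ⟨H.AS ha, fun g hg => ?_⟩
      obtain ⟨a', ha', k, hk, rfl⟩ := H.exists_dec huS huA hg
      have hkz : k ∈ zc2 S := (zpowers_le.mpr hu) hk
      have h1 := (mem_zc2_iff.mp hkz).2 a (H.AS ha)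
      have h2 : a * k * a⁻¹ * k⁻¹ ∈ centralizerIn S S := by
        have e : a * k * a⁻¹ * k⁻¹ = (k * a * k⁻¹ * a⁻¹)⁻¹ := by group
        rw [e]; exact inv_mem h1
      have e1 : a * a' = a' * a := H.comm a ha a' ha'
      have e2 := (mem_zc_iff.mp h2).2 a' (H.AS ha')
      rw [comm_dec e1 e2]
      exact h2
    have hSz : S ≤ zc2 S := by
      intro g hg
      obtain ⟨a', ha', k, hk, rfl⟩ := H.exists_dec huS huA hg
      exact Subgroup.mul_mem _ (hAz ha') ((zpowers_le.mpr hu) hk)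
    have hSN : S ⊓ Subgroup.normalizer (P : Set Ω) = S :=
      inf_eq_left.mpr (fun g hg => hzN g (hSz hg))
    have hcard := H.card_normalizer hP hPA
    rw [hSN] at hcard
    exact hPA (H.uniq P hPS hab hcard)
  refine ⟨hzc2A, s, hsA, ?_, fun h => hsP (hZP h), ?_, ?_⟩
  · rw [mem_zc2_iff]
    refine ⟨hsS, fun g hg => ?_⟩
    obtain ⟨a', ha', k, hk, rfl⟩ := H.exists_dec hxS hxA hg
    have hkP : k ∈ P := zpowers_le.mpr hxP hk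
    have h1 : s * k * s⁻¹ * k⁻¹ ∈ centralizerIn S S := by
      apply H.ess_inf hP hPA hab
      · exact P.mul_mem ((Subgroup.mem_normalizer_iff.mp hsN k).mp hkP) (P.inv_mem hkP)
      · exact H.comm_mem hsS (hPS hkP)
    have e1 : s * a' = a' * s := H.comm s hsA a' ha'
    have e2 := (mem_zc_iff.mp h1).2 a' (H.AS ha')
    rw [comm_dec e1 e2]
    exact h1
  · exact H.ess_inf hP hPA hab (H.pow_mem_ess hP hxP hxA hsA hsN) (Subgroup.pow_mem _ hsA p)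
  · intro a ha hazc2
    obtain ⟨j, hj⟩ := H.exists_zpow_mem hP hxP hxA hsA hsN hsP ha (hzN a hazc2)
    have hjA : a * s ^ j ∈ A := A.mul_mem ha (A.zpow_mem hsA j)
    refine ⟨a * s ^ j, H.ess_inf hP hPA hab hj hjA, -j, ?_⟩
    rw [mul_assoc, ← zpow_add, add_neg_cancel, zpow_zero, mul_one]

theorem exists_gen (H : AJHyp p F A) {P : Subgroup Ω} (hP : F.IsEssential p P) (hPA : P ≠ A) :
    zc2 S ≤ A ∧ ∃ a₀ ∈ A, a₀ ∈ zc2 S ∧ a₀ ∉ centralizerIn S S ∧ a₀ ^ p ∈ centralizerIn S S ∧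
      ∀ a ∈ A, a ∈ zc2 S → ∃ z ∈ centralizerIn S S, ∃ j : ℤ, a = z * a₀ ^ j := by
  by_cases hab : ∀ u ∈ P, ∀ v ∈ P, u * v = v * u
  · exact H.ess_ab hP hPA hab
  · obtain ⟨x, hxP, hxA⟩ := H.exists_not_mem hP hPA
    obtain ⟨h1, -, h3⟩ := H.ess_nonab hP hab hxP hxA
    exact ⟨h1, h3⟩

end AJHyp

end Fusion

end Cfsg.Agent.Lib.helper89
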