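import Cfsg.Agent.Lib.helper89.AbJB

/-!
# Unique abelian subgroup of index `p`: structure of `S` when some essential subgroup is not `A`

Given the generator `a₀` of `A ∩ Z₂(S)` modulo `Z(S)` (from `AJHyp.exists_gen`):
`|Z(S) ∩ [S,S]| = p`, `|A : Z(S)[S,S]| = p`, `|Z₂(S) : Z(S)| = p`, and `S / Z(S)` has maximal class.
-/

set_option autoImplicit false
set_option linter.unusedSectionVars false

namespace Cfsg.Agent.Lib.helper89

open Cfsg Cfsg.FusionSystem Subgroup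

section Generic

variable {E : Type*} [Group E]

/-- The elements normalizing `T` and acting trivially on `T` modulo `R`. -/
def centMod (T R : Subgroup E) : Subgroup E where
  carrier := {g | g ∈ normalizer (T : Set E) ∧ ∀ t ∈ T, g * t * g⁻¹ * t⁻¹ ∈ R}
  one_mem' := ⟨one_mem _, fun t _ => by simp⟩
  mul_mem' := by
    rintro g g' ⟨hg, hgR⟩ ⟨hg', hg'R⟩
    refine ⟨mul_mem hg hg', fun t ht => ?_⟩
    have ht' : g' * t * g'⁻¹ ∈ T := (mem_normalizer_iff.mp hg' t).mp ht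
    have e : g * g' * t * (g * g')⁻¹ * t⁻¹ =
        (g * (g' * t * g'⁻¹) * g⁻¹ * (g' * t * g'⁻¹)⁻¹) * (g' * t * g'⁻¹ * t⁻¹) := by group
    rw [e]
    exact R.mul_mem (hgR _ ht') (hg'R t ht)
  inv_mem' := by
    rintro g ⟨hg, hgR⟩
    refine ⟨inv_mem hg, fun t ht => ?_⟩
    have ht' : g⁻¹ * t * g⁻¹⁻¹ ∈ T := (mem_normalizer_iff.mp (inv_mem hg) t).mp ht
    have h1 := hgR _ ht'
    have e : g⁻¹ * t * g⁻¹⁻¹ * t⁻¹ =
        (g * (g⁻¹ * t * g⁻¹⁻¹) * g⁻¹ * (g⁻¹ * t * g⁻¹⁻¹)⁻¹)⁻¹ := by group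
    rw [e]
    exact R.inv_mem h1

/-- Variant of `card_le_mul_of_comm` where only the centralizer of `x` in `M` is controlled. -/
theorem card_le_mul_of_comm' {A M N Z : Subgroup E} [Finite M] [Finite N] [Finite Z] {x : E}
    {p : ℕ} (hA : ∀ a ∈ A, ∀ b ∈ A, a * b = b * a) (hx : ∀ a ∈ A, x * a * x⁻¹ ∈ A) (hMA : M ≤ A)
    (hMN : ∀ m ∈ M, m⁻¹ * x * m * x⁻¹ ∈ N) (hZ : ∀ a ∈ M, x * a = a * x → a ∈ Z)
    (hcard : Nat.card Z ≤ p) : Nat.card M ≤ p * Nat.card N := by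
  let f : M →* N :=
    { toFun := fun m => ⟨(m : E)⁻¹ * x * m * x⁻¹, hMN m m.2⟩
      map_one' := by
        apply Subtype.ext
        simp
      map_mul' := by
        intro m m'
        apply Subtype.ext
        show ((m * m' : M) : E)⁻¹ * x * ((m * m' : M) : E) * x⁻¹
          = ((m : E)⁻¹ * x * m * x⁻¹) * ((m' : E)⁻¹ * x * m' * x⁻¹)
        rw [Subgroup.coe_mul]
        have h1 : (m : E)⁻¹ * (x * m * x⁻¹) ∈ A :=
          A.mul_mem (A.inv_mem (hMA m.2)) (hx _ (hMA m.2))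
        have h2 := hA _ (A.inv_mem (hMA m'.2)) _ h1
        calc ((m : E) * m')⁻¹ * x * (m * m') * x⁻¹
            = (m' : E)⁻¹ * ((m : E)⁻¹ * (x * m * x⁻¹)) * (x * m' * x⁻¹) := by group
          _ = ((m : E)⁻¹ * (x * m * x⁻¹)) * (m' : E)⁻¹ * (x * m' * x⁻¹) := by rw [h2]
          _ = _ := by group }
  have h1 := Subgroup.card_mul_index f.ker
  rw [Subgroup.index_ker] at h1
  have h2 : Nat.card f.range ≤ Nat.card N := Subgroup.card_le_card_group _
  have hker : ∀ m : f.ker, ((m : M) : E) ∈ Z := by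
    intro m
    apply hZ _ (m : M).2
    have h3 : f (m : M) = 1 := MonoidHom.mem_ker.mp m.2
    have h4 : ((m : M) : E)⁻¹ * x * (m : M) * x⁻¹ = 1 := congrArg Subtype.val h3
    calc x * ((m : M) : E) = ((m : M) : E) * (((m : M) : E)⁻¹ * x * (m : M) * x⁻¹) * x := by group
      _ = ((m : M) : E) * x := by rw [h4, mul_one]
  have h3 : Nat.card f.ker ≤ Nat.card Z := by
    apply Nat.card_le_card_of_injective (fun m : f.ker => (⟨((m : M) : E), hker m⟩ : Z))
    intro m m' h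
    apply Subtype.ext
    apply Subtype.ext
    exact congrArg (fun z : Z => (z : E)) h
  calc Nat.card M = Nat.card f.ker * Nat.card f.range := h1.symm
    _ ≤ p * Nat.card N := Nat.mul_le_mul (h3.trans hcard) h2

/-- If `ker f ∩ range f` has order `p` for an endomorphism `f` of a finite group, then
`ker f ⊔ range f` has index `p`. -/
theorem index_ker_sup_range {G : Type*} [Group G] [Finite G] (f : G →* G) {p : ℕ}
    (hcard : Nat.card ↥(f.ker ⊓ f.range) = p) : (f.ker ⊔ f.range).index = p := by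
  have h1 : f.ker.relIndex (f.ker ⊔ f.range) * (f.ker ⊔ f.range).index = f.ker.index :=
    relIndex_mul_index le_sup_left
  have h2 : f.ker.relIndex (f.ker ⊔ f.range) = f.ker.relIndex f.range := relIndex_sup_left _ _
  have h3 : (f.ker ⊓ f.range).relIndex f.range = f.ker.relIndex f.range := inf_relIndex_right _ _
  have h4 := relIndex_mul_relIndex (⊥ : Subgroup G) (f.ker ⊓ f.range) f.range bot_le inf_le_right
  rw [relIndex_bot_left, relIndex_bot_left, hcard, h3] at h4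
  have h5 : f.ker.index = Nat.card f.range := Subgroup.index_ker f
  rw [h2, h5] at h1
  have hne : f.ker.relIndex f.range ≠ 0 :=
    Subgroup.index_ne_zero_of_finite (H := f.ker.subgroupOf f.range)
  have h6 : f.ker.relIndex f.range * (f.ker ⊔ f.range).index = f.ker.relIndex f.range * p := by
    rw [h1, ← h4, mul_comm]
  exact Nat.eq_of_mul_eq_mul_left (Nat.pos_of_ne_zero hne) h6

end Generic

section Fusion

variable {Ω : Type*} [Group Ω] {S : Subgroup Ω}

namespace AJHyp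

variable [Finite S] {p : ℕ} [Fact p.Prime] {F : FusionSystem S} {A : Subgroup Ω}

/-- If `A` and `x ∉ A` normalize `T` and act trivially on `T` modulo `R`, so does `S = A⟨x⟩`. -/
theorem comm_mem_of_gen (H : AJHyp p F A) {x : Ω} (hxS : x ∈ S) (hxA : x ∉ A) (T R : Subgroup Ω)
    (hA : ∀ a ∈ A, a ∈ normalizer (T : Set Ω) ∧ ∀ t ∈ T, a * t * a⁻¹ * t⁻¹ ∈ R)
    (hx : x ∈ normalizer (T : Set Ω) ∧ ∀ t ∈ T, x * t * x⁻¹ * t⁻¹ ∈ R) :
    ∀ g ∈ S, ∀ t ∈ T, g * t * g⁻¹ * t⁻¹ ∈ R := by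
  intro g hg
  obtain ⟨a, ha, k, hk, rfl⟩ := H.exists_dec hxS hxA hg
  have hx' : x ∈ centMod T R := hx
  have ha' : a ∈ centMod T R := hA a ha
  have h1 : a * k ∈ centMod T R := mul_mem ha' (zpowers_le.mpr hx' hk)
  exact h1.2

theorem index_zc_zc2 (_H : AJHyp p F A) {a₀ : Ω} (ha₀z : a₀ ∈ zc2 S)
    (ha₀Z : a₀ ∉ centralizerIn S S) (ha₀p : a₀ ^ p ∈ centralizerIn S S) (hzA : zc2 S ≤ A)
    (hgen : ∀ a ∈ A, a ∈ zc2 S → ∃ z ∈ centralizerIn S S, ∃ j : ℤ, a = z * a₀ ^ j) :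
    ((centralizerIn S S).subgroupOf (zc2 S)).index = p := by
  have hfin : Finite ↥(zc2 S) := finite_of_le (zc2_le S)
  apply index_subgroupOf_of_card (zc_le_zc2 S)
  apply card_eq_prime_mul_of_gen (zc_le_zc2 S) ((zc2_le S).trans le_normalizer_zc) ha₀z ha₀Z ha₀p
  intro g hg
  exact hgen g (hzA hg) hg

/-- The structure of `S` from a generator `a₀` of `A ∩ Z₂(S)` modulo `Z(S)`. -/
theorem structure_of_gen (H : AJHyp p F A) {a₀ : Ω} (ha₀ : a₀ ∈ A) (ha₀z : a₀ ∈ zc2 S)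
    (ha₀Z : a₀ ∉ centralizerIn S S) (ha₀p : a₀ ^ p ∈ centralizerIn S S)
    (hgen : ∀ a ∈ A, a ∈ zc2 S → ∃ z ∈ centralizerIn S S, ∃ j : ℤ, a = z * a₀ ^ j) :
    Nat.card ↥(centralizerIn S S ⊓ ⁅S, S⁆) = p ∧
    ((centralizerIn S S ⊔ ⁅S, S⁆).subgroupOf A).index = p ∧
    ∀ m : ℕ, ((centralizerIn S S).subgroupOf S).index = p ^ m → 3 ≤ m →
      ¬ S.lowerCentralSeries (m - 2) ≤ centralizerIn S S := by
  have hp := (Fact.out : p.Prime)
  obtain ⟨x, hxS, hxA⟩ := SetLike.exists_of_lt (lt_of_le_of_ne H.AS H.A_ne)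
  have hfinA : Finite A := finite_of_le H.AS
  have hfinZ : Finite (centralizerIn S S) := finite_of_le inf_le_left
  have hcA : ∀ u v : A, u * v = v * u := fun u v => Subtype.ext (H.comm u u.2 v v.2)
  have hxN : x ∈ Subgroup.normalizer (A : Set Ω) := H.normal hxS
  obtain ⟨ψ, hψ⟩ : ∃ ψ : A →* A,
      ψ = cmHom' hcA (Cfsg.Agent.Lib.helper88.conjAut A x hxN) := ⟨_, rfl⟩
  have hψval : ∀ (a : Ω) (ha : a ∈ A), ((ψ ⟨a, ha⟩ : A) : Ω) = x * a * x⁻¹ * a⁻¹ := by
    intro a ha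
    rw [hψ, cmHom'_apply]
    unfold cm
    rw [Subgroup.coe_mul, Subgroup.coe_inv, Cfsg.Agent.Lib.helper88.conjAut_apply]
    show a⁻¹ * (x * a * x⁻¹) = x * a * x⁻¹ * a⁻¹
    exact H.comm _ (A.inv_mem ha) _ (H.conj_mem hxS ha)
  have hker : ∀ (a : Ω) (ha : a ∈ A), ψ ⟨a, ha⟩ = 1 ↔ a ∈ centralizerIn S S := by
    intro a ha
    constructor
    · intro h
      have h1 : x * a * x⁻¹ * a⁻¹ = 1 := by
        rw [← hψval a ha, h]
        exact Subgroup.coe_one A
      have h2 : x * a = a * x := by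
        calc x * a = (x * a * x⁻¹ * a⁻¹) * a * x := by group
          _ = a * x := by rw [h1, one_mul]
      exact H.mem_zc_of_commute (H.AS ha) (fun b hb => H.comm b hb a ha) hxS hxA h2
    · intro h
      apply Subtype.ext
      rw [hψval a ha, (mem_zc_iff.mp h).2 x hxS]
      simp
  have hmemL : ∀ (a : Ω), a ∈ A → x * a * x⁻¹ * a⁻¹ ∈ ⁅S, S⁆ := by
    intro a ha
    have h1 := Subgroup.commutator_mem_commutator hxS (H.AS ha)
    rw [commutatorElement_def] at h1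
    exact h1
  have hLA : ⁅S, S⁆ ≤ A := by
    rw [Subgroup.commutator_le]
    intro g₁ hg₁ g₂ hg₂
    rw [commutatorElement_def]
    exact H.comm_mem hg₁ hg₂
  obtain ⟨R, hR⟩ : ∃ R : Subgroup Ω, R = ψ.range.map A.subtype := ⟨_, rfl⟩
  have hRmem : ∀ (a : Ω) (_ : a ∈ A), x * a * x⁻¹ * a⁻¹ ∈ R := by
    intro a ha
    rw [hR, ← hψval a ha]
    exact ⟨ψ ⟨a, ha⟩, ⟨⟨a, ha⟩, rfl⟩, rfl⟩
  have hRelim : ∀ r ∈ R, ∃ a, ∃ ha : a ∈ A, r = ((ψ ⟨a, ha⟩ : A) : Ω) := by
    intro r hr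
    rw [hR] at hr
    obtain ⟨y, ⟨a, rfl⟩, rfl⟩ := hr
    exact ⟨a, a.2, rfl⟩
  have hN2 : ∀ g ∈ S, ∀ t ∈ A, g * t * g⁻¹ * t⁻¹ ∈ R := by
    apply H.comm_mem_of_gen hxS hxA A R
    · intro a ha
      refine ⟨H.normal (H.AS ha), fun t ht => ?_⟩
      rw [H.comm a ha t ht, mul_inv_cancel_right, mul_inv_cancel]
      exact R.one_mem
    · exact ⟨hxN, fun t ht => hRmem t ht⟩
  have hC2 : ∀ g ∈ S, ∀ t ∈ S, g * t * g⁻¹ * t⁻¹ ∈ R := by
    apply H.comm_mem_of_gen hxS hxA S R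
    · intro a ha
      refine ⟨Subgroup.le_normalizer (H.AS ha), fun t ht => ?_⟩
      have h1 := hN2 t ht a ha
      have e : a * t * a⁻¹ * t⁻¹ = (t * a * t⁻¹ * a⁻¹)⁻¹ := by group
      rw [e]
      exact R.inv_mem h1
    · refine ⟨Subgroup.le_normalizer hxS, fun t ht => ?_⟩
      obtain ⟨a', ha', k, hk, rfl⟩ := H.exists_dec hxS hxA ht
      obtain ⟨i, rfl⟩ := mem_zpowers_iff.mp hk
      have hc : x ^ i * x⁻¹ = x⁻¹ * x ^ i := ((Commute.refl x).zpow_left i).inv_right.eq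
      have e : x * (a' * x ^ i) * x⁻¹ * (a' * x ^ i)⁻¹ = x * a' * x⁻¹ * a'⁻¹ := by
        calc x * (a' * x ^ i) * x⁻¹ * (a' * x ^ i)⁻¹
            = x * a' * (x ^ i * x⁻¹) * ((x ^ i)⁻¹ * a'⁻¹) := by
              simp only [mul_assoc, mul_inv_rev]
          _ = x * a' * (x⁻¹ * x ^ i) * ((x ^ i)⁻¹ * a'⁻¹) := by rw [hc]
          _ = x * a' * x⁻¹ * a'⁻¹ := by simp only [mul_assoc, mul_inv_cancel_left]
      rw [e]
      exact hRmem a' ha'
  have hLR : ⁅S, S⁆ = R := by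
    apply le_antisymm
    · rw [Subgroup.commutator_le]
      intro g₁ hg₁ g₂ hg₂
      rw [commutatorElement_def]
      exact hC2 g₁ hg₁ g₂ hg₂
    · intro r hr
      obtain ⟨a, ha, rfl⟩ := hRelim r hr
      rw [hψval a ha]
      exact hmemL a ha
  have hC4 : ∀ (a : Ω) (ha : a ∈ A),
      ((ψ ⟨a, ha⟩ : A) : Ω) ∈ centralizerIn S S ↔ a ∈ zc2 S := by
    intro a ha
    constructor
    · intro h
      obtain ⟨T, hT⟩ : ∃ T : Subgroup Ω,
          T = (((centralizerIn S S).subgroupOf A).comap ψ).map A.subtype := ⟨_, rfl⟩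
      have hTmem : ∀ t : Ω, t ∈ T ↔
          ∃ ht : t ∈ A, ((ψ ⟨t, ht⟩ : A) : Ω) ∈ centralizerIn S S := by
        intro t
        rw [hT]
        constructor
        · rintro ⟨y, hy, rfl⟩
          exact ⟨y.2, hy⟩
        · rintro ⟨ht, h1⟩
          exact ⟨⟨t, ht⟩, h1, rfl⟩
      have hTA : T ≤ A := fun t ht => ((hTmem t).mp ht).1
      have hfinT : Finite T := finite_of_le (hTA.trans H.AS)
      have hZT : centralizerIn S S ≤ T := by
        intro z hz
        rw [hTmem]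
        refine ⟨H.zc_le hz, ?_⟩
        rw [(hker z (H.zc_le hz)).mpr hz]
        exact Subgroup.one_mem _
      have hTZ : ∀ g ∈ S, ∀ t ∈ T, g * t * g⁻¹ * t⁻¹ ∈ centralizerIn S S := by
        apply H.comm_mem_of_gen hxS hxA T (centralizerIn S S)
        · intro a' ha'
          have hfix : ∀ t ∈ T, a' * t * a'⁻¹ = t := fun t ht => by
            rw [H.comm a' ha' t (hTA ht), mul_inv_cancel_right]
          refine ⟨Cfsg.Agent.Lib.helper88.mem_normalizer_of_conj_mem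
            (fun t ht => by rw [hfix t ht]; exact ht), fun t ht => ?_⟩
          rw [hfix t ht, mul_inv_cancel]
          exact Subgroup.one_mem _
        · have hxT : ∀ t ∈ T, x * t * x⁻¹ * t⁻¹ ∈ centralizerIn S S := by
            intro t ht
            obtain ⟨htA, h1⟩ := (hTmem t).mp ht
            rw [hψval t htA] at h1
            exact h1
          refine ⟨Cfsg.Agent.Lib.helper88.mem_normalizer_of_conj_mem (fun t ht => ?_), hxT⟩
          have e : x * t * x⁻¹ = (x * t * x⁻¹ * t⁻¹) * t := by group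
          rw [e]
          exact T.mul_mem (hZT (hxT t ht)) ht
      rw [mem_zc2_iff]
      refine ⟨H.AS ha, fun g hg => ?_⟩
      have h1 := hTZ g hg a ((hTmem a).mpr ⟨ha, h⟩)
      have e : a * g * a⁻¹ * g⁻¹ = (g * a * g⁻¹ * a⁻¹)⁻¹ := by group
      rw [e]
      exact inv_mem h1
    · intro h
      rw [hψval a ha]
      have h1 := (mem_zc2_iff.mp h).2 x hxS
      have e : x * a * x⁻¹ * a⁻¹ = (a * x * a⁻¹ * x⁻¹)⁻¹ := by group
      rw [e]
      exact inv_mem h1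
  have ha₀ker : ψ ⟨a₀, ha₀⟩ ≠ 1 := fun h => ha₀Z ((hker a₀ ha₀).mp h)
  obtain ⟨r₀, hr₀⟩ : ∃ r₀ : Ω, r₀ = ((ψ ⟨a₀, ha₀⟩ : A) : Ω) := ⟨_, rfl⟩
  have hr₀ne : r₀ ≠ 1 := by
    intro h
    apply ha₀ker
    apply Subtype.ext
    exact (hr₀.symm.trans h).trans (Subgroup.coe_one A).symm
  have hr₀p : r₀ ^ p = 1 := by
    have h1 : (ψ ⟨a₀, ha₀⟩) ^ p = 1 := by
      rw [← map_pow]
      have e : (⟨a₀, ha₀⟩ : A) ^ p = ⟨a₀ ^ p, Subgroup.pow_mem _ ha₀ p⟩ := rfl
      rw [e]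
      exact (hker _ _).mpr ha₀p
    calc r₀ ^ p = ((ψ ⟨a₀, ha₀⟩ ^ p : A) : Ω) := by rw [hr₀, Subgroup.coe_pow]
      _ = ((1 : A) : Ω) := by rw [h1]
      _ = 1 := Subgroup.coe_one A
  have hr₀Z : r₀ ∈ centralizerIn S S := by rw [hr₀]; exact (hC4 a₀ ha₀).mpr ha₀z
  have hr₀L : r₀ ∈ ⁅S, S⁆ := by rw [hr₀, hψval a₀ ha₀]; exact hmemL a₀ ha₀
  have hZL : centralizerIn S S ⊓ ⁅S, S⁆ = zpowers r₀ := by
    apply le_antisymm
    · intro u hu
      obtain ⟨huZ, huL⟩ := Subgroup.mem_inf.mp hu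
      rw [hLR] at huL
      obtain ⟨a, ha, rfl⟩ := hRelim u huL
      have hz := (hC4 a ha).mp huZ
      obtain ⟨z, hz', j, haz⟩ := hgen a ha hz
      have e : (⟨a, ha⟩ : A) = ⟨z, H.zc_le hz'⟩ * (⟨a₀, ha₀⟩ : A) ^ j := by
        apply Subtype.ext
        simp only [Subgroup.coe_mul, Subgroup.coe_zpow]
        exact haz
      rw [e, map_mul, map_zpow, (hker z (H.zc_le hz')).mpr hz', one_mul, Subgroup.coe_zpow,
        ← hr₀]
      exact zpow_mem_zpowers r₀ j
    · rw [zpowers_le]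
      exact Subgroup.mem_inf.mpr ⟨hr₀Z, hr₀L⟩
  have hcardZL : Nat.card ↥(centralizerIn S S ⊓ ⁅S, S⁆) = p := by
    rw [hZL, Nat.card_zpowers]
    exact orderOf_eq_prime hr₀p hr₀ne
  have hkerEq : (centralizerIn S S).subgroupOf A = ψ.ker := by
    ext y
    rw [mem_subgroupOf, MonoidHom.mem_ker]
    exact (hker y y.2).symm
  have hrangeEq : (⁅S, S⁆).subgroupOf A = ψ.range := by
    ext y
    rw [mem_subgroupOf, hLR]
    constructor
    · intro hy
      obtain ⟨a, ha, hya⟩ := hRelim _ hy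
      exact ⟨⟨a, ha⟩, Subtype.ext hya.symm⟩
    · rintro ⟨a, rfl⟩
      rw [hR]
      exact ⟨ψ a, ⟨a, rfl⟩, rfl⟩
  have hidx : ((centralizerIn S S ⊔ ⁅S, S⁆).subgroupOf A).index = p := by
    rw [subgroupOf_sup H.zc_le hLA, hkerEq, hrangeEq]
    apply index_ker_sup_range
    rw [← hkerEq, ← hrangeEq]
    have h1 : (centralizerIn S S).subgroupOf A ⊓ (⁅S, S⁆).subgroupOf A =
        (centralizerIn S S ⊓ ⁅S, S⁆).subgroupOf A := (Subgroup.comap_inf _ _ _).symm
    rw [h1]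
    have h2 : Nat.card ((centralizerIn S S ⊓ ⁅S, S⁆).subgroupOf A) =
        Nat.card ↥(centralizerIn S S ⊓ ⁅S, S⁆) := by
      rw [← Subgroup.card_subtype A ((centralizerIn S S ⊓ ⁅S, S⁆).subgroupOf A),
        Subgroup.map_subgroupOf_eq_of_le (inf_le_left.trans H.zc_le)]
    rw [h2]
    exact hcardZL
  have hcardA : Nat.card A = Nat.card (centralizerIn S S) * Nat.card ↥(⁅S, S⁆) := by
    have h1 := Subgroup.card_mul_index ψ.ker
    rw [Subgroup.index_ker, ← hkerEq, ← hrangeEq] at h1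
    have h2 : Nat.card ((centralizerIn S S).subgroupOf A) = Nat.card (centralizerIn S S) := by
      rw [← Subgroup.card_subtype A ((centralizerIn S S).subgroupOf A),
        Subgroup.map_subgroupOf_eq_of_le H.zc_le]
    have h3 : Nat.card ((⁅S, S⁆).subgroupOf A) = Nat.card ↥(⁅S, S⁆) := by
      rw [← Subgroup.card_subtype A ((⁅S, S⁆).subgroupOf A),
        Subgroup.map_subgroupOf_eq_of_le hLA]
    rw [h2, h3] at h1
    exact h1.symm
  have hL1 : S.lowerCentralSeries 1 = ⁅S, S⁆ := by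
    rw [Subgroup.lowerCentralSeries_succ, Subgroup.lowerCentralSeries_zero]
  have hLS : ∀ k, S.lowerCentralSeries k ≤ S := fun k =>
    S.lowerCentralSeries_antitone (Nat.zero_le k)
  have hLk1 : ∀ k, S.lowerCentralSeries (k + 1) ≤ ⁅S, S⁆ := fun k => by
    rw [← hL1]
    exact S.lowerCentralSeries_antitone (Nat.succ_le_succ (Nat.zero_le k))
  have hxn : ∀ a ∈ A, x * a * x⁻¹ ∈ A := fun a ha => H.conj_mem hxS ha
  have hfinZL : Finite ↥(centralizerIn S S ⊓ ⁅S, S⁆) :=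
    finite_of_le (inf_le_left.trans inf_le_left)
  have hcomm : ∀ (M : Subgroup Ω), M ≤ S → ∀ m ∈ M, m⁻¹ * x * m * x⁻¹ ∈ ⁅M, S⁆ := by
    intro M _ m hm
    have h1 := Subgroup.commutator_mem_commutator (M.inv_mem hm) hxS
    rw [commutatorElement_def, inv_inv] at h1
    exact h1
  have step : ∀ k, Nat.card (S.lowerCentralSeries (k + 1))
      ≤ p * Nat.card (S.lowerCentralSeries (k + 2)) := by
    intro k
    have hfinM : Finite (S.lowerCentralSeries (k + 1)) := finite_of_le (hLS _)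
    have hfinN : Finite (S.lowerCentralSeries (k + 2)) := finite_of_le (hLS _)
    apply card_le_mul_of_comm' (A := A) (Z := centralizerIn S S ⊓ ⁅S, S⁆) (x := x) H.comm hxn
      ((hLk1 k).trans hLA) ?_ ?_ hcardZL.le
    · intro m hm
      exact hcomm _ (hLS _) m hm
    · intro a ha hxa
      exact Subgroup.mem_inf.mpr ⟨H.mem_zc_of_commute (H.AS (hLA (hLk1 k ha)))
        (fun b hb => H.comm b hb a (hLA (hLk1 k ha))) hxS hxA hxa, hLk1 k ha⟩
  have key : ∀ k, Nat.card ↥(⁅S, S⁆) ≤ p ^ k * Nat.card (S.lowerCentralSeries (k + 1)) := by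
    intro k
    induction k with
    | zero =>
      have e : S.lowerCentralSeries (0 + 1) = ⁅S, S⁆ := hL1
      exact le_of_eq (by rw [pow_zero, one_mul, e])
    | succ k ih =>
      calc Nat.card ↥(⁅S, S⁆) ≤ p ^ k * Nat.card (S.lowerCentralSeries (k + 1)) := ih
        _ ≤ p ^ k * (p * Nat.card (S.lowerCentralSeries (k + 2))) :=
            Nat.mul_le_mul_left _ (step k)
        _ = p ^ (k + 1) * Nat.card (S.lowerCentralSeries (k + 1 + 1)) := by
            rw [pow_succ, mul_assoc]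
  refine ⟨hcardZL, hidx, ?_⟩
  intro m hm h3 hle
  obtain ⟨j, rfl⟩ : ∃ j, m = j + 3 := ⟨m - 3, by omega⟩
  have hm2 : j + 3 - 2 = j + 1 := by omega
  rw [hm2] at hle
  have hcardS : Nat.card S = Nat.card (centralizerIn S S) * p ^ (j + 3) := by
    have h1 := Subgroup.card_mul_index ((centralizerIn S S).subgroupOf S)
    rw [hm] at h1
    have hZS : centralizerIn S S ≤ S := inf_le_left
    have h2 : Nat.card ((centralizerIn S S).subgroupOf S) = Nat.card (centralizerIn S S) := by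
      rw [← Subgroup.card_subtype S ((centralizerIn S S).subgroupOf S),
        Subgroup.map_subgroupOf_eq_of_le hZS]
    rw [h2] at h1
    exact h1.symm
  have hZpos : 0 < Nat.card (centralizerIn S S) := Nat.card_pos
  have hcardL : Nat.card ↥(⁅S, S⁆) = p ^ (j + 2) := by
    have h1 : Nat.card (centralizerIn S S) * (p * Nat.card ↥(⁅S, S⁆)) =
        Nat.card (centralizerIn S S) * (p * p ^ (j + 2)) := by
      calc Nat.card (centralizerIn S S) * (p * Nat.card ↥(⁅S, S⁆))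
          = p * (Nat.card (centralizerIn S S) * Nat.card ↥(⁅S, S⁆)) := by ring
        _ = p * Nat.card A := by rw [hcardA]
        _ = Nat.card S := H.card.symm
        _ = Nat.card (centralizerIn S S) * p ^ (j + 3) := hcardS
        _ = Nat.card (centralizerIn S S) * (p * p ^ (j + 2)) := by ring
    exact Nat.eq_of_mul_eq_mul_left hp.pos (Nat.eq_of_mul_eq_mul_left hZpos h1)
  have hle' : S.lowerCentralSeries (j + 1) ≤ centralizerIn S S ⊓ ⁅S, S⁆ := le_inf hle (hLk1 j)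
  have hfinLj : Finite (S.lowerCentralSeries (j + 1)) := finite_of_le (hLS _)
  have h4 : Nat.card (S.lowerCentralSeries (j + 1)) ≤ p :=
    (Subgroup.card_le_of_le hle').trans hcardZL.le
  have h5 := key j
  rw [hcardL] at h5
  have h6 : p ^ (j + 2) ≤ p ^ j * p := h5.trans (Nat.mul_le_mul_left _ h4)
  have h7 : p ^ (j + 2) = p ^ j * p * p := by ring
  rw [h7] at h6
  have h8 : p ≤ 1 := by
    have h9 : p ^ j * p * p ≤ p ^ j * p * 1 := by rw [mul_one]; exact h6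
    exact Nat.le_of_mul_le_mul_left h9 (Nat.mul_pos (pow_pos hp.pos _) hp.pos)
  exact absurd hp.two_le (by omega)

end AJHyp

end Fusion

end Cfsg.Agent.Lib.helper89
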