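import Mathlib
import Cfsg.Prelude.Def_FusionSystem
import Cfsg.Agent.Lib.helper88.FusionBasic
import Cfsg.Agent.Lib.helper89.GroupAux
import Cfsg.Agent.Lib.helper89.FusionSat

set_option autoImplicit false

namespace Cfsg.Agent.Lib.helper89

open Cfsg Cfsg.FusionSystem

variable {Ω : Type*} [Group Ω]

/-! ### The fusion system of a group of automorphisms

For a subgroup `B` of `Aut(R)` containing `Inn(R)`, the restrictions of the elements of `B` to the
subgroups of `R` form a fusion system over `R` (the fusion system of `R ⋊ B/Inn(R)`-type groups). It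
is saturated as soon as some power `b ^ m`, `m` prime to `p`, of every `b ∈ B` is inner. -/

/-- The fusion system over `R` whose maps are the restrictions of the elements of `B ≤ Aut(R)`. -/
def autSystem (R : Subgroup Ω) (B : Subgroup (MulAut R)) (hB : Cfsg.Inn R ≤ B) : FusionSystem R where
  Hom P := {φ | ∃ hP : P ≤ R, ∃ b ∈ B, ∀ x : P, φ x = ((b ⟨x, hP x.2⟩ : R) : Ω)}
  le_of_mem := by
    rintro P φ ⟨hP, b, hb, h⟩
    exact ⟨hP, fun x => by rw [h]; exact (b _).2⟩
  injective_of_mem := by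
    rintro P φ ⟨hP, b, hb, h⟩ x y hxy
    rw [h, h] at hxy
    have h1 := b.injective (Subtype.ext hxy)
    exact Subtype.ext (congrArg (fun z : R => (z : Ω)) h1)
  conj_mem := by
    intro P g hP hg
    exact ⟨hP, MulAut.conj ⟨g, hg⟩, hB ⟨⟨g, hg⟩, rfl⟩, fun x => rfl⟩
  comp_mem := by
    rintro P Q φ ψ ⟨hP, b, hb, h1⟩ ⟨hQ, b', hb', h2⟩ h
    refine ⟨hP, b' * b, B.mul_mem hb' hb, fun x => ?_⟩
    show ψ ⟨φ x, h x⟩ = _
    rw [h2, MulAut.mul_apply]
    congr 2
    exact Subtype.ext (h1 x)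
  inv_mem := by
    rintro P φ ⟨hP, b, hb, h1⟩
    have hrange : φ.range ≤ R := by
      rintro _ ⟨x, rfl⟩
      rw [h1]
      exact (b _).2
    refine ⟨(R.subtype.comp b⁻¹.toMonoidHom).comp (Subgroup.inclusion hrange),
      ⟨hrange, b⁻¹, B.inv_mem hb, fun x => rfl⟩, fun x => ?_⟩
    show ((b⁻¹ ⟨φ x, _⟩ : R) : Ω) = x
    have h2 : (⟨φ x, hrange ⟨x, rfl⟩⟩ : R) = b ⟨x, hP x.2⟩ := Subtype.ext (h1 x)
    rw [h2]
    simp

theorem mem_autSystem_iff (R : Subgroup Ω) (B : Subgroup (MulAut R)) (hB : Cfsg.Inn R ≤ B)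
    {P : Subgroup Ω} (φ : P →* Ω) :
    φ ∈ (autSystem R B hB).Hom P ↔
      ∃ hP : P ≤ R, ∃ b ∈ B, ∀ x : P, φ x = ((b ⟨x, hP x.2⟩ : R) : Ω) := Iff.rfl

/-- `Aut_E(R) = B` for `E = autSystem R B`. -/
theorem autGroup_autSystem (R : Subgroup Ω) (B : Subgroup (MulAut R)) (hB : Cfsg.Inn R ≤ B) :
    (autSystem R B hB).autGroup R = B := by
  ext α
  rw [mem_autGroup_iff _ le_rfl]
  constructor
  · rintro ⟨hP', b, hb, h⟩
    have : α = b := by
      ext x
      exact h x
    rw [this]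
    exact hb
  · intro hα
    exact ⟨le_rfl, α, hα, fun x => rfl⟩

/-- `autSystem R B` is a subsystem of `F` when `B ≤ Aut_F(R)`. -/
theorem autSystem_isSubsystemOf {S : Subgroup Ω} (F : FusionSystem S) (R : Subgroup Ω) (hR : R ≤ S)
    (B : Subgroup (MulAut R)) (hB : Cfsg.Inn R ≤ B) (hBF : B ≤ F.autGroup R) :
    (autSystem R B hB).IsSubsystemOf F := by
  rintro P φ ⟨hP, b, hb, h⟩
  have h1 : R.subtype.comp b.toMonoidHom ∈ F.Hom R := (mem_autGroup_iff F hR b).mp (hBF hb)
  have h2 := Cfsg.Agent.Lib.helper88.restrict_mem F hP h1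
  have h3 : (R.subtype.comp b.toMonoidHom).comp (Subgroup.inclusion hP) = φ := by
    ext x
    exact (h x).symm
  rw [h3] at h2
  exact h2

/-- The inner automorphisms of `R ≤ S` are automorphisms of every fusion system over `S`. -/
theorem inn_le_autGroup {S : Subgroup Ω} (F : FusionSystem S) {R : Subgroup Ω} (hR : R ≤ S) :
    Cfsg.Inn R ≤ F.autGroup R := by
  rintro _ ⟨r, rfl⟩
  rw [mem_autGroup_iff F hR]
  have h1 : conjHom R (r : Ω) ∈ F.Hom R := F.conj_mem hR (hR r.2)
  have h2 : R.subtype.comp (MulAut.conj r).toMonoidHom = conjHom R (r : Ω) := by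
    ext x
    rfl
  rw [h2]
  exact h1

/-- `autSystem R B` is saturated when some power prime to `p` of every element of `B` is inner. -/
theorem autSystem_saturated (R : Subgroup Ω) [Finite R] {p : ℕ} [Fact p.Prime] (hR : IsPGroup p R)
    (B : Subgroup (MulAut R)) (hB : Cfsg.Inn R ≤ B) (m : ℕ) (hm : m.Coprime p)
    (hBm : ∀ b ∈ B, b ^ m ∈ Cfsg.Inn R) : (autSystem R B hB).IsSaturated p := by
  intro P hP
  set E := autSystem R B hB with hE
  refine ⟨P, ⟨P.subtype, subtype_mem E hP, Subgroup.range_subtype P⟩, ⟨hP, ?_⟩, ⟨hP, ?_⟩⟩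
  · -- fully automized
    have hfin : Finite ↥(E.autGroup P) := finite_autGroup E hP
    set U : Subgroup ↥(E.autGroup P) := (autInducedBy R P).subgroupOf (E.autGroup P) with hU
    have hUp : IsPGroup p U := (isPGroup_autInducedBy hR le_rfl P).comap_subtype
    obtain ⟨Syl, hle⟩ := hUp.exists_le_sylow
    refine ⟨Syl, le_antisymm ?_ hle⟩
    intro a ha
    -- `a` is a `p`-element
    obtain ⟨k, hk⟩ := Syl.2 ⟨a, ha⟩
    have hk' : a ^ (p ^ k) = 1 := by
      have := congrArg Subtype.val hk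
      simpa using this
    -- `a ^ m` is induced by an element of `R`
    obtain ⟨hP₂, b, hb, hab⟩ := (mem_autGroup_iff E hP (a : MulAut P)).mp a.2
    have hab' : ∀ x : P, (((a : MulAut P) x : P) : Ω) = ((b ⟨x, hP x.2⟩ : R) : Ω) := hab
    have hpow : ∀ (j : ℕ) (x : P), ((((a : MulAut P) ^ j) x : P) : Ω) = (((b ^ j) ⟨x, hP x.2⟩ : R) : Ω) := by
      intro j
      induction j with
      | zero => intro x; simp
      | succ j ih =>
        intro x
        rw [pow_succ, MulAut.mul_apply, ih, pow_succ, MulAut.mul_apply]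
        congr 2
        exact Subtype.ext (hab' x)
    obtain ⟨r, hr⟩ := hBm b hb
    have hamU : a ^ m ∈ U := by
      rw [hU, Subgroup.mem_subgroupOf, mem_autInducedBy_iff]
      refine ⟨(r : Ω), r.2, fun x => ?_⟩
      have h1 := hpow m x
      rw [← hr] at h1
      simpa using h1
    have hcop : m.Coprime (orderOf a) := by
      have hdvd : orderOf a ∣ p ^ k := orderOf_dvd_of_pow_eq_one hk'
      exact Nat.Coprime.coprime_dvd_right hdvd (Nat.Coprime.pow_right k hm)
    obtain ⟨j, hj⟩ := exists_pow_eq_self_of_coprime hcop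
    rw [← hj]
    exact U.pow_mem hamU j
  · -- receptive
    rintro P' φ ⟨hP', b, hb, hφ⟩ -
    have hext : extender R P' φ ≤ R := by
      unfold extender
      rw [Subgroup.closure_le]
      exact fun g hg => hg.1
    refine ⟨(R.subtype.comp b.toMonoidHom).comp (Subgroup.inclusion hext),
      ⟨hext, b, hb, fun x => rfl⟩, fun x hxP hxN => ?_⟩
    exact (hφ ⟨x, hxP⟩).symm

/-- `autSystem R B` is not the inner system when `B` has an element of prime order `q ≠ p`. -/
theorem autSystem_not_inner (R : Subgroup Ω) {p : ℕ} [Fact p.Prime] (hR : IsPGroup p R)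
    (B : Subgroup (MulAut R)) (hB : Cfsg.Inn R ≤ B) {q : ℕ} (hq : q.Prime) (hqp : q ≠ p)
    {β : MulAut R} (hβ : β ∈ B) (hβq : orderOf β = q) :
    ¬ ∀ P : Subgroup Ω, (autSystem R B hB).Hom P = (innerFusionSystem R).Hom P := by
  intro h
  have hpp : p.Prime := Fact.out
  have h1 : R.subtype.comp β.toMonoidHom ∈ (autSystem R B hB).Hom R := ⟨le_rfl, β, hβ, fun x => rfl⟩
  rw [h R] at h1
  obtain ⟨hRR, g, hg, hβg⟩ := h1
  have h2 : β ∈ autInducedBy R R := (mem_autInducedBy_iff R R β).mpr ⟨g, hg, fun x => hβg x⟩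
  obtain ⟨k, hk⟩ := isPGroup_autInducedBy hR le_rfl R ⟨β, h2⟩
  have hk' : β ^ (p ^ k) = 1 := by
    have := congrArg Subtype.val hk
    simpa using this
  have hdvd : q ∣ p ^ k := hβq ▸ orderOf_dvd_of_pow_eq_one hk'
  exact hqp ((Nat.prime_dvd_prime_iff_eq hq hpp).mp (hq.dvd_of_dvd_pow hdvd))

/-- For `β` with `β ^ q = 1`, the `q`-th power of every element of `Inn(R) ⊔ ⟨β⟩` is inner. -/
theorem pow_mem_inn_of_mem_sup {R : Type*} [Group R] (β : MulAut R) (q : ℕ) (hβ : β ^ q = 1) :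
    ∀ b ∈ Cfsg.Inn R ⊔ Subgroup.zpowers β, b ^ q ∈ Cfsg.Inn R := by
  intro b hb
  let π := QuotientGroup.mk' (Cfsg.Inn R)
  have hle : Cfsg.Inn R ⊔ Subgroup.zpowers β ≤ (Subgroup.zpowers (π β)).comap π := by
    refine sup_le ?_ ?_
    · intro c hc
      have : π c = 1 := (QuotientGroup.eq_one_iff c).mpr hc
      show π c ∈ Subgroup.zpowers (π β)
      rw [this]
      exact Subgroup.one_mem _
    · rw [Subgroup.zpowers_le]
      exact Subgroup.mem_zpowers (π β)
  obtain ⟨i, hi⟩ := Subgroup.mem_zpowers_iff.mp (hle hb)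
  have h1 : π (b ^ q) = 1 := by
    rw [map_pow, ← hi, ← zpow_natCast, ← zpow_mul, mul_comm, zpow_mul, zpow_natCast, ← map_pow, hβ,
      map_one, one_zpow]
  exact (QuotientGroup.eq_one_iff _).mp h1

end Cfsg.Agent.Lib.helper89
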