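import Mathlib

set_option autoImplicit false

/-!
# S4471 piece F4 (helper89): Frobenius' lemma on commuting conjugate Hermitian idempotents
-/

namespace Cfsg.Agent.Lib.helper68.BL

open scoped ComplexConjugate Matrix ComplexOrder

theorem helper89_proj_eq_of_commute {n : ℕ} (E E' y yi : Matrix (Fin n) (Fin n) ℂ)
    (hE : E * E = E)
    (hEh : Eᴴ = E) (hE'h : E'ᴴ = E') (hy : y * yi = 1) (hconj : E' = y * E * yi)
    (hcomm : E * E' = E' * E)
    (hstar : ∀ w : Fin n → ℂ, E *ᵥ w = w → E *ᵥ (y *ᵥ w) = 0 → w = 0) : E' = E := by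
  have hyi : yi * y = 1 := mul_eq_one_comm.mp hy
  have hE'E' : E' * E' = E' := by
    rw [hconj]
    calc y * E * yi * (y * E * yi) = y * E * (yi * y) * E * yi := by simp only [Matrix.mul_assoc]
      _ = y * (E * E) * yi := by rw [hyi, Matrix.mul_one, Matrix.mul_assoc y E E]
      _ = y * E * yi := by rw [hE]
  -- Claim 1: E' = E * E'
  have h1 : E' - E * E' = 0 := by
    have hv : ∀ v : Fin n → ℂ, (E' - E * E') *ᵥ v = 0 := by
      intro v
      obtain ⟨u, hu⟩ : ∃ u, u = (E' - E * E') *ᵥ v := ⟨_, rfl⟩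
      obtain ⟨w, hw⟩ : ∃ w, w = E *ᵥ (yi *ᵥ u) := ⟨_, rfl⟩
      have hEw : E *ᵥ w = w := by
        rw [hw, Matrix.mulVec_mulVec, hE]
      have hyw : y *ᵥ w = u := by
        rw [hw, Matrix.mulVec_mulVec, Matrix.mulVec_mulVec, ← hconj, hu,
          Matrix.mulVec_mulVec]
        congr 1
        rw [Matrix.mul_sub, hE'E', ← Matrix.mul_assoc, ← hcomm, Matrix.mul_assoc, hE'E']
      have hEu : E *ᵥ (y *ᵥ w) = 0 := by
        rw [hyw, hu, Matrix.mulVec_mulVec, Matrix.mul_sub, ← Matrix.mul_assoc, hE, sub_self,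
          Matrix.zero_mulVec]
      have hw0 := hstar w hEw hEu
      rw [← hu, ← hyw, hw0, Matrix.mulVec_zero]
    ext i j
    have := congrFun (hv (Pi.single j 1)) i
    simpa using this
  have h1' : E * E' = E' := (sub_eq_zero.mp h1).symm
  have h1'' : E' * E = E' := by rw [← hcomm]; exact h1'
  -- P = E - E' is a Hermitian idempotent of trace zero
  have hPP : (E - E') * (E - E') = E - E' := by
    rw [Matrix.mul_sub, Matrix.sub_mul, Matrix.sub_mul, hE, h1', h1'', hE'E']
    abel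
  have hPh : (E - E')ᴴ = E - E' := by
    rw [Matrix.conjTranspose_sub, hEh, hE'h]
  have htr : (E - E').trace = 0 := by
    rw [Matrix.trace_sub, hconj, Matrix.trace_mul_cycle, hyi, Matrix.one_mul, sub_self]
  have hP0 : E - E' = 0 := by
    rw [← Matrix.trace_conjTranspose_mul_self_eq_zero_iff, hPh, hPP]
    exact htr
  exact (sub_eq_zero.mp hP0).symm

end Cfsg.Agent.Lib.helper68.BL
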