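import Mathlib
import Cfsg.Agent.Lib.helper16.CG33Defs
import Cfsg.Agent.Lib.helper29.CG33_ALG

/-!
helper89: S3412 piece INC (six statements on the sets `Ept v`, `Eln φ` of `SL(3,3)`).
-/

set_option autoImplicit false

open Matrix
open Cfsg.Agent.Lib.helper16.CG33

namespace Cfsg.Agent.Lib.helper89.CG33

set_option maxRecDepth 100000 in
/-- a non-zero functional vanishing on `v`, different from `± φ`. -/
theorem inc_exists_perp : ∀ v : Fin 3 → ZMod 3, v ≠ 0 → ∀ φ : Fin 3 → ZMod 3,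
    ∃ ψ : Fin 3 → ZMod 3, ψ ≠ 0 ∧ ψ ⬝ᵥ v = 0 ∧ ψ ≠ φ ∧ ψ ≠ -φ := by decide +kernel

set_option maxRecDepth 100000 in
/-- a non-zero vector in the kernel of `φ`, different from `± v`. -/
theorem inc_exists_perp' : ∀ φ : Fin 3 → ZMod 3, φ ≠ 0 → ∀ v : Fin 3 → ZMod 3,
    ∃ w : Fin 3 → ZMod 3, w ≠ 0 ∧ φ ⬝ᵥ w = 0 ∧ w ≠ v ∧ w ≠ -v := by decide +kernel

/-- the element of `SL(3,3)` with matrix `tvM v φ`. -/
def incTv (v φ : Fin 3 → ZMod 3) (h : φ ⬝ᵥ v = 0) : S33 :=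
  ⟨tvM v φ, Cfsg.Agent.Lib.helper29.CG33.det_tvM v φ h⟩

theorem incTv_mem_Ept (v φ : Fin 3 → ZMod 3) (hφ : φ ≠ 0) (h : φ ⬝ᵥ v = 0) :
    incTv v φ h ∈ Ept v := ⟨φ, hφ, h, rfl⟩

theorem incTv_mem_Eln (v φ : Fin 3 → ZMod 3) (hv : v ≠ 0) (h : φ ⬝ᵥ v = 0) :
    incTv v φ h ∈ Eln φ := ⟨v, hv, h, rfl⟩

theorem inc_tvM_neg (v φ : Fin 3 → ZMod 3) : tvM (-v) (-φ) = tvM v φ := by
  unfold tvM
  congr 1
  ext i j
  simp [Matrix.vecMulVec_apply]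

theorem inc_Ept_neg (v : Fin 3 → ZMod 3) : Ept (-v) = Ept v := by
  ext x
  constructor
  · rintro ⟨φ, hφ, h, hx⟩
    refine ⟨-φ, neg_ne_zero.mpr hφ, ?_, ?_⟩
    · rw [neg_dotProduct, ← dotProduct_neg]; exact h
    · rw [hx, ← inc_tvM_neg v (-φ), neg_neg]
  · rintro ⟨φ, hφ, h, hx⟩
    refine ⟨-φ, neg_ne_zero.mpr hφ, ?_, ?_⟩
    · rw [neg_dotProduct, dotProduct_neg, neg_neg]; exact h
    · rw [hx, inc_tvM_neg]

theorem inc_Eln_neg (φ : Fin 3 → ZMod 3) : Eln (-φ) = Eln φ := by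
  ext x
  constructor
  · rintro ⟨v, hv, h, hx⟩
    refine ⟨-v, neg_ne_zero.mpr hv, ?_, ?_⟩
    · rw [dotProduct_neg, ← neg_dotProduct]; exact h
    · rw [hx, ← inc_tvM_neg (-v) φ, neg_neg]
  · rintro ⟨v, hv, h, hx⟩
    refine ⟨-v, neg_ne_zero.mpr hv, ?_, ?_⟩
    · rw [neg_dotProduct, dotProduct_neg, neg_neg]; exact h
    · rw [hx, inc_tvM_neg]

/-- PIECE INC (5/6). -/
theorem inc_pt_pt (v w : Fin 3 → ZMod 3) (hv : v ≠ 0) (hw : w ≠ 0) :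
    Inc (Ept v) (Ept w) ↔ (w = v ∨ w = -v) := by
  constructor
  · rintro ⟨x, ⟨φ, hφ, h, hx⟩, ⟨ψ, hψ, h', hx'⟩⟩
    rw [hx] at hx'
    rcases (Cfsg.Agent.Lib.helper29.CG33.tvM_eq_iff v φ w ψ hv hφ hw hψ).mp hx' with h1 | h1
    · exact Or.inl h1.1
    · exact Or.inr h1.1
  · intro h
    obtain ⟨ψ, hψ, hψv, -, -⟩ := inc_exists_perp v hv 0
    refine ⟨incTv v ψ hψv, incTv_mem_Ept v ψ hψ hψv, ?_⟩
    rcases h with h | h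
    · rw [h]; exact incTv_mem_Ept v ψ hψ hψv
    · rw [h, inc_Ept_neg]; exact incTv_mem_Ept v ψ hψ hψv

/-- PIECE INC (6/6). -/
theorem inc_ln_ln (φ ψ : Fin 3 → ZMod 3) (hφ : φ ≠ 0) (hψ : ψ ≠ 0) :
    Inc (Eln φ) (Eln ψ) ↔ (ψ = φ ∨ ψ = -φ) := by
  constructor
  · rintro ⟨x, ⟨v, hv, h, hx⟩, ⟨w, hw, h', hx'⟩⟩
    rw [hx] at hx'
    rcases (Cfsg.Agent.Lib.helper29.CG33.tvM_eq_iff v φ w ψ hv hφ hw hψ).mp hx' with h1 | h1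
    · exact Or.inl h1.2
    · exact Or.inr h1.2
  · intro h
    obtain ⟨w, hw, hφw, -, -⟩ := inc_exists_perp' φ hφ 0
    refine ⟨incTv w φ hφw, incTv_mem_Eln w φ hw hφw, ?_⟩
    rcases h with h | h
    · rw [h]; exact incTv_mem_Eln w φ hw hφw
    · rw [h, inc_Eln_neg]; exact incTv_mem_Eln w φ hw hφw

/-- PIECE INC (1/6). -/
theorem Ept_eq_iff (v w : Fin 3 → ZMod 3) (hv : v ≠ 0) (hw : w ≠ 0) :
    Ept v = Ept w ↔ (w = v ∨ w = -v) := by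
  constructor
  · intro h
    obtain ⟨ψ, hψ, hψv, -, -⟩ := inc_exists_perp v hv 0
    apply (inc_pt_pt v w hv hw).mp
    refine ⟨incTv v ψ hψv, incTv_mem_Ept v ψ hψ hψv, ?_⟩
    rw [← h]; exact incTv_mem_Ept v ψ hψ hψv
  · rintro (h | h)
    · rw [h]
    · rw [h, inc_Ept_neg]

/-- PIECE INC (2/6). -/
theorem Eln_eq_iff (φ ψ : Fin 3 → ZMod 3) (hφ : φ ≠ 0) (hψ : ψ ≠ 0) :
    Eln φ = Eln ψ ↔ (ψ = φ ∨ ψ = -φ) := by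
  constructor
  · intro h
    obtain ⟨w, hw, hφw, -, -⟩ := inc_exists_perp' φ hφ 0
    apply (inc_ln_ln φ ψ hφ hψ).mp
    refine ⟨incTv w φ hφw, incTv_mem_Eln w φ hw hφw, ?_⟩
    rw [← h]; exact incTv_mem_Eln w φ hw hφw
  · rintro (h | h)
    · rw [h]
    · rw [h, inc_Eln_neg]

/-- PIECE INC (3/6). -/
theorem Ept_ne_Eln (v φ : Fin 3 → ZMod 3) (hv : v ≠ 0) (hφ : φ ≠ 0) : Ept v ≠ Eln φ := by
  intro h
  obtain ⟨ψ, hψ, hψv, hne1, hne2⟩ := inc_exists_perp v hv φ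
  have hmem : incTv v ψ hψv ∈ Eln φ := by
    rw [← h]; exact incTv_mem_Ept v ψ hψ hψv
  obtain ⟨w, hw, -, hx⟩ := hmem
  have hx' : tvM v ψ = tvM w φ := hx
  rcases (Cfsg.Agent.Lib.helper29.CG33.tvM_eq_iff v ψ w φ hv hψ hw hφ).mp hx' with h1 | h1
  · exact hne1 h1.2.symm
  · apply hne2
    rw [h1.2, neg_neg]

/-- PIECE INC (4/6). -/
theorem inc_pt_ln (v φ : Fin 3 → ZMod 3) (hv : v ≠ 0) (hφ : φ ≠ 0) :
    Inc (Ept v) (Eln φ) ↔ φ ⬝ᵥ v = 0 := by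
  constructor
  · rintro ⟨x, ⟨ψ, hψ, h, hx⟩, ⟨w, hw, h', hx'⟩⟩
    rw [hx] at hx'
    rcases (Cfsg.Agent.Lib.helper29.CG33.tvM_eq_iff v ψ w φ hv hψ hw hφ).mp hx' with h1 | h1
    · rw [h1.2]; exact h
    · rw [h1.2, neg_dotProduct, h, neg_zero]
  · intro h
    exact ⟨incTv v φ h, incTv_mem_Ept v φ hφ h, incTv_mem_Eln v φ hv h⟩

end Cfsg.Agent.Lib.helper89.CG33
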