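import Mathlib
import Cfsg.Agent.Lib.helper16.CG33Defs
import Cfsg.Agent.Lib.helper89.CG33_INC
import Cfsg.Agent.Lib.helper7.CG33_MOD
import Cfsg.Agent.Lib.helper53.CG33_NF
import Cfsg.Agent.Lib.helper34.SL33Invol

/-!
helper89: S3412 piece BR, core (`l3_S33_core`): the bridge from the model (the Levi graph of
`PG(2,3)`) to the incidence structure on `Fam S33`, with the statements of the pieces MEM and CLQ
as hypotheses.
-/

set_option autoImplicit false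

open Matrix
open Cfsg.Agent.Lib.helper16.CG33

namespace Cfsg.Agent.Lib.helper89.CG33

/-- the map from the model to `Fam S33`. -/
def brMap (hE : ∀ v : Fin 3 → ZMod 3, v ≠ 0 → Ept v ∈ Fam S33)
    (hL : ∀ φ : Fin 3 → ZMod 3, φ ≠ 0 → Eln φ ∈ Fam S33) : Vtx → ↥(Fam S33)
  | Sum.inl i => ⟨Ept (pt i), hE (pt i) (Cfsg.Agent.Lib.helper53.CG33.pt_ne_zero i)⟩
  | Sum.inr j => ⟨Eln (pt j), hL (pt j) (Cfsg.Agent.Lib.helper53.CG33.pt_ne_zero j)⟩

theorem brMap_inl (hE : ∀ v : Fin 3 → ZMod 3, v ≠ 0 → Ept v ∈ Fam S33)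
    (hL : ∀ φ : Fin 3 → ZMod 3, φ ≠ 0 → Eln φ ∈ Fam S33) (i : Fin 13) :
    ((brMap hE hL (Sum.inl i) : ↥(Fam S33)) : Set S33) = Ept (pt i) := rfl

theorem brMap_inr (hE : ∀ v : Fin 3 → ZMod 3, v ≠ 0 → Ept v ∈ Fam S33)
    (hL : ∀ φ : Fin 3 → ZMod 3, φ ≠ 0 → Eln φ ∈ Fam S33) (j : Fin 13) :
    ((brMap hE hL (Sum.inr j) : ↥(Fam S33)) : Set S33) = Eln (pt j) := rfl

theorem brMap_bijective (hE : ∀ v : Fin 3 → ZMod 3, v ≠ 0 → Ept v ∈ Fam S33)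
    (hL : ∀ φ : Fin 3 → ZMod 3, φ ≠ 0 → Eln φ ∈ Fam S33)
    (hC : ∀ A : Set S33, A ∈ Fam S33 →
      (∃ v : Fin 3 → ZMod 3, v ≠ 0 ∧ A = Ept v) ∨ (∃ φ : Fin 3 → ZMod 3, φ ≠ 0 ∧ A = Eln φ)) :
    Function.Bijective (brMap hE hL) := by
  constructor
  · intro x y h
    have h' : ((brMap hE hL x : ↥(Fam S33)) : Set S33) =
        ((brMap hE hL y : ↥(Fam S33)) : Set S33) := congrArg Subtype.val h
    rcases x with i | i <;> rcases y with j | j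
    · rw [brMap_inl, brMap_inl] at h'
      have := (Ept_eq_iff (pt i) (pt j) (Cfsg.Agent.Lib.helper53.CG33.pt_ne_zero i)
        (Cfsg.Agent.Lib.helper53.CG33.pt_ne_zero j)).mp h'
      rw [Cfsg.Agent.Lib.helper53.CG33.pt_inj i j this]
    · rw [brMap_inl, brMap_inr] at h'
      exact absurd h' (Ept_ne_Eln (pt i) (pt j) (Cfsg.Agent.Lib.helper53.CG33.pt_ne_zero i)
        (Cfsg.Agent.Lib.helper53.CG33.pt_ne_zero j))
    · rw [brMap_inr, brMap_inl] at h'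
      exact absurd h'.symm (Ept_ne_Eln (pt j) (pt i) (Cfsg.Agent.Lib.helper53.CG33.pt_ne_zero j)
        (Cfsg.Agent.Lib.helper53.CG33.pt_ne_zero i))
    · rw [brMap_inr, brMap_inr] at h'
      have := (Eln_eq_iff (pt i) (pt j) (Cfsg.Agent.Lib.helper53.CG33.pt_ne_zero i)
        (Cfsg.Agent.Lib.helper53.CG33.pt_ne_zero j)).mp h'
      rw [Cfsg.Agent.Lib.helper53.CG33.pt_inj i j this]
  · rintro ⟨A, hA⟩
    rcases hC A hA with ⟨v, hv, rfl⟩ | ⟨φ, hφ, rfl⟩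
    · obtain ⟨i, hi⟩ := Cfsg.Agent.Lib.helper53.CG33.exists_pt v hv
      refine ⟨Sum.inl i, Subtype.ext ?_⟩
      rw [brMap_inl]
      exact (Ept_eq_iff (pt i) v (Cfsg.Agent.Lib.helper53.CG33.pt_ne_zero i) hv).mpr hi
    · obtain ⟨i, hi⟩ := Cfsg.Agent.Lib.helper53.CG33.exists_pt φ hφ
      refine ⟨Sum.inr i, Subtype.ext ?_⟩
      rw [brMap_inr]
      exact (Eln_eq_iff (pt i) φ (Cfsg.Agent.Lib.helper53.CG33.pt_ne_zero i) hφ).mpr hi

theorem brInc_comm {X : Type*} (A B : Set X) : Inc A B ↔ Inc B A := by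
  unfold Inc
  rw [Set.inter_comm]

theorem brMap_rel (hE : ∀ v : Fin 3 → ZMod 3, v ≠ 0 → Ept v ∈ Fam S33)
    (hL : ∀ φ : Fin 3 → ZMod 3, φ ≠ 0 → Eln φ ∈ Fam S33) (x y : Vtx) :
    R x y ↔ Inc ((brMap hE hL x : ↥(Fam S33)) : Set S33)
      ((brMap hE hL y : ↥(Fam S33)) : Set S33) := by
  rcases x with i | i <;> rcases y with j | j
  · rw [brMap_inl, brMap_inl, inc_pt_pt (pt i) (pt j) (Cfsg.Agent.Lib.helper53.CG33.pt_ne_zero i)
      (Cfsg.Agent.Lib.helper53.CG33.pt_ne_zero j)]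
    change i = j ↔ _
    constructor
    · intro h; rw [h]; exact Or.inl rfl
    · intro h; exact Cfsg.Agent.Lib.helper53.CG33.pt_inj i j h
  · rw [brMap_inl, brMap_inr, inc_pt_ln (pt i) (pt j) (Cfsg.Agent.Lib.helper53.CG33.pt_ne_zero i)
      (Cfsg.Agent.Lib.helper53.CG33.pt_ne_zero j)]
    exact Iff.rfl
  · rw [brMap_inr, brMap_inl, brInc_comm,
      inc_pt_ln (pt j) (pt i) (Cfsg.Agent.Lib.helper53.CG33.pt_ne_zero j)
      (Cfsg.Agent.Lib.helper53.CG33.pt_ne_zero i)]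
    exact Iff.rfl
  · rw [brMap_inr, brMap_inr, inc_ln_ln (pt i) (pt j) (Cfsg.Agent.Lib.helper53.CG33.pt_ne_zero i)
      (Cfsg.Agent.Lib.helper53.CG33.pt_ne_zero j)]
    change i = j ↔ _
    constructor
    · intro h; rw [h]; exact Or.inl rfl
    · intro h; exact Cfsg.Agent.Lib.helper53.CG33.pt_inj i j h

/-- PIECE BR, core: bridge from the model to `Fam S33`, from the statements of MEM and CLQ. -/
theorem l3_S33_core (hE : ∀ v : Fin 3 → ZMod 3, v ≠ 0 → Ept v ∈ Fam S33)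
    (hL : ∀ φ : Fin 3 → ZMod 3, φ ≠ 0 → Eln φ ∈ Fam S33)
    (hC : ∀ A : Set S33, A ∈ Fam S33 →
      (∃ v : Fin 3 → ZMod 3, v ≠ 0 ∧ A = Ept v) ∨ (∃ φ : Fin 3 → ZMod 3, φ ≠ 0 ∧ A = Eln φ)) :
    L3 S33 := by
  obtain ⟨e, he⟩ : ∃ e : Vtx ≃ ↥(Fam S33), ∀ x, e x = brMap hE hL x :=
    ⟨Equiv.ofBijective (brMap hE hL) (brMap_bijective hE hL hC), fun _ => rfl⟩
  unfold L3
  rw [Cfsg.Agent.Lib.helper34.card_SL33]
  have hfin : Finite {σ : Equiv.Perm Vtx // ∀ x y : Vtx, R x y ↔ R (σ x) (σ y)} := inferInstance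
  refine le_trans (Nat.card_le_card_of_injective
    (fun σ : {σ : Equiv.Perm ↥(Fam S33) //
        ∀ A B : ↥(Fam S33), Inc (A : Set S33) (B : Set S33) ↔
          Inc ((σ A : ↥(Fam S33)) : Set S33) ((σ B : ↥(Fam S33)) : Set S33)} =>
      (⟨e.symm.permCongr σ.1, ?_⟩ :
        {σ : Equiv.Perm Vtx // ∀ x y : Vtx, R x y ↔ R (σ x) (σ y)})) ?_)
    Cfsg.Agent.Lib.helper7.CG33.model_bound
  · intro x y
    rw [brMap_rel hE hL x y,
      brMap_rel hE hL (e.symm.permCongr σ.1 x) (e.symm.permCongr σ.1 y)]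
    rw [Equiv.permCongr_apply, Equiv.permCongr_apply, Equiv.symm_symm, ← he, ← he, ← he, ← he,
      Equiv.apply_symm_apply, Equiv.apply_symm_apply]
    exact σ.2 (e x) (e y)
  · intro σ τ h
    have h1 : e.symm.permCongr σ.1 = e.symm.permCongr τ.1 := congrArg Subtype.val h
    exact Subtype.ext (e.symm.permCongr.injective h1)

end Cfsg.Agent.Lib.helper89.CG33
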