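import Mathlib
import Cfsg.Agent.Lib.helper16.CG33Defs
import Cfsg.Agent.Lib.helper89.CG33_BRcore
import Cfsg.Agent.Lib.helper7.CG33_CLQ
import Cfsg.Agent.Lib.helper6.CG33_MEM

/-!
helper89: S3412 piece BR (`l3_S33`).
-/

set_option autoImplicit false

open Matrix
open Cfsg.Agent.Lib.helper16.CG33

namespace Cfsg.Agent.Lib.helper89.CG33

/-- PIECE BR: bridge from the model to `Fam S33`. -/
theorem l3_S33 : L3 S33 :=
  l3_S33_core Cfsg.Agent.Lib.helper6.CG33.Ept_mem_Fam Cfsg.Agent.Lib.helper6.CG33.Eln_mem_Fam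
    Cfsg.Agent.Lib.helper7.CG33.fam_cases

end Cfsg.Agent.Lib.helper89.CG33
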