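import Mathlib
import Cfsg.Agent.Lib.helper16.CG33Defs
import Cfsg.Agent.Lib.helper29.CG33_ALG

/-!
helper89: S3412 piece LS, cores (`l1_S33_core`, `l2_S33_core`, `fam_nonempty_core`), with the
statements of the pieces CLQ, CEN, MEM as hypotheses.
-/

set_option autoImplicit false

open Matrix
open Cfsg.Agent.Lib.helper16.CG33

namespace Cfsg.Agent.Lib.helper89.CG33

set_option maxRecDepth 100000 in
/-- a functional not vanishing on a non-zero vector. -/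
theorem ls_exists_nperp : ∀ v : Fin 3 → ZMod 3, v ≠ 0 →
    ∃ φ : Fin 3 → ZMod 3, φ ≠ 0 ∧ φ ⬝ᵥ v ≠ 0 := by decide +kernel

set_option maxRecDepth 100000 in
/-- a vector on which a non-zero functional does not vanish. -/
theorem ls_exists_nperp' : ∀ φ : Fin 3 → ZMod 3, φ ≠ 0 →
    ∃ v : Fin 3 → ZMod 3, v ≠ 0 ∧ φ ⬝ᵥ v ≠ 0 := by decide +kernel

/-- PIECE LS (1/3), core: from the statements of CLQ + CEN. -/
theorem l1_S33_core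
    (hC : ∀ A : Set S33, A ∈ Fam S33 →
      (∃ v : Fin 3 → ZMod 3, v ≠ 0 ∧ A = Ept v) ∨ (∃ φ : Fin 3 → ZMod 3, φ ≠ 0 ∧ A = Eln φ))
    (hCE : ∀ v : Fin 3 → ZMod 3, v ≠ 0 → ∀ g : S33, g ≠ 1 →
      (∀ a ∈ Ept v, g * a = a * g) → g ∈ Ept v)
    (hCL : ∀ φ : Fin 3 → ZMod 3, φ ≠ 0 → ∀ g : S33, g ≠ 1 →
      (∀ a ∈ Eln φ, g * a = a * g) → g ∈ Eln φ) : L1 S33 := by
  intro A hA g hg h
  rcases hC A hA with ⟨v, hv, rfl⟩ | ⟨φ, hφ, rfl⟩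
  · exact hCE v hv g hg h
  · exact hCL φ hφ g hg h

/-- PIECE LS (2/3), core: from the statements of CLQ + MEM (and ALG). -/
theorem l2_S33_core
    (hE : ∀ v : Fin 3 → ZMod 3, v ≠ 0 → Ept v ∈ Fam S33)
    (hL : ∀ φ : Fin 3 → ZMod 3, φ ≠ 0 → Eln φ ∈ Fam S33)
    (hC : ∀ A : Set S33, A ∈ Fam S33 →
      (∃ v : Fin 3 → ZMod 3, v ≠ 0 ∧ A = Ept v) ∨ (∃ φ : Fin 3 → ZMod 3, φ ≠ 0 ∧ A = Eln φ)) :
    L2 S33 := by
  intro A hA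
  rcases hC A hA with ⟨v, hv, rfl⟩ | ⟨φ, hφ, rfl⟩
  · obtain ⟨φ, hφ, hφv⟩ := ls_exists_nperp v hv
    refine ⟨Eln φ, hL φ hφ, ?_⟩
    rintro a ⟨ψ, hψ, hψv, ha⟩ b ⟨w, hw, hφw, hb⟩ hab
    have h1 : (a : Matrix (Fin 3) (Fin 3) (ZMod 3)) * (b : Matrix (Fin 3) (Fin 3) (ZMod 3)) =
        (b : Matrix (Fin 3) (Fin 3) (ZMod 3)) * (a : Matrix (Fin 3) (Fin 3) (ZMod 3)) := by
      have := congrArg (fun x : S33 => (x : Matrix (Fin 3) (Fin 3) (ZMod 3))) hab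
      simpa using this
    rw [ha, hb] at h1
    exact hφv ((Cfsg.Agent.Lib.helper29.CG33.tvM_comm_iff v ψ w φ hv hψ hw hφ hψv hφw).mp h1).2
  · obtain ⟨v, hv, hφv⟩ := ls_exists_nperp' φ hφ
    refine ⟨Ept v, hE v hv, ?_⟩
    rintro a ⟨w, hw, hφw, ha⟩ b ⟨ψ, hψ, hψv, hb⟩ hab
    have h1 : (a : Matrix (Fin 3) (Fin 3) (ZMod 3)) * (b : Matrix (Fin 3) (Fin 3) (ZMod 3)) =
        (b : Matrix (Fin 3) (Fin 3) (ZMod 3)) * (a : Matrix (Fin 3) (Fin 3) (ZMod 3)) := by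
      have := congrArg (fun x : S33 => (x : Matrix (Fin 3) (Fin 3) (ZMod 3))) hab
      simpa using this
    rw [ha, hb] at h1
    exact hφv ((Cfsg.Agent.Lib.helper29.CG33.tvM_comm_iff w φ v ψ hw hφ hv hψ hφw hψv).mp h1).1

/-- PIECE LS (3/3), core: from the statement of MEM. -/
theorem fam_nonempty_core
    (hE : ∀ v : Fin 3 → ZMod 3, v ≠ 0 → Ept v ∈ Fam S33) : (Fam S33).Nonempty :=
  ⟨Ept ![1, 0, 0], hE ![1, 0, 0] (by decide)⟩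

end Cfsg.Agent.Lib.helper89.CG33
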