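import Mathlib
import Cfsg.Agent.Lib.helper16.CG33Defs
import Cfsg.Agent.Lib.helper89.CG33_LScore
import Cfsg.Agent.Lib.helper7.CG33_CLQ
import Cfsg.Agent.Lib.helper7.CG33_CEN
import Cfsg.Agent.Lib.helper6.CG33_MEM

/-!
helper89: S3412 piece LS (`l1_S33`, `l2_S33`, `fam_nonempty_S33`).
-/

set_option autoImplicit false

open Matrix
open Cfsg.Agent.Lib.helper16.CG33

namespace Cfsg.Agent.Lib.helper89.CG33

/-- PIECE LS (1/3): from CLQ + CEN. -/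
theorem l1_S33 : L1 S33 :=
  l1_S33_core Cfsg.Agent.Lib.helper7.CG33.fam_cases Cfsg.Agent.Lib.helper7.CG33.cent_Ept
    Cfsg.Agent.Lib.helper7.CG33.cent_Eln

/-- PIECE LS (2/3): from CLQ + MEM + ALG. -/
theorem l2_S33 : L2 S33 :=
  l2_S33_core Cfsg.Agent.Lib.helper6.CG33.Ept_mem_Fam Cfsg.Agent.Lib.helper6.CG33.Eln_mem_Fam
    Cfsg.Agent.Lib.helper7.CG33.fam_cases

/-- PIECE LS (3/3): from MEM. -/
theorem fam_nonempty_S33 : (Fam S33).Nonempty :=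
  fam_nonempty_core Cfsg.Agent.Lib.helper6.CG33.Ept_mem_Fam

end Cfsg.Agent.Lib.helper89.CG33
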