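import Cfsg.Agent.Lib.helper42.FGDefs
import Cfsg.Agent.Lib.helper17.FGAUT
import Cfsg.Agent.Lib.helper73.FGK1C

/-!
# S1915 piece T2C4: in the faithful case some non-identity element of `U` acts on `S` as an inner
automorphism
-/

set_option autoImplicit false

namespace Cfsg.Agent.Lib.helper42.FG

variable {G : Type*} [Group G] [Finite G]

/-- T2C4 -/
theorem h89_case_faithful_k2 {A S U : Subgroup G} (h : Cfg A S U) {B : Subgroup G} (hB : BData S U B)
    {z : G} (hzB : z ∈ B) (hz : ZData S z) (b : G) (hb : Subgroup.zpowers b = B) (hbz : b * b ≠ z)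
    (u₀ : G) (hu₀ : u₀ ∈ U) (hu₀b : u₀ * b * u₀⁻¹ = b * z)
    (hu₀s : ∀ s ∈ S, s ∉ B → s ^ 2 = 1 → u₀ * s * u₀⁻¹ = s * z)
    (u₁ : G) (hu₁ : u₁ ∈ U) (hu₁b : u₁ * b * u₁⁻¹ = b⁻¹ * z) : Inner S U := by
  classical
  have hS2 : IsPGroup 2 S := IsPGroup.of_card h.hSyl
  have hbB : b ∈ B := hb ▸ Subgroup.mem_zpowers b
  have hbS : b ∈ S := hB.hBS hbB
  have hz1 : z ≠ 1 := by
    intro h1
    have h2 := hz.hz2
    rw [h1, orderOf_one] at h2
    omega
  have hzz : z * z = 1 := by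
    have h1 := pow_orderOf_eq_one z
    rw [hz.hz2, pow_two] at h1
    exact h1
  have hK1 := k1_of_cyclic hB hzB hz
  have hSBc : ∀ s ∈ S, ∀ x ∈ B, s * x * s⁻¹ ∈ B := Subgroup.le_normalizer_iff.mp hB.hSB
  have hUBc : ∀ u ∈ U, ∀ x ∈ B, u * x * u⁻¹ ∈ B := Subgroup.le_normalizer_iff.mp hB.hUB
  have hUSc : ∀ u ∈ U, ∀ x ∈ S, u * x * u⁻¹ ∈ S := Subgroup.le_normalizer_iff.mp h.hUS
  have hzb : z ∈ Subgroup.zpowers b := hb ▸ hzB
  have hcbz : Commute b z := by
    obtain ⟨k, hk⟩ := Subgroup.mem_zpowers_iff.mp hzb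
    rw [← hk]
    exact (Commute.refl b).zpow_right k
  -- the order of `b`
  obtain ⟨n, hn⟩ : ∃ n : ℕ, orderOf b = 2 ^ n := by
    obtain ⟨k, hk⟩ := (IsPGroup.iff_orderOf.mp hS2) ⟨b, hbS⟩
    exact ⟨k, by rw [← hk, Subgroup.orderOf_mk]⟩
  -- `8 ∣ orderOf b` and `z = b ^ (orderOf b / 2)`
  obtain ⟨q, hzq, hb8⟩ : ∃ q : ℤ, z = b ^ (4 * q) ∧ b ^ (8 * q) = 1 := by
    have hbn : b ^ (2 ^ n) = 1 := by rw [← hn]; exact pow_orderOf_eq_one b
    rcases n with _ | m
    · exfalso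
      have hb1 : b = 1 := by simpa using hbn
      obtain ⟨k, hk⟩ := Subgroup.mem_zpowers_iff.mp hzb
      rw [hb1, one_zpow] at hk
      exact hz1 hk.symm
    · have hw2 : (b ^ (2 ^ m)) ^ 2 = 1 := by rw [← pow_mul, ← pow_succ]; exact hbn
      have hwB : b ^ (2 ^ m) ∈ B := B.pow_mem hbB _
      have hw1 : b ^ (2 ^ m) ≠ 1 := by
        intro h1
        have h2 := orderOf_dvd_of_pow_eq_one h1
        rw [hn] at h2
        have h3 := Nat.le_of_dvd (by positivity) h2
        have h4 : 2 ^ m < 2 ^ (m + 1) := Nat.pow_lt_pow_right (by norm_num) (by omega)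
        exact absurd h3 (not_le.mpr h4)
      have hwz : b ^ (2 ^ m) = z := (hK1 _ hwB hw2).resolve_left hw1
      rcases m with _ | m
      · exfalso
        rw [pow_zero, pow_one] at hwz
        rw [zero_add, pow_one, pow_two] at hbn
        have h1 : u₀ * b * u₀⁻¹ = 1 := by rw [hu₀b, ← hwz]; exact hbn
        have h2 : b = 1 := by
          have h3 : b = u₀⁻¹ * (u₀ * b * u₀⁻¹) * u₀ := by group
          rw [h3, h1]; group
        exact hz1 (hwz ▸ h2)
      · rcases m with _ | m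
        · exfalso
          apply hbz
          rw [zero_add, pow_one, pow_two] at hwz
          exact hwz
        · refine ⟨((2 ^ m : ℕ) : ℤ), ?_, ?_⟩
          · rw [← hwz]
            have h1 : (4 * ((2 ^ m : ℕ) : ℤ)) = ((2 ^ (m + 1 + 1) : ℕ) : ℤ) := by
              push_cast; ring
            rw [h1, zpow_natCast]
          · have h1 : (8 * ((2 ^ m : ℕ) : ℤ)) = ((2 ^ (m + 1 + 1 + 1) : ℕ) : ℤ) := by
              push_cast; ring
            rw [h1, zpow_natCast]; exact hbn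
  -- elements of `U` are involutions
  have hUsq : ∀ u ∈ U, u * u = 1 := by
    intro u hu
    have h1 := Monoid.pow_exponent_eq_one (⟨u, hu⟩ : U)
    rw [h.hU.exponent_two] at h1
    have h2 := congrArg Subtype.val h1
    simpa [pow_two] using h2
  have hu₁1 : u₁ ≠ 1 := by
    intro h1
    rw [h1] at hu₁b
    apply hbz
    have h2 : b = b⁻¹ * z := by simpa using hu₁b
    calc b * b = b * (b⁻¹ * z) := by rw [← h2]
      _ = z := by group
  -- an involution `s` of `S` outside `B`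
  obtain ⟨s, hsS, hsB, hs2⟩ : ∃ s ∈ S, s ∉ B ∧ s ^ 2 = 1 := by
    obtain ⟨E, hES, hEl, hEc⟩ := h.hc
    by_contra hcon
    have hsub : (E : Set G) ⊆ {1, z} := by
      intro e he
      have heB : e ∈ B := by
        by_contra heB
        exact hcon ⟨e, hES he, heB, hEl.2 e he⟩
      rcases hK1 e heB (hEl.2 e he) with h1 | h1 <;> simp [h1]
    have h1 : Nat.card E = (E : Set G).ncard := (_root_.Nat.card_coe_set_eq (E : Set G))
    have h2 := Set.ncard_le_ncard hsub (Set.toFinite _)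
    have h3 : ({1, z} : Set G).ncard ≤ 2 := (Set.ncard_insert_le 1 {z}).trans (by simp)
    omega
  have hss : s * s = 1 := by rw [← pow_two]; exact hs2
  -- `S = B ∪ B s`
  have hdec : ∀ y ∈ S, y ∈ B ∨ ∃ c ∈ B, y = c * s := by
    obtain ⟨a, haS, ha⟩ := Subgroup.relIndex_eq_two_iff.mp hB.hidx
    have hsa : s * a ∈ B := by
      rcases ha s hsS with ⟨h1, _⟩ | ⟨h1, _⟩
      · exact h1
      · exact absurd h1 hsB
    intro y hy
    by_cases hyB : y ∈ B
    · exact Or.inl hyB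
    · right
      have hya : y * a ∈ B := by
        rcases ha y hy with ⟨h1, _⟩ | ⟨h1, _⟩
        · exact h1
        · exact absurd h1 hyB
      exact ⟨y * a * (s * a)⁻¹, B.mul_mem hya (B.inv_mem hsa), by group⟩
  -- the action of `s` on `b`
  have hsb : s * b * s⁻¹ = b⁻¹ * z := by
    have htb : s * b * s⁻¹ ∈ Subgroup.zpowers b := by rw [hb]; exact hSBc s hsS b hbB
    have htt : (s * s) * b = b * (s * s) := by rw [hss, one_mul, mul_one]
    rcases aut_cyclic_two b z s ⟨n, hn⟩ hzb hz.hz2 htb htt with h1 | h1 | h1 | h1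
    · exfalso
      apply hsB
      apply hB.hself s hsS
      intro x hx
      rw [← hb] at hx
      obtain ⟨k, rfl⟩ := Subgroup.mem_zpowers_iff.mp hx
      have hc : Commute s b := by
        have h2 : s * b = b * s := by
          calc s * b = (s * b * s⁻¹) * s := by group
            _ = b * s := by rw [h1]
        exact h2
      exact (hc.zpow_right k).eq
    · exfalso
      have h2 : (b * s) ^ 2 = 1 := by
        rw [pow_two]
        calc b * s * (b * s) = b * (s * b * s⁻¹) * (s * s) := by group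
          _ = 1 := by rw [h1, hss]; group
      have h3 : b * s ∉ B := by
        intro h4
        apply hsB
        have h5 : s = b⁻¹ * (b * s) := by group
        rw [h5]
        exact B.mul_mem (B.inv_mem hbB) h4
      have h5 := hu₀s (b * s) (S.mul_mem hbS hsS) h3 h2
      have h6 : u₀ * (b * s) * u₀⁻¹ = b * s := by
        calc u₀ * (b * s) * u₀⁻¹ = (u₀ * b * u₀⁻¹) * (u₀ * s * u₀⁻¹) := by group
          _ = (b * z) * (s * z) := by rw [hu₀b, hu₀s s hsS hsB hs2]
          _ = b * (z * s) * z := by group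
          _ = b * (s * z) * z := by rw [hz.hzc s hsS]
          _ = b * s * (z * z) := by group
          _ = b * s := by rw [hzz, mul_one]
      rw [h6] at h5
      apply hz1
      have h7 : b * s * 1 = b * s * z := by rw [mul_one]; exact h5
      exact (mul_left_cancel h7).symm
    · exfalso
      have hbbs : s * (b * b) = (b * b) * s := by
        calc s * (b * b) = (s * b * s⁻¹) * (s * b * s⁻¹) * s := by group
          _ = (b * z) * (b * z) * s := by rw [h1]
          _ = b * (z * b) * z * s := by group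
          _ = b * (b * z) * z * s := by rw [hcbz.eq]
          _ = b * b * (z * z) * s := by group
          _ = (b * b) * s := by rw [hzz, mul_one]
      have hBc : ∀ c ∈ B, (b * b) * c = c * (b * b) := by
        intro c hc
        rw [← hb] at hc
        obtain ⟨k, rfl⟩ := Subgroup.mem_zpowers_iff.mp hc
        have h2 : Commute (b * b) b := (Commute.refl b).mul_left (Commute.refl b)
        exact (h2.zpow_right k).eq
      have hcen : ∀ x ∈ S, (b * b) * x = x * (b * b) := by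
        intro x hx
        rcases hdec x hx with hxB | ⟨c, hc, rfl⟩
        · exact hBc x hxB
        · calc b * b * (c * s) = (b * b * c) * s := by group
            _ = c * (b * b) * s := by rw [hBc c hc]
            _ = c * ((b * b) * s) := by group
            _ = c * (s * (b * b)) := by rw [hbbs]
            _ = c * s * (b * b) := by group
      rcases hz.hzu (b * b) (S.mul_mem hbS hbS) hcen with h2 | h2
      · apply hz1
        rw [hzq]
        have h3 : (4 * q) = 2 * (2 * q) := by ring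
        rw [h3, zpow_mul, zpow_two, h2, one_zpow]
      · exact hbz h2
    · exact h1
  have hbzq : b⁻¹ * z = b ^ (4 * q - 1) := by
    rw [zpow_sub, zpow_one, ← hzq]
    exact hcbz.inv_left.eq
  have hsb' : s * b * s⁻¹ = b ^ (4 * q - 1) := hsb.trans hbzq
  have hu₁b' : u₁ * b * u₁⁻¹ = b ^ (4 * q - 1) := hu₁b.trans hbzq
  -- the action of `u₁` on `s`
  have hu₁sS : u₁ * s * u₁⁻¹ ∈ S := hUSc u₁ hu₁ s hsS
  have hu₁sB : u₁ * s * u₁⁻¹ ∉ B := by
    intro h1
    apply hsB
    have h2 := hUBc u₁⁻¹ (U.inv_mem hu₁) _ h1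
    have h3 : u₁⁻¹ * (u₁ * s * u₁⁻¹) * u₁⁻¹⁻¹ = s := by group
    rwa [h3] at h2
  obtain ⟨c, hcB, hus⟩ : ∃ c ∈ B, u₁ * s * u₁⁻¹ = c * s :=
    (hdec _ hu₁sS).resolve_left hu₁sB
  rw [← hb] at hcB
  obtain ⟨j, rfl⟩ := Subgroup.mem_zpowers_iff.mp hcB
  have hzj : z ^ j = 1 := by
    have h1 : u₁ * (u₁ * s * u₁⁻¹) * u₁⁻¹ = s := by
      have h2 : u₁ * (u₁ * s * u₁⁻¹) * u₁⁻¹ = (u₁ * u₁) * s * (u₁ * u₁)⁻¹ := by group
      rw [h2, hUsq u₁ hu₁]; group
    have h2 : u₁ * (b ^ j * s) * u₁⁻¹ = z ^ j * s := by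
      calc u₁ * (b ^ j * s) * u₁⁻¹ = (u₁ * b ^ j * u₁⁻¹) * (u₁ * s * u₁⁻¹) := by group
        _ = (u₁ * b * u₁⁻¹) ^ j * (b ^ j * s) := by rw [conj_zpow, hus]
        _ = (b ^ (4 * q - 1)) ^ j * (b ^ j * s) := by rw [hu₁b']
        _ = b ^ ((4 * q - 1) * j + j) * s := by rw [← zpow_mul, ← mul_assoc, ← zpow_add]
        _ = b ^ ((4 * q) * j) * s := by rw [show (4 * q - 1) * j + j = (4 * q) * j by ring]
        _ = z ^ j * s := by rw [zpow_mul, ← hzq]
    rw [hus, h2] at h1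
    exact mul_eq_right.mp h1
  obtain ⟨i, rfl⟩ : ∃ i : ℤ, j = 2 * i := by
    have h1 : ((orderOf z : ℕ) : ℤ) ∣ j := orderOf_dvd_iff_zpow_eq_one.mpr hzj
    rw [hz.hz2] at h1
    obtain ⟨i, hi⟩ := h1
    exact ⟨i, by simpa using hi⟩
  -- the element `x := b ^ l * s`
  obtain ⟨l, hl⟩ : ∃ l : ℤ, l = i * (1 + 2 * q) := ⟨_, rfl⟩
  have hxS : b ^ l * s ∈ S := S.mul_mem (S.zpow_mem hbS l) hsS
  have hxb : (b ^ l * s) * b * (b ^ l * s)⁻¹ = b ^ (4 * q - 1) := by
    have hc : Commute (b ^ l) (b ^ (4 * q - 1)) :=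
      ((Commute.refl b).zpow_right _).zpow_left _
    calc (b ^ l * s) * b * (b ^ l * s)⁻¹
        = b ^ l * (s * b * s⁻¹) * (b ^ l)⁻¹ := by group
      _ = b ^ l * b ^ (4 * q - 1) * (b ^ l)⁻¹ := by rw [hsb']
      _ = b ^ (4 * q - 1) := by rw [hc.eq, mul_inv_cancel_right]
  have hxs : (b ^ l * s) * s * (b ^ l * s)⁻¹ = b ^ (2 * i) * s := by
    have h1 : s * (b ^ l)⁻¹ * s⁻¹ = (b ^ (4 * q - 1)) ^ (-l) := by
      rw [← hsb', conj_zpow, zpow_neg]
    calc (b ^ l * s) * s * (b ^ l * s)⁻¹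
        = b ^ l * (s * (b ^ l)⁻¹ * s⁻¹) * s := by group
      _ = b ^ l * (b ^ (4 * q - 1)) ^ (-l) * s := by rw [h1]
      _ = b ^ (2 * i) * s := by
          rw [← zpow_mul, ← zpow_add]
          have h2 : l + (4 * q - 1) * (-l) = 2 * i + (8 * q) * (-(q * i)) := by
            rw [hl]; ring
          rw [h2, zpow_add, zpow_mul b (8 * q) (-(q * i)), hb8, one_zpow, mul_one]
  refine ⟨u₁, hu₁, hu₁1, b ^ l * s, hxS, ?_⟩
  have hBagree : ∀ c ∈ B, u₁ * c * u₁⁻¹ = (b ^ l * s) * c * (b ^ l * s)⁻¹ := by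
    intro c hc
    rw [← hb] at hc
    obtain ⟨k, rfl⟩ := Subgroup.mem_zpowers_iff.mp hc
    calc u₁ * b ^ k * u₁⁻¹ = (u₁ * b * u₁⁻¹) ^ k := conj_zpow.symm
      _ = (b ^ (4 * q - 1)) ^ k := by rw [hu₁b']
      _ = ((b ^ l * s) * b * (b ^ l * s)⁻¹) ^ k := by rw [hxb]
      _ = (b ^ l * s) * b ^ k * (b ^ l * s)⁻¹ := conj_zpow
  intro y hy
  rcases hdec y hy with hyB | ⟨c, hcB', rfl⟩
  · exact hBagree y hyB
  · calc u₁ * (c * s) * u₁⁻¹ = (u₁ * c * u₁⁻¹) * (u₁ * s * u₁⁻¹) := by group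
      _ = ((b ^ l * s) * c * (b ^ l * s)⁻¹) * ((b ^ l * s) * s * (b ^ l * s)⁻¹) := by
          rw [hBagree c hcB', hus, hxs]
      _ = (b ^ l * s) * (c * s) * (b ^ l * s)⁻¹ := by group

end Cfsg.Agent.Lib.helper42.FG
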