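import Mathlib
import Cfsg.Prelude.Def_FusionSystem
import Cfsg.Prelude.Def_CaseTheorems
import Cfsg.Agent.Lib.helper89.FusionSat
import Cfsg.Agent.Lib.helper88.Saturated
import Cfsg.Agent.Lib.helper69.FS13_G4

/-!
# S5213, piece F4 (helper89): transport to a fully normalized four-group and extension to its
centralizer.
-/

set_option autoImplicit false

open Cfsg Cfsg.FusionSystem

namespace Cfsg.Agent.Lib.helper89.FS13

variable {Ω : Type*} [Group Ω] {S : Subgroup Ω}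

/-- The four-group `{1, z, u, z u}` of two commuting elements of square one. -/
def fourSub (z u : Ω) (hz : z * z = 1) (hu : u * u = 1) (hc : z * u = u * z) : Subgroup Ω where
  carrier := {x | x = 1 ∨ x = z ∨ x = u ∨ x = z * u}
  one_mem' := Or.inl rfl
  mul_mem' := by
    have h1 : z * (z * u) = u := by rw [← mul_assoc, hz, one_mul]
    have h2 : u * (z * u) = z := by rw [hc, ← mul_assoc, hu, one_mul]
    have h3 : z * u * z = u := by rw [hc, mul_assoc, hz, mul_one]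
    have h4 : z * u * u = z := by rw [mul_assoc, hu, mul_one]
    have h5 : z * u * (z * u) = 1 := by rw [mul_assoc, h2, hz]
    have h6 : u * z = z * u := hc.symm
    rintro a b (rfl | rfl | rfl | rfl) (rfl | rfl | rfl | rfl)
    · exact Or.inl (mul_one 1)
    · exact Or.inr (Or.inl (one_mul _))
    · exact Or.inr (Or.inr (Or.inl (one_mul _)))
    · exact Or.inr (Or.inr (Or.inr (one_mul _)))
    · exact Or.inr (Or.inl (mul_one _))
    · exact Or.inl hz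
    · exact Or.inr (Or.inr (Or.inr rfl))
    · exact Or.inr (Or.inr (Or.inl h1))
    · exact Or.inr (Or.inr (Or.inl (mul_one _)))
    · exact Or.inr (Or.inr (Or.inr h6))
    · exact Or.inl hu
    · exact Or.inr (Or.inl h2)
    · exact Or.inr (Or.inr (Or.inr (mul_one _)))
    · exact Or.inr (Or.inr (Or.inl h3))
    · exact Or.inr (Or.inl h4)
    · exact Or.inl h5
  inv_mem' := by
    have h2 : u * (z * u) = z := by rw [hc, ← mul_assoc, hu, one_mul]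
    have h5 : z * u * (z * u) = 1 := by rw [mul_assoc, h2, hz]
    rintro a (rfl | rfl | rfl | rfl)
    · exact Or.inl inv_one
    · exact Or.inr (Or.inl (inv_eq_of_mul_eq_one_left hz))
    · exact Or.inr (Or.inr (Or.inl (inv_eq_of_mul_eq_one_left hu)))
    · exact Or.inr (Or.inr (Or.inr (inv_eq_of_mul_eq_one_left h5)))

theorem mem_fourSub (z u : Ω) (hz : z * z = 1) (hu : u * u = 1) (hc : z * u = u * z) (x : Ω) :
    x ∈ fourSub z u hz hu hc ↔ x = 1 ∨ x = z ∨ x = u ∨ x = z * u := Iff.rfl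

/-- Core of F4: the four-group `W₀ = {1, z₀, u₀, z₀ u₀}` carries a 3-cycle `γ₀` of the system,
`χ` maps `W₀` onto the receptive `W` with `χ z₀ = z`. -/
theorem four_core [Finite S] (F : FusionSystem S) (z : Ω) (hzS : z ∈ S)
    (hzc : ∀ s ∈ S, s * z = z * s) (W₀ W : Subgroup Ω) (z₀ u₀ : Ω) (hz₀ : z₀ ∈ W₀)
    (hu₀ : u₀ ∈ W₀) (hmem : ∀ x ∈ W₀, x = 1 ∨ x = z₀ ∨ x = u₀ ∨ x = z₀ * u₀)
    (hu₀2 : orderOf u₀ = 2) (hne : u₀ ≠ z₀) (hc₀ : z₀ * u₀ = u₀ * z₀)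
    (γ₀ : W₀ →* Ω) (hγ₀ : γ₀ ∈ F.Hom W₀) (hγz : γ₀ ⟨z₀, hz₀⟩ = u₀)
    (hγu : γ₀ ⟨u₀, hu₀⟩ = z₀ * u₀)
    (χ : W₀ →* Ω) (hχ : χ ∈ F.Hom W₀) (hχR : χ.range = W) (hrec : F.IsReceptive W)
    (hχz : χ ⟨z₀, hz₀⟩ = z) :
    ∃ (v : Ω) (T : Subgroup Ω), v ∈ S ∧ orderOf v = 2 ∧ v ≠ z ∧
      (∀ x : Ω, x ∈ T ↔ x ∈ S ∧ x * v = v * x) ∧
      ∃ (hzT : z ∈ T) (hvT : v ∈ T) (φ : MulAut T),
        ((φ ⟨z, hzT⟩ : T) : Ω) = v ∧ ((φ ⟨v, hvT⟩ : T) : Ω) = z * v := by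
  have hχinj : Function.Injective χ := F.injective_of_mem hχ
  have hWS : W ≤ S := hrec.1
  have hfinW : Finite W := Cfsg.Agent.Lib.helper89.finite_of_le hWS
  have hu₀sq : u₀ * u₀ = 1 := by
    have := pow_orderOf_eq_one u₀
    rw [hu₀2, pow_two] at this
    exact this
  have hzu₀ : z₀ * u₀ ∈ W₀ := W₀.mul_mem hz₀ hu₀
  have hsub : (⟨z₀ * u₀, hzu₀⟩ : W₀) = ⟨z₀, hz₀⟩ * ⟨u₀, hu₀⟩ := rfl
  -- `γ₀ (z₀ u₀) = z₀`
  have hγzu : γ₀ ⟨z₀ * u₀, hzu₀⟩ = z₀ := by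
    rw [hsub, map_mul, hγz, hγu, hc₀, ← mul_assoc, hu₀sq, one_mul]
  obtain ⟨v, hv⟩ : ∃ v, v = χ ⟨u₀, hu₀⟩ := ⟨_, rfl⟩
  have hvS : v ∈ S := by
    rw [hv]
    exact (F.le_of_mem hχ).2 _
  have hvW : v ∈ W := by
    rw [← hχR, hv]
    exact ⟨_, rfl⟩
  have hzW : z ∈ W := by
    rw [← hχR, ← hχz]
    exact ⟨_, rfl⟩
  have hv2 : orderOf v = 2 := by
    rw [hv, orderOf_injective χ hχinj]
    rw [← hu₀2]
    exact (Subgroup.orderOf_mk u₀ hu₀)
  have hvz : v ≠ z := by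
    intro h
    rw [hv, ← hχz] at h
    have := hχinj h
    exact hne (congrArg Subtype.val this)
  have hχzu : χ ⟨z₀ * u₀, hzu₀⟩ = z * v := by
    rw [hsub, map_mul, hχz, hv]
  have hzv : z * v = v * z := (hzc v hvS).symm
  have hvsq : v * v = 1 := by
    have := pow_orderOf_eq_one v
    rw [hv2, pow_two] at this
    exact this
  -- elements of `W`
  have hWmem : ∀ y ∈ W, y = 1 ∨ y = z ∨ y = v ∨ y = z * v := by
    intro y hy
    rw [← hχR] at hy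
    obtain ⟨x, rfl⟩ := hy
    rcases hmem x x.2 with h | h | h | h
    · left
      have : x = 1 := Subtype.ext h
      rw [this, map_one]
    · right; left
      have : x = ⟨z₀, hz₀⟩ := Subtype.ext h
      rw [this, hχz]
    · right; right; left
      have : x = ⟨u₀, hu₀⟩ := Subtype.ext h
      rw [this, hv]
    · right; right; right
      have : x = ⟨z₀ * u₀, hzu₀⟩ := Subtype.ext h
      rw [this, hχzu]
  -- the inverse of `χ`
  obtain ⟨σ, hσ, hσχ, hσW⟩ := Cfsg.Agent.Lib.helper89.exists_inv_hom_of_range F hχ hχR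
  have hρ : γ₀.comp (σ.codRestrict W₀ hσW) ∈ F.Hom W := F.comp_mem hσ hγ₀ hσW
  have hγW : ∀ x : W₀, γ₀ x ∈ W₀ := by
    intro x
    rcases hmem x x.2 with h | h | h | h
    · have : x = 1 := Subtype.ext h
      rw [this, map_one]
      exact W₀.one_mem
    · have : x = ⟨z₀, hz₀⟩ := Subtype.ext h
      rw [this, hγz]
      exact hu₀
    · have : x = ⟨u₀, hu₀⟩ := Subtype.ext h
      rw [this, hγu]
      exact hzu₀
    · have : x = ⟨z₀ * u₀, hzu₀⟩ := Subtype.ext h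
      rw [this, hγzu]
      exact hz₀
  have hρW : ∀ y : W, (γ₀.comp (σ.codRestrict W₀ hσW)) y ∈ W₀ := fun y => hγW _
  obtain ⟨δ, hδdef⟩ : ∃ δ : W →* Ω,
      δ = χ.comp ((γ₀.comp (σ.codRestrict W₀ hσW)).codRestrict W₀ hρW) := ⟨_, rfl⟩
  have hδ : δ ∈ F.Hom W := by
    rw [hδdef]
    exact F.comp_mem hρ hχ hρW
  have hδapp : ∀ (x : W₀) (hx : χ x ∈ W), δ ⟨χ x, hx⟩ = χ ⟨γ₀ x, hγW x⟩ := by
    intro x hx
    rw [hδdef]
    have h1 : σ ⟨χ x, hx⟩ = x := hσχ x hx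
    show χ ⟨γ₀ ⟨σ ⟨χ x, hx⟩, _⟩, _⟩ = χ ⟨γ₀ x, hγW x⟩
    congr 2
    congr 1
    exact Subtype.ext h1
  have hδz : δ ⟨z, hzW⟩ = v := by
    have h1 := hδapp ⟨z₀, hz₀⟩ (by rw [hχz]; exact hzW)
    have h2 : (⟨χ ⟨z₀, hz₀⟩, by rw [hχz]; exact hzW⟩ : W) = ⟨z, hzW⟩ := Subtype.ext hχz
    rw [h2] at h1
    rw [h1, hv]
    congr 1
    exact Subtype.ext hγz
  have hδv : δ ⟨v, hvW⟩ = z * v := by
    have h1 := hδapp ⟨u₀, hu₀⟩ (by rw [← hv]; exact hvW)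
    have h2 : (⟨χ ⟨u₀, hu₀⟩, by rw [← hv]; exact hvW⟩ : W) = ⟨v, hvW⟩ := Subtype.ext hv.symm
    rw [h2] at h1
    rw [h1, ← hχzu]
    congr 1
    exact Subtype.ext hγu
  have hzvW : z * v ∈ W := W.mul_mem hzW hvW
  have hδzv : δ ⟨z * v, hzvW⟩ = z := by
    have hsub' : (⟨z * v, hzvW⟩ : W) = ⟨z, hzW⟩ * ⟨v, hvW⟩ := rfl
    rw [hsub', map_mul, hδz, hδv, hzv, ← mul_assoc, hvsq, one_mul]
  have hδR : δ.range = W := by
    apply le_antisymm
    · rintro _ ⟨y, rfl⟩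
      rw [hδdef]
      have h1 : (χ.comp ((γ₀.comp (σ.codRestrict W₀ hσW)).codRestrict W₀ hρW)) y ∈ χ.range :=
        ⟨_, rfl⟩
      rw [hχR] at h1
      exact h1
    · intro y hy
      rcases hWmem y hy with h | h | h | h
      · rw [h]
        exact δ.range.one_mem
      · rw [h]
        exact ⟨_, hδzv⟩
      · rw [h]
        exact ⟨_, hδz⟩
      · rw [h]
        exact ⟨_, hδv⟩
  -- the centralizer of `v`
  obtain ⟨T, hTdef⟩ : ∃ T : Subgroup Ω, T = S ⊓ Subgroup.centralizer {v} := ⟨_, rfl⟩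
  have hTmem : ∀ x : Ω, x ∈ T ↔ x ∈ S ∧ x * v = v * x := by
    intro x
    rw [hTdef, Subgroup.mem_inf, Subgroup.mem_centralizer_singleton_iff]
  have hcent : ∀ g ∈ T, ∀ y ∈ W, g * y = y * g := by
    intro g hg y hy
    obtain ⟨hgS, hgv⟩ := (hTmem g).1 hg
    have hgz : g * z = z * g := hzc g hgS
    rcases hWmem y hy with h | h | h | h
    · rw [h, mul_one, one_mul]
    · rw [h, hgz]
    · rw [h, hgv]
    · rw [h, ← mul_assoc, hgz, mul_assoc, hgv, mul_assoc]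
  have hconj : ∀ g ∈ T, ∀ y ∈ W, g * y * g⁻¹ = y := by
    intro g hg y hy
    rw [hcent g hg y hy, mul_assoc, mul_inv_cancel, mul_one]
  have hN : ∀ g ∈ T, g ∈ S ∧ g ∈ Subgroup.normalizer (W : Set Ω) ∧
      ∃ h ∈ S, ∀ (x : W) (hx : g * (x : Ω) * g⁻¹ ∈ W), δ ⟨g * x * g⁻¹, hx⟩ = h * δ x * h⁻¹ := by
    intro g hg
    refine ⟨((hTmem g).1 hg).1, Cfsg.Agent.Lib.helper88.mem_normalizer_of_conj_mem ?_, 1,
      S.one_mem, ?_⟩
    · intro x hx
      rw [hconj g hg x hx]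
      exact hx
    · intro x hx
      have h1 : (⟨g * (x : Ω) * g⁻¹, hx⟩ : W) = x := Subtype.ext (hconj g hg x x.2)
      rw [h1, one_mul, inv_one, mul_one]
  obtain ⟨ψ, hψ, hψW⟩ := Cfsg.Agent.Lib.helper89.exists_extension F hrec hδ hδR T hN
  have hzT : z ∈ T := (hTmem z).2 ⟨hzS, hzv⟩
  have hvT : v ∈ T := (hTmem v).2 ⟨hvS, rfl⟩
  have hψz : ψ ⟨z, hzT⟩ = v := by rw [hψW z hzW hzT, hδz]
  have hψv : ψ ⟨v, hvT⟩ = z * v := by rw [hψW v hvW hvT, hδv]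
  have hψT : ∀ x : T, ψ x ∈ T := by
    intro x
    refine (hTmem _).2 ⟨(F.le_of_mem hψ).2 x, ?_⟩
    have hxz : x * (⟨z, hzT⟩ : T) = ⟨z, hzT⟩ * x :=
      Subtype.ext (hzc (x : Ω) ((hTmem _).1 x.2).1)
    have := congrArg ψ hxz
    rw [map_mul, map_mul, hψz] at this
    exact this
  obtain ⟨α, hα⟩ := Cfsg.Agent.Lib.helper89.exists_aut_of_mem F hψ hψT
  exact ⟨v, T, hvS, hv2, hvz, hTmem, hzT, hvT, α, by rw [hα, hψz], by rw [hα, hψv]⟩

/-- PIECE F4 (transport to a fully normalized four-group, then extend to its centralizer). -/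
theorem transport_four [Finite S] (hS : IsPGroup 2 S) (F : FusionSystem S)
    (hF : F.IsSaturated 2) (h2 : Cfsg.PRankLE 2 2 ↥S) (z : Ω) (hzS : z ∈ S)
    (hz : orderOf z = 2) (hzc : ∀ s ∈ S, s * z = z * s) (R : Subgroup Ω) (hRS : R ≤ S)
    (hzR : z ∈ R) (u : Ω) (huR : u ∈ R) (hu : orderOf u = 2) (huz : u ≠ z) (γ : MulAut R)
    (hγ : γ ∈ F.autGroup R) (hγz : ((γ ⟨z, hzR⟩ : R) : Ω) = u)
    (hγu : ((γ ⟨u, huR⟩ : R) : Ω) = z * u) :
    ∃ (v : Ω) (T : Subgroup Ω), v ∈ S ∧ orderOf v = 2 ∧ v ≠ z ∧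
      (∀ x : Ω, x ∈ T ↔ x ∈ S ∧ x * v = v * x) ∧
      ∃ (hzT : z ∈ T) (hvT : v ∈ T) (φ : MulAut T),
        ((φ ⟨z, hzT⟩ : T) : Ω) = v ∧ ((φ ⟨v, hvT⟩ : T) : Ω) = z * v := by
  have hzsq : z * z = 1 := by
    have := pow_orderOf_eq_one z
    rw [hz, pow_two] at this
    exact this
  have husq : u * u = 1 := by
    have := pow_orderOf_eq_one u
    rw [hu, pow_two] at this
    exact this
  have hz1 : z ≠ 1 := by
    intro h
    rw [h, orderOf_one] at hz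
    exact absurd hz (by norm_num)
  have hu1 : u ≠ 1 := by
    intro h
    rw [h, orderOf_one] at hu
    exact absurd hu (by norm_num)
  have huS : u ∈ S := hRS huR
  have hc : z * u = u * z := (hzc u huS).symm
  have e1 : z * (z * u) = u := by rw [← mul_assoc, hzsq, one_mul]
  have e2 : u * (z * u) = z := by rw [hc, ← mul_assoc, husq, one_mul]
  have e3 : z * u * z = u := by rw [hc, mul_assoc, hzsq, mul_one]
  have e4 : z * u * u = z := by rw [mul_assoc, husq, mul_one]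
  have e5 : z * u * (z * u) = 1 := by rw [mul_assoc, e2, hzsq]
  obtain ⟨W₀, hW₀⟩ : ∃ W₀ : Subgroup Ω, W₀ = fourSub z u hzsq husq hc := ⟨_, rfl⟩
  have hW₀mem : ∀ x, x ∈ W₀ ↔ x = 1 ∨ x = z ∨ x = u ∨ x = z * u := by
    intro x
    rw [hW₀]
    exact Iff.rfl
  have hzW₀ : z ∈ W₀ := (hW₀mem z).2 (Or.inr (Or.inl rfl))
  have huW₀ : u ∈ W₀ := (hW₀mem u).2 (Or.inr (Or.inr (Or.inl rfl)))
  have hzuW₀ : z * u ∈ W₀ := W₀.mul_mem hzW₀ huW₀
  have hW₀R : W₀ ≤ R := by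
    intro x hx
    rcases (hW₀mem x).1 hx with h | h | h | h
    · rw [h]; exact R.one_mem
    · rw [h]; exact hzR
    · rw [h]; exact huR
    · rw [h]; exact R.mul_mem hzR huR
  have hW₀S : W₀ ≤ S := hW₀R.trans hRS
  have hγF : R.subtype.comp γ.toMonoidHom ∈ F.Hom R :=
    (Cfsg.Agent.Lib.helper89.mem_autGroup_iff F hRS γ).1 hγ
  obtain ⟨γ₀, hγ₀def⟩ : ∃ γ₀ : W₀ →* Ω,
      γ₀ = (R.subtype.comp γ.toMonoidHom).comp (Subgroup.inclusion hW₀R) := ⟨_, rfl⟩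
  have hγ₀ : γ₀ ∈ F.Hom W₀ := by
    rw [hγ₀def]
    exact Cfsg.Agent.Lib.helper88.restrict_mem F hW₀R hγF
  have hγ₀z : γ₀ ⟨z, hzW₀⟩ = u := by
    rw [hγ₀def]
    exact hγz
  have hγ₀u : γ₀ ⟨u, huW₀⟩ = z * u := by
    rw [hγ₀def]
    exact hγu
  have hsub : (⟨z * u, hzuW₀⟩ : W₀) = ⟨z, hzW₀⟩ * ⟨u, huW₀⟩ := rfl
  have hγ₀zu : γ₀ ⟨z * u, hzuW₀⟩ = z := by
    rw [hsub, map_mul, hγ₀z, hγ₀u, e2]
  obtain ⟨W, ⟨χ, hχ, hχR⟩, hfn⟩ := Cfsg.Agent.Lib.helper88.exists_fullyNormalized_conj F hW₀S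
  have hrec : F.IsReceptive W :=
    (Cfsg.Agent.Lib.helper88.fullyAutomized_receptive_of_fullyNormalized hS F hF hfn).2
  have hχinj : Function.Injective χ := F.injective_of_mem hχ
  have hχS : ∀ x : W₀, χ x ∈ S := (F.le_of_mem hχ).2
  have hoz : orderOf (χ ⟨z, hzW₀⟩) = 2 := by
    rw [orderOf_injective χ hχinj, ← hz]
    exact Subgroup.orderOf_mk z hzW₀
  have hou : orderOf (χ ⟨u, huW₀⟩) = 2 := by
    rw [orderOf_injective χ hχinj, ← hu]
    exact Subgroup.orderOf_mk u huW₀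
  have hcase := Cfsg.Agent.Lib.helper69.FS13.inv_mem_four h2
    (⟨χ ⟨z, hzW₀⟩, hχS _⟩ : S) (⟨χ ⟨u, huW₀⟩, hχS _⟩ : S) (⟨z, hzS⟩ : S)
    (by rw [Subgroup.orderOf_mk]; exact hoz) (by rw [Subgroup.orderOf_mk]; exact hou)
    (by rw [Subgroup.orderOf_mk]; exact hz)
    (by
      intro h
      have h1 : χ ⟨z, hzW₀⟩ = χ ⟨u, huW₀⟩ := congrArg Subtype.val h
      have h2 := hχinj h1
      exact huz (congrArg Subtype.val h2).symm)
    (by
      apply Subtype.ext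
      show χ ⟨z, hzW₀⟩ * χ ⟨u, huW₀⟩ = χ ⟨u, huW₀⟩ * χ ⟨z, hzW₀⟩
      rw [← map_mul, ← map_mul]
      congr 1
      exact Subtype.ext hc)
    (Subtype.ext (hzc _ (hχS _)).symm) (Subtype.ext (hzc _ (hχS _)).symm)
  rcases hcase with h | h | h
  · -- `χ z = z`
    have hχz : χ ⟨z, hzW₀⟩ = z := (congrArg Subtype.val h).symm
    exact four_core F z hzS hzc W₀ W z u hzW₀ huW₀ (fun x hx => (hW₀mem x).1 hx) hu huz hc
      γ₀ hγ₀ hγ₀z hγ₀u χ hχ hχR hrec hχz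
  · -- `χ u = z`
    have hχz : χ ⟨u, huW₀⟩ = z := (congrArg Subtype.val h).symm
    have hzu2 : orderOf (z * u) = 2 := by
      have : Fact (Nat.Prime 2) := ⟨Nat.prime_two⟩
      refine orderOf_eq_prime (by rw [pow_two]; exact e5) ?_
      intro h1
      have h3 : z * u = u * u := by rw [h1, husq]
      exact huz (mul_right_cancel h3).symm
    refine four_core F z hzS hzc W₀ W u (z * u) huW₀ hzuW₀ ?_ hzu2 ?_ ?_
      γ₀ hγ₀ hγ₀u ?_ χ hχ hχR hrec hχz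
    · intro x hx
      rcases (hW₀mem x).1 hx with h1 | h1 | h1 | h1
      · exact Or.inl h1
      · exact Or.inr (Or.inr (Or.inr (by rw [h1, e2])))
      · exact Or.inr (Or.inl h1)
      · exact Or.inr (Or.inr (Or.inl h1))
    · intro h1
      have h3 : z * u = 1 * u := by rw [h1, one_mul]
      exact hz1 (mul_right_cancel h3)
    · rw [e2, e4]
    · rw [hγ₀zu, e2]
  · -- `χ (z u) = z`
    have hχz : χ ⟨z * u, hzuW₀⟩ = z := by
      rw [hsub, map_mul]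
      exact (congrArg Subtype.val h).symm
    refine four_core F z hzS hzc W₀ W (z * u) z hzuW₀ hzW₀ ?_ hz ?_ ?_
      γ₀ hγ₀ hγ₀zu ?_ χ hχ hχR hrec hχz
    · intro x hx
      rcases (hW₀mem x).1 hx with h1 | h1 | h1 | h1
      · exact Or.inl h1
      · exact Or.inr (Or.inr (Or.inl h1))
      · exact Or.inr (Or.inr (Or.inr (by rw [h1, e3])))
      · exact Or.inr (Or.inl h1)
    · intro h1
      have h3 : z * 1 = z * u := by rw [mul_one]; exact h1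
      exact hu1 (mul_left_cancel h3).symm
    · rw [e3, e1]
    · rw [hγ₀z, e3]

end Cfsg.Agent.Lib.helper89.FS13
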