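import Mathlib
import Cfsg.Agent.Lib.helper12.FrobFixB
import Cfsg.Agent.Lib.helper1.Coprime
import Cfsg.Agent.Lib.helper3.PGroupFrattini
import Cfsg.Agent.Lib.helper13.Count

/-!
A Frobenius group `XR` (kernel `X`, complement `R`) acting on a `p`-group `T`, `p` odd and prime
to `|XR|`, such that `X` centralizes every element of order dividing `p` of `C_T(R)`, centralizes
`T` (Lemma F' of the split of S1428).
-/

set_option autoImplicit false

namespace Cfsg.Agent.Lib.helper89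

open scoped commutatorElement

section Class2

variable {G : Type*} [Group G]

theorem pow_mul_comm_central (n m c : G) (hc : m * n = n * m * c) (hcm : Commute c m) (k : ℕ) :
    m ^ k * n = n * m ^ k * c ^ k := by
  induction k with
  | zero => simp
  | succ k ih =>
    calc m ^ (k + 1) * n = m ^ k * (m * n) := by rw [pow_succ, mul_assoc]
      _ = m ^ k * (n * m * c) := by rw [hc]
      _ = (m ^ k * n) * m * c := by simp only [mul_assoc]
      _ = (n * m ^ k * c ^ k) * m * c := by rw [ih]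
      _ = n * m ^ k * (c ^ k * m) * c := by simp only [mul_assoc]
      _ = n * m ^ k * (m * c ^ k) * c := by rw [(hcm.pow_left k).eq]
      _ = n * m ^ (k + 1) * c ^ (k + 1) := by rw [pow_succ, pow_succ]; simp only [mul_assoc]

theorem mul_pow_central (n m c : G) (hc : m * n = n * m * c) (hcm : Commute c m)
    (hcn : Commute c n) (k : ℕ) :
    (n * m) ^ k = n ^ k * m ^ k * c ^ (∑ i ∈ Finset.range k, i) := by
  induction k with
  | zero => simp
  | succ k ih =>
    rw [pow_succ, ih, Finset.sum_range_succ]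
    have h1 := pow_mul_comm_central n m c hc hcm k
    have hcf : Commute (c ^ (∑ i ∈ Finset.range k, i)) n := hcn.pow_left _
    have hcf' : Commute (c ^ (∑ i ∈ Finset.range k, i)) m := hcm.pow_left _
    have hcc : c ^ k * c ^ (∑ i ∈ Finset.range k, i) = c ^ (∑ i ∈ Finset.range k, i) * c ^ k := by
      rw [← pow_add, ← pow_add, add_comm]
    calc n ^ k * m ^ k * c ^ (∑ i ∈ Finset.range k, i) * (n * m)
        = n ^ k * m ^ k * (c ^ (∑ i ∈ Finset.range k, i) * n) * m := by simp only [mul_assoc]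
      _ = n ^ k * m ^ k * (n * c ^ (∑ i ∈ Finset.range k, i)) * m := by rw [hcf.eq]
      _ = n ^ k * (m ^ k * n) * (c ^ (∑ i ∈ Finset.range k, i) * m) := by simp only [mul_assoc]
      _ = n ^ k * (n * m ^ k * c ^ k) * (m * c ^ (∑ i ∈ Finset.range k, i)) := by
          rw [h1, hcf'.eq]
      _ = n ^ k * n * m ^ k * (c ^ k * m) * c ^ (∑ i ∈ Finset.range k, i) := by
          simp only [mul_assoc]
      _ = n ^ k * n * m ^ k * (m * c ^ k) * c ^ (∑ i ∈ Finset.range k, i) := by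
          rw [(hcm.pow_left k).eq]
      _ = n ^ (k + 1) * m ^ (k + 1) * c ^ (∑ i ∈ Finset.range k, i + k) := by
          rw [pow_succ, pow_succ, pow_add]
          simp only [mul_assoc]
          rw [hcc]

theorem comm_pow_central (n m : G)
    (hcent : ∀ k : ℕ, Commute ((m ^ k)⁻¹ * n⁻¹ * m ^ k * n) m) (k : ℕ) :
    (m⁻¹ * n⁻¹ * m * n) ^ k = (m ^ k)⁻¹ * n⁻¹ * m ^ k * n := by
  induction k with
  | zero => simp
  | succ k ih =>
    rw [pow_succ, ih]
    have h := (hcent k).inv_right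
    calc (m ^ k)⁻¹ * n⁻¹ * m ^ k * n * (m⁻¹ * n⁻¹ * m * n)
        = ((m ^ k)⁻¹ * n⁻¹ * m ^ k * n * m⁻¹) * (n⁻¹ * m * n) := by simp only [mul_assoc]
      _ = (m⁻¹ * ((m ^ k)⁻¹ * n⁻¹ * m ^ k * n)) * (n⁻¹ * m * n) := by rw [h.eq]
      _ = (m ^ (k + 1))⁻¹ * n⁻¹ * m ^ (k + 1) * n := by
          rw [pow_succ, mul_inv_rev]
          simp only [mul_assoc, mul_inv_cancel_left]

theorem le_normalizer_commutator {R H K : Subgroup G}
    (hH : R ≤ Subgroup.normalizer (H : Set G)) (hK : R ≤ Subgroup.normalizer (K : Set G)) :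
    R ≤ Subgroup.normalizer ((⁅H, K⁆ : Subgroup G) : Set G) := by
  rw [Subgroup.le_normalizer_iff] at hH hK ⊢
  intro r hr z hz
  have hmap : (⁅H, K⁆ : Subgroup G).map (MulAut.conj r).toMonoidHom ≤ ⁅H, K⁆ := by
    rw [Subgroup.map_commutator]
    apply Subgroup.commutator_mono
    · rintro _ ⟨h, hh, rfl⟩; exact hH r hr h hh
    · rintro _ ⟨k, hk, rfl⟩; exact hK r hr k hk
  exact hmap ⟨z, hz, rfl⟩

end Class2

theorem frob_centralizes_pgroup {G : Type*} [Group G] [Finite G] (p : ℕ) [Fact p.Prime]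
    (hp2 : p ≠ 2) (T X R : Subgroup G) (hT : IsPGroup p T)
    (hXp : (Nat.card X).Coprime p) (hRp : (Nat.card R).Coprime p) (hR1 : R ≠ ⊥)
    (hXT : X ≤ Subgroup.normalizer (T : Set G)) (hRT : R ≤ Subgroup.normalizer (T : Set G))
    (hRX : R ≤ Subgroup.normalizer (X : Set G))
    (hfpf : ∀ e ∈ R, e ≠ 1 → ∀ x ∈ X, e * x = x * e → x = 1)
    (hOm : ∀ y ∈ T, (∀ e ∈ R, e * y = y * e) → y ^ p = 1 → ∀ x ∈ X, x * y = y * x) :
    T ≤ Subgroup.centralizer (X : Set G) := by
  classical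
  by_contra hcon
  have hex : ∃ n : ℕ, ∃ N : Subgroup G, Nat.card N = n ∧ N ≤ T ∧
      X ≤ Subgroup.normalizer (N : Set G) ∧ R ≤ Subgroup.normalizer (N : Set G) ∧
      ¬ N ≤ Subgroup.centralizer (X : Set G) := ⟨_, T, rfl, le_rfl, hXT, hRT, hcon⟩
  obtain ⟨N, hcard, hNT, hXN, hRN, hNX⟩ := Nat.find_spec hex
  have hmin : ∀ N' : Subgroup G, N' ≤ N → N' ≠ N → X ≤ Subgroup.normalizer (N' : Set G) →
      R ≤ Subgroup.normalizer (N' : Set G) → N' ≤ Subgroup.centralizer (X : Set G) := by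
    intro N' hle hne hXN' hRN'
    by_contra hbad
    have hlt : Nat.card N' < Nat.find hex := by
      rw [← hcard]
      by_contra hge
      exact hne (Subgroup.eq_of_le_of_card_ge hle (not_lt.1 hge))
    exact Nat.find_min hex hlt ⟨N', rfl, hle.trans hNT, hXN', hRN', hbad⟩
  have hNp : IsPGroup p N := hT.to_le hNT
  have hNnil : Group.IsNilpotent N := hNp.isNilpotent
  have hNsolv : Group.IsSolvable N := inferInstance
  obtain ⟨k, hk⟩ := IsPGroup.iff_card.1 hNp
  have hcopXN : (Nat.card X).Coprime (Nat.card N) := by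
    rw [hk]; exact Nat.Coprime.pow_right _ hXp
  -- Step A: `N = [N, X]`
  have hA : ⁅N, X⁆ = N := by
    by_contra hne
    have hle := hmin ⁅N, X⁆ (Cfsg.Agent.Lib.helper1.commutator_le_of_le_normalizer hXN) hne
      (Cfsg.Agent.Lib.helper1.right_le_normalizer_commutator hXN)
      (le_normalizer_commutator hRN hRX)
    have h2 : ⁅⁅N, X⁆, X⁆ = ⊥ := Subgroup.commutator_eq_bot_iff_le_centralizer.2 hle
    rw [Cfsg.Agent.Lib.helper1.commutator_commutator_eq X N hXN hcopXN (Or.inr hNsolv)] at h2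
    exact hNX (Subgroup.commutator_eq_bot_iff_le_centralizer.1 h2)
  -- Step B: the Frattini subgroup of `N` is centralized by `X`
  obtain ⟨Φ, hΦ⟩ : ∃ Φ : Subgroup G, Φ = (frattini ↥N).map N.subtype := ⟨_, rfl⟩
  have hΦle : Φ ≤ N := by rw [hΦ]; exact Subgroup.map_subtype_le _
  have hΦne : Φ ≠ N := by
    intro heq
    rcases eq_top_or_exists_le_coatom (⊥ : Subgroup ↥N) with hbt | ⟨M, hM, -⟩
    · apply hNX
      intro n hn
      have hmem : (⟨n, hn⟩ : ↥N) ∈ (⊥ : Subgroup ↥N) := by rw [hbt]; exact Subgroup.mem_top _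
      rw [Subgroup.mem_bot] at hmem
      have hn1 : n = 1 := congrArg Subtype.val hmem
      rw [hn1]; exact one_mem _
    · apply hM.1
      rw [eq_top_iff]
      intro n _
      have hn : (n : G) ∈ Φ := by rw [heq]; exact n.2
      rw [hΦ] at hn
      obtain ⟨y, hy, hyn⟩ := hn
      have hyeq : y = n := Subtype.ext hyn
      rw [← hyeq]
      exact frattini_le_coatom hM hy
  have hnormΦ : Subgroup.normalizer (N : Set G) ≤ Subgroup.normalizer (Φ : Set G) := by
    rw [hΦ]
    exact Cfsg.Agent.Lib.helper1.normalizer_le_normalizer_map_of_characteristic N (frattini ↥N)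
  have hΦX : Φ ≤ Subgroup.centralizer (X : Set G) :=
    hmin Φ hΦle hΦne (hXN.trans hnormΦ) (hRN.trans hnormΦ)
  have hpowΦ : ∀ n ∈ N, n ^ p ∈ Φ := by
    intro n hn
    rw [hΦ]
    exact ⟨⟨n, hn⟩ ^ p, Cfsg.Agent.Lib.helper3.pow_prime_mem_frattini hNp ⟨n, hn⟩, rfl⟩
  have hcommΦ : ∀ a ∈ N, ∀ b ∈ N, ⁅a, b⁆ ∈ Φ := by
    intro a ha b hb
    rw [hΦ]
    refine ⟨⁅(⟨a, ha⟩ : ↥N), ⟨b, hb⟩⁆,
      Cfsg.Agent.Lib.helper3.commutator_le_frattini hNp ?_, rfl⟩
    rw [commutator_def]
    exact Subgroup.commutator_mem_commutator (Subgroup.mem_top _) (Subgroup.mem_top _)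
  have hDcent : N ≤ Subgroup.centralizer
      ((N ⊓ Subgroup.centralizer (X : Set G) : Subgroup G) : Set G) := by
    have h1 : ⁅⁅N, N ⊓ Subgroup.centralizer (X : Set G)⁆, X⁆ = ⊥ := by
      rw [Subgroup.commutator_eq_bot_iff_le_centralizer]
      refine le_trans ?_ hΦX
      rw [Subgroup.commutator_le]
      intro a ha b hb
      exact hcommΦ a ha b hb.1
    have h2 : ⁅⁅N ⊓ Subgroup.centralizer (X : Set G), X⁆, N⁆ = ⊥ := by
      have h0 : ⁅N ⊓ Subgroup.centralizer (X : Set G), X⁆ = ⊥ :=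
        Subgroup.commutator_eq_bot_iff_le_centralizer.2 inf_le_right
      rw [h0, Subgroup.commutator_bot_left]
    have h3 := Subgroup.commutator_commutator_eq_bot_of_rotate h1 h2
    rw [Subgroup.commutator_comm X N, hA] at h3
    exact Subgroup.commutator_eq_bot_iff_le_centralizer.1 h3
  have hcentΦ : ∀ z ∈ Φ, ∀ n ∈ N, z * n = n * z := by
    intro z hz n hn
    exact Subgroup.mem_centralizer_iff.1 (hDcent hn) z ⟨hΦle hz, hΦX hz⟩
  -- Step D: `N` has exponent `p`
  have hp_odd : ∃ j, ∑ i ∈ Finset.range p, i = p * j := by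
    have hsum := Finset.sum_range_id_mul_two p
    have hodd : Odd p := (Fact.out : p.Prime).odd_of_ne_two hp2
    obtain ⟨j, hj⟩ := hodd
    refine ⟨j, ?_⟩
    have hp1 : p - 1 = 2 * j := by omega
    rw [hp1] at hsum
    have h2 : (∑ i ∈ Finset.range p, i) * 2 = (p * j) * 2 := by rw [hsum]; ring
    exact Nat.eq_of_mul_eq_mul_right (by norm_num) h2
  have hmul : ∀ n ∈ N, ∀ m ∈ N, (n * m) ^ p = n ^ p * m ^ p := by
    intro n hn m hm
    have hcΦ : m⁻¹ * n⁻¹ * m * n ∈ Φ := by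
      have h := hcommΦ m⁻¹ (inv_mem hm) n⁻¹ (inv_mem hn)
      rw [commutatorElement_def, inv_inv, inv_inv] at h
      exact h
    have hc : m * n = n * m * (m⁻¹ * n⁻¹ * m * n) := by group
    have hcm : Commute (m⁻¹ * n⁻¹ * m * n) m := hcentΦ _ hcΦ m hm
    have hcn : Commute (m⁻¹ * n⁻¹ * m * n) n := hcentΦ _ hcΦ n hn
    have hcent : ∀ k : ℕ, Commute ((m ^ k)⁻¹ * n⁻¹ * m ^ k * n) m := by
      intro k
      have hk' : (m ^ k)⁻¹ * n⁻¹ * m ^ k * n ∈ Φ := by
        have h := hcommΦ (m ^ k)⁻¹ (inv_mem (pow_mem hm k)) n⁻¹ (inv_mem hn)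
        rw [commutatorElement_def, inv_inv, inv_inv] at h
        exact h
      exact hcentΦ _ hk' m hm
    have hcp : (m⁻¹ * n⁻¹ * m * n) ^ p = 1 := by
      rw [comm_pow_central n m hcent p]
      have hz := hcentΦ (m ^ p) (hpowΦ m hm) n hn
      rw [mul_assoc, hz]
      simp [mul_assoc]
    obtain ⟨j, hj⟩ := hp_odd
    rw [mul_pow_central n m _ hc hcm hcn p, hj, pow_mul, hcp, one_pow, mul_one]
  have hexp : ∀ n ∈ N, n ^ p = 1 := by
    obtain ⟨K, hK⟩ : ∃ K : Subgroup G, ∀ g, g ∈ K ↔ g ∈ N ∧ g ^ p = 1 :=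
      ⟨{ carrier := {g | g ∈ N ∧ g ^ p = 1}
         mul_mem' := fun {a b} ha hb => ⟨mul_mem ha.1 hb.1, by
           rw [hmul a ha.1 b hb.1, ha.2, hb.2, one_mul]⟩
         one_mem' := ⟨one_mem N, one_pow p⟩
         inv_mem' := fun {a} ha => ⟨inv_mem ha.1, by rw [inv_pow, ha.2, inv_one]⟩ },
        fun g => Iff.rfl⟩
    have hNK : ⁅N, X⁆ ≤ K := by
      rw [Subgroup.commutator_le]
      intro n hn x hx
      rw [hK, commutatorElement_def]
      have hconj : x * n⁻¹ * x⁻¹ ∈ N :=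
        (Subgroup.le_normalizer_iff.1 hXN) x hx n⁻¹ (inv_mem hn)
      have e1 : n * x * n⁻¹ * x⁻¹ = n * (x * n⁻¹ * x⁻¹) := by group
      refine ⟨by rw [e1]; exact mul_mem hn hconj, ?_⟩
      rw [e1, hmul n hn _ hconj, conj_pow]
      have hz : (n⁻¹) ^ p ∈ Φ := hpowΦ n⁻¹ (inv_mem hn)
      have hxz : x * (n⁻¹) ^ p = (n⁻¹) ^ p * x := Subgroup.mem_centralizer_iff.1 (hΦX hz) x hx
      rw [hxz, mul_inv_cancel_right, inv_pow, mul_inv_cancel]
    intro n hn
    have hnK : n ∈ K := hNK (by rw [hA]; exact hn)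
    exact ((hK n).1 hnK).2
  -- Step E: the fixed point formula
  have hCR : N ⊓ Subgroup.centralizer (R : Set G) ≤ Subgroup.centralizer (X : Set G) := by
    rintro y ⟨hyN, hyR⟩
    rw [Subgroup.mem_centralizer_iff]
    intro x hx
    exact hOm y (hNT hyN) (fun e he => Subgroup.mem_centralizer_iff.1 hyR e he)
      (hexp y hyN) x hx
  have hXR : X ⊔ R ≤ Subgroup.normalizer (N : Set G) := sup_le hXN hRN
  have hcopN : Nat.Coprime (Nat.card N) (Nat.card ↥(X ⊔ R)) := by
    have hdvd : Nat.card ↥(X ⊔ R) ∣ Nat.card X * Nat.card R :=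
      Dvd.intro _ (Cfsg.Agent.Lib.helper13.card_sup_mul_card_inf' X R hRX)
    have h1 : (Nat.card X * Nat.card R).Coprime p := Nat.coprime_mul_iff_left.2 ⟨hXp, hRp⟩
    rw [hk]
    exact (Nat.Coprime.coprime_dvd_left hdvd h1).symm.pow_left k
  have hff := Cfsg.Agent.Lib.helper12.ff_formula X R N hR1
    (fun e he u hu => (Subgroup.le_normalizer_iff.1 hRX) e he u hu) hfpf
    (fun x hx h hh => (Subgroup.le_normalizer_iff.1 hXR) x hx h hh) hNsolv hcopN
  have heq : N ⊓ Subgroup.centralizer ((X ⊔ R : Subgroup G) : Set G)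
      = N ⊓ Subgroup.centralizer (R : Set G) := by
    apply le_antisymm
    · rintro y ⟨hyN, hy⟩
      refine ⟨hyN, ?_⟩
      have hy' : y ∈ Subgroup.centralizer ((X ⊔ R : Subgroup G) : Set G) := hy
      show y ∈ Subgroup.centralizer (R : Set G)
      rw [Subgroup.mem_centralizer_iff] at hy' ⊢
      intro e he
      exact hy' e (Subgroup.mem_sup_right he)
    · intro y hy
      refine ⟨hy.1, ?_⟩
      have hyX := hCR hy
      have hle : X ⊔ R ≤ Subgroup.centralizer ({y} : Set G) := by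
        apply sup_le
        · intro x hx
          rw [Subgroup.mem_centralizer_iff]
          intro z hz
          rw [Set.mem_singleton_iff] at hz
          subst hz
          exact (Subgroup.mem_centralizer_iff.1 hyX x hx).symm
        · intro e he
          rw [Subgroup.mem_centralizer_iff]
          intro z hz
          rw [Set.mem_singleton_iff] at hz
          subst hz
          exact (Subgroup.mem_centralizer_iff.1 hy.2 e he).symm
      show y ∈ Subgroup.centralizer ((X ⊔ R : Subgroup G) : Set G)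
      rw [Subgroup.mem_centralizer_iff]
      intro g hg
      exact (Subgroup.mem_centralizer_iff.1 (hle hg) y rfl).symm
  rw [heq] at hff
  have hpos : 0 < Nat.card ↥(N ⊓ Subgroup.centralizer (R : Set G)) ^ Nat.card R :=
    pow_pos Nat.card_pos _
  have hcardeq : Nat.card N = Nat.card ↥(N ⊓ Subgroup.centralizer (X : Set G)) :=
    Nat.eq_of_mul_eq_mul_left hpos hff
  have hfin : N ⊓ Subgroup.centralizer (X : Set G) = N :=
    Subgroup.eq_of_le_of_card_ge inf_le_left hcardeq.le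
  exact hNX (hfin.symm.le.trans inf_le_right)

end Cfsg.Agent.Lib.helper89
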