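import Mathlib
import Cfsg.Agent.Lib.helper86.IvDefs

/-!
# S3928 piece BF (racer copy): a Brauer–Fowler count for an involutory automorphism

`K := {c * (α c)⁻¹}` consists of elements inverted by `α`, has at least two elements and
`|N| ≤ |C| * |K|` (`C` the fixed points).  For `g : N` the number `a g` of pairs `(k₁, k₂) ∈ K × K`
with `k₁ * k₂⁻¹ = g` is at most `|C_N(g)|` (two solutions differ by an element of the centralizer),
`a 1 ≤ |K|`, and the `a g` sum to `|K|²`.  If every `g ≠ 1` had `|N : C_N(g)| > 2 |C|²`, then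
`2 |C|² (|K|² - |K|) < |N|² ≤ |C|² |K|²`, which is impossible for `|K| ≥ 2`.
-/

set_option autoImplicit false

namespace Cfsg.Agent.Lib.helper86.IV

/-- BF (prefixed racer copy) : Brauer–Fowler count for an involutory automorphism. -/
theorem helper89_iv_bf {N : Type*} [Group N] [Finite N] (α : MulAut N) (h2 : ∀ g, α (α g) = g)
    (hne : ∃ g, α g ≠ g) :
    ∃ g : N, g ≠ 1 ∧ (Subgroup.centralizer {g}).index ≤ 2 * (Nat.card {c : N // α c = c}) ^ 2 := by
  classical
  by_contra hcon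
  push Not at hcon
  letI : Fintype N := Fintype.ofFinite N
  obtain ⟨c, hc⟩ : ∃ c : ℕ, c = Nat.card {c : N // α c = c} := ⟨_, rfl⟩
  rw [← hc] at hcon
  have hcF : c = (Finset.univ.filter (fun x : N => α x = x)).card := by
    rw [hc, Nat.card_eq_fintype_card, Fintype.card_subtype]
  -- the set `K`
  obtain ⟨K, hK⟩ : ∃ K : Finset N, K = Finset.univ.image (fun x : N => x * (α x)⁻¹) := ⟨_, rfl⟩
  have hKinv : ∀ k ∈ K, α k = k⁻¹ := by
    intro k hk
    rw [hK, Finset.mem_image] at hk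
    obtain ⟨x, -, rfl⟩ := hk
    rw [map_mul, map_inv, h2, mul_inv_rev, inv_inv]
  have hK2 : 2 ≤ K.card := by
    obtain ⟨g, hg⟩ := hne
    have h1 : (1 : N) ∈ K := by
      rw [hK, Finset.mem_image]
      exact ⟨1, Finset.mem_univ _, by simp⟩
    have hgK : g * (α g)⁻¹ ∈ K := by
      rw [hK]; exact Finset.mem_image_of_mem _ (Finset.mem_univ _)
    have hne1 : g * (α g)⁻¹ ≠ 1 := by
      intro h
      exact hg (mul_inv_eq_one.mp h).symm
    exact Finset.one_lt_card.mpr ⟨_, hgK, _, h1, hne1⟩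
  have hM : Fintype.card N ≤ c * K.card := by
    have h3 := Finset.card_le_mul_card_image (f := fun x : N => x * (α x)⁻¹) Finset.univ c (by
      intro a ha
      obtain ⟨d, -, rfl⟩ := Finset.mem_image.mp ha
      rw [hcF]
      apply Finset.card_le_card_of_injOn (fun x => d⁻¹ * x)
      · intro x hx
        have hx' : x * (α x)⁻¹ = d * (α d)⁻¹ := (Finset.mem_filter.mp (Finset.mem_coe.mp hx)).2
        apply Finset.mem_coe.mpr
        rw [Finset.mem_filter]
        refine ⟨Finset.mem_univ _, ?_⟩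
        rw [map_mul, map_inv]
        have h4 : x = d * (α d)⁻¹ * α x := by
          rw [← hx']; group
        calc (α d)⁻¹ * α x = d⁻¹ * (d * (α d)⁻¹ * α x) := by group
          _ = d⁻¹ * x := by rw [← h4]
      · intro x _ y _ hxy
        exact mul_left_cancel hxy)
    rw [← hK, Finset.card_univ] at h3
    exact h3
  -- the fibres of `(k₁, k₂) ↦ k₁ * k₂⁻¹`
  have hsum : K.card * K.card
      = ∑ g : N, ((K ×ˢ K).filter (fun p => p.1 * p.2⁻¹ = g)).card := by
    rw [← Finset.card_product]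
    exact Finset.card_eq_sum_card_fiberwise (fun p _ => Finset.mem_coe.mpr (Finset.mem_univ _))
  have ha1 : ((K ×ˢ K).filter (fun p => p.1 * p.2⁻¹ = 1)).card ≤ K.card := by
    apply Finset.card_le_card_of_injOn Prod.fst
    · intro p hp
      exact Finset.mem_coe.mpr
        (Finset.mem_product.mp (Finset.mem_filter.mp (Finset.mem_coe.mp hp)).1).1
    · intro p hp q hq hpq
      have hp1 := (Finset.mem_filter.mp (Finset.mem_coe.mp hp)).2
      have hq1 := (Finset.mem_filter.mp (Finset.mem_coe.mp hq)).2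
      have e1 : p.1 = p.2 := mul_inv_eq_one.mp hp1
      have e2 : q.1 = q.2 := mul_inv_eq_one.mp hq1
      have hpq' : p.1 = q.1 := hpq
      exact Prod.ext hpq' (by rw [← e1, ← e2]; exact hpq')
  have hag : ∀ g : N, ((K ×ˢ K).filter (fun p => p.1 * p.2⁻¹ = g)).card
      ≤ Nat.card (Subgroup.centralizer ({g} : Set N)) := by
    intro g
    rcases Finset.eq_empty_or_nonempty ((K ×ˢ K).filter (fun p => p.1 * p.2⁻¹ = g))
      with he | ⟨p₀, hp₀⟩
    · rw [he]; simp
    · have key : ∀ p ∈ (K ×ˢ K).filter (fun p => p.1 * p.2⁻¹ = g),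
          α g = p.1⁻¹ * g⁻¹ * p.1 := by
        intro p hp
        obtain ⟨hpK, hpg⟩ := Finset.mem_filter.mp hp
        obtain ⟨h1, h2'⟩ := Finset.mem_product.mp hpK
        rw [← hpg, map_mul, map_inv, hKinv _ h1, hKinv _ h2']
        group
      rw [Nat.card_eq_fintype_card, Fintype.card_subtype]
      apply Finset.card_le_card_of_injOn (fun p => p.1 * p₀.1⁻¹)
      · intro p hp
        have hp' := Finset.mem_coe.mp hp
        have e1 := key p hp'
        have e2 := key p₀ hp₀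
        apply Finset.mem_coe.mpr
        rw [Finset.mem_filter]
        refine ⟨Finset.mem_univ _, ?_⟩
        rw [Subgroup.mem_centralizer_iff]
        intro h hh
        rw [Set.mem_singleton_iff] at hh
        subst hh
        have e3 : p.1⁻¹ * h⁻¹ * p.1 = p₀.1⁻¹ * h⁻¹ * p₀.1 := by rw [← e1, ← e2]
        have e4 : (p.1 * p₀.1⁻¹)⁻¹ * h⁻¹ * (p.1 * p₀.1⁻¹) = h⁻¹ := by
          calc (p.1 * p₀.1⁻¹)⁻¹ * h⁻¹ * (p.1 * p₀.1⁻¹)
              = p₀.1 * (p.1⁻¹ * h⁻¹ * p.1) * p₀.1⁻¹ := by group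
            _ = p₀.1 * (p₀.1⁻¹ * h⁻¹ * p₀.1) * p₀.1⁻¹ := by rw [e3]
            _ = h⁻¹ := by group
        calc h * (p.1 * p₀.1⁻¹)
            = (p.1 * p₀.1⁻¹) * ((p.1 * p₀.1⁻¹)⁻¹ * h⁻¹ * (p.1 * p₀.1⁻¹))⁻¹ := by group
          _ = (p.1 * p₀.1⁻¹) * (h⁻¹)⁻¹ := by rw [e4]
          _ = p.1 * p₀.1⁻¹ * h := by rw [inv_inv]
      · intro p hp q hq hpq
        have h1 : p.1 = q.1 := mul_right_cancel hpq
        have hp1 := (Finset.mem_filter.mp (Finset.mem_coe.mp hp)).2
        have hq1 := (Finset.mem_filter.mp (Finset.mem_coe.mp hq)).2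
        have h2' : p.2 = q.2 := by
          have h5 : p.1 * p.2⁻¹ = p.1 * q.2⁻¹ := by rw [hp1, h1, hq1]
          exact inv_injective (mul_left_cancel h5)
        exact Prod.ext h1 h2'
  -- combine
  have hR : K.card * K.card ≤ K.card + ∑ g ∈ Finset.univ.erase (1 : N),
      ((K ×ˢ K).filter (fun p => p.1 * p.2⁻¹ = g)).card := by
    rw [hsum, ← Finset.add_sum_erase Finset.univ _ (Finset.mem_univ (1 : N))]
    exact Nat.add_le_add_right ha1 _
  have hterm : ∀ g ∈ Finset.univ.erase (1 : N),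
      (2 * c ^ 2) * ((K ×ˢ K).filter (fun p => p.1 * p.2⁻¹ = g)).card ≤ Fintype.card N - 1 := by
    intro g hg
    have hg1 : g ≠ 1 := Finset.ne_of_mem_erase hg
    have hidx := hcon g hg1
    have hmul := Subgroup.card_mul_index (Subgroup.centralizer ({g} : Set N))
    have hpos : 0 < Nat.card (Subgroup.centralizer ({g} : Set N)) := Nat.card_pos
    have h3 : (2 * c ^ 2) * Nat.card (Subgroup.centralizer ({g} : Set N)) < Nat.card N := by
      rw [← hmul, mul_comm]
      exact Nat.mul_lt_mul_of_pos_left hidx hpos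
    have h4 := Nat.mul_le_mul_left (2 * c ^ 2) (hag g)
    rw [Nat.card_eq_fintype_card (α := N)] at h3
    omega
  have hsum2 : (2 * c ^ 2) * ∑ g ∈ Finset.univ.erase (1 : N),
      ((K ×ˢ K).filter (fun p => p.1 * p.2⁻¹ = g)).card
      ≤ (Fintype.card N - 1) * (Fintype.card N - 1) := by
    rw [Finset.mul_sum]
    calc ∑ g ∈ Finset.univ.erase (1 : N),
          (2 * c ^ 2) * ((K ×ˢ K).filter (fun p => p.1 * p.2⁻¹ = g)).card
        ≤ ∑ _g ∈ Finset.univ.erase (1 : N), (Fintype.card N - 1) := Finset.sum_le_sum hterm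
      _ = (Fintype.card N - 1) * (Fintype.card N - 1) := by
        rw [Finset.sum_const, Finset.card_erase_of_mem (Finset.mem_univ _), Finset.card_univ,
          smul_eq_mul]
  -- arithmetic
  obtain ⟨R, hRdef⟩ : ∃ R : ℕ, R = ∑ g ∈ Finset.univ.erase (1 : N),
      ((K ×ˢ K).filter (fun p => p.1 * p.2⁻¹ = g)).card := ⟨_, rfl⟩
  rw [← hRdef] at hR hsum2
  obtain ⟨n, hn⟩ : ∃ n : ℕ, n = K.card := ⟨_, rfl⟩
  obtain ⟨M, hMdef⟩ : ∃ M : ℕ, M = Fintype.card N := ⟨_, rfl⟩
  rw [← hn] at hR hK2 hM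
  rw [← hMdef] at hsum2 hM
  have hMpos : 0 < M := by rw [hMdef]; exact Fintype.card_pos
  have h7 : 2 * n ≤ n * n := Nat.mul_le_mul_right n hK2
  have h2R : n * n ≤ 2 * R := by linarith
  have h5 : M * M ≤ (2 * c ^ 2) * R := by
    calc M * M ≤ (c * n) * (c * n) := Nat.mul_le_mul hM hM
      _ = c ^ 2 * (n * n) := by ring
      _ ≤ c ^ 2 * (2 * R) := Nat.mul_le_mul_left _ h2R
      _ = 2 * c ^ 2 * R := by ring
  have h6 : (M - 1) * (M - 1) < M * M := by
    have h8 : M - 1 < M := by omega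
    exact Nat.mul_lt_mul'' h8 h8
  exact absurd (lt_of_le_of_lt (le_trans h5 hsum2) h6) (lt_irrefl _)

end Cfsg.Agent.Lib.helper86.IV
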