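import Mathlib
import Cfsg.Agent.Lib.helper54.MetaIdxDefs

set_option autoImplicit false

/-!
# S4245 piece C1 (helper89): `p = 2`, `B ≠ 1`
-/

namespace Cfsg.Agent.Lib.helper54.MetaIdx

universe u

theorem h89_case_two {G : Type u} [Group G] [Finite G] (A : Subgroup G) (B : Subgroup A)
    [B.Normal]
    (hB : IsCyclic B) (s r : ℕ) (hA : A.index = 2 ^ s) (hr : Nat.card (A ⧸ B) = 2 ^ r)
    (hne : B ≠ ⊥) :
    ∃ x : G, x ≠ 1 ∧ ∃ k : ℕ, (Subgroup.centralizer ({x} : Set G)).index = 2 ^ k := by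
  obtain ⟨b, hb⟩ := (Subgroup.ne_bot_iff_exists_ne_one).mp hne
  refine ⟨((b : A) : G), ?_, ?_⟩
  · intro h
    apply hb
    apply Subtype.ext
    apply Subtype.ext
    exact h
  · obtain ⟨B', hB'⟩ : ∃ B' : Subgroup G, B' = B.map A.subtype := ⟨_, rfl⟩
    have hle : B' ≤ Subgroup.centralizer ({((b : A) : G)} : Set G) := by
      intro y hy
      rw [hB'] at hy
      obtain ⟨a, ha, rfl⟩ := Subgroup.mem_map.mp hy
      rw [Subgroup.mem_centralizer_singleton_iff]
      have hc : IsMulCommutative B := IsCyclic.isMulCommutative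
      have h1 : (⟨a, ha⟩ : B) * b = b * ⟨a, ha⟩ := mul_comm' _ _
      have h2 : ((((⟨a, ha⟩ : B) * b : B) : A) : G) = (((b * ⟨a, ha⟩ : B) : A) : G) := by rw [h1]
      simpa using h2
    have h2 : B'.index = 2 ^ r * 2 ^ s := by
      rw [hB', Subgroup.index_map_subtype, hA, Subgroup.index_eq_card, hr]
    have h3 : (Subgroup.centralizer ({((b : A) : G)} : Set G)).index ∣ 2 ^ (r + s) := by
      rw [pow_add, ← h2]; exact Subgroup.index_dvd_of_le hle
    obtain ⟨k, -, hk⟩ := (Nat.dvd_prime_pow Nat.prime_two).mp h3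
    exact ⟨k, hk⟩

end Cfsg.Agent.Lib.helper54.MetaIdx
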