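import Mathlib
import Cfsg.Agent.Lib.helper54.MetaIdxDefs

set_option autoImplicit false

/-!
# S4245 piece C3c (helper89): `Q p K` for the normal 2-complement
-/

namespace Cfsg.Agent.Lib.helper54.MetaIdx

universe u

theorem h89_q_of_complement {G : Type u} [Group G] [Finite G] (p : ℕ) (hp : p.Prime) (hp2 : p ≠ 2)
    (A : Subgroup G) (B : Subgroup A) [B.Normal] (hB : IsCyclic B) (s r : ℕ)
    (hA : A.index = p ^ s) (hr : Nat.card (A ⧸ B) = 2 ^ r) (hodd : Odd (Nat.card B))
    (K : Subgroup G) [K.Normal] (hKodd : Odd (Nat.card K)) (j : ℕ) (hK : K.index = 2 ^ j) :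
    Q p K := by
  obtain ⟨B', hB'⟩ : ∃ B' : Subgroup G, B' = B.map A.subtype := ⟨_, rfl⟩
  have hinj : Function.Injective A.subtype := A.subtype_injective
  have hcardB' : Nat.card B' = Nat.card B := by
    rw [hB']; exact Subgroup.card_map_of_injective hinj
  have hB'odd : Odd (Nat.card B') := hcardB' ▸ hodd
  have hB'cyc : IsCyclic B' := by
    rw [hB']
    exact (B.equivMapOfInjective A.subtype hinj).isCyclic.mp hB
  -- B' ≤ K
  have hle : B' ≤ K := by
    intro b hb
    rw [← QuotientGroup.eq_one_iff]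
    have h1 : ((b : G) : G ⧸ K) ^ (Nat.card B') = 1 := by
      have h2 : (⟨b, hb⟩ : B') ^ (Nat.card B') = 1 := pow_card_eq_one'
      have h3 : b ^ (Nat.card B') = 1 := by
        have h2' : ((⟨b, hb⟩ : B') ^ (Nat.card B') : B').1 = (1 : B').1 := by rw [h2]
        rw [Subgroup.coe_pow] at h2'
        exact h2'
      rw [← QuotientGroup.mk_pow, h3]; rfl
    have h4 : ((b : G) : G ⧸ K) ^ (2 ^ j) = 1 := by
      have h5 : Nat.card (G ⧸ K) = 2 ^ j := by rw [← hK, Subgroup.index_eq_card]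
      rw [← h5]; exact pow_card_eq_one'
    have h6 : orderOf ((b : G) : G ⧸ K) ∣ Nat.gcd (Nat.card B') (2 ^ j) :=
      Nat.dvd_gcd (orderOf_dvd_of_pow_eq_one h1) (orderOf_dvd_of_pow_eq_one h4)
    have h7 : Nat.gcd (Nat.card B') (2 ^ j) = 1 :=
      Nat.Coprime.pow_right j (Nat.Coprime.symm (Nat.coprime_two_left.mpr hB'odd))
    rw [h7, Nat.dvd_one] at h6
    exact orderOf_eq_one_iff.mp h6
  -- data
  have hA1cyc : IsCyclic (B'.subgroupOf K) :=
    (Subgroup.subgroupOfEquivOfLe hle).isCyclic.mpr hB'cyc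
  refine ⟨B'.subgroupOf K, ⊤, inferInstance, ?_, ?_, ?_, ⟨0, ?_⟩⟩
  · exact (Subgroup.topEquiv (G := B'.subgroupOf K)).isCyclic.mpr hA1cyc
  · have : Subsingleton ((B'.subgroupOf K) ⧸ (⊤ : Subgroup (B'.subgroupOf K))) :=
      QuotientGroup.subsingleton_quotient_top
    exact isCyclic_of_subsingleton
  · -- index
    have h1 : B'.relIndex K * K.index = B'.index := Subgroup.relIndex_mul_index hle
    have h2 : B'.index = 2 ^ r * p ^ s := by
      rw [hB', Subgroup.index_map_subtype, hA, Subgroup.index_eq_card, hr]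
    have h3 : B'.relIndex K ∣ Nat.card K := Subgroup.index_dvd_card (B'.subgroupOf K)
    have h4 : Odd (B'.relIndex K) := Odd.of_dvd_nat hKodd h3
    have h5 : B'.relIndex K ∣ 2 ^ r * p ^ s := by
      rw [← h2, ← h1]; exact dvd_mul_right _ _
    have h6 : Nat.Coprime (B'.relIndex K) (2 ^ r) :=
      Nat.Coprime.pow_right r (Nat.Coprime.symm (Nat.coprime_two_left.mpr h4))
    have h7 : B'.relIndex K ∣ p ^ s := h6.dvd_of_dvd_mul_left h5
    obtain ⟨k, -, hk⟩ := (Nat.dvd_prime_pow hp).mp h7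
    exact ⟨k, hk⟩
  · rw [pow_zero, ← Subgroup.index_eq_card, Subgroup.index_top]

end Cfsg.Agent.Lib.helper54.MetaIdx
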