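-- S5239 piece SYL9 (racer copy by helper89): a group of order 81 with centre of order 3 and an elementary abelian
-- subgroup of order 27 is isomorphic to a Sylow 3-subgroup of Sym(9).
import Mathlib
import Cfsg.Agent.Lib.helper3.PGroupNormal

set_option autoImplicit false

namespace Cfsg.Agent.Lib.helper79.P3

theorem h89_zp3 {A : Type*} [Group A] (a : A) (ha : a ^ 3 = 1) (x : A) (hx : x ∈ Subgroup.zpowers a) :
    x = 1 ∨ x = a ∨ x = a * a := by
  obtain ⟨k, rfl⟩ := hx
  have h3 : a ^ (3 : ℤ) = 1 := by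
    rw [show (3 : ℤ) = ((3 : ℕ) : ℤ) from rfl, zpow_natCast]
    exact ha
  have hk : a ^ k = a ^ (k % 3) := by
    have hk' : k = 3 * (k / 3) + k % 3 := by omega
    conv_lhs => rw [hk']
    rw [zpow_add, zpow_mul, h3, one_zpow, one_mul]
  have h0 := Int.emod_nonneg k (by norm_num : (3 : ℤ) ≠ 0)
  have h1 := Int.emod_lt_of_pos k (by norm_num : (0 : ℤ) < 3)
  show a ^ k = 1 ∨ a ^ k = a ∨ a ^ k = a * a
  rw [hk]
  obtain ⟨r, hr⟩ : ∃ r : ℤ, r = k % 3 := ⟨_, rfl⟩
  rw [← hr] at h0 h1 ⊢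
  interval_cases r
  · left; simp
  · right; left; simp
  · right; right
    rw [show (2 : ℤ) = 1 + 1 from rfl, zpow_add, zpow_one]

theorem h89_card_sup_le {A : Type*} [CommGroup A] [Finite A] (H K : Subgroup A) :
    Nat.card (H ⊔ K : Subgroup A) ≤ Nat.card H * Nat.card K := by
  rw [← Nat.card_prod]
  apply Nat.card_le_card_of_surjective
    (fun p : H × K => (⟨(p.1 : A) * (p.2 : A), Subgroup.mul_mem_sup p.1.2 p.2.2⟩ : (H ⊔ K : Subgroup A)))
  rintro ⟨x, hx⟩
  obtain ⟨y, hy, z, hz, rfl⟩ := Subgroup.mem_sup.mp hx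
  exact ⟨(⟨y, hy⟩, ⟨z, hz⟩), rfl⟩

theorem h89_compl9 {A : Type*} [CommGroup A] [Finite A] (hA : Nat.card A = 27) (hexp : ∀ a : A, a ^ 3 = 1)
    (Z : Subgroup A) (hZ : Nat.card Z ≤ 3) : ∃ B : Subgroup A, Nat.card B = 9 ∧ B ⊓ Z = ⊥ := by
  classical
  have hex : ∃ a : A, a ∉ Z := by
    by_contra hcon
    push Not at hcon
    have h1 : Z = ⊤ := (Subgroup.eq_top_iff' Z).2 hcon
    rw [h1, Subgroup.card_top, hA] at hZ
    omega
  obtain ⟨a, haZ⟩ := hex
  have ha3 := hexp a
  have ha1 : a ≠ 1 := fun h => haZ (h ▸ Z.one_mem)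
  have hAZ : ∀ x ∈ Subgroup.zpowers a, x ∈ Z → x = 1 := by
    intro x hx hxZ
    rcases h89_zp3 a ha3 x hx with h | h | h
    · exact h
    · exact absurd (h ▸ hxZ) haZ
    · exfalso
      apply haZ
      have h1 : a = x * x := by
        rw [h]
        calc a = a ^ 3 * a := by rw [ha3, one_mul]
          _ = a * a * (a * a) := by rw [pow_succ, pow_succ, pow_one]; simp only [mul_assoc]
      rw [h1]
      exact Z.mul_mem hxZ hxZ
  have hcA : Nat.card (Subgroup.zpowers a) = 3 := by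
    rw [Nat.card_zpowers]
    exact orderOf_eq_prime ha3 ha1
  have hK : Nat.card (Subgroup.zpowers a ⊔ Z : Subgroup A) ≤ 9 := by
    calc Nat.card (Subgroup.zpowers a ⊔ Z : Subgroup A)
        ≤ Nat.card (Subgroup.zpowers a) * Nat.card Z := h89_card_sup_le _ _
      _ ≤ 3 * 3 := by rw [hcA]; exact Nat.mul_le_mul_left 3 hZ
  have hex2 : ∃ b : A, b ∉ (Subgroup.zpowers a ⊔ Z : Subgroup A) := by
    by_contra hcon
    push Not at hcon
    have h1 : (Subgroup.zpowers a ⊔ Z : Subgroup A) = ⊤ := (Subgroup.eq_top_iff' _).2 hcon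
    rw [h1, Subgroup.card_top, hA] at hK
    omega
  obtain ⟨b, hbK⟩ := hex2
  have hb3 := hexp b
  have hb1 : b ≠ 1 := fun h => hbK (h ▸ Subgroup.one_mem _)
  have hcB' : Nat.card (Subgroup.zpowers b) = 3 := by
    rw [Nat.card_zpowers]
    exact orderOf_eq_prime hb3 hb1
  refine ⟨Subgroup.zpowers a ⊔ Subgroup.zpowers b, ?_, ?_⟩
  · have hle : Nat.card (Subgroup.zpowers a ⊔ Subgroup.zpowers b : Subgroup A) ≤ 9 := by
      calc Nat.card (Subgroup.zpowers a ⊔ Subgroup.zpowers b : Subgroup A)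
          ≤ Nat.card (Subgroup.zpowers a) * Nat.card (Subgroup.zpowers b) := h89_card_sup_le _ _
        _ = 9 := by rw [hcA, hcB']
    have hdvd : 3 ∣ Nat.card (Subgroup.zpowers a ⊔ Subgroup.zpowers b : Subgroup A) := by
      rw [← hcA]
      exact Subgroup.card_dvd_of_le le_sup_left
    have hdvd2 : Nat.card (Subgroup.zpowers a ⊔ Subgroup.zpowers b : Subgroup A) ∣ 27 := by
      rw [← hA]
      exact Subgroup.card_subgroup_dvd_card _
    have hne : Nat.card (Subgroup.zpowers a ⊔ Subgroup.zpowers b : Subgroup A) ≠ 3 := by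
      intro h3
      have h4 : Subgroup.zpowers a = Subgroup.zpowers a ⊔ Subgroup.zpowers b :=
        Subgroup.eq_of_le_of_card_ge le_sup_left (by rw [h3, hcA])
      apply hbK
      have hb : b ∈ Subgroup.zpowers a := by
        rw [h4]
        exact Subgroup.mem_sup_right (Subgroup.mem_zpowers b)
      exact Subgroup.mem_sup_left hb
    obtain ⟨m, hm⟩ : ∃ m, m = Nat.card (Subgroup.zpowers a ⊔ Subgroup.zpowers b : Subgroup A) := ⟨_, rfl⟩
    rw [← hm] at hle hdvd hdvd2 hne ⊢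
    have hpos : 0 < m := Nat.pos_of_dvd_of_pos hdvd2 (by norm_num)
    interval_cases m <;> first | rfl | omega
  · rw [eq_bot_iff]
    rintro x ⟨hxB, hxZ⟩
    obtain ⟨α, hα, β, hβ, rfl⟩ := Subgroup.mem_sup.mp hxB
    rw [Subgroup.mem_bot]
    have hxZ' : α * β ∈ Z := hxZ
    rcases h89_zp3 b hb3 β hβ with h | h | h
    · rw [h, mul_one] at hxZ' ⊢
      exact hAZ α hα hxZ'
    · exfalso
      apply hbK
      have h1 : b = α⁻¹ * (α * β) := by
        rw [h]
        group
      rw [h1]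
      exact Subgroup.mul_mem _ (Subgroup.mem_sup_left (Subgroup.inv_mem _ hα)) (Subgroup.mem_sup_right hxZ')
    · exfalso
      apply hbK
      have h2 : b * b ∈ (Subgroup.zpowers a ⊔ Z : Subgroup A) := by
        have h1 : b * b = α⁻¹ * (α * β) := by
          rw [h]
          group
        rw [h1]
        exact Subgroup.mul_mem _ (Subgroup.mem_sup_left (Subgroup.inv_mem _ hα)) (Subgroup.mem_sup_right hxZ')
      have h3 : b = (b * b) * (b * b) := by
        calc b = b ^ 3 * b := by rw [hb3, one_mul]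
          _ = b * b * (b * b) := by rw [pow_succ, pow_succ, pow_one]; simp only [mul_assoc]
      rw [h3]
      exact Subgroup.mul_mem _ h2 h2

/-- SYL9 (racer copy). -/
theorem h89_p3_sylow9 {G : Type*} [Group G] [Finite G] (hG : Nat.card G = 81)
    (hZ : Nat.card (Subgroup.center G) = 3) (M : Subgroup G) (hM : Nat.card M = 27)
    (hMc : ∀ a ∈ M, ∀ b ∈ M, a * b = b * a) (hMe : ∀ a ∈ M, a ^ 3 = 1) :
    ∃ W : Sylow 3 (Equiv.Perm (Fin 9)), Nonempty (G ≃* ↥(W : Subgroup (Equiv.Perm (Fin 9)))) := by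
  classical
  haveI : Fact (Nat.Prime 3) := ⟨Nat.prime_three⟩
  have hGp : IsPGroup 3 G := IsPGroup.of_card (n := 4) (by rw [hG]; norm_num)
  letI : CommGroup M :=
    { (inferInstance : Group M) with mul_comm := fun a b => Subtype.ext (hMc a a.2 b b.2) }
  have hexpM : ∀ a : M, a ^ 3 = 1 := fun a => Subtype.ext (by simpa using hMe a a.2)
  have hZ' : Nat.card ((Subgroup.center G).subgroupOf M) ≤ 3 := by
    rw [← hZ]
    apply Nat.card_le_card_of_injective
      (fun x : (Subgroup.center G).subgroupOf M =>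
        (⟨(x.1 : G), Subgroup.mem_subgroupOf.mp x.2⟩ : Subgroup.center G))
    intro x y hxy
    have h1 := congrArg (fun t : Subgroup.center G => (t : G)) hxy
    exact Subtype.ext (Subtype.ext h1)
  obtain ⟨B', hB'9, hB'Z⟩ := h89_compl9 hM hexpM ((Subgroup.center G).subgroupOf M) hZ'
  obtain ⟨B, hB⟩ : ∃ B : Subgroup G, B = B'.map M.subtype := ⟨_, rfl⟩
  have hB9 : Nat.card B = 9 := by
    rw [hB, Subgroup.card_map_of_injective M.subtype_injective]
    exact hB'9
  have hBZ : B ⊓ Subgroup.center G = ⊥ := by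
    rw [eq_bot_iff]
    rintro x ⟨hxB, hxZ⟩
    rw [hB] at hxB
    obtain ⟨y, hy, rfl⟩ := hxB
    have h1 : y ∈ B' ⊓ (Subgroup.center G).subgroupOf M := ⟨hy, Subgroup.mem_subgroupOf.mpr hxZ⟩
    rw [hB'Z, Subgroup.mem_bot] at h1
    rw [h1]
    exact Subgroup.one_mem _
  have hcore : B.normalCore = ⊥ := by
    by_contra hne
    obtain ⟨z, hzN, hzc, hz1, _⟩ :=
      Cfsg.Agent.Lib.helper3.exists_central_of_normal_ne_bot hGp B.normalCore hne
    have h1 : z ∈ B ⊓ Subgroup.center G := ⟨Subgroup.normalCore_le B hzN, hzc⟩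
    rw [hBZ, Subgroup.mem_bot] at h1
    exact hz1 h1
  have hinj : Function.Injective (MulAction.toPermHom G (G ⧸ B)) := by
    rw [← MonoidHom.ker_eq_bot_iff, ← Subgroup.normalCore_eq_ker]
    exact hcore
  have hidx : Nat.card (G ⧸ B) = 9 := by
    have h1 := Subgroup.card_eq_card_quotient_mul_card_subgroup B
    rw [hG, hB9] at h1
    omega
  haveI : Finite (G ⧸ B) := Nat.finite_of_card_ne_zero (by rw [hidx]; norm_num)
  have e : (G ⧸ B) ≃ Fin 9 := Finite.equivFinOfCardEq hidx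
  obtain ⟨ψ, hψ⟩ : ∃ ψ : G →* Equiv.Perm (Fin 9), ψ = (Equiv.permCongrHom e).toMonoidHom.comp (MulAction.toPermHom G (G ⧸ B)) := ⟨_, rfl⟩
  have hψinj : Function.Injective ψ := by
    rw [hψ]
    exact (Equiv.permCongrHom e).injective.comp hinj
  have hcard : Nat.card ψ.range = 81 := by
    rw [← hG]
    exact (Nat.card_congr (MonoidHom.ofInjective hψinj).toEquiv).symm
  have hfac : (Nat.card (Equiv.Perm (Fin 9))).factorization 3 = 4 := by
    rw [Nat.card_perm]
    have h9 : Nat.card (Fin 9) = 9 := by simp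
    rw [h9]
    have h1 : (9 : ℕ).factorial = 3 ^ 4 * 4480 := by decide
    rw [h1, Nat.factorization_mul (by norm_num) (by norm_num), Nat.Prime.factorization_pow Nat.prime_three]
    have h2 : (4480 : ℕ).factorization 3 = 0 := Nat.factorization_eq_zero_of_not_dvd (by norm_num)
    simp [h2]
  refine ⟨Sylow.ofCard ψ.range (by rw [hcard, hfac]; norm_num), ⟨MonoidHom.ofInjective hψinj⟩⟩

end Cfsg.Agent.Lib.helper79.P3
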