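import Mathlib
import Cfsg.Agent.Lib.helper86.BisetTransfer

/-!
# The degree homomorphism of a biset (helper89)

For an `S × S`-set `X`, free on the right, and a homomorphism `lam : S →* A` into a commutative
group which is constant on point stabilizers (`lam a = lam b` whenever `(a, b)` fixes a point), a
"coordinate" `κ : X → A` with `κ ((a, b) • x) = lam a * (lam b)⁻¹ * κ x` exists.  The degree of
`g ∈ biAut S X` is the product over the blocks of `κ (g x) * (κ x)⁻¹`; it is a homomorphism
`mu : biAut S X →* A` with `mu (biIota s) = lam s ^ (number of blocks)`, and it is trivial on the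
centralizer of the image of a subgroup `P'` of `S` when `A` has exponent `p`, `S` is a `p`-group and
`lam` kills the elements `b` commuting with the "preimages" of `P'` at a point.
-/

set_option autoImplicit false

namespace Cfsg.Agent.Lib.helper89.PPow

open Cfsg Cfsg.Agent.Lib.helper86

/-- A cocycle which is trivial on the stabilizers of the points of an invariant set is a coboundary
there. -/
theorem exists_coboundary {Γ Y A : Type*} [Group Γ] [MulAction Γ Y] [CommGroup A]
    (d : Γ → Y → A) (hd : ∀ (γ γ' : Γ) (y : Y), d (γ * γ') y = d γ (γ' • y) * d γ' y)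
    (Y₀ : Set Y) (hstab : ∀ y ∈ Y₀, ∀ γ : Γ, γ • y ∈ Y₀)
    (htriv : ∀ y ∈ Y₀, ∀ γ : Γ, γ • y = y → d γ y = 1) :
    ∃ c : Y → A, ∀ y ∈ Y₀, ∀ γ : Γ, c (γ • y) = d γ y * c y := by
  classical
  obtain ⟨rep, hrep⟩ : ∃ rep : Y → Y,
      rep = fun y => (Quotient.mk (MulAction.orbitRel Γ Y) y).out := ⟨_, rfl⟩
  have h1 : ∀ y : Y, ∃ σ : Γ, σ • rep y = y := by
    intro y
    have h := Quotient.mk_out (s := MulAction.orbitRel Γ Y) y
    have h' : y ∈ MulAction.orbit Γ (rep y) := by
      rw [hrep]
      exact (MulAction.orbitRel_apply).1 ((MulAction.orbitRel Γ Y).symm h)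
    exact h'
  have h2 : ∀ (γ : Γ) (y : Y), rep (γ • y) = rep y := by
    intro γ y
    rw [hrep]
    show (Quotient.mk (MulAction.orbitRel Γ Y) (γ • y)).out =
      (Quotient.mk (MulAction.orbitRel Γ Y) y).out
    congr 1
    exact Quotient.sound ((MulAction.orbitRel_apply).2 (MulAction.mem_orbit y γ))
  choose σ hσ using h1
  refine ⟨fun y => d (σ y) (rep y), fun y hy γ => ?_⟩
  show d (σ (γ • y)) (rep (γ • y)) = d γ y * d (σ y) (rep y)
  rw [h2]
  have hr : rep y ∈ Y₀ := by
    have e : (σ y)⁻¹ • y = rep y := by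
      rw [inv_smul_eq_iff]
      exact (hσ y).symm
    rw [← e]
    exact hstab y hy _
  have hs' : σ (γ • y) • rep y = γ • y := by
    have h := hσ (γ • y)
    rwa [h2] at h
  have hδ : ((σ (γ • y))⁻¹ * (γ * σ y)) • rep y = rep y := by
    rw [mul_smul, mul_smul, hσ y, inv_smul_eq_iff, hs']
  have e1 := htriv _ hr _ hδ
  have e2 := hd (σ (γ • y)) ((σ (γ • y))⁻¹ * (γ * σ y)) (rep y)
  rw [hδ, e1, mul_one, mul_inv_cancel_left] at e2
  have e3 := hd γ (σ y) (rep y)
  rw [hσ y] at e3
  rw [← e2, e3]

/-- A product of an invariant function with values in a group of exponent `p` over a set acted on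
by a `p`-group reduces to the fixed points. -/
theorem prod_eq_prod_fixed {p : ℕ} [Fact p.Prime] {P Γ Y A : Type*} [Group P] [Group Γ]
    [MulAction Γ Y] [Fintype Y] [CommGroup A] [Finite A] (hP : IsPGroup p P) (ρ : P →* Γ)
    (hA : ∀ a : A, a ^ p = 1) (f : Y → A) (hf : ∀ (g : P) (y : Y), f (ρ g • y) = f y)
    [Fintype {y : Y // ∀ g : P, ρ g • y = y}] :
    ∏ y, f y = ∏ y : {y : Y // ∀ g : P, ρ g • y = y}, f y.1 := by
  classical
  have : Fintype A := Fintype.ofFinite A
  rw [← Fintype.prod_fiberwise f f,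
    ← Fintype.prod_fiberwise (fun z : {y : Y // ∀ g : P, ρ g • y = y} => f z.1) (fun z => f z.1)]
  refine Finset.prod_congr rfl (fun a _ => ?_)
  have e1 : ∏ i : {y : Y // f y = a}, f i.1 = a ^ Fintype.card {y : Y // f y = a} := by
    rw [← Finset.card_univ, ← Finset.prod_const]
    exact Finset.prod_congr rfl (fun i _ => i.2)
  have e2 : ∏ i : {z : {y : Y // ∀ g : P, ρ g • y = y} // f z.1 = a}, f i.1.1 =
      a ^ Fintype.card {z : {y : Y // ∀ g : P, ρ g • y = y} // f z.1 = a} := by
    rw [← Finset.card_univ, ← Finset.prod_const]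
    exact Finset.prod_congr rfl (fun i _ => i.2)
  let act : MulAction P {y : Y // f y = a} :=
    { smul := fun g y => ⟨ρ g • y.1, (hf g y.1).trans y.2⟩
      one_smul := fun y => Subtype.ext (by
        show ρ 1 • y.1 = y.1
        rw [map_one, one_smul])
      mul_smul := fun g h y => Subtype.ext (by
        show ρ (g * h) • y.1 = ρ g • ρ h • y.1
        rw [map_mul, mul_smul]) }
  have hmod := hP.card_modEq_card_fixedPoints {y : Y // f y = a}
  have heq : Nat.card (MulAction.fixedPoints P {y : Y // f y = a}) =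
      Nat.card {z : {y : Y // ∀ g : P, ρ g • y = y} // f z.1 = a} :=
    Nat.card_congr
      { toFun := fun w => ⟨⟨w.1.1, fun g => congrArg Subtype.val (w.2 g)⟩, w.1.2⟩
        invFun := fun z => ⟨⟨z.1.1, z.2⟩, fun g => Subtype.ext (z.1.2 g)⟩
        left_inv := fun w => rfl
        right_inv := fun z => rfl }
  rw [heq, Nat.card_eq_fintype_card, Nat.card_eq_fintype_card] at hmod
  rw [e1, e2]
  exact pow_eq_pow_iff_modEq.2 (Nat.ModEq.of_dvd (orderOf_dvd_of_pow_eq_one (hA a)) hmod)

variable {Ω : Type*} [Group Ω] {S : Subgroup Ω} {A : Type*} [CommGroup A]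

/-- a coordinate on an `S × S`-set with respect to `lam`. -/
structure Coord (lam : S →* A) (X : Type*) [MulAction (S × S) X] where
  /-- the coordinate function. -/
  κ : X → A
  /-- its equivariance. -/
  eq : ∀ (γ : S × S) (x : X), κ (γ • x) = lam γ.1 * (lam γ.2)⁻¹ * κ x

theorem exists_coord (lam : S →* A) (X : Type*) [MulAction (S × S) X]
    (h : ∀ (x : X) (γ : S × S), γ • x = x → lam γ.1 = lam γ.2) : Nonempty (Coord lam X) := by
  obtain ⟨c, hc⟩ := exists_coboundary (Γ := S × S) (Y := X)
    (fun γ _ => lam γ.1 * (lam γ.2)⁻¹) (by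
      intro γ γ' y
      show lam (γ * γ').1 * (lam (γ * γ').2)⁻¹ = _
      rw [Prod.fst_mul, Prod.snd_mul, map_mul, map_mul, mul_inv, mul_mul_mul_comm])
    Set.univ (fun _ _ _ => Set.mem_univ _) (fun y _ γ hγ => mul_inv_eq_one.2 (h y γ hγ))
  exact ⟨⟨c, fun γ x => hc x (Set.mem_univ x) γ⟩⟩

variable {lam : S →* A} {X : Type*} [MulAction (S × S) X]

/-- the pointwise degree. -/
def dpt (K : Coord lam X) (g : biAut S X) (x : X) : A :=
  K.κ ((g : Equiv.Perm X) x) * (K.κ x)⁻¹

theorem dpt_smul_right (K : Coord lam X) (g : biAut S X) (b : S) (x : X) :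
    dpt K g ((((1 : S), b) : S × S) • x) = dpt K g x := by
  unfold dpt
  rw [g.2 b x, K.eq, K.eq, mul_inv, mul_mul_mul_comm, mul_inv_cancel, one_mul]

/-- the degree on blocks. -/
def dblk (K : Coord lam X) (g : biAut S X) : Blk S X → A :=
  Quotient.lift (dpt K g) (by
    intro x y h
    obtain ⟨b, rfl⟩ : ∃ b : S, y = (((1 : S), b) : S × S) • x := h
    exact (dpt_smul_right K g b x).symm)

theorem dblk_blk (K : Coord lam X) (g : biAut S X) (x : X) : dblk K g (blk S x) = dpt K g x := rfl

theorem dblk_mul (K : Coord lam X) (g h : biAut S X) (O : Blk S X) :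
    dblk K (g * h) O = dblk K g (h • O) * dblk K h O := by
  induction O using Quotient.inductionOn with
  | _ x =>
    show K.κ ((g : Equiv.Perm X) ((h : Equiv.Perm X) x)) * (K.κ x)⁻¹ =
      K.κ ((g : Equiv.Perm X) ((h : Equiv.Perm X) x)) * (K.κ ((h : Equiv.Perm X) x))⁻¹ *
        (K.κ ((h : Equiv.Perm X) x) * (K.κ x)⁻¹)
    rw [mul_assoc, inv_mul_cancel_left]

/-- the degree homomorphism. -/
noncomputable def mu (K : Coord lam X) [Fintype (Blk S X)] : biAut S X →* A :=
  MonoidHom.mk' (fun g => ∏ O : Blk S X, dblk K g O) (by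
    intro g h
    show ∏ O : Blk S X, dblk K (g * h) O =
      (∏ O : Blk S X, dblk K g O) * ∏ O : Blk S X, dblk K h O
    rw [← Equiv.prod_comp (MulAction.toPerm h) (fun O => dblk K g O), ← Finset.prod_mul_distrib]
    exact Finset.prod_congr rfl (fun O _ => dblk_mul K g h O))

theorem mu_apply (K : Coord lam X) [Fintype (Blk S X)] (g : biAut S X) :
    mu K g = ∏ O : Blk S X, dblk K g O := rfl

theorem dpt_biIota (K : Coord lam X) (s : S) (x : X) : dpt K (biIota S X s) x = lam s := by
  unfold dpt
  rw [biIota_apply, K.eq]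
  simp

theorem mu_biIota (K : Coord lam X) [Fintype (Blk S X)] (s : S) :
    mu K (biIota S X s) = lam s ^ Fintype.card (Blk S X) := by
  rw [mu_apply, ← Finset.card_univ, ← Finset.prod_const]
  refine Finset.prod_congr rfl (fun O _ => ?_)
  induction O using Quotient.inductionOn with
  | _ x => exact dpt_biIota K s x

/-- **Key lemma**: the degree is trivial on the centralizer of the image of `P'`. -/
theorem mu_eq_one_of_commute {p : ℕ} [Fact p.Prime] (hS : IsPGroup p S) (K : Coord lam X)
    [Fintype (Blk S X)] [Finite A] (hA : ∀ a : A, a ^ p = 1)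
    (hfree : ∀ (x : X) (c : S), (((1 : S), c) : S × S) • x = x → c = 1)
    (P' : Subgroup S)
    (hgood : ∀ (x : X) (b : S),
      (∀ u ∈ P', ∃ v : S, ((u, v) : S × S) • x = x ∧ b * v = v * b) → lam b = 1)
    (τ : biAut S X) (hτ : ∀ u ∈ P', τ * biIota S X u = biIota S X u * τ) : mu K τ = 1 := by
  classical
  obtain ⟨ρ, hρ⟩ : ∃ ρ : P' →* biAut S X, ρ = (biIota S X).comp P'.subtype := ⟨_, rfl⟩
  have hρa : ∀ u : P', ρ u = biIota S X u.1 := fun u => by rw [hρ]; rfl
  have hinv : ∀ (u : P') (O : Blk S X), dblk K τ (ρ u • O) = dblk K τ O := by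
    intro u O
    induction O using Quotient.inductionOn with
    | _ x =>
      rw [hρa]
      show K.κ ((τ : Equiv.Perm X) (((biIota S X u.1 : biAut S X) : Equiv.Perm X) x)) *
        (K.κ (((biIota S X u.1 : biAut S X) : Equiv.Perm X) x))⁻¹ =
          K.κ ((τ : Equiv.Perm X) x) * (K.κ x)⁻¹
      have h1 : (τ : Equiv.Perm X) (((biIota S X u.1 : biAut S X) : Equiv.Perm X) x) =
          ((biIota S X u.1 : biAut S X) : Equiv.Perm X) ((τ : Equiv.Perm X) x) := by
        have h := congrArg (fun z : biAut S X => (z : Equiv.Perm X) x) (hτ u.1 u.2)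
        exact h
      rw [h1, biIota_apply, biIota_apply, K.eq, K.eq, mul_inv, mul_mul_mul_comm, mul_inv_cancel,
        one_mul]
  rw [mu_apply, prod_eq_prod_fixed (hS.to_subgroup P') ρ hA (fun O => dblk K τ O) hinv]
  -- the centralizer of the image of `P'`
  obtain ⟨C, hC⟩ : ∃ C : Subgroup (biAut S X),
      ∀ g : biAut S X, g ∈ C ↔ ∀ h ∈ (Set.range ρ : Set (biAut S X)), h * g = g * h :=
    ⟨Subgroup.centralizer (Set.range ρ : Set (biAut S X)), fun g => Subgroup.mem_centralizer_iff⟩
  have hCcomm : ∀ (γ : C) (u : P'), ρ u * (γ : biAut S X) = (γ : biAut S X) * ρ u := by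
    intro γ u
    exact (hC _).1 γ.2 (ρ u) ⟨u, rfl⟩
  have hτC : τ ∈ C := by
    rw [hC]
    rintro _ ⟨u, rfl⟩
    rw [hρa]
    exact (hτ u.1 u.2).symm
  have hstab : ∀ O ∈ {O : Blk S X | ∀ u : P', ρ u • O = O}, ∀ γ : C,
      γ • O ∈ {O : Blk S X | ∀ u : P', ρ u • O = O} := by
    intro O hO γ u
    show ρ u • ((γ : biAut S X) • O) = (γ : biAut S X) • O
    rw [smul_smul, hCcomm γ u, mul_smul, hO u]
  obtain ⟨c, hc⟩ := exists_coboundary (Γ := C) (Y := Blk S X)
    (fun γ O => dblk K (γ : biAut S X) O) (fun γ γ' O => dblk_mul K _ _ O)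
    {O : Blk S X | ∀ u : P', ρ u • O = O} hstab (by
      intro O hO γ hγ
      induction O using Quotient.inductionOn with
      | _ x =>
        have hγ' : blk S x = blk S (((γ : biAut S X) : Equiv.Perm X) x) := hγ.symm
        obtain ⟨b, hb⟩ := (blk_eq_iff S).1 hγ'
        show K.κ (((γ : biAut S X) : Equiv.Perm X) x) * (K.κ x)⁻¹ = 1
        have hlam : lam b = 1 := by
          apply hgood x b
          intro u hu
          have hO' : blk S x = blk S (((biIota S X u : biAut S X) : Equiv.Perm X) x) := by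
            have h := hO ⟨u, hu⟩
            rw [hρa] at h
            exact h.symm
          obtain ⟨w, hw⟩ := (blk_eq_iff S).1 hO'
          rw [biIota_apply] at hw
          refine ⟨w⁻¹, ?_, ?_⟩
          · have e : ((u, w⁻¹) : S × S) = (((1 : S), w⁻¹) : S × S) * ((u, 1) : S × S) := by
              ext <;> simp
            rw [e, mul_smul, hw, smul_smul]
            have e2 : (((1 : S), w⁻¹) : S × S) * (((1 : S), w) : S × S) = 1 := by
              ext <;> simp
            rw [e2, one_smul]
          · have hcm : ((γ : biAut S X) : Equiv.Perm X)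
                (((biIota S X u : biAut S X) : Equiv.Perm X) x) =
                ((biIota S X u : biAut S X) : Equiv.Perm X)
                  (((γ : biAut S X) : Equiv.Perm X) x) := by
              have h := congrArg (fun z : biAut S X => (z : Equiv.Perm X) x) (hCcomm γ ⟨u, hu⟩)
              rw [hρa] at h
              exact h.symm
            rw [biIota_apply, biIota_apply, hw, (γ : biAut S X).2 w x, hb] at hcm
            have hcm2 : (((1 : S), w * b) : S × S) • x = (((1 : S), b * w) : S × S) • x := by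
              have e3 : (((1 : S), w * b) : S × S) =
                  (((1 : S), w) : S × S) * (((1 : S), b) : S × S) := by
                ext <;> simp
              have e4 : (((1 : S), b * w) : S × S) =
                  (((1 : S), b) : S × S) * (((1 : S), w) : S × S) := by
                ext <;> simp
              have e5 : ((u, 1) : S × S) * (((1 : S), b) : S × S) =
                  (((1 : S), b) : S × S) * ((u, 1) : S × S) := by
                ext <;> simp
              rw [e3, e4, mul_smul, mul_smul, ← hw, ← mul_smul (((1 : S), b) : S × S), ← e5,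
                mul_smul]
              exact hcm
            have hwb := blk_elt_unique S hfree x (w * b) (b * w) hcm2
            have hcomm : Commute b w := hwb.symm
            exact hcomm.inv_right.eq
        rw [hb, K.eq]
        simp [hlam])
  obtain ⟨e, he⟩ : ∃ e : {O : Blk S X // ∀ u : P', ρ u • O = O} ≃
      {O : Blk S X // ∀ u : P', ρ u • O = O}, ∀ z, (e z).1 = τ • z.1 :=
    ⟨{ toFun := fun z => ⟨τ • z.1, hstab z.1 z.2 ⟨τ, hτC⟩⟩
       invFun := fun z => ⟨τ⁻¹ • z.1, hstab z.1 z.2 ⟨τ⁻¹, C.inv_mem hτC⟩⟩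
       left_inv := fun z => Subtype.ext (inv_smul_smul τ z.1)
       right_inv := fun z => Subtype.ext (smul_inv_smul τ z.1) }, fun z => rfl⟩
  have h1 : ∀ z : {O : Blk S X // ∀ u : P', ρ u • O = O},
      dblk K τ z.1 = c (e z).1 * (c z.1)⁻¹ := by
    intro z
    rw [he z]
    have h := hc z.1 z.2 ⟨τ, hτC⟩
    exact eq_mul_inv_of_mul_eq h.symm
  rw [Finset.prod_congr rfl (fun z _ => h1 z), Finset.prod_mul_distrib,
    Equiv.prod_comp e (fun z => c z.1), Finset.prod_inv_distrib, mul_inv_cancel]

end Cfsg.Agent.Lib.helper89.PPow
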