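import Mathlib
import Cfsg.Agent.Lib.helper89.PPow1
import Cfsg.Agent.Lib.helper89.FusionSat
import Cfsg.Agent.Lib.helper89.SylowIn
import Cfsg.Agent.Lib.helper89.Focal
import Cfsg.Agent.Lib.helper88.Saturated
import Cfsg.Agent.Lib.helper88.Residual
import Cfsg.Agent.Lib.helper86.BisetFocal
import Cfsg.Agent.Lib.helper86.Tate

/-!
# Subsystems of `p`-power index: the index `p` step (helper89)

For a saturated fusion system `F` over a finite `p`-group `S` and a normal subgroup `T` of index `p`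
in `S` containing the hyperfocal subgroup, the maps of `F` between subgroups of `T` which are induced
by elements of degree `1` of `biAut` of a characteristic biset form a saturated fusion system over
`T` of `p`-power index in `F` (`exists_pPower_step`).
-/

set_option autoImplicit false

namespace Cfsg.Agent.Lib.helper89.PPow

open Cfsg Cfsg.FusionSystem Cfsg.Agent.Lib.helper86
open scoped commutatorElement

variable {Ω : Type*} [Group Ω] {S : Subgroup Ω}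

section IndSec

variable {X : Type*} [MulAction (S × S) X]

/-- `g` induces the homomorphism `φ` by conjugation on the image of `S` in `biAut`. -/
def Ind (g : biAut S X) {P : Subgroup Ω} (φ : P →* Ω) : Prop :=
  ∀ (u : P) (hu : (u : Ω) ∈ S) (hφ : φ u ∈ S),
    biIota S X ⟨φ u, hφ⟩ = g * biIota S X ⟨u, hu⟩ * g⁻¹

theorem ind_conj {P : Subgroup Ω} {s : Ω} (hs : s ∈ S) :
    Ind (biIota S X ⟨s, hs⟩) (conjHom P s) := by
  intro u hu hφ
  rw [← map_inv, ← map_mul, ← map_mul]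
  exact congrArg (biIota S X) (Subtype.ext rfl)

theorem ind_comp {P Q : Subgroup Ω} {g h : biAut S X} {φ : P →* Ω} {ψ : Q →* Ω} (hg : Ind g φ)
    (hh : Ind h ψ) (hval : ∀ x : P, φ x ∈ Q) (hQ : Q ≤ S) :
    Ind (h * g) (ψ.comp (φ.codRestrict Q hval)) := by
  intro u hu hφ
  have h1 : biIota S X ⟨ψ ⟨φ u, hval u⟩, hφ⟩ =
      h * biIota S X ⟨φ u, hQ (hval u)⟩ * h⁻¹ := hh ⟨φ u, hval u⟩ (hQ (hval u)) hφ
  have h2 : biIota S X ⟨φ u, hQ (hval u)⟩ = g * biIota S X ⟨u, hu⟩ * g⁻¹ :=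
    hg u hu (hQ (hval u))
  rw [h2] at h1
  show biIota S X ⟨ψ ⟨φ u, hval u⟩, hφ⟩ = h * g * biIota S X ⟨u, hu⟩ * (h * g)⁻¹
  rw [h1]
  group

theorem ind_restrict {P R : Subgroup Ω} {g : biAut S X} {ψ : R →* Ω} (hg : Ind g ψ) (hPR : P ≤ R) :
    Ind g (ψ.comp (Subgroup.inclusion hPR)) := by
  intro u hu hφ
  exact hg (Subgroup.inclusion hPR u) hu hφ

theorem ind_inv {P : Subgroup Ω} {g : biAut S X} {φ : P →* Ω} (hg : Ind g φ) (hP : P ≤ S)
    {ψ : φ.range →* Ω} (hinv : ∀ x : P, ψ ⟨φ x, ⟨x, rfl⟩⟩ = x) : Ind g⁻¹ ψ := by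
  rintro ⟨y, x, rfl⟩ hu hφ
  have h1 : biIota S X ⟨φ x, hu⟩ = g * biIota S X ⟨x, hP x.2⟩ * g⁻¹ := hg x (hP x.2) hu
  have e : biIota S X ⟨ψ ⟨φ x, ⟨x, rfl⟩⟩, hφ⟩ = biIota S X ⟨x, hP x.2⟩ :=
    congrArg (biIota S X) (Subtype.ext (hinv x))
  show biIota S X ⟨ψ ⟨φ x, ⟨x, rfl⟩⟩, hφ⟩ = g⁻¹ * biIota S X ⟨φ x, hu⟩ * g⁻¹⁻¹
  rw [e, h1]
  group

theorem ind_aut_one {Q : Subgroup Ω} : Ind (1 : biAut S X) (Q.subtype.comp (1 : MulAut Q).toMonoidHom) := by
  intro u hu hφ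
  rw [one_mul, inv_one, mul_one]
  rfl

theorem ind_aut_mul {Q : Subgroup Ω} (hQ : Q ≤ S) {g h : biAut S X} {α β : MulAut Q}
    (hg : Ind g (Q.subtype.comp α.toMonoidHom)) (hh : Ind h (Q.subtype.comp β.toMonoidHom)) :
    Ind (g * h) (Q.subtype.comp (α * β).toMonoidHom) := by
  intro u hu hφ
  have h2 : biIota S X ⟨((β u : Q) : Ω), hQ (β u).2⟩ = h * biIota S X ⟨u, hu⟩ * h⁻¹ :=
    hh u hu (hQ (β u).2)
  have h1 : biIota S X ⟨((α (β u) : Q) : Ω), hφ⟩ =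
      g * biIota S X ⟨((β u : Q) : Ω), hQ (β u).2⟩ * g⁻¹ := hg (β u) (hQ (β u).2) hφ
  rw [h2] at h1
  show biIota S X ⟨((α (β u) : Q) : Ω), hφ⟩ = g * h * biIota S X ⟨u, hu⟩ * (g * h)⁻¹
  rw [h1]
  group

theorem ind_aut_inv {Q : Subgroup Ω} (hQ : Q ≤ S) {g : biAut S X} {α : MulAut Q}
    (hg : Ind g (Q.subtype.comp α.toMonoidHom)) : Ind g⁻¹ (Q.subtype.comp (α⁻¹).toMonoidHom) := by
  intro u hu hφ
  have h1 : biIota S X ⟨((α (α⁻¹ u) : Q) : Ω), hQ (α (α⁻¹ u)).2⟩ =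
      g * biIota S X ⟨((α⁻¹ u : Q) : Ω), hφ⟩ * g⁻¹ := hg (α⁻¹ u) hφ (hQ (α (α⁻¹ u)).2)
  have e : biIota S X ⟨((α (α⁻¹ u) : Q) : Ω), hQ (α (α⁻¹ u)).2⟩ = biIota S X ⟨u, hu⟩ :=
    congrArg (biIota S X) (Subtype.ext (by simp))
  rw [e] at h1
  show biIota S X ⟨((α⁻¹ u : Q) : Ω), hφ⟩ = g⁻¹ * biIota S X ⟨u, hu⟩ * g⁻¹⁻¹
  rw [h1]
  group

theorem ind_aut_pow {Q : Subgroup Ω} (hQ : Q ≤ S) {g : biAut S X} {α : MulAut Q}
    (hg : Ind g (Q.subtype.comp α.toMonoidHom)) (n : ℕ) :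
    Ind (g ^ n) (Q.subtype.comp (α ^ n).toMonoidHom) := by
  induction n with
  | zero =>
    rw [pow_zero, pow_zero]
    exact ind_aut_one
  | succ n ih =>
    rw [pow_succ, pow_succ]
    exact ind_aut_mul hQ ih hg

theorem commute_of_ind {P : Subgroup Ω} {g g' : biAut S X} {φ : P →* Ω} (hg : Ind g φ)
    (hg' : Ind g' φ) (u : P) (hu : (u : Ω) ∈ S) (v : Ω) (hv : v ∈ S) (e : φ u = v) :
    (g' * g⁻¹) * biIota S X ⟨v, hv⟩ = biIota S X ⟨v, hv⟩ * (g' * g⁻¹) := by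
  subst e
  have h1 := hg u hu hv
  have h2 := hg' u hu hv
  calc (g' * g⁻¹) * biIota S X ⟨φ u, hv⟩ = g' * biIota S X ⟨u, hu⟩ * g⁻¹ := by
        rw [h1]
        group
    _ = biIota S X ⟨φ u, hv⟩ * (g' * g⁻¹) := by
        rw [h2]
        group

/-- the maps of `F` between subgroups of `T` induced by elements of degree `1`. -/
def degSystem (F : FusionSystem S) (T : Subgroup Ω) (hTS : T ≤ S) {A : Type*} [CommGroup A]
    (m : biAut S X →* A) (hm : ∀ s : S, (s : Ω) ∈ T → m (biIota S X s) = 1) : FusionSystem T where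
  Hom P := {φ | φ ∈ F.Hom P ∧ P ≤ T ∧ (∀ x : P, φ x ∈ T) ∧ ∃ g : biAut S X, Ind g φ ∧ m g = 1}
  le_of_mem h := ⟨h.2.1, h.2.2.1⟩
  injective_of_mem h := F.injective_of_mem h.1
  conj_mem := by
    intro P g hP hg
    refine ⟨F.conj_mem (hP.trans hTS) (hTS hg), hP, ?_, biIota S X ⟨g, hTS hg⟩,
      ind_conj (hTS hg), hm _ hg⟩
    intro x
    show g * (x : Ω) * g⁻¹ ∈ T
    exact T.mul_mem (T.mul_mem hg (hP x.2)) (T.inv_mem hg)
  comp_mem := by
    rintro P Q φ ψ ⟨hφ, hP, hφT, g, hg, hmg⟩ ⟨hψ, hQ, hψT, h, hh, hmh⟩ hval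
    refine ⟨F.comp_mem hφ hψ hval, hP, fun x => hψT _, h * g,
      ind_comp hg hh hval (hQ.trans hTS), ?_⟩
    rw [map_mul, hmg, hmh, one_mul]
  inv_mem := by
    rintro P φ ⟨hφ, hP, hφT, g, hg, hmg⟩
    obtain ⟨ψ, hψ, hinv⟩ := F.inv_mem hφ
    refine ⟨ψ, ⟨hψ, ?_, ?_, g⁻¹, ind_inv hg (hP.trans hTS) hinv, by
      rw [map_inv, hmg, inv_one]⟩, hinv⟩
    · rintro _ ⟨x, rfl⟩
      exact hφT x
    · rintro ⟨_, x, rfl⟩
      rw [hinv x]
      exact hP x.2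

end IndSec

theorem mem_range_conjHom {Q₀ : Subgroup Ω} (s y : Ω) :
    y ∈ (conjHom Q₀ s).range ↔ s⁻¹ * y * s ∈ Q₀ := by
  constructor
  · rintro ⟨x, rfl⟩
    have e : s⁻¹ * (conjHom Q₀ s x) * s = x := by
      show s⁻¹ * (s * (x : Ω) * s⁻¹) * s = x
      group
    rw [e]
    exact x.2
  · intro h
    refine ⟨⟨s⁻¹ * y * s, h⟩, ?_⟩
    show s * (s⁻¹ * y * s) * s⁻¹ = y
    group

/-- a conjugate by an element of `S` of a fully normalized subgroup is fully normalized. -/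
theorem fullyNormalized_conj [Finite S] (F : FusionSystem S) {Q₀ : Subgroup Ω}
    (hfn : F.IsFullyNormalized Q₀) {s : Ω} (hs : s ∈ S) :
    F.IsFullyNormalized (conjHom Q₀ s).range := by
  have hQ₀S := hfn.1
  have hconj : F.IsConj Q₀ (conjHom Q₀ s).range := ⟨conjHom Q₀ s, F.conj_mem hQ₀S hs, rfl⟩
  have hQS : (conjHom Q₀ s).range ≤ S := Cfsg.Agent.Lib.helper88.isConj_le F hconj
  refine ⟨hQS, fun Q' hQ' => ?_⟩
  refine (hfn.2 Q' (Cfsg.Agent.Lib.helper88.isConj_trans F hconj hQ')).trans ?_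
  have hfin : Finite (normalizerIn S (conjHom Q₀ s).range) := finite_of_le inf_le_left
  have hmem : ∀ n : normalizerIn S Q₀, s * (n : Ω) * s⁻¹ ∈ normalizerIn S (conjHom Q₀ s).range := by
    intro n
    have hnS : (n : Ω) ∈ S := n.2.1
    have hnN : (n : Ω) ∈ Subgroup.normalizer (Q₀ : Set Ω) := n.2.2
    refine ⟨S.mul_mem (S.mul_mem hs hnS) (S.inv_mem hs), ?_⟩
    show s * (n : Ω) * s⁻¹ ∈ Subgroup.normalizer ((conjHom Q₀ s).range : Set Ω)
    rw [Subgroup.mem_normalizer_iff]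
    intro h
    rw [mem_range_conjHom, mem_range_conjHom,
      (Subgroup.mem_normalizer_iff.1 hnN (s⁻¹ * h * s))]
    have e : s⁻¹ * (s * (n : Ω) * s⁻¹ * h * (s * (n : Ω) * s⁻¹)⁻¹) * s =
        (n : Ω) * (s⁻¹ * h * s) * (n : Ω)⁻¹ := by group
    rw [e]
  refine Nat.card_le_card_of_injective
    (fun n : normalizerIn S Q₀ => (⟨s * (n : Ω) * s⁻¹, hmem n⟩ : normalizerIn S (conjHom Q₀ s).range))
    ?_
  intro n n' e
  have e' : s * (n : Ω) * s⁻¹ = s * (n' : Ω) * s⁻¹ := congrArg Subtype.val e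
  apply Subtype.ext
  simpa using e'

/-- the data of a degree homomorphism for the index `p` step. -/
structure DegData (F : FusionSystem S) (T : Subgroup Ω) (X : Type*) [MulAction (S × S) X]
    (A : Type*) [CommGroup A] (p : ℕ) where
  /-- `T ≤ S`. -/
  hTS : T ≤ S
  /-- the degree. -/
  m : biAut S X →* A
  /-- `A` has order `p`. -/
  card : Nat.card A = p
  /-- every map of `F` is induced. -/
  conj : ∀ (P : Subgroup Ω) (φ : P →* Ω), φ ∈ F.Hom P → ∃ g : biAut S X, Ind g φ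
  /-- `T` is the kernel of the degree on `S`. -/
  ker : ∀ s : S, m (biIota S X s) = 1 ↔ (s : Ω) ∈ T
  /-- the degree is onto on `S`. -/
  surj : ∀ a : A, ∃ s : S, m (biIota S X s) = a
  /-- `T` is stable under the maps of `F`. -/
  stab : ∀ (P : Subgroup Ω) (φ : P →* Ω), φ ∈ F.Hom P → ∀ u : P, φ u ∈ T ↔ (u : Ω) ∈ T
  /-- the degree is trivial on centralizers of subgroups all of whose conjugates have centralizer
  in `T`. -/
  key : ∀ (P : Subgroup Ω), P ≤ S →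
    (∀ P' : Subgroup Ω, F.IsConj P P' → centralizerIn S P' ≤ T) →
    ∀ τ : biAut S X, (∀ (u : Ω) (hu : u ∈ S), u ∈ P →
      τ * biIota S X ⟨u, hu⟩ = biIota S X ⟨u, hu⟩ * τ) → m τ = 1

section DD

variable {F : FusionSystem S} {T : Subgroup Ω} {X : Type*} [MulAction (S × S) X] {A : Type*}
  [CommGroup A] {p : ℕ}

/-- the subsystem of degree `1`. -/
def DegData.sys (D : DegData F T X A p) : FusionSystem T :=
  degSystem F T D.hTS D.m (fun s hs => (D.ker s).2 hs)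

theorem DegData.mem_sys (D : DegData F T X A p) {P : Subgroup Ω} (φ : P →* Ω) :
    φ ∈ D.sys.Hom P ↔ φ ∈ F.Hom P ∧ P ≤ T ∧ (∀ x : P, φ x ∈ T) ∧
      ∃ g : biAut S X, Ind g φ ∧ D.m g = 1 := Iff.rfl

theorem DegData.pow_p (D : DegData F T X A p) (a : A) : a ^ p = 1 := by
  rw [← D.card]
  exact pow_card_eq_one'

theorem DegData.good_of_cent (D : DegData F T X A p) {Q : Subgroup Ω} (hrec : F.IsReceptive Q)
    (hQ : centralizerIn S Q ≤ T) (Q' : Subgroup Ω) (hconj : F.IsConj Q' Q) :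
    centralizerIn S Q' ≤ T := by
  obtain ⟨χ, hχ, hχR⟩ := hconj
  obtain ⟨ψ, hψ, hψχ⟩ := hrec.2 Q' χ hχ hχR
  have hQ'N : Q' ≤ extender S Q' χ := Cfsg.Agent.Lib.helper88.le_extender F hχ
  intro c hc
  have hcS : c ∈ S := hc.1
  have hcC : c ∈ Subgroup.centralizer (Q' : Set Ω) := hc.2
  have hcN : c ∈ extender S Q' χ := by
    apply Subgroup.subset_closure
    refine ⟨hcS, Subgroup.centralizer_le_normalizer _ hcC, 1, S.one_mem, ?_⟩
    intro x hx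
    have h1 : (⟨c * x * c⁻¹, hx⟩ : Q') = x := by
      apply Subtype.ext
      have h2 : (x : Ω) * c = c * x := Subgroup.mem_centralizer_iff.mp hcC x x.2
      show c * x * c⁻¹ = x
      rw [← h2]
      group
    rw [h1]
    simp
  have hψS : ψ ⟨c, hcN⟩ ∈ S := (F.le_of_mem hψ).2 _
  have hψC : ψ ⟨c, hcN⟩ ∈ Subgroup.centralizer (Q : Set Ω) := by
    rw [Subgroup.mem_centralizer_iff]
    intro y hy
    have hy' : y ∈ χ.range := by
      rw [hχR]
      exact hy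
    obtain ⟨x, rfl⟩ := hy'
    have e : χ x = ψ ⟨x, hQ'N x.2⟩ := (hψχ x x.2 (hQ'N x.2)).symm
    rw [e, ← map_mul, ← map_mul]
    congr 1
    apply Subtype.ext
    exact Subgroup.mem_centralizer_iff.mp hcC x x.2
  have h3 : ψ ⟨c, hcN⟩ ∈ T := hQ ⟨hψS, hψC⟩
  exact (D.stab _ ψ hψ ⟨c, hcN⟩).1 h3

theorem DegData.adjust [Fact p.Prime] (D : DegData F T X A p) {Q : Subgroup Ω} (hQS : Q ≤ S)
    (hrec : F.IsReceptive Q) (τ : biAut S X)
    (hτ : ∀ (u : Ω) (hu : u ∈ S), u ∈ Q →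
      τ * biIota S X ⟨u, hu⟩ = biIota S X ⟨u, hu⟩ * τ) :
    ∃ (c : Ω) (hc : c ∈ S), c ∈ Subgroup.centralizer (Q : Set Ω) ∧
      D.m (biIota S X ⟨c, hc⟩) = D.m τ := by
  by_cases hcase : centralizerIn S Q ≤ T
  · refine ⟨1, S.one_mem, Subgroup.one_mem _, ?_⟩
    have h1 : D.m τ = 1 := D.key Q hQS (fun Q' hQ' =>
      D.good_of_cent hrec hcase Q' (Cfsg.Agent.Lib.helper88.isConj_symm F hQ')) τ hτ
    rw [h1]
    have e : (⟨1, S.one_mem⟩ : S) = 1 := rfl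
    rw [e, map_one, map_one]
  · obtain ⟨c₀, hc₀, hc₀T⟩ := SetLike.not_le_iff_exists.1 hcase
    have hc₀S : c₀ ∈ S := hc₀.1
    have hne : D.m (biIota S X ⟨c₀, hc₀S⟩) ≠ 1 := fun h => hc₀T ((D.ker _).1 h)
    have htop := zpowers_eq_top_of_prime_card D.card hne
    have hmem : D.m τ ∈ Subgroup.zpowers (D.m (biIota S X ⟨c₀, hc₀S⟩)) := by
      rw [htop]
      exact Subgroup.mem_top _
    obtain ⟨k, hk⟩ := Subgroup.mem_zpowers_iff.1 hmem
    refine ⟨c₀ ^ k, S.zpow_mem hc₀S k, Subgroup.zpow_mem _ hc₀.2 k, ?_⟩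
    have e : (⟨c₀ ^ k, S.zpow_mem hc₀S k⟩ : S) = ⟨c₀, hc₀S⟩ ^ k := Subtype.ext (by simp)
    rw [e, map_zpow, map_zpow, hk]

theorem DegData.autS_inf_le [Fact p.Prime] (D : DegData F T X A p) {Q : Subgroup Ω} (hQT : Q ≤ T)
    (hrec : F.IsReceptive Q) (α : MulAut Q) (hαS : α ∈ autInducedBy S Q)
    (hαE : α ∈ D.sys.autGroup Q) : α ∈ autInducedBy T Q := by
  have hQS : Q ≤ S := hQT.trans D.hTS
  rw [mem_autInducedBy_iff] at hαS ⊢
  obtain ⟨s, hs, hαs⟩ := hαS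
  rw [mem_autGroup_iff D.sys hQT] at hαE
  obtain ⟨hαF, -, hαT, g, hg, hmg⟩ := (D.mem_sys _).1 hαE
  have e : Q.subtype.comp α.toMonoidHom = conjHom Q s := by
    ext x
    exact hαs x
  have hi : Ind (biIota S X ⟨s, hs⟩) (Q.subtype.comp α.toMonoidHom) := by
    rw [e]
    exact ind_conj hs
  have hτ : ∀ (v : Ω) (hv : v ∈ S), v ∈ Q →
      (g * (biIota S X ⟨s, hs⟩)⁻¹) * biIota S X ⟨v, hv⟩ =
        biIota S X ⟨v, hv⟩ * (g * (biIota S X ⟨s, hs⟩)⁻¹) := by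
    intro v hv hvQ
    refine commute_of_ind hi hg (α⁻¹ ⟨v, hvQ⟩) (hQS (α⁻¹ ⟨v, hvQ⟩).2) v hv ?_
    show ((α (α⁻¹ ⟨v, hvQ⟩) : Q) : Ω) = v
    simp
  obtain ⟨c, hcS, hcC, hmc⟩ := D.adjust hQS hrec _ hτ
  have hsc : s * c ∈ T := by
    have h1 : D.m (biIota S X ⟨s * c, S.mul_mem hs hcS⟩) = 1 := by
      have e2 : (⟨s * c, S.mul_mem hs hcS⟩ : S) = ⟨s, hs⟩ * ⟨c, hcS⟩ := rfl
      rw [e2, map_mul, map_mul, hmc, map_mul, map_inv, hmg, one_mul, mul_inv_cancel]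
    exact (D.ker _).1 h1
  refine ⟨s * c, hsc, fun x => ?_⟩
  rw [hαs x]
  have hcx : (x : Ω) * c = c * x := Subgroup.mem_centralizer_iff.mp hcC x x.2
  have e3 : s * c * (x : Ω) * (s * c)⁻¹ = s * (c * x) * c⁻¹ * s⁻¹ := by group
  rw [e3, ← hcx]
  group

theorem DegData.fullyAutomized [Finite S] [Fact p.Prime] (D : DegData F T X A p)
    (hS : IsPGroup p S) {Q : Subgroup Ω} (hQT : Q ≤ T) (hfa : F.IsFullyAutomized p Q)
    (hrec : F.IsReceptive Q) : D.sys.IsFullyAutomized p Q := by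
  have hQS : Q ≤ S := hQT.trans D.hTS
  have hfinQ : Finite Q := finite_of_le hQS
  refine ⟨hQT, ?_⟩
  have hsub : D.sys.IsSubsystemOf F := fun P φ hφ => hφ.1
  have hATE : autInducedBy T Q ≤ D.sys.autGroup Q := autInducedBy_le_autGroup D.sys hQT
  rw [← isSylowIn_iff_exists hATE]
  refine ⟨hATE, isPGroup_autInducedBy hS D.hTS Q, ?_⟩
  intro K hK hle hKE
  have hEF : D.sys.autGroup Q ≤ F.autGroup Q :=
    Cfsg.Agent.Lib.helper88.autGroup_le_of_subsystem hsub Q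
  have hnorm : ∀ a ∈ F.autGroup Q, ∀ k ∈ D.sys.autGroup Q, a * k * a⁻¹ ∈ D.sys.autGroup Q := by
    intro a ha k hk
    have ha' := (mem_autGroup_iff F hQS a).1 ha
    have hk' := (mem_autGroup_iff D.sys hQT k).1 hk
    rw [mem_autGroup_iff D.sys hQT]
    obtain ⟨hkF, -, -, gk, hgk, hmk⟩ := (D.mem_sys _).1 hk'
    obtain ⟨ga, hga⟩ := D.conj Q _ ha'
    have hF' : Q.subtype.comp (a * k * a⁻¹).toMonoidHom ∈ F.Hom Q := by
      rw [← mem_autGroup_iff F hQS]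
      exact (F.autGroup Q).mul_mem ((F.autGroup Q).mul_mem ha (hEF hk)) ((F.autGroup Q).inv_mem ha)
    refine (D.mem_sys _).2 ⟨hF', hQT, fun x => hQT ((a * k * a⁻¹) x).2, ga * gk * ga⁻¹,
      ind_aut_mul hQS (ind_aut_mul hQS hga hgk) (ind_aut_inv hQS hga), ?_⟩
    rw [map_mul, map_mul, map_inv, hmk, mul_one, mul_inv_cancel]
  obtain ⟨k, hk, hkK⟩ :=
    exists_conj_into_autS_of_normal F hfa (D.sys.autGroup Q) hEF hnorm K hKE hK
  have hcard : Nat.card K ≤ Nat.card (autInducedBy T Q) := by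
    refine Nat.card_le_card_of_injective
      (fun h : K => (⟨k * h.1 * k⁻¹, D.autS_inf_le hQT hrec _ (hkK h.1 h.2)
        ((D.sys.autGroup Q).mul_mem ((D.sys.autGroup Q).mul_mem hk (hKE h.2))
          ((D.sys.autGroup Q).inv_mem hk))⟩ : autInducedBy T Q)) ?_
    intro h h' e
    have e' : k * h.1 * k⁻¹ = k * h'.1 * k⁻¹ := congrArg Subtype.val e
    apply Subtype.ext
    simpa using e'
  have hKeq := Subgroup.eq_of_le_of_card_ge hle hcard
  rw [hKeq]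

theorem DegData.receptive [Fact p.Prime] (D : DegData F T X A p) {Q : Subgroup Ω} (hQT : Q ≤ T)
    (hrec : F.IsReceptive Q) : D.sys.IsReceptive Q := by
  have hQS : Q ≤ S := hQT.trans D.hTS
  refine ⟨hQT, ?_⟩
  intro P φ hφ hφR
  obtain ⟨hφF, hPT, hφT, g, hg, hmg⟩ := (D.mem_sys φ).1 hφ
  have hPS : P ≤ S := hPT.trans D.hTS
  have hle : extender T P φ ≤ extender S P φ := by
    apply Subgroup.closure_mono
    rintro x ⟨hxT, hxN, h, hhT, hh⟩
    exact ⟨D.hTS hxT, hxN, h, D.hTS hhT, hh⟩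
  have hNT : extender T P φ ≤ T := by
    unfold extender
    rw [Subgroup.closure_le]
    rintro x ⟨hxT, -⟩
    exact hxT
  obtain ⟨ψ₀, hψ₀, hψ₀φ⟩ := hrec.2 P φ hφF hφR
  obtain ⟨ψ₁, hψ₁def⟩ : ∃ ψ₁ : extender T P φ →* Ω, ψ₁ = ψ₀.comp (Subgroup.inclusion hle) :=
    ⟨_, rfl⟩
  have hψ₁ : ψ₁ ∈ F.Hom (extender T P φ) := by
    rw [hψ₁def]
    exact Cfsg.Agent.Lib.helper88.restrict_mem F hle hψ₀
  have hψ₁φ : ∀ (x : Ω) (hP : x ∈ P) (hN : x ∈ extender T P φ), ψ₁ ⟨x, hN⟩ = φ ⟨x, hP⟩ := by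
    intro x hP hN
    rw [hψ₁def]
    exact hψ₀φ x hP (hle hN)
  have hPN : P ≤ extender T P φ := Cfsg.Agent.Lib.helper88.le_extender D.sys hφ
  obtain ⟨g₁, hg₁⟩ := D.conj _ ψ₁ hψ₁
  have hg₁φ : Ind g₁ φ := by
    intro u hu hφu
    have hmem : ψ₁ ⟨u, hPN u.2⟩ ∈ S := (F.le_of_mem hψ₁).2 _
    have h : biIota S X ⟨ψ₁ ⟨u, hPN u.2⟩, hmem⟩ = g₁ * biIota S X ⟨u, hu⟩ * g₁⁻¹ :=
      hg₁ ⟨u, hPN u.2⟩ hu hmem
    have e : biIota S X ⟨φ u, hφu⟩ = biIota S X ⟨ψ₁ ⟨u, hPN u.2⟩, hmem⟩ :=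
      congrArg (biIota S X) (Subtype.ext (hψ₁φ u u.2 (hPN u.2)).symm)
    rw [e]
    exact h
  have hτ : ∀ (v : Ω) (hv : v ∈ S), v ∈ Q →
      (g₁ * g⁻¹) * biIota S X ⟨v, hv⟩ = biIota S X ⟨v, hv⟩ * (g₁ * g⁻¹) := by
    intro v hv hvQ
    have hvR : v ∈ φ.range := by
      rw [hφR]
      exact hvQ
    obtain ⟨u, hu⟩ := hvR
    exact commute_of_ind hg hg₁φ u (hPS u.2) v hv hu
  obtain ⟨c, hcS, hcC, hmc⟩ := D.adjust hQS hrec (g₁ * g⁻¹) hτ
  have hval : ∀ x : extender T P φ, ψ₁ x ∈ S := (F.le_of_mem hψ₁).2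
  have hF₂ : (conjHom S c⁻¹).comp (ψ₁.codRestrict S hval) ∈ F.Hom (extender T P φ) :=
    F.comp_mem hψ₁ (F.conj_mem le_rfl (S.inv_mem hcS)) hval
  refine ⟨(conjHom S c⁻¹).comp (ψ₁.codRestrict S hval), (D.mem_sys _).2 ⟨hF₂, hNT, ?_,
    biIota S X ⟨c⁻¹, S.inv_mem hcS⟩ * g₁, ind_comp hg₁ (ind_conj (S.inv_mem hcS)) hval le_rfl,
    ?_⟩, ?_⟩
  · intro x
    exact (D.stab _ _ hF₂ x).2 (hNT x.2)
  · have e : (⟨c⁻¹, S.inv_mem hcS⟩ : S) = (⟨c, hcS⟩ : S)⁻¹ := rfl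
    rw [map_mul, e, map_inv, map_inv, hmc, map_mul, map_inv, hmg, inv_one, mul_one,
      inv_mul_cancel]
  · intro x hP hN
    show c⁻¹ * ψ₁ ⟨x, hN⟩ * c⁻¹⁻¹ = φ ⟨x, hP⟩
    rw [hψ₁φ x hP hN]
    have hφQ : φ ⟨x, hP⟩ ∈ Q := by
      rw [← hφR]
      exact ⟨_, rfl⟩
    have hcomm : φ ⟨x, hP⟩ * c = c * φ ⟨x, hP⟩ := Subgroup.mem_centralizer_iff.mp hcC _ hφQ
    rw [inv_inv, mul_assoc, hcomm, inv_mul_cancel_left]

theorem DegData.sys_saturated [Finite S] [Fact p.Prime] (D : DegData F T X A p)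
    (hS : IsPGroup p S) (hF : F.IsSaturated p) : D.sys.IsSaturated p := by
  intro P hPT
  have hPS : P ≤ S := hPT.trans D.hTS
  obtain ⟨Q₀, hconj, hfn⟩ := Cfsg.Agent.Lib.helper88.exists_fullyNormalized_conj F hPS
  obtain ⟨φ₀, hφ₀, hφ₀R⟩ := hconj
  obtain ⟨g₀, hg₀⟩ := D.conj P φ₀ hφ₀
  obtain ⟨s, hs⟩ := D.surj (D.m g₀)⁻¹
  have hQ₀S : Q₀ ≤ S := hfn.1
  have hfn' : F.IsFullyNormalized (conjHom Q₀ (s : Ω)).range := fullyNormalized_conj F hfn s.2
  obtain ⟨hfa, hrec⟩ :=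
    Cfsg.Agent.Lib.helper88.fullyAutomized_receptive_of_fullyNormalized hS F hF hfn'
  have hval : ∀ x : P, φ₀ x ∈ Q₀ := fun x => hφ₀R ▸ ⟨x, rfl⟩
  have hφF : (conjHom Q₀ (s : Ω)).comp (φ₀.codRestrict Q₀ hval) ∈ F.Hom P :=
    F.comp_mem hφ₀ (F.conj_mem hQ₀S s.2) hval
  have hφT : ∀ x : P, ((conjHom Q₀ (s : Ω)).comp (φ₀.codRestrict Q₀ hval)) x ∈ T :=
    fun x => (D.stab P _ hφF x).2 (hPT x.2)
  have hrange : ((conjHom Q₀ (s : Ω)).comp (φ₀.codRestrict Q₀ hval)).range =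
      (conjHom Q₀ (s : Ω)).range := by
    ext y
    constructor
    · rintro ⟨x, rfl⟩
      exact ⟨⟨φ₀ x, hval x⟩, rfl⟩
    · rintro ⟨z, rfl⟩
      have hz : (z : Ω) ∈ φ₀.range := by
        rw [hφ₀R]
        exact z.2
      obtain ⟨x, hx⟩ := hz
      refine ⟨x, ?_⟩
      show conjHom Q₀ (s : Ω) ⟨φ₀ x, hval x⟩ = conjHom Q₀ (s : Ω) z
      congr 1
      exact Subtype.ext hx
  have hQT : (conjHom Q₀ (s : Ω)).range ≤ T := by
    rw [← hrange]
    rintro _ ⟨x, rfl⟩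
    exact hφT x
  refine ⟨(conjHom Q₀ (s : Ω)).range, ⟨_, (D.mem_sys _).2 ⟨hφF, hPT, hφT, biIota S X s * g₀,
    ind_comp hg₀ (ind_conj s.2) hval hQ₀S, ?_⟩, hrange⟩, D.fullyAutomized hS hQT hfa hrec,
    D.receptive hQT hrec⟩
  rw [map_mul, hs, inv_mul_cancel]

theorem DegData.sys_pPowerIndex [Finite S] [Fact p.Prime] (D : DegData F T X A p)
    (hhyp : F.hyperfocalSubgroup p ≤ T) : D.sys.HasPPowerIndexIn F p := by
  refine ⟨fun P φ hφ => hφ.1, hhyp, ?_⟩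
  intro P hPT
  have hPS : P ≤ S := hPT.trans D.hTS
  have hfinP : Finite P := finite_of_le hPS
  rw [Subgroup.map_le_iff_le_comap]
  unfold Cfsg.pResidual
  rw [Subgroup.closure_le]
  intro α hα
  show (α : MulAut P) ∈ D.sys.autGroup P
  have hαF : P.subtype.comp (α : MulAut P).toMonoidHom ∈ F.Hom P :=
    (mem_autGroup_iff F hPS _).1 α.2
  obtain ⟨g, hg⟩ := D.conj P _ hαF
  have hα' : Nat.Coprime (orderOf α) p := hα
  have hcop : Nat.Coprime p (orderOf (α : MulAut P)) := by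
    rw [Subgroup.orderOf_coe]
    exact Nat.coprime_comm.1 hα'
  obtain ⟨j, hj⟩ := exists_pow_eq_self_of_coprime hcop
  have hi : Ind ((g ^ p) ^ j) (P.subtype.comp (((α : MulAut P) ^ p) ^ j).toMonoidHom) :=
    ind_aut_pow hPS (ind_aut_pow hPS hg p) j
  rw [hj] at hi
  rw [mem_autGroup_iff D.sys hPT]
  refine (D.mem_sys _).2 ⟨hαF, hPT, fun x => hPT ((α : MulAut P) x).2, (g ^ p) ^ j, hi, ?_⟩
  rw [map_pow, map_pow, D.pow_p, one_pow]

end DD

/-- **The index `p` step.** -/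
theorem exists_pPower_step [Finite S] {p : ℕ} [Fact p.Prime] (hS : IsPGroup p S)
    (F : FusionSystem S) (hF : F.IsSaturated p) (T : Subgroup Ω) (hTS : T ≤ S)
    (hhyp : F.hyperfocalSubgroup p ≤ T) {A : Type*} [CommGroup A] (lam : S →* A)
    (hcard : Nat.card A = p) (hker : ∀ s : S, lam s = 1 ↔ (s : Ω) ∈ T)
    (hsurj : Function.Surjective lam) :
    ∃ E : FusionSystem T, E.IsSaturated p ∧ E.HasPPowerIndexIn F p := by
  classical
  let _ : Fintype (Subgroup (S × S)) := Fintype.ofFinite _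
  obtain ⟨k, hk1, hst, r, hr, hpr⟩ := exists_char hS F hF
  have hk3 : ∀ (Q : Subgroup Ω) (χ χ' : Q →* Ω), χ ∈ F.Hom Q → χ' ∈ F.Hom Q →
      mark k (tw S Q χ) = mark k (tw S Q χ') := by
    intro Q χ χ' hχ hχ'
    have : Finite Q := finite_of_le (F.le_of_mem hχ).1
    exact hst Q Q χ χ' hχ hχ' (Cfsg.Agent.Lib.helper88.isConj_refl F (F.le_of_mem hχ).1)
      Nat.card_pos
  have hfree := real_free_right F k hk1
  have hX : Nat.card (helper86.Real k) = Nat.card S * r := by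
    rw [← hr, ← card_fix_real k ⊥]
    symm
    exact Nat.card_congr (Equiv.subtypeUnivEquiv (fun x e he => by
      rw [Subgroup.mem_bot.1 he, one_smul]))
  have hblk : Nat.card (Blk S (helper86.Real k)) = r := by
    have h1 := card_blk_mul S (X := helper86.Real k) hfree
    rw [hX, mul_comm] at h1
    exact Nat.eq_of_mul_eq_mul_left Nat.card_pos h1
  -- stability of `lam`
  have hcomm : ⁅S, S⁆ ≤ T := by
    rw [Subgroup.commutator_le]
    intro g₁ h₁ g₂ h₂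
    have h := (hker (⁅(⟨g₁, h₁⟩ : S), ⟨g₂, h₂⟩⁆)).1 (by
      rw [map_commutatorElement]
      exact commutatorElement_eq_one_iff_mul_comm.2 (mul_comm _ _))
    exact h
  have hstable : IsStableHom F lam := by
    rw [isStableHom_iff]
    intro s hs
    rw [MonoidHom.mem_ker, hker]
    have h1 : (s : Ω) ∈ F.focalSubgroup := Subgroup.mem_subgroupOf.1 hs
    rw [focalSubgroup_eq F hS hF] at h1
    exact (sup_le hhyp hcomm) h1
  obtain ⟨K⟩ := exists_coord lam (helper86.Real k) (by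
    intro x γ hγ
    obtain ⟨Q, χ, hχ, hfix⟩ := real_fix_tw F k hk1 x
    obtain ⟨hq, e⟩ := (hfix γ).1 hγ
    have h := hstable Q χ hχ ⟨γ.2, hq⟩
    have e1 : (⟨χ ⟨γ.2, hq⟩, (F.le_of_mem hχ).2 _⟩ : S) = γ.1 := Subtype.ext e
    calc lam γ.1 = lam ⟨χ ⟨γ.2, hq⟩, (F.le_of_mem hχ).2 _⟩ := by rw [e1]
      _ = lam γ.2 := h)
  let _ : Fintype (Blk S (helper86.Real k)) := Fintype.ofFinite _
  have hA : ∀ a : A, a ^ p = 1 := fun a => by
    rw [← hcard]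
    exact pow_card_eq_one'
  have hfinA : Finite A := Nat.finite_of_card_ne_zero (by
    rw [hcard]
    exact (Fact.out : p.Prime).ne_zero)
  have hcardblk : Fintype.card (Blk S (helper86.Real k)) = r := by
    rw [← Nat.card_eq_fintype_card]
    exact hblk
  have hmu : ∀ s : S, mu K (biIota S (helper86.Real k) s) = lam s ^ r := fun s => by
    rw [mu_biIota, hcardblk]
  have hcop : Nat.Coprime (Nat.card A) r := by
    rw [hcard]
    exact (Nat.Prime.coprime_iff_not_dvd Fact.out).2 hpr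
  obtain ⟨D⟩ : Nonempty (DegData F T (helper86.Real k) A p) := ⟨
    { hTS := hTS
      m := mu K
      card := hcard
      conj := fun P φ hφ => by
        obtain ⟨g, hg⟩ := exists_biAut_conj F k hk1 hk3 (F.le_of_mem hφ).1 hφ (F.le_of_mem hφ).2
        exact ⟨g, fun u hu hφu => hg u⟩
      ker := fun s => by
        rw [hmu, ← hker]
        constructor
        · intro h
          have h1 : orderOf (lam s) ∣ r := orderOf_dvd_of_pow_eq_one h
          have h2 : orderOf (lam s) ∣ p := orderOf_dvd_of_pow_eq_one (hA _)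
          have h3 : orderOf (lam s) = 1 := by
            rcases (Nat.dvd_prime Fact.out).1 h2 with h | h
            · exact h
            · exact absurd (h ▸ h1) hpr
          exact orderOf_eq_one_iff.1 h3
        · intro h
          rw [h, one_pow]
      surj := fun a => by
        obtain ⟨a', ha'⟩ := (powCoprime hcop).surjective a
        obtain ⟨s, hs⟩ := hsurj a'
        refine ⟨s, ?_⟩
        rw [hmu, hs]
        exact ha'
      stab := fun P φ hφ u => by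
        rw [← hker ⟨φ u, (F.le_of_mem hφ).2 u⟩, ← hker ⟨u, (F.le_of_mem hφ).1 u.2⟩,
          hstable P φ hφ u]
      key := fun P hPS hcent τ hτ => by
        refine mu_eq_one_of_commute hS K hA hfree (P.subgroupOf S) ?_ τ
          (fun u hu => hτ u.1 u.2 (Subgroup.mem_subgroupOf.1 hu))
        intro x b hb
        obtain ⟨Q, χ, hχ, hfix⟩ := real_fix_tw F k hk1 x
        obtain ⟨P'', hP''⟩ : ∃ P'' : Subgroup Ω, P'' = (P.comap χ).map Q.subtype := ⟨_, rfl⟩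
        have hmemP'' : ∀ v : Ω, v ∈ P'' ↔ ∃ h : v ∈ Q, χ ⟨v, h⟩ ∈ P := by
          intro v
          rw [hP'']
          constructor
          · rintro ⟨w, hw, rfl⟩
            exact ⟨w.2, hw⟩
          · rintro ⟨h, hv⟩
            exact ⟨⟨v, h⟩, hv, rfl⟩
        have hP''Q : P'' ≤ Q := fun v hv => ((hmemP'' v).1 hv).1
        have hχ' : χ.comp (Subgroup.inclusion hP''Q) ∈ F.Hom P'' :=
          Cfsg.Agent.Lib.helper88.restrict_mem F hP''Q hχ
        have hrange : (χ.comp (Subgroup.inclusion hP''Q)).range = P := by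
          ext u
          constructor
          · rintro ⟨v, rfl⟩
            obtain ⟨h, hv⟩ := (hmemP'' v).1 v.2
            exact hv
          · intro hu
            obtain ⟨v, hv, -⟩ := hb ⟨u, hPS hu⟩ (Subgroup.mem_subgroupOf.2 hu)
            obtain ⟨hq, e⟩ := (hfix _).1 hv
            have e0 : χ ⟨(v : Ω), hq⟩ = u := e
            have hvP : χ ⟨(v : Ω), hq⟩ ∈ P := by
              rw [e0]
              exact hu
            exact ⟨⟨v, (hmemP'' v).2 ⟨hq, hvP⟩⟩, e0⟩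
        have hconj : F.IsConj P P'' :=
          Cfsg.Agent.Lib.helper88.isConj_symm F ⟨_, hχ', hrange⟩
        have hbT : (b : Ω) ∈ T := by
          apply hcent P'' hconj
          refine ⟨b.2, ?_⟩
          show (b : Ω) ∈ Subgroup.centralizer (P'' : Set Ω)
          rw [Subgroup.mem_centralizer_iff]
          intro v' hv'
          obtain ⟨hq', hχv'⟩ := (hmemP'' v').1 hv'
          obtain ⟨v, hv, hbv⟩ := hb ⟨χ ⟨v', hq'⟩, hPS hχv'⟩ (Subgroup.mem_subgroupOf.2 hχv')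
          obtain ⟨hq, e⟩ := (hfix _).1 hv
          have e0 : χ ⟨(v : Ω), hq⟩ = χ ⟨v', hq'⟩ := e
          have e' : (⟨(v : Ω), hq⟩ : Q) = ⟨v', hq'⟩ := F.injective_of_mem hχ e0
          have e'' : (v : Ω) = v' := congrArg Subtype.val e'
          rw [← e'']
          have h := congrArg Subtype.val hbv
          exact h.symm
        exact (hker b).2 hbT }⟩
  exact ⟨D.sys, D.sys_saturated hS hF, D.sys_pPowerIndex hhyp⟩

end Cfsg.Agent.Lib.helper89.PPow
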