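import Mathlib
import Cfsg.Agent.Lib.helper51.S2113Defs
import Cfsg.Agent.Lib.helper69.StemSylow

/-! S2113 piece R1 (helper89, racing copy): lifts of `T 0 0 w` commute pairwise. -/

set_option autoImplicit false

namespace Cfsg.Agent.Lib.helper89.S2113

open scoped commutatorElement
open Cfsg.Agent.Lib.helper51.S2113 Cfsg.Agent.Lib.helper69

/-- For `a ≠ 0` there is `ν ≠ 0` with `ν² φ(ν) = a²`, `φ x = (x ^ e) ^ 3`. -/
theorem helper89_exists_nu {K : Type*} [Field K] (e : ℕ) (hfrob : ∀ x : K, ((x ^ e) ^ e) ^ 3 = x)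
    (a : K) (ha : a ≠ 0) : ∃ ν : K, ν ≠ 0 ∧ ν ^ 2 * (ν ^ e) ^ 3 = a ^ 2 := by
  have hA : a ^ e ≠ 0 := pow_ne_zero _ ha
  have hfr : ((a ^ e) ^ e) ^ 3 = a := hfrob a
  refine ⟨a ^ 4 / ((a ^ e) ^ 3) ^ 2, ?_, ?_⟩
  · exact div_ne_zero (pow_ne_zero _ ha) (pow_ne_zero _ (pow_ne_zero _ hA))
  · have h1 : ((a ^ 4 / ((a ^ e) ^ 3) ^ 2) ^ e) ^ 3 = ((a ^ e) ^ 3) ^ 4 / a ^ 6 := by
      rw [div_pow, div_pow]
      congr 1
      · simp only [← pow_mul]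
        congr 1; ring
      · have h2 : ((((a ^ e) ^ 3) ^ 2) ^ e) ^ 3 = (((a ^ e) ^ e) ^ 3) ^ 6 := by
          simp only [← pow_mul]
          congr 1; ring
        rw [h2, hfr]
    rw [h1]
    field_simp

theorem helper89_r1 {K G Γ : Type*} [Field K] [Group G] [Group Γ] (σ : Γ →* G)
    (hsurj : Function.Surjective σ) (hc : σ.ker ≤ Subgroup.center Γ) (T : K → K → K → G) (e : ℕ)
    (c : K → K → K) (D : UData K G T e c)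
    (hsq : ∀ B : K → K → Γ, (∀ s s' t, B (s + s') t = B s t * B s' t) →
      (∀ s t t', B s (t + t') = B s t * B s t') →
      (∀ a s t, a ≠ 0 → B (a ^ 2 * s) (a ^ 2 * t) = B s t) → ∀ s t, B s t = 1)
    (x y : Γ) (hx : ∃ w, σ x = T 0 0 w) (hy : ∃ w, σ y = T 0 0 w) : x * y = y * x := by
  obtain ⟨ℓ, hℓ⟩ := hsurj.hasRightInverse
  have hu : ∀ s t : K, T 0 0 (s + t) = T 0 0 s * T 0 0 t := by
    intro s t; rw [D.top_r]
  have hucomm : ∀ s t : K, T 0 0 s * T 0 0 t = T 0 0 t * T 0 0 s := by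
    intro s t; rw [← hu, ← hu, add_comm]
  have hcen : ∀ x y : Γ, (∃ w, σ x = T 0 0 w) → (∃ w, σ y = T 0 0 w) →
      ⁅x, y⁆ ∈ Subgroup.center Γ := by
    rintro x y ⟨s, hs⟩ ⟨t, ht⟩
    apply commutatorElement_mem_center_of_central σ hc
    rw [hs, ht]; exact hucomm s t
  have htor : ∀ a : K, a ≠ 0 → ∃ h : G, ∀ s, h * T 0 0 s * h⁻¹ = T 0 0 (a ^ 2 * s) := by
    intro a ha
    obtain ⟨ν, hν0, hν⟩ := helper89_exists_nu e D.frob a ha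
    obtain ⟨h, hh⟩ := D.tor ν hν0
    refine ⟨h, fun s => ?_⟩
    rw [hh, mul_zero, mul_zero, hν]
  have hB : ∀ s t, ⁅ℓ (T 0 0 s), ℓ (T 0 0 t)⁆ = 1 := by
    apply hsq (fun s t => ⁅ℓ (T 0 0 s), ℓ (T 0 0 t)⁆)
    · intro s s' t
      show ⁅ℓ (T 0 0 (s + s')), ℓ (T 0 0 t)⁆ =
        ⁅ℓ (T 0 0 s), ℓ (T 0 0 t)⁆ * ⁅ℓ (T 0 0 s'), ℓ (T 0 0 t)⁆
      rw [← stem_commutatorElement_mul_left _ _ _
        (hcen _ _ ⟨s', hℓ _⟩ ⟨t, hℓ _⟩)]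
      apply commutatorElement_congr_of_central σ hc
      · rw [map_mul, hℓ, hℓ, hℓ, hu]
      · rfl
    · intro s t t'
      show ⁅ℓ (T 0 0 s), ℓ (T 0 0 (t + t'))⁆ =
        ⁅ℓ (T 0 0 s), ℓ (T 0 0 t)⁆ * ⁅ℓ (T 0 0 s), ℓ (T 0 0 t')⁆
      rw [← stem_commutatorElement_mul_right _ _ _
        (hcen _ _ ⟨s, hℓ _⟩ ⟨t', hℓ _⟩)]
      apply commutatorElement_congr_of_central σ hc
      · rfl
      · rw [map_mul, hℓ, hℓ, hℓ, hu]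
    · intro a s t ha0
      show ⁅ℓ (T 0 0 (a ^ 2 * s)), ℓ (T 0 0 (a ^ 2 * t))⁆ = ⁅ℓ (T 0 0 s), ℓ (T 0 0 t)⁆
      obtain ⟨h, hh⟩ := htor a ha0
      rw [← commutatorElement_conj_of_central (ℓ h) _ _
        (hcen _ _ ⟨s, hℓ _⟩ ⟨t, hℓ _⟩)]
      apply commutatorElement_congr_of_central σ hc
      · rw [map_mul, map_mul, map_inv, hℓ, hℓ, hℓ, hh]
      · rw [map_mul, map_mul, map_inv, hℓ, hℓ, hℓ, hh]
  obtain ⟨s, hs⟩ := hx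
  obtain ⟨t, ht⟩ := hy
  have e1 : ⁅x, y⁆ = ⁅ℓ (T 0 0 s), ℓ (T 0 0 t)⁆ := by
    apply commutatorElement_congr_of_central σ hc
    · rw [hℓ, hs]
    · rw [hℓ, ht]
  rw [hB, commutatorElement_eq_one_iff_mul_comm] at e1
  exact e1

end Cfsg.Agent.Lib.helper89.S2113
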