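import Mathlib
import Cfsg.Agent.Lib.helper37.S3390Defs

/-!
# S3390, piece FB2 (helper89): an involution fixing `α` fixes no other point of `N α`.
-/

set_option autoImplicit false
open Cfsg Cfsg.Agent.Lib.helper37.S3390

namespace Cfsg.Agent.Lib.helper89.S3390FB2

variable {G : Type*} [Group G] [Finite G] {Ω : Type*} [MulAction G Ω]

/-- PIECE FB2: an involution fixing `α` fixes no other point of `N α`. -/
theorem unique_fixed_two (S : Sylow 2 G) (α : Ω) (n : G) (c : Cfg G Ω (S : Subgroup G) α n)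
    (N : Subgroup G) (hN : N.Normal)
    (hconj : ∀ g : G, g ≠ 1 → (∃ k : ℕ, g ^ 2 ^ k = 1) → (∃ ω : Ω, g • ω = ω) →
        ∃ h : G, h * g * h⁻¹ ∈ (S : Subgroup G) ⊓ MulAction.stabilizer G α)
    (hstab : MulAction.stabilizer G α ≤ N) (hdisj : ∀ m ∈ N, m • α ≠ n • α)
    (y : G) (hy : orderOf y = 2) (hyα : y • α = α) (m : G) (hm : m ∈ N)
    (hym : y • (m • α) = m • α) : m • α = α := by
  by_contra hne
  have hy1 : y ≠ 1 := by
    intro h
    rw [h, orderOf_one] at hy
    exact absurd hy (by norm_num)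
  have hy2 : y ^ 2 ^ 1 = 1 := by
    rw [pow_one, ← hy]
    exact pow_orderOf_eq_one y
  obtain ⟨h, ht⟩ := hconj y hy1 ⟨1, hy2⟩ ⟨α, hyα⟩
  have ht1 : h * y * h⁻¹ ≠ 1 := by
    intro h1
    apply hy1
    have : y = h⁻¹ * (h * y * h⁻¹) * h := by group
    rw [this, h1]
    group
  have htα : (h * y * h⁻¹) • α = α := MulAction.mem_stabilizer_iff.mp ht.2
  have htn : (h * y * h⁻¹) • (n • α) = n • α := c.hTn _ ht
  have hth : ∀ ω : Ω, y • ω = ω → (h * y * h⁻¹) • (h • ω) = h • ω := by
    intro ω hω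
    simp [mul_smul, hω]
  have hfix : ∀ ω : Ω, (h * y * h⁻¹) • ω = ω → ω = α ∨ ω = n • α := by
    intro ω hω
    by_contra hcon
    push Not at hcon
    exact ht1 (c.h3 _ α (n • α) ω (Ne.symm c.hnα) (Ne.symm hcon.1) (Ne.symm hcon.2) htα htn hω)
  have hne' : h • (m • α) ≠ h • α := fun h1 => hne (smul_left_cancel h h1)
  rcases hfix (h • α) (hth α hyα) with h1 | h1
  · -- `h ∈ G_α ≤ N`
    have hhN : h ∈ N := hstab (MulAction.mem_stabilizer_iff.mpr h1)
    rcases hfix (h • (m • α)) (hth (m • α) hym) with h2 | h2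
    · exact hne' (h2.trans h1.symm)
    · refine hdisj (h * m) (N.mul_mem hhN hm) ?_
      rw [mul_smul]
      exact h2
  · rcases hfix (h • (m • α)) (hth (m • α) hym) with h2 | h2
    · have hhm : h * m ∈ N := by
        apply hstab
        rw [MulAction.mem_stabilizer_iff, mul_smul]
        exact h2
      have hhN : h ∈ N := by
        have := N.mul_mem hhm (N.inv_mem hm)
        rwa [mul_inv_cancel_right] at this
      exact hdisj h hhN h1
    · exact hne' (h2.trans h1.symm)

end Cfsg.Agent.Lib.helper89.S3390FB2
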