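import Mathlib
import Cfsg.Prelude.Def_Solvable

/-!
# S3390, piece FC (helper89): the point stabilizer in `N` is a Frobenius complement.
-/

set_option autoImplicit false
open Cfsg

namespace Cfsg.Agent.Lib.helper89.S3390FC

variable {G : Type*} [Group G] [Finite G] {Ω : Type*} [MulAction G Ω]

/-- PIECE FC: `N_α` is a Frobenius complement in `N`. -/
theorem frobenius_of_unique_fixed [FaithfulSMul G Ω] (htr : MulAction.IsPretransitive G Ω)
    (α : Ω) (N : Subgroup G) (hN : N.Normal) (hT : N ⊓ MulAction.stabilizer G α ≠ ⊥)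
    (huniq : ∀ y ∈ N, y ≠ 1 → y • α = α → ∀ m ∈ N, y • (m • α) = m • α → m • α = α) :
    ∃ H : Subgroup ↥N, Cfsg.IsFrobeniusComplement H := by
  refine ⟨(MulAction.stabilizer G α).subgroupOf N, ?_, ?_, ?_⟩
  · intro h
    apply hT
    rw [eq_bot_iff]
    intro x hx
    have h1 : (⟨x, hx.1⟩ : ↥N) ∈ (MulAction.stabilizer G α).subgroupOf N :=
      Subgroup.mem_subgroupOf.mpr hx.2
    rw [h] at h1
    have h2 : (⟨x, hx.1⟩ : ↥N) = 1 := Subgroup.mem_bot.mp h1
    exact Subgroup.mem_bot.mpr (congrArg Subtype.val h2)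
  · intro h
    apply hT
    have hle : N ≤ MulAction.stabilizer G α := by
      intro x hx
      have h1 : (⟨x, hx⟩ : ↥N) ∈ (MulAction.stabilizer G α).subgroupOf N := by
        rw [h]
        exact Subgroup.mem_top _
      exact Subgroup.mem_subgroupOf.mp h1
    have hNbot : N = ⊥ := by
      rw [eq_bot_iff]
      intro x hx
      rw [Subgroup.mem_bot]
      apply FaithfulSMul.eq_of_smul_eq_smul (α := Ω)
      intro ω
      obtain ⟨g, rfl⟩ := MulAction.exists_smul_eq G α ω
      have h1 : g⁻¹ * x * g ∈ N := by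
        have := hN.conj_mem x hx g⁻¹
        rwa [inv_inv] at this
      have h2 : (g⁻¹ * x * g) • α = α := MulAction.mem_stabilizer_iff.mp (hle h1)
      rw [one_smul]
      calc x • g • α = g • ((g⁻¹ * x * g) • α) := by simp [mul_smul]
        _ = g • α := by rw [h2]
    rw [hNbot]
    exact bot_inf_eq _
  · intro g hg
    rw [eq_bot_iff]
    intro y hy
    rw [Subgroup.mem_bot]
    by_contra hy1
    obtain ⟨hyH, hyg⟩ := hy
    have hyα : (y : G) • α = α :=
      MulAction.mem_stabilizer_iff.mp (Subgroup.mem_subgroupOf.mp hyH)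
    obtain ⟨k, hkH, hky⟩ := (Subgroup.mem_smul_pointwise_iff_exists _ _ _).mp hyg
    have hkα : (k : G) • α = α :=
      MulAction.mem_stabilizer_iff.mp (Subgroup.mem_subgroupOf.mp hkH)
    have hyk : (y : G) = (g : G) * (k : G) * (g : G)⁻¹ := by
      rw [← hky]
      simp [MulAut.smul_def]
    have hfix : (y : G) • ((g : G) • α) = (g : G) • α := by
      rw [hyk]
      simp [mul_smul, hkα]
    have hy1' : (y : G) ≠ 1 := fun h => hy1 (Subtype.ext h)
    have hgα := huniq (y : G) y.2 hy1' hyα (g : G) g.2 hfix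
    exact hg (Subgroup.mem_subgroupOf.mpr (MulAction.mem_stabilizer_iff.mpr hgα))

end Cfsg.Agent.Lib.helper89.S3390FC
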