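-- The structural package `Good R w` from the four hypotheses taken separately (the form in which the unitary twin of
-- S6000 states them): symplectic type, absolutely irreducible, order 2^6, centre of order 4.
import Mathlib
import Cfsg.Agent.Lib.helper89.S60Defs
import Cfsg.Agent.Lib.helper46.S60ACEN
import Cfsg.Agent.Lib.helper43.S60AELT1
import Cfsg.Agent.Lib.helper20.S60AELT2
import Cfsg.Agent.Lib.helper6.S60ASQ
import Cfsg.Agent.Lib.helper9.S60ACOM
import Cfsg.Agent.Lib.helper58.S60AGEN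
import Cfsg.Agent.Lib.helper66.S60ATR
import Cfsg.Agent.Lib.helper12.S60AAVG
import Cfsg.Agent.Lib.helper9.S60AFR

set_option autoImplicit false

namespace Cfsg.Agent.Lib.helper89.S60

open Matrix Cfsg Cfsg.Geo

/-- The structural facts about `R`, assembled from the separate hypotheses. -/
theorem s60_good_of {F : Type*} [Field F] [Fintype F] (h2 : (2 : F) ≠ 0) (R : Subgroup (GL (Fin 4) F))
    (hRs : IsSymplecticTypeGroup 2 R) (hRi : ActsAbsolutelyIrreducibly (matrixSet R))
    (hR6 : Nat.card R = 2 ^ 6) (hRZ : Nat.card (Subgroup.center R) = 4) : ∃ w : F, Good R w := by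
  have hcard : Nat.card R = 64 := by
    rw [hR6]
    norm_num
  obtain ⟨⟨w, hw, hwR⟩, hscal⟩ := helper46_s60_center h2 R hRs hRi hRZ
  have hschur : ∀ y : Matrix (Fin 4) (Fin 4) F, (∀ s ∈ R, y * (s : Matrix (Fin 4) (Fin 4) F) = (s : Matrix (Fin 4) (Fin 4) F) * y) → ∃ c : F, y = c • (1 : Matrix (Fin 4) (Fin 4) F) := by
    intro y hy
    apply hRi.2 y
    rintro m ⟨g, hg, rfl⟩
    exact hy g hg
  have hT1 := s60_tcenter h2 R hRs hRi hRZ
  have hT := h20_s60_sq_scalar h2 R hRs hRi hcard hRZ hT1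
  have hsq := s60_sq h2 R hRs hT
  have hcomm := s60_comm R hsq
  obtain ⟨t, ht, ht2, hta⟩ := s60_frame4 h2 R w hw hwR hschur hscal hsq hcomm hcard
  have hfr := s60_frame_gen h2 R w hw hwR hcard t ht ht2 hta
  exact ⟨w, hcard, hw, hwR, hschur, hscal, hsq, hcomm, s60_trace_zero h2 R w t hfr, ⟨t, hfr⟩,
    fun A => h12_s60_avg h2 R hRi hcard A⟩

end Cfsg.Agent.Lib.helper89.S60
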