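-- S6000 assembly (architect helper89): the structural package `Good R w` from the hypotheses of the statement, and the
-- necessity direction (a derangement of prime order r outside the three exceptional cases), from the landed leaves.
import Mathlib
import Cfsg.Agent.Lib.helper89.S60Defs
import Cfsg.Agent.Lib.helper46.S60ACEN
import Cfsg.Agent.Lib.helper43.S60AELT1
import Cfsg.Agent.Lib.helper20.S60AELT2
import Cfsg.Agent.Lib.helper6.S60ASQ
import Cfsg.Agent.Lib.helper9.S60ACOM
import Cfsg.Agent.Lib.helper58.S60AGEN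
import Cfsg.Agent.Lib.helper66.S60ATR
import Cfsg.Agent.Lib.helper12.S60AAVG
import Cfsg.Agent.Lib.helper61.S60IDX
import Cfsg.Agent.Lib.helper30.S6eAR5
import Cfsg.Agent.Lib.helper77.S60NBIG
import Cfsg.Agent.Lib.helper77.S60N5core
import Cfsg.Agent.Lib.helper2.S60X5
import Cfsg.Agent.Lib.helper31.S60BFC
import Cfsg.Agent.Lib.helper29.S60BTF
import Cfsg.Agent.Lib.helper31.S60N3
import Cfsg.Agent.Lib.helper81.S60NCHARcore
import Cfsg.Agent.Lib.helper11.S60S3core
import Cfsg.Agent.Lib.helper53.S60CONJ3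
import Cfsg.Agent.Lib.helper9.S60AFR
import Cfsg.Agent.Lib.helper7.S60BTV
import Cfsg.Agent.Lib.helper30.S60EX3

set_option autoImplicit false

namespace Cfsg.Agent.Lib.helper89.S60

open Matrix Cfsg Cfsg.Geo

/-! ## wrappers (helper89) over landed cores -/

/-- N5, from the landed core (helper77), X5 (helper2), BFC (helper31), BTF (helper29). -/
theorem h89_s60_nec_five {F : Type*} [Field F] [Fintype F] (h2 : (2 : F) ≠ 0) (R : Subgroup (GL (Fin 4) F)) (w : F) (hG : Good R w)
    (h5 : (5 : F) ≠ 0) (hdiv : 5 ∣ Fintype.card F ^ 2 - 1) : Derang R 5 := by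
  haveI : Fact (Nat.Prime 5) := ⟨Nat.prime_five⟩
  exact helper77_s60_nec_five_core h2 R w hG h5 (helper2_s60_exists_five h2 hdiv)
    (fun y hy hy5 => by
      obtain ⟨h1, h2', h3, _⟩ := s60_fix_count h2 R w hG 5 y hy hy5
      exact ⟨h1, h2', h3⟩)
    (fun y hy k hk hyk => s60_trace_formula h2 R w hG y hy k hk hyk)

/-- NCHAR, from the landed core (helper81) and BTV. -/
theorem h89_s60_nec_char {F : Type*} [Field F] [Fintype F] (h2 : (2 : F) ≠ 0) (R : Subgroup (GL (Fin 4) F)) (w : F) (hG : Good R w)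
    (p : ℕ) [Fact p.Prime] [CharP F p] (hp2 : p ≠ 2) : Derang R p :=
  h81_s60_nec_char_core h2 R w hG p hp2
    (fun y hy k hk hyk u v hyu => s60_transv_central h2 R w hG y hy k hk hyk u v hyu)

/-- S3, from the landed core (helper11), CONJ3 (helper53) and EX3. -/
theorem h89_s60_suff_three {F : Type*} [Field F] [Fintype F] (h2 : (2 : F) ≠ 0) (R : Subgroup (GL (Fin 4) F)) (w : F) (hG : Good R w)
    (hq : Fintype.card F % 3 = 2) (x : GL (Fin 4) F) (z : F)
    (hz : (x : Matrix (Fin 4) (Fin 4) F) ^ 3 = z • (1 : Matrix (Fin 4) (Fin 4) F)) (hns : ∀ z : F, (x : Matrix (Fin 4) (Fin 4) F) ≠ z • (1 : Matrix (Fin 4) (Fin 4) F)) :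
    ∃ g ∈ specialLinear (Fin 4) F, g⁻¹ * x * g ∈ subgroupNormalizer R :=
  h11_s60_suff_three_core h2 R
    (fun x hx hx1 => s60_three_class h2 (h11_three_ne h2 hq) (h11_no_omega h2 hq) x hx hx1)
    (s60_exists_three h2 R w hG) hq x z hz hns

/-! ## glue (helper89) -/

/-- The structural facts about `R`, assembled. -/
theorem s60_good {F : Type*} [Field F] [Fintype F] (h2 : (2 : F) ≠ 0) (R : Subgroup (GL (Fin 4) F))
    (hR : IsLinearSymplecticTypeData 2 R) (hR6 : Nat.card R = 2 ^ 6) : ∃ w : F, Good R w := by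
  have hcard : Nat.card R = 64 := by
    rw [hR6]
    norm_num
  have hRs := hR.symplecticType
  have hRi := hR.absIrred
  have hRZ : Nat.card (Subgroup.center R) = 4 := by
    obtain ⟨p, e, _, _, h | h | h⟩ := hR.field
    · exact absurd h.1 (by decide)
    · exact h.2.2.1
    · have h1 := h.2.2.1
      simp at h1
  obtain ⟨⟨w, hw, hwR⟩, hscal⟩ := helper46_s60_center h2 R hRs hRi hRZ
  have hschur : ∀ y : Matrix (Fin 4) (Fin 4) F, (∀ s ∈ R, y * (s : Matrix (Fin 4) (Fin 4) F) = (s : Matrix (Fin 4) (Fin 4) F) * y) → ∃ c : F, y = c • (1 : Matrix (Fin 4) (Fin 4) F) := by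
    intro y hy
    apply hRi.2 y
    rintro m ⟨g, hg, rfl⟩
    exact hy g hg
  have hT1 := s60_tcenter h2 R hRs hRi hRZ
  have hT := h20_s60_sq_scalar h2 R hRs hRi hcard hRZ hT1
  have hsq := s60_sq h2 R hRs hT
  have hcomm := s60_comm R hsq
  obtain ⟨t, ht, ht2, hta⟩ := s60_frame4 h2 R w hw hwR hschur hscal hsq hcomm hcard
  have hfr := s60_frame_gen h2 R w hw hwR hcard t ht ht2 hta
  exact ⟨w, hcard, hw, hwR, hschur, hscal, hsq, hcomm, s60_trace_zero h2 R w t hfr, ⟨t, hfr⟩,
    fun A => h12_s60_avg h2 R hRi hcard A⟩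

/-- The necessity direction of S6000: a derangement of order `r` for every prime `r` dividing the index outside the three
exceptional cases. -/
theorem s60_nec_main {F : Type*} [Field F] [Fintype F] {p : ℕ} [Fact p.Prime] [CharP F p]
    (hF : Fintype.card F = p) (h2 : (2 : F) ≠ 0) (R : Subgroup (GL (Fin 4) F)) (w : F) (hG : Good R w)
    (r : ℕ) [Fact r.Prime] (hr2 : r ≠ 2) (hr3 : ¬ (r = 3 ∧ p % 3 = 2))
    (hr5 : ¬ (r = 5 ∧ orderOf ((p : ℕ) : ZMod 5) = 4))
    (hΩ : r ∣ (subgroupNormalizer R).relIndex (specialLinear (Fin 4) F)) : Derang R r := by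
  have hp : p.Prime := Fact.out
  have hr : r.Prime := Fact.out
  have hp2 : p ≠ 2 := by
    rintro rfl
    apply h2
    have h := CharP.cast_eq_zero F 2
    exact_mod_cast h
  by_cases hrp : r = p
  · subst hrp
    exact h89_s60_nec_char h2 R w hG r hp2
  · have hrF : ((r : ℕ) : F) ≠ 0 := by
      intro h
      have h1 := (CharP.cast_eq_zero_iff F p r).1 h
      exact hrp ((Nat.prime_dvd_prime_iff_eq hp hr).1 h1).symm
    by_cases h3 : r = 3
    · subst h3
      have hp3 : p % 3 = 1 := by
        have h1 : p % 3 ≠ 2 := fun h => hr3 ⟨rfl, h⟩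
        have h0 : p % 3 ≠ 0 := by
          intro h0
          have h3p : 3 ∣ p := Nat.dvd_of_mod_eq_zero h0
          exact hrp ((Nat.prime_dvd_prime_iff_eq hr hp).1 h3p)
        omega
      exact h31_s60_nec_three h2 R w hG (by exact_mod_cast hrF) (by rw [hF]; exact hp3)
    · by_cases h5 : r = 5
      · subst h5
        have hord : orderOf ((p : ℕ) : ZMod 5) ≠ 4 := fun h => hr5 ⟨rfl, h⟩
        have hdiv := Cfsg.Agent.Lib.helper24.s6_arith5 p hp (fun h => hrp h.symm) hord
        exact h89_s60_nec_five h2 R w hG (by exact_mod_cast hrF) (by rw [hF]; exact hdiv)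
      · have hr7 : 7 ≤ r := by
          by_contra hlt
          have hlt' : r < 7 := by omega
          have h2le := hr.two_le
          interval_cases r
          · exact hr2 rfl
          · exact h3 rfl
          · exact absurd hr (by decide)
          · exact h5 rfl
          · exact absurd hr (by decide)
        exact s60_nec_big h2 R w hG r hr7 (s60_index_dvd R r hΩ)

end Cfsg.Agent.Lib.helper89.S60
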