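import Mathlib
import Cfsg.Prelude.Def_Sporadic_a
import Cfsg.Agent.Lib.helper9.Srg77Defs

/-!
S0429, piece I: the blocks (cocliques of size 21 through a vertex) form a Steiner system
with parameters (3, 6) on the set of the cocliques of size 21.
-/

set_option autoImplicit false

namespace Cfsg.Agent.Lib.helper89

open Finset Cfsg.Agent.Lib.helper9

variable {V : Type*} [Fintype V] [DecidableEq V] {G : SimpleGraph V} [DecidableRel G.Adj]

theorem cBlocks_steiner
    (hH2 : ∀ x : V, ((cocl G).filter (fun C => x ∈ C)).card = 6)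
    (hH3 : ∀ C₁ C₂ C₃ : Finset V, C₁ ∈ cocl G → C₂ ∈ cocl G → C₃ ∈ cocl G → C₁ ≠ C₂ → C₁ ≠ C₃ →
      C₂ ≠ C₃ → (C₁ ∩ C₂ ∩ C₃).card = 1) :
    Cfsg.IsSteinerSystem 3 6 (cBlocks G) := by
  refine ⟨?_, ?_⟩
  · rintro b ⟨x, rfl⟩
    show (Finset.univ.filter (fun C : {C : Finset V // C ∈ cocl G} => x ∈ C.1)).card = 6
    rw [← hH2 x]
    refine Finset.card_bij (fun C _ => C.1) ?_ ?_ ?_
    · intro C hC
      rw [Finset.mem_filter] at hC ⊢
      exact ⟨C.2, hC.2⟩
    · intro C _ C' _ hCC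
      exact Subtype.ext hCC
    · intro C hC
      rw [Finset.mem_filter] at hC
      exact ⟨⟨C, hC.1⟩, by rw [Finset.mem_filter]; exact ⟨Finset.mem_univ _, hC.2⟩, rfl⟩
  · intro s hs
    obtain ⟨C₁, C₂, C₃, h12, h13, h23, rfl⟩ := Finset.card_eq_three.1 hs
    have hc := hH3 C₁.1 C₂.1 C₃.1 C₁.2 C₂.2 C₃.2 (fun e => h12 (Subtype.ext e))
      (fun e => h13 (Subtype.ext e)) (fun e => h23 (Subtype.ext e))
    obtain ⟨x, hx⟩ := Finset.card_eq_one.1 hc
    have hxm : x ∈ C₁.1 ∩ C₂.1 ∩ C₃.1 := by rw [hx]; exact Finset.mem_singleton_self x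
    rw [Finset.mem_inter, Finset.mem_inter] at hxm
    refine ⟨Finset.univ.filter (fun C : {C : Finset V // C ∈ cocl G} => x ∈ C.1),
      ⟨⟨x, rfl⟩, ?_⟩, ?_⟩
    · intro C hC
      rw [Finset.mem_insert, Finset.mem_insert, Finset.mem_singleton] at hC
      rw [Finset.mem_filter]
      refine ⟨Finset.mem_univ _, ?_⟩
      rcases hC with rfl | rfl | rfl
      · exact hxm.1.1
      · exact hxm.1.2
      · exact hxm.2
    · rintro b ⟨⟨y, rfl⟩, hsub⟩
      have hy : y ∈ C₁.1 ∩ C₂.1 ∩ C₃.1 := by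
        have m1 := hsub (Finset.mem_insert_self C₁ _)
        have m2 := hsub (Finset.mem_insert_of_mem (Finset.mem_insert_self C₂ _))
        have m3 := hsub (Finset.mem_insert_of_mem (Finset.mem_insert_of_mem
          (Finset.mem_singleton_self C₃)))
        rw [Finset.mem_filter] at m1 m2 m3
        rw [Finset.mem_inter, Finset.mem_inter]
        exact ⟨⟨m1.2, m2.2⟩, m3.2⟩
      rw [hx, Finset.mem_singleton] at hy
      rw [hy]

end Cfsg.Agent.Lib.helper89
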