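import Mathlib

/-!
Core lemmas on 2 × 2 matrices over a finite field (for the torus counts in `SL₂`):
* `mat2_pow_card_succ`: a matrix without eigenvalue in `K` satisfies `M ^ (q + 1) = det M`;
* `sl2_card_trace`: the number of elements of `SL₂(K)` of a given trace.
-/

set_option autoImplicit false

namespace Cfsg.Agent.Lib.helper89

open Polynomial

/-- A root `x`, in an extension field, of a quadratic `X² - tX + d` over a finite field `K`
without roots in `K` satisfies `x ^ (q + 1) = d`. -/
theorem root_pow_card_succ {K L : Type*} [Field K] [Fintype K] [Field L] [Algebra K L]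
    (t d : K) (x : L) (hx : x * x - algebraMap K L t * x + algebraMap K L d = 0)
    (hirr : ∀ a : K, a * a - t * a + d ≠ 0) :
    x ^ (Fintype.card K + 1) = algebraMap K L d := by
  classical
  obtain ⟨p, hchar, n, hp, hq⟩ := FiniteField.card' K
  have : Fact p.Prime := ⟨hp⟩
  have : CharP L p := charP_of_injective_algebraMap (algebraMap K L).injective p
  have hT : (algebraMap K L t) ^ Fintype.card K = algebraMap K L t := by
    rw [← map_pow, FiniteField.pow_card]
  have hD : (algebraMap K L d) ^ Fintype.card K = algebraMap K L d := by
    rw [← map_pow, FiniteField.pow_card]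
  have hyroot : x ^ Fintype.card K * x ^ Fintype.card K
      - algebraMap K L t * x ^ Fintype.card K + algebraMap K L d = 0 := by
    have h0 : (x * x - algebraMap K L t * x + algebraMap K L d) ^ (p ^ (n : ℕ)) = 0 := by
      rw [hx]; exact zero_pow (pow_ne_zero _ hp.ne_zero)
    rw [add_pow_char_pow, sub_pow_char_pow, mul_pow, mul_pow, ← hq, hT, hD] at h0
    exact h0
  have hprod : (x ^ Fintype.card K - x) * (x ^ Fintype.card K + x - algebraMap K L t) = 0 := by
    linear_combination hyroot - hx
  rcases mul_eq_zero.1 hprod with h1 | h2
  · exfalso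
    have hyx : x ^ Fintype.card K = x := sub_eq_zero.1 h1
    have hq1 : 1 < Fintype.card K := Fintype.one_lt_card
    have hPne : (X ^ Fintype.card K - X : L[X]) ≠ 0 :=
      FiniteField.X_pow_card_sub_X_ne_zero L hq1
    have hPdeg : (X ^ Fintype.card K - X : L[X]).natDegree = Fintype.card K :=
      FiniteField.X_pow_card_sub_X_natDegree_eq L hq1
    have hxim : x ∈ Finset.univ.image (algebraMap K L) := by
      by_contra hnot
      have hsub : (insert x (Finset.univ.image (algebraMap K L))).val
          ⊆ (X ^ Fintype.card K - X : L[X]).roots := by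
        intro z hz
        rw [Finset.mem_val, Finset.mem_insert] at hz
        rw [Polynomial.mem_roots hPne, Polynomial.IsRoot.def]
        simp only [eval_sub, eval_pow, eval_X]
        rcases hz with rfl | hz
        · rw [hyx, sub_self]
        · obtain ⟨a, -, rfl⟩ := Finset.mem_image.1 hz
          rw [← map_pow, FiniteField.pow_card, sub_self]
      have hcard := Polynomial.card_le_degree_of_subset_roots hsub
      rw [hPdeg, Finset.card_insert_of_notMem hnot,
        Finset.card_image_of_injective _ (algebraMap K L).injective, Finset.card_univ] at hcard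
      omega
    obtain ⟨a, -, rfl⟩ := Finset.mem_image.1 hxim
    apply hirr a
    apply (algebraMap K L).injective
    rw [map_zero, map_add, map_sub, map_mul, map_mul]
    exact hx
  · have hy : x ^ Fintype.card K = algebraMap K L t - x := by linear_combination h2
    rw [pow_succ, hy]
    linear_combination -hx

/-- A 2 × 2 matrix over a finite field `K` with `q` elements, without eigenvalue in `K`,
satisfies `M ^ (q + 1) = det M`. -/
theorem mat2_pow_card_succ {K : Type*} [Field K] [Fintype K] (M : Matrix (Fin 2) (Fin 2) K)
    (hirr : ∀ a : K, a * a - M.trace * a + M.det ≠ 0) :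
    M ^ (Fintype.card K + 1) = M.det • (1 : Matrix (Fin 2) (Fin 2) K) := by
  classical
  obtain ⟨f, hf⟩ : ∃ f : K[X], f = M.charpoly := ⟨_, rfl⟩
  have hfM : aeval M f = 0 := by rw [hf]; exact Matrix.aeval_self_charpoly M
  have hfeq : f = X ^ 2 - C M.trace * X + C M.det := by rw [hf]; exact Matrix.charpoly_fin_two M
  have hmonic : f.Monic := by rw [hf]; exact Matrix.charpoly_monic M
  have hdeg : f.natDegree = 2 := by
    rw [hf, Matrix.charpoly_natDegree_eq_dim]; rfl
  have hirrf : Irreducible f := by
    rw [hmonic.irreducible_iff_roots_eq_zero_of_degree_le_three (by omega) (by omega),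
      Multiset.eq_zero_iff_forall_notMem]
    intro a ha
    rw [Polynomial.mem_roots hmonic.ne_zero, Polynomial.IsRoot.def, hfeq] at ha
    simp only [eval_add, eval_sub, eval_pow, eval_X, eval_mul, eval_C] at ha
    exact hirr a (by linear_combination ha)
  have : Fact (Irreducible f) := ⟨hirrf⟩
  have h : aeval (AdjoinRoot.root f) (X ^ 2 - C M.trace * X + C M.det : K[X]) = 0 := by
    rw [AdjoinRoot.aeval_eq, ← hfeq, AdjoinRoot.mk_self]
  simp only [map_add, map_sub, map_mul, map_pow, aeval_X, aeval_C] at h
  have hx : AdjoinRoot.root f * AdjoinRoot.root f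
      - algebraMap K (AdjoinRoot f) M.trace * AdjoinRoot.root f
      + algebraMap K (AdjoinRoot f) M.det = 0 := by
    linear_combination h
  have hpow := root_pow_card_succ M.trace M.det (AdjoinRoot.root f) hx hirr
  have hdvd : f ∣ (X ^ (Fintype.card K + 1) - C M.det : K[X]) := by
    rw [← AdjoinRoot.mk_eq_zero, ← AdjoinRoot.aeval_eq]
    simp only [map_sub, map_pow, aeval_X, aeval_C]
    rw [hpow, sub_self]
  obtain ⟨g, hg⟩ := hdvd
  have h2 : aeval M (X ^ (Fintype.card K + 1) - C M.det : K[X]) = 0 := by
    rw [hg, map_mul, hfM, zero_mul]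
  simp only [map_sub, map_pow, aeval_X, aeval_C] at h2
  rw [sub_eq_zero] at h2
  rw [h2, Algebra.algebraMap_eq_smul_one]

/-- The number of pairs with a given product. -/
theorem card_mul_eq {K : Type*} [Field K] [Fintype K] [DecidableEq K] (k : K) :
    (Finset.univ.filter (fun x : K × K => x.1 * x.2 = k)).card
      = (Fintype.card K - 1) + if k = 0 then Fintype.card K else 0 := by
  rw [Finset.card_filter, Fintype.sum_prod_type]
  have hinner : ∀ b : K, (∑ c : K, if b * c = k then 1 else 0)
      = if b = 0 then (if k = 0 then Fintype.card K else 0) else 1 := by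
    intro b
    by_cases hb : b = 0
    · subst hb
      rw [if_pos rfl]
      by_cases hk : k = 0
      · subst hk; simp
      · rw [if_neg hk]
        apply Finset.sum_eq_zero
        intro c _
        rw [if_neg]
        rw [zero_mul]; exact fun h => hk h.symm
    · rw [if_neg hb]
      have hiff : ∀ c : K, (b * c = k) ↔ (c = k / b) := by
        intro c
        rw [eq_div_iff hb, mul_comm]
      simp_rw [hiff]
      rw [Finset.sum_ite_eq']
      simp
  simp_rw [hinner]
  rw [← Finset.add_sum_erase Finset.univ _ (Finset.mem_univ (0 : K))]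
  rw [if_pos rfl]
  have hrest : ∑ b ∈ Finset.univ.erase (0 : K),
      (if b = 0 then (if k = 0 then Fintype.card K else 0) else 1) = Fintype.card K - 1 := by
    rw [Finset.sum_congr rfl (fun b hb => if_neg (Finset.ne_of_mem_erase hb))]
    simp [Finset.card_erase_of_mem]
  rw [hrest, add_comm]

/-- The number of elements of `SL₂(K)` with trace `t`: `q (q - 1) + q N`, where `N` is the
number of roots in `K` of `X² - tX + 1`. -/
theorem sl2_card_trace {K : Type*} [Field K] [Fintype K] (t : K) :
    Nat.card {s : Matrix.SpecialLinearGroup (Fin 2) K // Matrix.trace s.1 = t}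
      = Fintype.card K * (Fintype.card K - 1)
        + Fintype.card K * Nat.card {a : K // a * a - t * a + 1 = 0} := by
  classical
  have e : {s : Matrix.SpecialLinearGroup (Fin 2) K // Matrix.trace s.1 = t}
      ≃ {x : K × K × K // x.2.1 * x.2.2 = x.1 * (t - x.1) - 1} :=
    { toFun := fun s => ⟨(s.1.1 0 0, s.1.1 0 1, s.1.1 1 0), by
        have hdet := s.1.2
        have htr := s.2
        rw [Matrix.det_fin_two] at hdet
        rw [Matrix.trace_fin_two] at htr
        show s.1.1 0 1 * s.1.1 1 0 = s.1.1 0 0 * (t - s.1.1 0 0) - 1
        linear_combination (-1 : K) * hdet + s.1.1 0 0 * htr⟩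
      invFun := fun x => ⟨⟨!![x.1.1, x.1.2.1; x.1.2.2, t - x.1.1], by
        rw [Matrix.det_fin_two_of]
        linear_combination (-1 : K) * x.2⟩, by
        show Matrix.trace !![x.1.1, x.1.2.1; x.1.2.2, t - x.1.1] = t
        rw [Matrix.trace_fin_two_of]; ring⟩
      left_inv := by
        intro s
        have htr := s.2
        rw [Matrix.trace_fin_two] at htr
        apply Subtype.ext
        apply Subtype.ext
        ext i j
        fin_cases i <;> fin_cases j
        · rfl
        · rfl
        · rfl
        · show t - s.1.1 0 0 = s.1.1 1 1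
          linear_combination (-1 : K) * htr
      right_inv := by
        intro x
        apply Subtype.ext
        rfl }
  rw [Nat.card_congr e, Nat.card_eq_fintype_card, Fintype.card_subtype, Finset.card_filter,
    Fintype.sum_prod_type]
  have hfib : ∀ a : K, (∑ x : K × K, if x.1 * x.2 = a * (t - a) - 1 then 1 else 0)
      = (Fintype.card K - 1) + if a * (t - a) - 1 = 0 then Fintype.card K else 0 := by
    intro a
    rw [← Finset.card_filter]
    exact card_mul_eq _
  simp_rw [hfib]
  rw [Finset.sum_add_distrib, Finset.sum_const, Finset.card_univ, smul_eq_mul, Finset.sum_ite,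
    Finset.sum_const, Finset.sum_const_zero, add_zero, smul_eq_mul,
    Nat.card_eq_fintype_card, Fintype.card_subtype, mul_comm (Finset.card _)]
  congr 3
  ext a
  simp only [Finset.mem_filter, Finset.mem_univ, true_and]
  constructor
  · intro h; linear_combination (-1 : K) * h
  · intro h; linear_combination (-1 : K) * h

end Cfsg.Agent.Lib.helper89
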