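import Mathlib

/-!
Counting the traces `t` in a finite field `K` according to the number `quadN t` of roots in `K`
of `X² - tX + 1` (for the torus counts in `SL₂(K)`).
-/

set_option autoImplicit false
set_option linter.unusedSectionVars false

namespace Cfsg.Agent.Lib.helper89

variable {K : Type*} [Field K] [Fintype K]

/-- The number of roots in `K` of `X² - tX + 1`. -/
noncomputable def quadN (t : K) : ℕ := Nat.card {a : K // a * a - t * a + 1 = 0}

theorem quad_root_iff {t a : K} (ha : a * a - t * a + 1 = 0) (b : K) :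
    b * b - t * b + 1 = 0 ↔ b = a ∨ b = t - a := by
  constructor
  · intro hb
    have h : (b - a) * (b - (t - a)) = 0 := by linear_combination hb - ha
    rcases mul_eq_zero.1 h with h1 | h1
    · exact Or.inl (sub_eq_zero.1 h1)
    · exact Or.inr (sub_eq_zero.1 h1)
  · rintro (rfl | rfl)
    · exact ha
    · linear_combination ha

theorem quadN_eq_card [DecidableEq K] (t : K) :
    quadN t = (Finset.univ.filter (fun a : K => a * a - t * a + 1 = 0)).card := by
  rw [quadN, Nat.card_eq_fintype_card, Fintype.card_subtype]

theorem quadN_eq_zero_iff (t : K) : quadN t = 0 ↔ ∀ a : K, a * a - t * a + 1 ≠ 0 := by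
  classical
  rw [quadN_eq_card, Finset.card_eq_zero, Finset.filter_eq_empty_iff]
  simp

theorem quad_filter_eq [DecidableEq K] {t a : K} (ha : a * a - t * a + 1 = 0) :
    Finset.univ.filter (fun b : K => b * b - t * b + 1 = 0) = {a, t - a} := by
  ext b
  rw [Finset.mem_filter, Finset.mem_insert, Finset.mem_singleton]
  simp only [Finset.mem_univ, true_and]
  exact quad_root_iff ha b

theorem quadN_of_root_eq {t a : K} (ha : a * a - t * a + 1 = 0) (h : a = t - a) :
    quadN t = 1 := by
  classical
  rw [quadN_eq_card, quad_filter_eq ha, ← h]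
  simp

theorem quadN_of_root_ne {t a : K} (ha : a * a - t * a + 1 = 0) (h : a ≠ t - a) :
    quadN t = 2 := by
  classical
  rw [quadN_eq_card, quad_filter_eq ha, Finset.card_pair h]

theorem quadN_le_two (t : K) : quadN t ≤ 2 := by
  by_cases h : ∃ a : K, a * a - t * a + 1 = 0
  · obtain ⟨a, ha⟩ := h
    by_cases hne : a = t - a
    · rw [quadN_of_root_eq ha hne]; omega
    · rw [quadN_of_root_ne ha hne]
  · have h0 : quadN t = 0 := (quadN_eq_zero_iff t).2 (fun a ha => h ⟨a, ha⟩)
    omega

theorem quadN_eq_two_iff (t : K) :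
    quadN t = 2 ↔ ∃ a : K, a * a - t * a + 1 = 0 ∧ a ≠ t - a := by
  constructor
  · intro h
    by_cases hex : ∃ a : K, a * a - t * a + 1 = 0
    · obtain ⟨a, ha⟩ := hex
      refine ⟨a, ha, fun hne => ?_⟩
      rw [quadN_of_root_eq ha hne] at h
      omega
    · have h0 : quadN t = 0 := (quadN_eq_zero_iff t).2 (fun a ha => hex ⟨a, ha⟩)
      omega
  · rintro ⟨a, ha, hne⟩
    exact quadN_of_root_ne ha hne

theorem quadN_eq_one_iff (t : K) : quadN t = 1 ↔ t = 2 ∨ t = -2 := by
  constructor
  · intro h
    by_cases hex : ∃ a : K, a * a - t * a + 1 = 0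
    · obtain ⟨a, ha⟩ := hex
      by_cases hne : a = t - a
      · have ht : t = 2 * a := by linear_combination -hne
        have h1 : (a - 1) * (a + 1) = 0 := by
          rw [ht] at ha
          linear_combination -ha
        rcases mul_eq_zero.1 h1 with h3 | h3
        · left; rw [ht]; linear_combination 2 * h3
        · right; rw [ht]; linear_combination 2 * h3
      · rw [quadN_of_root_ne ha hne] at h
        omega
    · have h0 : quadN t = 0 := (quadN_eq_zero_iff t).2 (fun a ha => hex ⟨a, ha⟩)
      omega
  · rintro (rfl | rfl)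
    · have ha : (1 : K) * 1 - 2 * 1 + 1 = 0 := by ring
      exact quadN_of_root_eq ha (by ring)
    · have ha : (-1 : K) * (-1) - (-2) * (-1) + 1 = 0 := by ring
      exact quadN_of_root_eq ha (by ring)

theorem sum_quadN : ∑ t : K, quadN t = Fintype.card K - 1 := by
  classical
  simp_rw [quadN_eq_card, Finset.card_filter]
  rw [Finset.sum_comm]
  have h : ∀ a : K, (∑ t : K, if a * a - t * a + 1 = 0 then 1 else 0)
      = if a = 0 then 0 else 1 := by
    intro a
    by_cases ha : a = 0
    · subst ha; simp
    · rw [if_neg ha]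
      have hiff : ∀ t : K, (a * a - t * a + 1 = 0) ↔ t = (a * a + 1) / a := by
        intro t
        rw [eq_div_iff ha]
        constructor
        · intro h; linear_combination -h
        · intro h; linear_combination -h
      simp_rw [hiff]
      rw [Finset.sum_ite_eq']; simp
  simp_rw [h]
  rw [Finset.sum_ite, Finset.sum_const_zero, zero_add, Finset.sum_const, smul_eq_mul, mul_one]
  have hfil : Finset.univ.filter (fun a : K => ¬ a = 0) = Finset.univ.erase 0 := by
    ext a; simp
  rw [hfil, Finset.card_erase_of_mem (Finset.mem_univ _), Finset.card_univ]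

/-- The class sizes of the traces by number of roots. -/
theorem card_quadN_aux [DecidableEq K] (h2 : (2 : K) ≠ 0) :
    2 * (Finset.univ.filter (fun t : K => quadN t = 2)).card + 3 = Fintype.card K ∧
    2 * (Finset.univ.filter (fun t : K => quadN t = 0)).card + 1 = Fintype.card K := by
  have hq : (Finset.univ : Finset K).card
      = ∑ i ∈ Finset.range 3, (Finset.univ.filter (fun t : K => quadN t = i)).card :=
    Finset.card_eq_sum_card_fiberwise (fun t _ => Finset.mem_range.2 (by
      have := quadN_le_two t; omega))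
  have hs : ∑ i ∈ Finset.range 3, ∑ t ∈ Finset.univ.filter (fun t : K => quadN t = i), quadN t
      = ∑ t : K, quadN t :=
    Finset.sum_fiberwise_of_maps_to (fun t _ => Finset.mem_range.2 (by
      have := quadN_le_two t; omega)) _
  have hin : ∀ i : ℕ, ∑ t ∈ Finset.univ.filter (fun t : K => quadN t = i), quadN t
      = i * (Finset.univ.filter (fun t : K => quadN t = i)).card := by
    intro i
    rw [Finset.sum_congr rfl (fun t ht => (Finset.mem_filter.1 ht).2), Finset.sum_const,
      smul_eq_mul, mul_comm]
  simp_rw [hin] at hs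
  rw [sum_quadN] at hs
  have h1 : (Finset.univ.filter (fun t : K => quadN t = 1)).card = 2 := by
    have hfil : Finset.univ.filter (fun t : K => quadN t = 1) = {2, -2} := by
      ext t
      rw [Finset.mem_filter, Finset.mem_insert, Finset.mem_singleton, quadN_eq_one_iff]
      simp
    rw [hfil, Finset.card_pair]
    intro h
    apply h2
    have h4 : (2 : K) * 2 = 0 := by linear_combination h
    rcases mul_eq_zero.1 h4 with h' | h' <;> exact h'
  rw [Finset.card_univ] at hq
  rw [Finset.sum_range_succ, Finset.sum_range_succ, Finset.sum_range_succ,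
    Finset.sum_range_zero] at hq hs
  have hpos : 0 < Fintype.card K := Fintype.card_pos
  constructor <;> omega

theorem card_quadN_two (h2 : (2 : K) ≠ 0) :
    2 * Nat.card {t : K // quadN t = 2} + 3 = Fintype.card K := by
  classical
  rw [Nat.card_eq_fintype_card, Fintype.card_subtype]
  exact (card_quadN_aux h2).1

theorem card_quadN_zero (h2 : (2 : K) ≠ 0) :
    2 * Nat.card {t : K // quadN t = 0} + 1 = Fintype.card K := by
  classical
  rw [Nat.card_eq_fintype_card, Fintype.card_subtype]
  exact (card_quadN_aux h2).2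

/-- `X² - (c² - 2) X + 1` has a root iff `X² - cX + 1` has one (`c ≠ 0`). -/
theorem quadN_sq_sub_two_eq_zero_iff {c : K} (hc : c ≠ 0) :
    quadN (c * c - 2) = 0 ↔ quadN c = 0 := by
  rw [quadN_eq_zero_iff, quadN_eq_zero_iff]
  constructor
  · intro h a ha
    apply h (a * a)
    have : (a * a - c * a + 1) * (a * a + c * a + 1) = 0 := by rw [ha, zero_mul]
    linear_combination this
  · intro h b hb
    apply h ((b + 1) / c)
    field_simp
    linear_combination hb

theorem quadN_neg (c : K) : quadN (-c) = 0 ↔ quadN c = 0 := by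
  rw [quadN_eq_zero_iff, quadN_eq_zero_iff]
  constructor
  · intro h a ha
    apply h (-a)
    linear_combination ha
  · intro h a ha
    apply h (-a)
    linear_combination ha

/-- For `q ≡ 3 (mod 4)`: the number of `t` such that `X² - tX + 1` has no root and `t + 2` is a
square is `(q - 3) / 4`. -/
theorem card_quadN_zero_sq (h2 : (2 : K) ≠ 0) (hq4 : Fintype.card K % 4 = 3) :
    4 * Nat.card {t : K // quadN t = 0 ∧ IsSquare (t + 2)} + 3 = Fintype.card K := by
  classical
  rw [Nat.card_eq_fintype_card, Fintype.card_subtype]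
  have hT0 := (card_quadN_aux (K := K) h2).2
  -- `0` has no root
  have h00 : quadN (0 : K) = 0 := by
    rw [quadN_eq_zero_iff]
    intro a ha
    have hsq : IsSquare (-1 : K) := ⟨a, by linear_combination (-1 : K) * ha⟩
    rw [FiniteField.isSquare_neg_one_iff] at hsq
    exact hsq hq4
  have hC : (Finset.univ.filter (fun c : K => c ≠ 0 ∧ quadN c = 0)).card + 1
      = (Finset.univ.filter (fun t : K => quadN t = 0)).card := by
    have hfil : Finset.univ.filter (fun c : K => c ≠ 0 ∧ quadN c = 0)
        = (Finset.univ.filter (fun t : K => quadN t = 0)).erase 0 := by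
      ext c
      rw [Finset.mem_erase, Finset.mem_filter, Finset.mem_filter]
      simp
    have hmem : (0 : K) ∈ Finset.univ.filter (fun t : K => quadN t = 0) :=
      Finset.mem_filter.2 ⟨Finset.mem_univ _, h00⟩
    rw [hfil, Finset.card_erase_of_mem hmem]
    have hpos : 0 < (Finset.univ.filter (fun t : K => quadN t = 0)).card :=
      Finset.card_pos.2 ⟨0, hmem⟩
    omega
  have hmaps : ∀ c ∈ Finset.univ.filter (fun c : K => c ≠ 0 ∧ quadN c = 0),
      c * c - 2 ∈ Finset.univ.filter (fun t : K => quadN t = 0 ∧ IsSquare (t + 2)) := by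
    intro c hc
    rw [Finset.mem_filter] at hc ⊢
    exact ⟨Finset.mem_univ _, (quadN_sq_sub_two_eq_zero_iff hc.2.1).2 hc.2.2, ⟨c, by ring⟩⟩
  have hfib : ∀ t ∈ Finset.univ.filter (fun t : K => quadN t = 0 ∧ IsSquare (t + 2)),
      ((Finset.univ.filter (fun c : K => c ≠ 0 ∧ quadN c = 0)).filter
        (fun c => c * c - 2 = t)).card = 2 := by
    intro t ht
    rw [Finset.mem_filter] at ht
    obtain ⟨-, ht0, c₀, hc₀⟩ := ht
    have hc₀ne : c₀ ≠ 0 := by
      rintro rfl
      have ht2 : t = -2 := by linear_combination hc₀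
      have : quadN t = 1 := (quadN_eq_one_iff t).2 (Or.inr ht2)
      omega
    have htc : t = c₀ * c₀ - 2 := by linear_combination hc₀
    have hc₀0 : quadN c₀ = 0 := by
      rw [htc] at ht0
      exact (quadN_sq_sub_two_eq_zero_iff hc₀ne).1 ht0
    have hfil : (Finset.univ.filter (fun c : K => c ≠ 0 ∧ quadN c = 0)).filter
        (fun c => c * c - 2 = t) = {c₀, -c₀} := by
      ext c
      rw [Finset.mem_filter, Finset.mem_filter, Finset.mem_insert, Finset.mem_singleton]
      constructor
      · rintro ⟨-, hc⟩
        have : c * c = c₀ * c₀ := by rw [htc] at hc; linear_combination hc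
        exact mul_self_eq_mul_self_iff.1 this
      · rintro (rfl | rfl)
        · exact ⟨⟨Finset.mem_univ _, hc₀ne, hc₀0⟩, htc.symm⟩
        · exact ⟨⟨Finset.mem_univ _, neg_ne_zero.2 hc₀ne, (quadN_neg c₀).2 hc₀0⟩, by
            rw [htc]; ring⟩
    rw [hfil, Finset.card_pair]
    intro h
    have h4 : (2 : K) * c₀ = 0 := by linear_combination h
    rcases mul_eq_zero.1 h4 with h' | h'
    · exact h2 h'
    · exact hc₀ne h'
  have hcount := Finset.card_eq_sum_card_fiberwise hmaps
  rw [Finset.sum_congr rfl hfib, Finset.sum_const, smul_eq_mul] at hcount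
  omega

end Cfsg.Agent.Lib.helper89
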