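import Mathlib
import Cfsg.Agent.Lib.helper44.SL3Defs
import Cfsg.Agent.Lib.helper38.SL3MATa

/-! S2287 piece MATp (helper89, racing copy): the root subgroup `mX01` and `polyWord`. -/

set_option autoImplicit false

namespace Cfsg.Agent.Lib.helper44.SL3

open Polynomial

theorem h89_mX01_add {F : Type*} [Field F] (a b : F) :
    mX01 F (a + b) = mX01 F a * mX01 F b := by
  apply Subtype.ext
  have h := Matrix.transvection_mul_transvection_same (R := F) (0 : Fin 3) 1 (by decide) a b
  simp only [mX01, Matrix.SpecialLinearGroup.coe_mul, Matrix.SpecialLinearGroup.transvection_coe]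
  exact h.symm

theorem h89_mX01_zero {F : Type*} [Field F] : mX01 F 0 = 1 := by
  apply Subtype.ext
  simp [mX01]

theorem h89_mX01_pow {F : Type*} [Field F] (a : F) (k : ℕ) : mX01 F a ^ k = mX01 F (k • a) := by
  induction k with
  | zero => rw [pow_zero, zero_smul, h89_mX01_zero]
  | succ k ih => rw [pow_succ, ih, ← h89_mX01_add, succ_nsmul]

theorem h89_mH3_conj01 {F : Type*} [Field F] (ω : Fˣ) (a : F) :
    mH3 ω * mX01 F a * (mH3 ω)⁻¹ = mX01 F ((ω : F) * a) := by
  unfold mX01
  rw [mH3_conj]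
  congr 1
  simp

theorem h89_mH3_pow_conj01 {F : Type*} [Field F] (ω : Fˣ) (n : ℕ) (a : F) :
    mH3 ω ^ n * mX01 F a * (mH3 ω ^ n)⁻¹ = mX01 F ((ω : F) ^ n * a) := by
  induction n generalizing a with
  | zero => simp
  | succ n ih =>
    have h1 : mH3 ω ^ (n + 1) * mX01 F a * (mH3 ω ^ (n + 1))⁻¹ =
        mH3 ω * (mH3 ω ^ n * mX01 F a * (mH3 ω ^ n)⁻¹) * (mH3 ω)⁻¹ := by
      rw [pow_succ']; group
    rw [h1, ih, h89_mH3_conj01, pow_succ']
    congr 1
    ring

theorem h89_polyWord_gen {F : Type*} [Field F] {p : ℕ} [Fact p.Prime] [Algebra (ZMod p) F]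
    (g : Matrix.SpecialLinearGroup (Fin 3) F) (c : F)
    (hg : ∀ n : ℕ, g ^ n * mX01 F 1 * (g ^ n)⁻¹ = mX01 F (c ^ n)) (f : (ZMod p)[X]) :
    Pres.polyWord g (mX01 F 1) f = mX01 F (aeval c f) := by
  have hp : NeZero p := ⟨(Fact.out : p.Prime).ne_zero⟩
  have key : ∀ N : ℕ, ((List.range N).map fun n =>
      (g ^ n * mX01 F 1 * (g ^ n)⁻¹) ^ (f.coeff n).val).prod =
      mX01 F (∑ n ∈ Finset.range N, algebraMap (ZMod p) F (f.coeff n) * c ^ n) := by
    intro N
    induction N with
    | zero =>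
      simp [h89_mX01_zero]
    | succ N ih =>
      rw [List.range_succ, List.map_append, List.prod_append, ih, Finset.sum_range_succ]
      simp only [List.map_cons, List.map_nil, List.prod_cons, List.prod_nil, mul_one]
      rw [hg, h89_mX01_pow, ← h89_mX01_add]
      congr 2
      have h1 : algebraMap (ZMod p) F (f.coeff N) = ((f.coeff N).val : F) := by
        conv_lhs => rw [← ZMod.natCast_zmod_val (f.coeff N)]
        rw [map_natCast]
      rw [h1, nsmul_eq_mul]
  unfold Pres.polyWord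
  rw [key, aeval_eq_sum_range]
  congr 1
  apply Finset.sum_congr rfl
  intro n _
  rw [Algebra.smul_def]

theorem h89_polyWord_mX01 {F : Type*} [Field F] {p : ℕ} [Fact p.Prime] [Algebra (ZMod p) F]
    (ω : Fˣ) (f : (ZMod p)[X]) :
    Pres.polyWord (mH3 ω) (mX01 F 1) f = mX01 F (aeval (ω : F) f) := by
  apply h89_polyWord_gen
  intro n
  rw [h89_mH3_pow_conj01, mul_one]

theorem h89_polyWord_mX01_one {F : Type*} [Field F] {p : ℕ} [Fact p.Prime] [Algebra (ZMod p) F]
    (f : (ZMod p)[X]) :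
    Pres.polyWord (1 : Matrix.SpecialLinearGroup (Fin 3) F) (mX01 F 1) f =
      mX01 F (aeval (1 : F) f) := by
  apply h89_polyWord_gen
  intro n
  simp

end Cfsg.Agent.Lib.helper44.SL3
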