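import Mathlib

/-! S0892 split, piece T2 (insurance copy by helper89): the `A₄` computation for a central
2-group kernel.  Mathlib only. -/

set_option autoImplicit false

namespace Cfsg.Agent.Lib.helper70.SM

universe u

/-- W1 (own copy): the Klein four group inside `⟨a, b | a³, b², (ab)³⟩`. -/
theorem h89_a4_comm {G : Type*} [Group G] (a b : G) (ha : a ^ 3 = 1) (hb : b ^ 2 = 1)
    (hab : (a * b) ^ 3 = 1) : b * (a * b * a⁻¹) = (a * b * a⁻¹) * b := by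
  have hbinv : b⁻¹ = b := by
    rw [inv_eq_iff_mul_eq_one, ← pow_two]; exact hb
  have hc2 : (a * b * a⁻¹) ^ 2 = 1 := by rw [conj_pow, hb]; group
  have hcinv : (a * b * a⁻¹)⁻¹ = a * b * a⁻¹ := by
    rw [inv_eq_iff_mul_eq_one, ← pow_two]; exact hc2
  have hd2 : (a * (a * b * a⁻¹) * a⁻¹) ^ 2 = 1 := by rw [conj_pow, hc2]; group
  have hab' : a * b * (a * b) * (a * b) = 1 := by rw [← pow_three']; exact hab
  have hcdb : (a * b * a⁻¹) * (a * (a * b * a⁻¹) * a⁻¹) * b = 1 := by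
    have h : (a * b * a⁻¹) * (a * (a * b * a⁻¹) * a⁻¹) * b
        = (a * b * (a * b) * (a * b)) * (b⁻¹ * (a ^ 3)⁻¹ * b) := by group
    rw [h, hab', ha]; group
  have hd : a * (a * b * a⁻¹) * a⁻¹ = (a * b * a⁻¹)⁻¹ * b⁻¹ := by
    have h : a * (a * b * a⁻¹) * a⁻¹
        = (a * b * a⁻¹)⁻¹ * ((a * b * a⁻¹) * (a * (a * b * a⁻¹) * a⁻¹) * b) * b⁻¹ := by group
    rw [h, hcdb, mul_one]
  rw [hd, hcinv, hbinv, pow_two] at hd2
  have h : b * (a * b * a⁻¹)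
      = (a * b * a⁻¹)⁻¹ * ((a * b * a⁻¹ * b) * (a * b * a⁻¹ * b)) * b⁻¹ := by group
  rw [h, hd2, hcinv, hbinv, mul_one]

/-- T2 (the `A₄` computation, 2-group kernel). -/
theorem h89_two_a4 {Γ : Type u} [Group Γ] [Finite Γ] {P : Type*} [Group P] (π : Γ →* P)
    (hc : π.ker ≤ Subgroup.center Γ) (h2 : IsPGroup 2 π.ker)
    (a b : Γ) (ha : a ^ 3 = 1) (hb : π b ^ 2 = 1) (hab : (a * b) ^ 3 = 1) :
    (b ^ 2) ^ 2 = 1 ∧ b ^ 2 = b * (a * b * a⁻¹) * b⁻¹ * (a * b * a⁻¹)⁻¹ := by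
  obtain ⟨α, hα⟩ : ∃ α, α = b ^ 2 := ⟨_, rfl⟩
  obtain ⟨v, hv⟩ : ∃ v, v = a * b * a⁻¹ := ⟨_, rfl⟩
  obtain ⟨w, hw⟩ : ∃ w, w = a * v * a⁻¹ := ⟨_, rfl⟩
  obtain ⟨ε, hε⟩ : ∃ ε, ε = b * v * b⁻¹ * v⁻¹ := ⟨_, rfl⟩
  have hαker : α ∈ π.ker := by rw [hα, MonoidHom.mem_ker, map_pow]; exact hb
  have hαc : ∀ g : Γ, g * α = α * g := Subgroup.mem_center_iff.mp (hc hαker)
  have hb2 : b ^ 2 = α := hα.symm
  have hv2 : v ^ 2 = α := by
    rw [hv, conj_pow, hb2, hαc a, mul_inv_cancel_right]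
  have hw2 : w ^ 2 = α := by
    rw [hw, conj_pow, hv2, hαc a, mul_inv_cancel_right]
  have hab' : a * b * (a * b) * (a * b) = 1 := by rw [← pow_three']; exact hab
  have hvwb : v * w * b = 1 := by
    rw [hw, hv]
    have h : a * b * a⁻¹ * (a * (a * b * a⁻¹) * a⁻¹) * b
        = (a * b * (a * b) * (a * b)) * (b⁻¹ * (a ^ 3)⁻¹ * b) := by group
    rw [h, hab', ha]; group
  have hπcomm : π b * (π a * π b * (π a)⁻¹) = (π a * π b * (π a)⁻¹) * π b :=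
    h89_a4_comm (π a) (π b) (by rw [← map_pow, ha, map_one]) hb
      (by rw [← map_mul, ← map_pow, hab, map_one])
  have hεker : ε ∈ π.ker := by
    rw [hε, hv, MonoidHom.mem_ker]
    simp only [map_mul, map_inv]
    rw [hπcomm]; group
  have hεc : ∀ g : Γ, g * ε = ε * g := Subgroup.mem_center_iff.mp (hc hεker)
  have hbv : b * v * b⁻¹ = ε * v := by rw [hε]; group
  have hε2 : ε ^ 2 = 1 := by
    have h1 : (b * v * b⁻¹) ^ 2 = α := by
      rw [conj_pow, hv2, hαc b, mul_inv_cancel_right]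
    rw [hbv] at h1
    have h3 : (ε * v) ^ 2 = ε ^ 2 * v ^ 2 := by
      have hcomm : Commute ε v := (hεc v).symm
      exact hcomm.mul_pow 2
    rw [h3, hv2] at h1
    exact mul_eq_right.mp h1
  have hbv2 : (b * v) ^ 2 = ε * α ^ 2 := by
    have h1 : (b * v) ^ 2 = (b * v * b⁻¹) * b ^ 2 * v := by rw [pow_two]; group
    rw [h1, hbv, hb2]
    rw [mul_assoc ε v α, hαc v, mul_assoc ε (α * v) v, mul_assoc α v v, ← pow_two v, hv2,
      pow_two]
  have hw' : w = (b * v)⁻¹ := by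
    have h1 : w = v⁻¹ * (v * w * b) * b⁻¹ := by group
    rw [h1, hvwb]; group
  have h5 : ((b * v) ^ 2)⁻¹ = α := by
    rw [← inv_pow, ← hw', hw2]
  have h6 : ε * α ^ 3 = 1 := by
    rw [hbv2] at h5
    have h7 : ε * α ^ 3 = (ε * α ^ 2) * α := by group
    rw [h7]
    nth_rewrite 2 [← h5]
    exact mul_inv_cancel _
  have h9 : α ^ 3 = ε⁻¹ := eq_inv_of_mul_eq_one_right h6
  have h8 : α ^ 6 = 1 := by
    have h : α ^ 6 = (α ^ 3) ^ 2 := by rw [← pow_mul]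
    rw [h, h9, inv_pow, hε2, inv_one]
  obtain ⟨k, hk⟩ := h2 ⟨α, hαker⟩
  have hk' : α ^ 2 ^ k = 1 := by
    have h := congrArg Subtype.val hk
    simpa using h
  have hα2 : α ^ 2 = 1 := by
    apply orderOf_dvd_iff_pow_eq_one.mp
    have d6 : orderOf α ∣ 2 * 3 := orderOf_dvd_of_pow_eq_one h8
    have d2k : orderOf α ∣ 2 ^ k := orderOf_dvd_of_pow_eq_one hk'
    have hcop : Nat.Coprime (orderOf α) 3 :=
      Nat.Coprime.coprime_dvd_left d2k (Nat.Coprime.pow_left k (by norm_num))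
    exact Nat.Coprime.dvd_of_dvd_mul_right hcop d6
  constructor
  · rw [hb2]; exact hα2
  · rw [hb2, ← hv, ← hε]
    have h10 : α ^ 3 = α := by
      have h : α ^ 3 = α ^ 2 * α := by group
      rw [h, hα2, one_mul]
    have h11 : ε⁻¹ = ε := by rw [inv_eq_iff_mul_eq_one, ← pow_two]; exact hε2
    rw [← h10, h9, h11]

end Cfsg.Agent.Lib.helper70.SM
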