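import Mathlib

/-! S4073 split, piece CT-B (insurance copy by helper89): the Borel subgroup `N(P)` of order
`q (q - 1)` (`q = 2ⁿ`, `q - 1` prime) with `C(u) = P` for `u ∈ P ∖ 1`: every non-abelian
subgroup of `N(P)` is `N(P)`, and elements of order dividing 4 are involutions.  Mathlib only. -/

set_option autoImplicit false

namespace Cfsg.Agent.Lib.helper89.SNG

universe u

/-- orbit counting without actions: the image of `f` is in bijection with `H ⧸ C`. -/
theorem h89_range_card {H : Type*} [Group H] {X : Type*} (C : Subgroup H) (f : H → X)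
    (hf : ∀ g g' : H, f g = f g' ↔ g⁻¹ * g' ∈ C) :
    Nat.card (Set.range f) = Nat.card (H ⧸ C) := by
  apply Nat.card_congr
  symm
  refine Equiv.ofBijective
    (fun q => Quotient.liftOn' q (fun g => (⟨f g, g, rfl⟩ : Set.range f)) ?_) ⟨?_, ?_⟩
  · intro a b hab
    rw [QuotientGroup.leftRel_apply] at hab
    exact Subtype.ext ((hf a b).mpr hab)
  · intro q1 q2
    refine Quotient.inductionOn₂' q1 q2 ?_
    intro a b hab
    have h : f a = f b := congrArg Subtype.val hab
    exact QuotientGroup.eq.mpr ((hf a b).mp h)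
  · rintro ⟨y, g, rfl⟩
    exact ⟨QuotientGroup.mk g, rfl⟩

/-- the quotient map `K → N(P)/P` for `K ≤ N(P)`. -/
theorem h89_phi {G : Type u} [Group G] [Finite G] {n : ℕ} (P : Sylow 2 G)
    (hP : Nat.card P = 2 ^ n)
    (hN : Nat.card (Subgroup.normalizer ((P : Subgroup G) : Set G)) = 2 ^ n * (2 ^ n - 1))
    (K : Subgroup G) (hKN : K ≤ Subgroup.normalizer ((P : Subgroup G) : Set G)) :
    ∃ (Q : Type u) (_ : Group Q) (φ : K →* Q), Nat.card Q = 2 ^ n - 1 ∧
      ∀ k : K, k ∈ φ.ker ↔ (k : G) ∈ P := by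
  obtain ⟨N, hNdef⟩ : ∃ N : Subgroup G, N = Subgroup.normalizer ((P : Subgroup G) : Set G) :=
    ⟨_, rfl⟩
  rw [← hNdef] at hN hKN
  have hPN : (P : Subgroup G) ≤ N := by rw [hNdef]; exact Subgroup.le_normalizer
  obtain ⟨P', hP'⟩ : ∃ P' : Subgroup N, P' = (P : Subgroup G).subgroupOf N := ⟨_, rfl⟩
  have hP'n : P'.Normal := by
    rw [hP']; subst hNdef; exact Subgroup.normal_in_normalizer
  have hcardP' : Nat.card P' = 2 ^ n := by
    rw [hP', Nat.card_congr (Subgroup.subgroupOfEquivOfLe hPN).toEquiv]; exact hP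
  have hq : 0 < 2 ^ n := by positivity
  have hquot : Nat.card (N ⧸ P') = 2 ^ n - 1 := by
    have h1 := Subgroup.card_eq_card_quotient_mul_card_subgroup P'
    rw [hN, hcardP', mul_comm] at h1
    exact (Nat.eq_of_mul_eq_mul_right hq h1).symm
  refine ⟨N ⧸ P', inferInstance, (QuotientGroup.mk' P').comp (Subgroup.inclusion hKN), hquot, ?_⟩
  intro k
  rw [MonoidHom.mem_ker, MonoidHom.comp_apply, QuotientGroup.mk'_apply,
    QuotientGroup.eq_one_iff, hP', Subgroup.mem_subgroupOf]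
  rfl

/-- transitivity of a subgroup `K ≤ N(P)`, `K ≰ P`, on `P ∖ 1`. -/
theorem h89_trans {G : Type u} [Group G] [Finite G] {n : ℕ} (hp : (2 ^ n - 1).Prime)
    (P : Sylow 2 G) (hP : Nat.card P = 2 ^ n)
    (hN : Nat.card (Subgroup.normalizer ((P : Subgroup G) : Set G)) = 2 ^ n * (2 ^ n - 1))
    (hPc : ∀ a ∈ (P : Subgroup G), ∀ b ∈ (P : Subgroup G), a * b = b * a)
    (hcent : ∀ u ∈ P, u ≠ 1 → ∀ g : G, Commute g u → g ∈ P)
    (K : Subgroup G) (hKN : K ≤ Subgroup.normalizer ((P : Subgroup G) : Set G))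
    (hKP : ¬ K ≤ (P : Subgroup G)) (u : G) (huP : u ∈ P) (hu1 : u ≠ 1) :
    ∀ y ∈ P, y ≠ 1 → ∃ k ∈ K, k * u * k⁻¹ = y := by
  classical
  obtain ⟨Q, instQ, φ, hQ, hker⟩ := h89_phi P hP hN K hKN
  obtain ⟨f, hf⟩ : ∃ f : K → G, f = fun k : K => (k : G) * u * (k : G)⁻¹ := ⟨_, rfl⟩
  have hfiber : ∀ g g' : K, f g = f g' ↔ g⁻¹ * g' ∈ φ.ker := by
    intro g g'
    rw [hker, hf]
    simp only [Subgroup.coe_mul, Subgroup.coe_inv]
    constructor
    · intro h
      apply hcent u huP hu1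
      show (g : G)⁻¹ * g' * u = u * ((g : G)⁻¹ * g')
      have h' : (g : G)⁻¹ * ((g : G) * u * (g : G)⁻¹) * g'
          = (g : G)⁻¹ * ((g' : G) * u * (g' : G)⁻¹) * g' := by rw [h]
      have e1 : (g : G)⁻¹ * ((g : G) * u * (g : G)⁻¹) * g' = u * ((g : G)⁻¹ * g') := by group
      have e2 : (g : G)⁻¹ * ((g' : G) * u * (g' : G)⁻¹) * g' = (g : G)⁻¹ * g' * u := by group
      rw [e1, e2] at h'
      exact h'.symm
    · intro h
      have hc := hPc _ h u huP
      have e1 : (g' : G) * u * (g' : G)⁻¹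
          = (g : G) * (((g : G)⁻¹ * g') * u) * ((g : G)⁻¹ * g')⁻¹ * (g : G)⁻¹ := by group
      rw [e1, hc]; group
  have hrange : Nat.card (Set.range f) = Nat.card (K ⧸ φ.ker) := h89_range_card φ.ker f hfiber
  have hdvd : Nat.card (K ⧸ φ.ker) ∣ 2 ^ n - 1 := by
    rw [← hQ]
    exact Subgroup.card_dvd_of_injective (QuotientGroup.kerLift φ)
      (QuotientGroup.kerLift_injective φ)
  have hne1 : Nat.card (K ⧸ φ.ker) ≠ 1 := by
    intro h1
    apply hKP
    have htop : φ.ker = ⊤ := Subgroup.index_eq_one.mp h1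
    intro k hk
    have hmem : (⟨k, hk⟩ : K) ∈ φ.ker := by rw [htop]; exact Subgroup.mem_top _
    exact (hker _).mp hmem
  have hr : Nat.card (Set.range f) = 2 ^ n - 1 := by
    rw [hrange]
    rcases (Nat.dvd_prime hp).mp hdvd with h | h
    · exact absurd h hne1
    · exact h
  have hsub : Set.range f ⊆ ((P : Subgroup G) : Set G) \ {1} := by
    rintro y ⟨k, rfl⟩
    rw [hf]
    refine ⟨?_, ?_⟩
    · have hkN : (k : G) ∈ Subgroup.normalizer ((P : Subgroup G) : Set G) := hKN k.2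
      rw [Subgroup.mem_normalizer_iff] at hkN
      exact (hkN u).mp huP
    · intro h1
      apply hu1
      have h2 : (k : G) * u * (k : G)⁻¹ = 1 := h1
      have e : u = (k : G)⁻¹ * ((k : G) * u * (k : G)⁻¹) * k := by group
      rw [e, h2]; group
  have hncard : (((P : Subgroup G) : Set G) \ {1}).ncard = 2 ^ n - 1 := by
    rw [Set.ncard_sdiff_singleton_of_mem (Subgroup.one_mem _), ← Nat.card_coe_set_eq]
    have h : Nat.card ((P : Subgroup G) : Set G) = 2 ^ n := hP
    rw [h]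
  have heq : Set.range f = ((P : Subgroup G) : Set G) \ {1} := by
    apply Set.eq_of_subset_of_ncard_le hsub
    rw [hncard, ← Nat.card_coe_set_eq, hr]
  intro y hy hy1
  have hmem : y ∈ Set.range f := by rw [heq]; exact ⟨hy, hy1⟩
  obtain ⟨k, hk⟩ := hmem
  rw [hf] at hk
  exact ⟨k, k.2, hk⟩

/-- **[CT-B]** -/
theorem ct_sylow2_borel {G : Type u} [Group G] [Finite G]
    {n : ℕ} (hn : 2 ≤ n) (hp : (2 ^ n - 1).Prime) (P : Sylow 2 G)
    (hP : Nat.card P = 2 ^ n)
    (hN : Nat.card (Subgroup.normalizer ((P : Subgroup G) : Set G)) = 2 ^ n * (2 ^ n - 1))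
    (hPc : IsMulCommutative P)
    (hcent : ∀ u ∈ P, u ≠ 1 → ∀ g : G, Commute g u → g ∈ P) :
    (∀ K : Subgroup G, K ≤ Subgroup.normalizer ((P : Subgroup G) : Set G) →
        ¬ IsMulCommutative K → K = Subgroup.normalizer ((P : Subgroup G) : Set G)) ∧
    (∀ x : G, x ^ 4 = 1 → x ^ 2 = 1) := by
  classical
  have hPc' : ∀ a ∈ (P : Subgroup G), ∀ b ∈ (P : Subgroup G), a * b = b * a := by
    intro a ha b hb
    have h := hPc.is_comm.comm (⟨a, ha⟩ : P) ⟨b, hb⟩
    exact congrArg Subtype.val h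
  have hr2 : 2 ≤ 2 ^ n - 1 := hp.two_le
  constructor
  · intro K hKN hK
    have hKP : ¬ K ≤ (P : Subgroup G) := by
      intro hle
      apply hK
      exact ⟨⟨fun a b => Subtype.ext (hPc' a (hle a.2) b (hle b.2))⟩⟩
    have hQ : ∃ u, u ∈ K ∧ u ∈ P ∧ u ≠ 1 := by
      by_contra hno
      apply hK
      obtain ⟨Q, instQ, φ, hQc, hker⟩ := h89_phi P hP hN K hKN
      have hinj : Function.Injective φ := by
        rw [← MonoidHom.ker_eq_bot_iff, Subgroup.eq_bot_iff_forall]
        intro k hk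
        by_contra hk1
        exact hno ⟨(k : G), k.2, (hker k).mp hk, fun h => hk1 (Subtype.ext h)⟩
      have hdvd : Nat.card K ∣ 2 ^ n - 1 := by
        rw [← hQc]; exact Subgroup.card_dvd_of_injective φ hinj
      rcases (Nat.dvd_prime hp).mp hdvd with h | h
      · have hsub : Subsingleton K := (Nat.card_eq_one_iff_unique.mp h).1
        exact ⟨⟨fun a b => by rw [Subsingleton.elim a b]⟩⟩
      · have hfact : Fact (2 ^ n - 1).Prime := ⟨hp⟩
        have hcyc : IsCyclic K := isCyclic_of_prime_card h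
        obtain ⟨g, hg⟩ := hcyc.exists_generator
        refine ⟨⟨fun a b => ?_⟩⟩
        obtain ⟨i, hi⟩ := Subgroup.mem_zpowers_iff.mp (hg a)
        obtain ⟨j, hj⟩ := Subgroup.mem_zpowers_iff.mp (hg b)
        rw [← hi, ← hj]
        exact zpow_mul_comm g i j
    obtain ⟨u, huK, huP, hu1⟩ := hQ
    have htr := h89_trans hp P hP hN hPc' hcent K hKN hKP u huP hu1
    have hPK : (P : Subgroup G) ≤ K := by
      intro y hy
      by_cases hy1 : y = 1
      · rw [hy1]; exact K.one_mem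
      · obtain ⟨k, hk, hky⟩ := htr y hy hy1
        rw [← hky]
        exact K.mul_mem (K.mul_mem hk huK) (K.inv_mem hk)
    apply le_antisymm hKN
    intro g hg
    have hgu : g * u * g⁻¹ ∈ (P : Subgroup G) := by
      rw [Subgroup.mem_normalizer_iff] at hg
      exact (hg u).mp huP
    have hgu1 : g * u * g⁻¹ ≠ 1 := by
      intro h1
      apply hu1
      have e : u = g⁻¹ * (g * u * g⁻¹) * g := by group
      rw [e, h1]; group
    obtain ⟨k, hk, hky⟩ := htr _ hgu hgu1
    have hcomm : Commute (k⁻¹ * g) u := by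
      show k⁻¹ * g * u = u * (k⁻¹ * g)
      have h' : k⁻¹ * (k * u * k⁻¹) * g = k⁻¹ * (g * u * g⁻¹) * g := by rw [hky]
      have e1 : k⁻¹ * (k * u * k⁻¹) * g = u * (k⁻¹ * g) := by group
      have e2 : k⁻¹ * (g * u * g⁻¹) * g = k⁻¹ * g * u := by group
      rw [e1, e2] at h'
      exact h'.symm
    have hmemP : k⁻¹ * g ∈ (P : Subgroup G) := hcent u huP hu1 _ hcomm
    have e : g = k * (k⁻¹ * g) := by group
    rw [e]
    exact K.mul_mem hk (hPK hmemP)
  · -- involutions
    have hNP : ¬ Subgroup.normalizer ((P : Subgroup G) : Set G) ≤ (P : Subgroup G) := by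
      intro hle
      have h1 := Subgroup.card_le_of_le hle
      rw [hN] at h1
      have h2 : Nat.card (P : Subgroup G) = 2 ^ n := hP
      rw [h2] at h1
      have hq : 0 < 2 ^ n := by positivity
      nlinarith
    have h2dvd : 2 ∣ Nat.card P := by
      rw [hP]; exact dvd_pow_self 2 (by omega)
    have hfact : Fact (Nat.Prime 2) := ⟨Nat.prime_two⟩
    obtain ⟨t, ht⟩ := exists_prime_orderOf_dvd_card' 2 h2dvd
    have htP : (t : G) ∈ (P : Subgroup G) := t.2
    have ht1 : (t : G) ≠ 1 := by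
      intro h
      have h' : t = 1 := Subtype.ext h
      rw [h', orderOf_one] at ht
      omega
    have ht2 : (t : G) ^ 2 = 1 := by
      have h := pow_orderOf_eq_one t
      rw [ht] at h
      have h' := congrArg Subtype.val h
      simpa using h'
    have htr := h89_trans hp P hP hN hPc' hcent _ le_rfl hNP (t : G) htP ht1
    have hinvP : ∀ y ∈ (P : Subgroup G), y ^ 2 = 1 := by
      intro y hy
      by_cases hy1 : y = 1
      · rw [hy1, one_pow]
      · obtain ⟨k, -, hky⟩ := htr y hy hy1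
        rw [← hky, conj_pow, ht2]; group
    intro x hx
    have hpg : IsPGroup 2 (Subgroup.zpowers x) := by
      intro g
      refine ⟨2, ?_⟩
      obtain ⟨i, hi⟩ := Subgroup.mem_zpowers_iff.mp g.2
      apply Subtype.ext
      simp only [Subgroup.coe_pow, Subgroup.coe_one]
      rw [← hi]
      have h4 : (2 : ℕ) ^ 2 = 4 := by norm_num
      rw [h4, ← zpow_natCast, ← zpow_mul, mul_comm, zpow_mul, zpow_natCast, hx, one_zpow]
    obtain ⟨Q, hQ⟩ := hpg.exists_le_sylow
    have hxQ : x ∈ (Q : Subgroup G) := hQ (Subgroup.mem_zpowers x)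
    obtain ⟨g, hg⟩ := MulAction.exists_smul_eq G P Q
    rw [← hg, Sylow.coe_subgroup_smul] at hxQ
    obtain ⟨y, hy, hyx⟩ := (Subgroup.mem_smul_pointwise_iff_exists _ _ _).mp hxQ
    rw [← hyx, MulAut.smul_def, MulAut.conj_apply, conj_pow, hinvP y hy]; group

end Cfsg.Agent.Lib.helper89.SNG
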