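import Mathlib
import Cfsg.Agent.Lib.helper69.SNDefs
import Cfsg.Agent.Lib.helper69.SNStruct

/-! S4073 split, assembly piece ODD-CA in core form (insurance copy by helper89): the pieces
ODD-SYL, CENT-NE, CENT-EQ enter as explicit hypotheses. -/

set_option autoImplicit false

namespace Cfsg.Agent.Lib.helper89.SNG

open Cfsg.Agent.Lib.helper69.SNG

universe u

/-- ODD-CA, core form. -/
theorem h89_sn_odd_simple_ca_of {G : Type u} [Group G] [Finite G] [IsSimpleGroup G]
    (hna : ¬ IsMulCommutative G) (h : SN G)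
    (hsub : ∀ K : Subgroup G, K ≠ ⊤ → Group.IsSolvable K)
    (hSYL : ∀ (p : ℕ) [Fact p.Prime] (P : Sylow p G), IsMulCommutative P)
    (hNE : ∀ {C : Type u} [Group C] [Finite C], SN C → ∀ (A : Subgroup C) [A.Normal],
      IsMulCommutative A → A.index.Prime → ∀ x : C, x ∈ Subgroup.center C →
      (orderOf x).Prime → A.index ≠ orderOf x → IsMulCommutative C)
    (hEQ : ∀ (p : ℕ) [Fact p.Prime], (∀ P : Sylow p G, IsMulCommutative P) → ∀ x : G,
      orderOf x = p → ∀ (A : Subgroup (Subgroup.centralizer ({x} : Set G))) [A.Normal],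
      IsMulCommutative A → A.index = p →
      IsMulCommutative (Subgroup.centralizer ({x} : Set G)))
    (x : G) (hx : x ≠ 1) :
    IsMulCommutative (Subgroup.centralizer ({x} : Set G)) := by
  classical
  have hox0 : orderOf x ≠ 0 := (orderOf_pos x).ne'
  have hox1 : orderOf x ≠ 1 := fun h1 => hx (orderOf_eq_one_iff.mp h1)
  obtain ⟨p, hp, hpd⟩ := Nat.exists_prime_and_dvd hox1
  obtain ⟨y, hy⟩ : ∃ y : G, y = x ^ (orderOf x / p) := ⟨_, rfl⟩
  have hyo : orderOf y = p := by rw [hy]; exact orderOf_pow_orderOf_div hox0 hpd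
  have hle : Subgroup.centralizer ({x} : Set G) ≤ Subgroup.centralizer ({y} : Set G) := by
    intro g hg
    rw [Subgroup.mem_centralizer_singleton_iff] at hg ⊢
    rw [hy]
    exact ((Commute.pow_right (show Commute g x from hg) _)).eq
  suffices hC : IsMulCommutative (Subgroup.centralizer ({y} : Set G)) by
    rw [comm_iff] at hC ⊢
    intro a ha b hb
    exact hC a (hle ha) b (hle hb)
  by_contra hC
  have hCtop : Subgroup.centralizer ({y} : Set G) ≠ ⊤ := by
    intro htop
    have hyc : y ∈ Subgroup.center G := by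
      rw [Subgroup.mem_center_iff]
      intro g
      have hg : g ∈ Subgroup.centralizer ({y} : Set G) := by rw [htop]; exact Subgroup.mem_top g
      exact Subgroup.mem_centralizer_singleton_iff.mp hg
    rcases IsSimpleGroup.eq_bot_or_eq_top_of_normal (Subgroup.center G) inferInstance with hb | ht
    · rw [hb, Subgroup.mem_bot] at hyc
      rw [hyc, orderOf_one] at hyo
      exact hp.one_lt.ne hyo
    · apply hna
      rw [comm_iff_top]
      intro a b
      have ha : b ∈ Subgroup.center G := by rw [ht]; exact Subgroup.mem_top b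
      exact (Subgroup.mem_center_iff.mp ha a)
  have hsolv : Group.IsSolvable (Subgroup.centralizer ({y} : Set G)) := hsub _ hCtop
  have hSNC : SN (Subgroup.centralizer ({y} : Set G)) := h.subgroup _
  obtain ⟨A, hAn, hAc, hAi⟩ := sn_solvable_index hSNC hsolv hC
  have hfact : Fact p.Prime := ⟨hp⟩
  by_cases hℓ : A.index = p
  · exact hC (hEQ p (hSYL p) y hyo A hAc hℓ)
  · have hyC : y ∈ Subgroup.centralizer ({y} : Set G) :=
      Subgroup.mem_centralizer_singleton_iff.mpr rfl
    have hycen : (⟨y, hyC⟩ : Subgroup.centralizer ({y} : Set G)) ∈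
        Subgroup.center (Subgroup.centralizer ({y} : Set G)) := by
      rw [Subgroup.mem_center_iff]
      intro c
      apply Subtype.ext
      exact Subgroup.mem_centralizer_singleton_iff.mp c.2
    have hyo' : orderOf (⟨y, hyC⟩ : Subgroup.centralizer ({y} : Set G)) = p := by
      rw [← hyo]; exact Subgroup.orderOf_mk y hyC
    refine hC (hNE hSNC A hAc hAi ⟨y, hyC⟩ hycen ?_ ?_)
    · rw [hyo']; exact hp
    · rw [hyo']; exact hℓ

end Cfsg.Agent.Lib.helper89.SNG
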