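import Mathlib
import Cfsg.Prelude.Def_Classical
import Cfsg.Prelude.Def_GeometricClasses
import Cfsg.Agent.Lib.helper49.WittIso

/-!
# S5977 / S5978 block [A], piece JBASIS (racer copy by helper89)

For an isometry `x` with `x * x = -1` there are `e_1 .. e_m` such that
`e_1, .., e_m, x e_1, .., x e_m` is an orthogonal basis.  Subspace-free greedy construction.
-/

set_option autoImplicit false

namespace Cfsg.Agent.Lib.helper59.Sfk

open Matrix Cfsg.Geo

section
variable {F : Type*} [Field F] {ι : Type} [Fintype ι] [DecidableEq ι]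

theorem h89_jb_polar_conj (Q : QuadraticForm F (ι → F)) (X : Matrix ι ι F)
    (hiso : ∀ u, Q (X *ᵥ u) = Q u) (u v : ι → F) :
    QuadraticMap.polar (⇑Q) (X *ᵥ u) (X *ᵥ v) = QuadraticMap.polar (⇑Q) u v := by
  unfold QuadraticMap.polar
  rw [← Matrix.mulVec_add, hiso, hiso, hiso]

theorem h89_jb_skew (Q : QuadraticForm F (ι → F)) (X : Matrix ι ι F)
    (hiso : ∀ u, Q (X *ᵥ u) = Q u) (hxx : X * X = -1) (u v : ι → F) :
    QuadraticMap.polar (⇑Q) (X *ᵥ u) v = - QuadraticMap.polar (⇑Q) u (X *ᵥ v) := by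
  have h1 : X *ᵥ (X *ᵥ u) = -u := by
    rw [Matrix.mulVec_mulVec, hxx, Matrix.neg_mulVec, Matrix.one_mulVec]
  rw [← h89_jb_polar_conj Q X hiso (X *ᵥ u) v, h1, QuadraticMap.polar_neg_left]

theorem h89_jb_self (h2 : (2 : F) ≠ 0) (Q : QuadraticForm F (ι → F)) (X : Matrix ι ι F)
    (hiso : ∀ u, Q (X *ᵥ u) = Q u) (hxx : X * X = -1) (u : ι → F) :
    QuadraticMap.polar (⇑Q) u (X *ᵥ u) = 0 := by
  have h1 := h89_jb_skew Q X hiso hxx u u
  rw [QuadraticMap.polar_comm] at h1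
  have h3 : (2 : F) * QuadraticMap.polar (⇑Q) u (X *ᵥ u) = 0 := by
    linear_combination h1
  exact (mul_eq_zero.mp h3).resolve_left h2

theorem h89_jb_ortho (Q : QuadraticForm F (ι → F)) (X : Matrix ι ι F)
    (hiso : ∀ u, Q (X *ᵥ u) = Q u) {k : ℕ} (e : Fin k → (ι → F))
    (ho1 : ∀ i j, i ≠ j → QuadraticMap.polar (⇑Q) (e i) (e j) = 0)
    (ho2 : ∀ i j, QuadraticMap.polar (⇑Q) (e i) (X *ᵥ e j) = 0) :
    ∀ a b : Fin k ⊕ Fin k, a ≠ b →
      QuadraticMap.polar (⇑Q) (Sum.elim e (fun i => X *ᵥ e i) a)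
        (Sum.elim e (fun i => X *ᵥ e i) b) = 0 := by
  intro a b hab
  rcases a with i | i <;> rcases b with j | j
  · exact ho1 i j (fun h => hab (by rw [h]))
  · exact ho2 i j
  · simp only [Sum.elim_inl, Sum.elim_inr]
    rw [QuadraticMap.polar_comm]; exact ho2 j i
  · simp only [Sum.elim_inr]
    rw [h89_jb_polar_conj Q X hiso]
    exact ho1 i j (fun h => hab (by rw [h]))

theorem h89_jb_diag (h2 : (2 : F) ≠ 0) (Q : QuadraticForm F (ι → F)) (X : Matrix ι ι F)
    (hiso : ∀ u, Q (X *ᵥ u) = Q u) {k : ℕ} (e : Fin k → (ι → F)) (hne : ∀ i, Q (e i) ≠ 0) :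
    ∀ a : Fin k ⊕ Fin k,
      QuadraticMap.polar (⇑Q) (Sum.elim e (fun i => X *ᵥ e i) a)
        (Sum.elim e (fun i => X *ᵥ e i) a) ≠ 0 := by
  intro a
  rw [QuadraticMap.polar_self, two_smul, ← two_mul]
  apply mul_ne_zero h2
  rcases a with i | i
  · exact hne i
  · simp only [Sum.elim_inr]; rw [hiso]; exact hne i

theorem h89_jb_li (h2 : (2 : F) ≠ 0) (Q : QuadraticForm F (ι → F)) (X : Matrix ι ι F)
    (hiso : ∀ u, Q (X *ᵥ u) = Q u) {k : ℕ} (e : Fin k → (ι → F))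
    (ho1 : ∀ i j, i ≠ j → QuadraticMap.polar (⇑Q) (e i) (e j) = 0)
    (ho2 : ∀ i j, QuadraticMap.polar (⇑Q) (e i) (X *ᵥ e j) = 0)
    (hne : ∀ i, Q (e i) ≠ 0) :
    LinearIndependent F (Sum.elim e (fun i => X *ᵥ e i)) := by
  apply LinearMap.BilinForm.linearIndependent_of_iIsOrtho (B := QuadraticMap.polarBilin Q)
  · rw [LinearMap.BilinForm.iIsOrtho_def]
    intro a b hab
    exact h89_jb_ortho Q X hiso e ho1 ho2 a b hab
  · intro a
    exact h89_jb_diag h2 Q X hiso e hne a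

theorem h89_jb_ext (h2 : (2 : F) ≠ 0) (Q : QuadraticForm F (ι → F))
    (hQ : (QuadraticMap.polarBilin Q).Nondegenerate)
    (X : Matrix ι ι F) (hiso : ∀ u, Q (X *ᵥ u) = Q u) {k : ℕ} (e : Fin k → (ι → F))
    (ho1 : ∀ i j, i ≠ j → QuadraticMap.polar (⇑Q) (e i) (e j) = 0)
    (ho2 : ∀ i j, QuadraticMap.polar (⇑Q) (e i) (X *ᵥ e j) = 0)
    (hne : ∀ i, Q (e i) ≠ 0) (hk : 2 * k < Fintype.card ι) :
    ∃ u : ι → F, (∀ a : Fin k ⊕ Fin k,
      QuadraticMap.polar (⇑Q) (Sum.elim e (fun i => X *ᵥ e i) a) u = 0) ∧ Q u ≠ 0 := by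
  classical
  obtain ⟨v, hv⟩ : ∃ v : Fin k ⊕ Fin k → (ι → F), v = Sum.elim e (fun i => X *ᵥ e i) :=
    ⟨_, rfl⟩
  have hvo : ∀ a b, a ≠ b → QuadraticMap.polar (⇑Q) (v a) (v b) = 0 := by
    rw [hv]; exact h89_jb_ortho Q X hiso e ho1 ho2
  have hvn : ∀ a, QuadraticMap.polar (⇑Q) (v a) (v a) ≠ 0 := by
    rw [hv]; exact h89_jb_diag h2 Q X hiso e hne
  rw [← hv]
  obtain ⟨f, hf⟩ : ∃ f : (ι → F) →ₗ[F] (Fin k ⊕ Fin k → F),
      ∀ u a, f u a = QuadraticMap.polar (⇑Q) (v a) u :=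
    ⟨LinearMap.pi (fun a => QuadraticMap.polarBilin Q (v a)), fun u a => rfl⟩
  have hker : LinearMap.ker f ≠ ⊥ := by
    apply LinearMap.ker_ne_bot_of_finrank_lt
    rw [Module.finrank_fintype_fun_eq_card, Module.finrank_fintype_fun_eq_card,
      Fintype.card_sum, Fintype.card_fin]
    omega
  obtain ⟨y, hyker, hy0⟩ := (Submodule.ne_bot_iff _).mp hker
  have hy : ∀ a, QuadraticMap.polar (⇑Q) (v a) y = 0 := by
    intro a
    have h1 : f y = 0 := LinearMap.mem_ker.mp hyker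
    rw [← hf, h1]; rfl
  by_contra hcon
  have hQ0 : ∀ u, (∀ a, QuadraticMap.polar (⇑Q) (v a) u = 0) → Q u = 0 := by
    intro u hu
    by_contra hne'
    exact hcon ⟨u, hu, hne'⟩
  apply hy0
  apply hQ.1 y
  intro t
  obtain ⟨c, hc⟩ : ∃ c : Fin k ⊕ Fin k → F, ∀ a, c a =
      QuadraticMap.polar (⇑Q) (v a) t / QuadraticMap.polar (⇑Q) (v a) (v a) := ⟨_, fun a => rfl⟩
  have ht' : ∀ b, QuadraticMap.polar (⇑Q) (v b) (t - ∑ a, c a • v a) = 0 := by
    intro b
    have h1 : QuadraticMap.polar (⇑Q) (v b) (t - ∑ a, c a • v a) =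
        QuadraticMap.polarBilin Q (v b) (t - ∑ a, c a • v a) := rfl
    rw [h1, map_sub, map_sum]
    simp only [map_smul, smul_eq_mul, QuadraticMap.polarBilin_apply_apply]
    rw [Finset.sum_eq_single b]
    · rw [hc b]
      have h3 := hvn b
      field_simp
      ring
    · intro a _ hab
      rw [hvo b a (Ne.symm hab), mul_zero]
    · intro h; exact absurd (Finset.mem_univ b) h
  have hyt' : QuadraticMap.polar (⇑Q) y (t - ∑ a, c a • v a) = 0 := by
    have h1 := hQ0 y hy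
    have h2' := hQ0 _ ht'
    have h3 : Q (y + (t - ∑ a, c a • v a)) = 0 := by
      apply hQ0
      intro a
      have h4 : QuadraticMap.polar (⇑Q) (v a) (y + (t - ∑ a, c a • v a)) =
          QuadraticMap.polarBilin Q (v a) (y + (t - ∑ a, c a • v a)) := rfl
      rw [h4, map_add]
      simp only [QuadraticMap.polarBilin_apply_apply]
      rw [hy a, ht' a, add_zero]
    unfold QuadraticMap.polar
    rw [h3, h1, h2']; simp
  have h5 : t = (t - ∑ a, c a • v a) + ∑ a, c a • v a := by abel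
  have h6 : QuadraticMap.polarBilin Q y t = 0 := by
    rw [h5, map_add, map_sum]
    simp only [map_smul, smul_eq_mul, QuadraticMap.polarBilin_apply_apply]
    rw [hyt', zero_add]
    apply Finset.sum_eq_zero
    intro a _
    rw [QuadraticMap.polar_comm, hy a, mul_zero]
  exact h6

theorem h89_jb_main (h2 : (2 : F) ≠ 0) (Q : QuadraticForm F (ι → F))
    (hQ : (QuadraticMap.polarBilin Q).Nondegenerate)
    (X : Matrix ι ι F) (hiso : ∀ u, Q (X *ᵥ u) = Q u) (hxx : X * X = -1) :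
    ∃ (m : ℕ) (e : Fin m → (ι → F)),
      LinearIndependent F (Sum.elim e (fun i => X *ᵥ e i)) ∧
      Fintype.card ι = 2 * m ∧
      (∀ i j, i ≠ j → QuadraticMap.polar (⇑Q) (e i) (e j) = 0) ∧
      (∀ i j, QuadraticMap.polar (⇑Q) (e i) (X *ᵥ e j) = 0) ∧
      ∀ i, Q (e i) ≠ 0 := by
  classical
  have hstep : ∀ d : ℕ, ∀ k : ℕ, ∀ e : Fin k → (ι → F),
      (∀ i j, i ≠ j → QuadraticMap.polar (⇑Q) (e i) (e j) = 0) →
      (∀ i j, QuadraticMap.polar (⇑Q) (e i) (X *ᵥ e j) = 0) → (∀ i, Q (e i) ≠ 0) →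
      Fintype.card ι = 2 * k + d →
      ∃ (m : ℕ) (e : Fin m → (ι → F)), LinearIndependent F (Sum.elim e (fun i => X *ᵥ e i)) ∧
        Fintype.card ι = 2 * m ∧ (∀ i j, i ≠ j → QuadraticMap.polar (⇑Q) (e i) (e j) = 0) ∧
        (∀ i j, QuadraticMap.polar (⇑Q) (e i) (X *ᵥ e j) = 0) ∧ ∀ i, Q (e i) ≠ 0 := by
    intro d
    induction d using Nat.strong_induction_on with
    | _ d ih =>
      intro k e ho1 ho2 hne hcard
      by_cases hd : d = 0
      · subst hd
        exact ⟨k, e, h89_jb_li h2 Q X hiso e ho1 ho2 hne, by omega, ho1, ho2, hne⟩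
      · have hk : 2 * k < Fintype.card ι := by omega
        obtain ⟨u, hu, hQu⟩ := h89_jb_ext h2 Q hQ X hiso e ho1 ho2 hne hk
        have hu1 : ∀ i, QuadraticMap.polar (⇑Q) (e i) u = 0 := fun i => hu (Sum.inl i)
        have hu2 : ∀ i, QuadraticMap.polar (⇑Q) (X *ᵥ e i) u = 0 := fun i => hu (Sum.inr i)
        obtain ⟨e', he'⟩ : ∃ e' : Fin (k + 1) → (ι → F),
            e' = Fin.snoc (α := fun _ => ι → F) e u := ⟨_, rfl⟩
        have hl : e' (Fin.last k) = u := by rw [he', Fin.snoc_last]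
        have hc : ∀ i : Fin k, e' (Fin.castSucc i) = e i := by
          intro i; rw [he', Fin.snoc_castSucc]
        have ho1' : ∀ i j : Fin (k + 1), i ≠ j →
            QuadraticMap.polar (⇑Q) (e' i) (e' j) = 0 := by
          intro i j hij
          rcases Fin.eq_castSucc_or_eq_last i with ⟨i', rfl⟩ | rfl <;>
            rcases Fin.eq_castSucc_or_eq_last j with ⟨j', rfl⟩ | rfl
          · rw [hc, hc]; exact ho1 i' j' (fun h => hij (by rw [h]))
          · rw [hc, hl]; exact hu1 i'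
          · rw [hc, hl, QuadraticMap.polar_comm]; exact hu1 j'
          · exact absurd rfl hij
        have ho2' : ∀ i j : Fin (k + 1),
            QuadraticMap.polar (⇑Q) (e' i) (X *ᵥ e' j) = 0 := by
          intro i j
          rcases Fin.eq_castSucc_or_eq_last i with ⟨i', rfl⟩ | rfl <;>
            rcases Fin.eq_castSucc_or_eq_last j with ⟨j', rfl⟩ | rfl
          · rw [hc, hc]; exact ho2 i' j'
          · rw [hc, hl]
            have h1 := h89_jb_skew Q X hiso hxx (e i') u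
            rw [hu2 i'] at h1
            exact neg_eq_zero.mp h1.symm
          · rw [hc, hl, QuadraticMap.polar_comm]; exact hu2 j'
          · rw [hl]; exact h89_jb_self h2 Q X hiso hxx u
        have hne' : ∀ i : Fin (k + 1), Q (e' i) ≠ 0 := by
          intro i
          rcases Fin.eq_castSucc_or_eq_last i with ⟨i', rfl⟩ | rfl
          · rw [hc]; exact hne i'
          · rw [hl]; exact hQu
        have hli := h89_jb_li h2 Q X hiso e' ho1' ho2' hne'
        have hle := hli.fintype_card_le_finrank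
        rw [Module.finrank_fintype_fun_eq_card, Fintype.card_sum, Fintype.card_fin] at hle
        exact ih (d - 2) (by omega) (k + 1) e' ho1' ho2' hne' (by omega)
  exact hstep (Fintype.card ι) 0 (fun i => Fin.elim0 i) (fun i => Fin.elim0 i)
    (fun i => Fin.elim0 i) (fun i => Fin.elim0 i) (by omega)

end

/-- JBASIS (L+), racer copy: verbatim statement of `sfk_j_basis`. -/
theorem h89_sfk_j_basis {F : Type*} [Field F] {ι : Type} [Fintype ι] [DecidableEq ι]
    (h2 : (2 : F) ≠ 0) (Q : QuadraticForm F (ι → F))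
    (hQ : (QuadraticMap.polarBilin Q).Nondegenerate)
    (x : GL ι F) (hx : x ∈ Cfsg.isometryGroup F (⇑Q))
    (hxx : (x : Matrix ι ι F) * (x : Matrix ι ι F) = -1) :
    ∃ (m : ℕ) (e : Fin m → (ι → F)),
      LinearIndependent F (Sum.elim e (fun i => (x : Matrix ι ι F) *ᵥ e i)) ∧
      Fintype.card ι = 2 * m ∧
      (∀ i j, i ≠ j → QuadraticMap.polar (⇑Q) (e i) (e j) = 0) ∧
      (∀ i j, QuadraticMap.polar (⇑Q) (e i) ((x : Matrix ι ι F) *ᵥ e j) = 0) ∧
      ∀ i, Q (e i) ≠ 0 :=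
  h89_jb_main h2 Q hQ (x : Matrix ι ι F) (fun u => hx u u) hxx

end Cfsg.Agent.Lib.helper59.Sfk
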