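import Mathlib
import Cfsg.Prelude.Def_FusionSystem
import Cfsg.Agent.Lib.helper88.Saturated
import Cfsg.Agent.Lib.helper88.Saturated2
import Cfsg.Agent.Lib.helper86.EssentialNeeded
import Cfsg.Agent.Lib.helper86.NormalCrit
import Cfsg.Agent.Lib.helper87.SylowIn
import Cfsg.Agent.Lib.helper89.FusionSat
import Cfsg.Agent.Lib.helper89.Transvec
import Cfsg.Agent.S5080

/-!
# Saturated fusion systems over `p`-groups whose centre has index at most `p²`: essential subgroups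

For such a system every essential subgroup `E` is abelian of index `p` and contains `Z(S)` with
index `p`; `Aut_S(E)` is generated by a "transvection" (`TransvData`), and is not normal in
`Aut_F(E)`; all commutators of `S` lie in one subgroup of order `p`.
-/

set_option autoImplicit false
set_option linter.unusedSectionVars false

namespace Cfsg.Agent.Lib.helper89

open Cfsg Cfsg.FusionSystem Subgroup

section Generic

variable {G : Type*} [Group G]

theorem eq_of_card_prime_mul {p : ℕ} [Fact p.Prime] {H M K : Subgroup G} [Finite K]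
    (hHM : H ≤ M) (hMK : M ≤ K) (hcard : Nat.card K = p * Nat.card H) (hne : M ≠ H) : M = K := by
  have hfinM : Finite M := Finite.of_injective _ (inclusion_injective hMK)
  have hfinH : Finite H := Finite.of_injective _ (inclusion_injective hHM)
  obtain ⟨j, hj⟩ := Subgroup.card_dvd_of_le hHM
  obtain ⟨i, hi⟩ := Subgroup.card_dvd_of_le hMK
  have hHpos : 0 < Nat.card H := Nat.card_pos
  have hji : j * i = p := by
    have h1 : Nat.card H * (j * i) = Nat.card H * p := by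
      rw [← mul_assoc, ← hj, ← hi, hcard, mul_comm]
    exact Nat.eq_of_mul_eq_mul_left hHpos h1
  have hjp : j ∣ p := ⟨i, hji.symm⟩
  rcases (Nat.Prime.eq_one_or_self_of_dvd Fact.out j hjp) with h1 | h1
  · exfalso
    apply hne
    rw [h1, mul_one] at hj
    exact (eq_of_le_of_card_ge hHM (le_of_eq hj)).symm
  · apply eq_of_le_of_card_ge hMK
    rw [hcard, hj, h1, mul_comm]

theorem pow_mem_of_card_prime_mul {p : ℕ} [Fact p.Prime] {H K : Subgroup G} [Finite K]
    (hHK : H ≤ K) (hn : K ≤ normalizer (H : Set G)) (hcard : Nat.card K = p * Nat.card H)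
    {g : G} (hg : g ∈ K) : g ^ p ∈ H := by
  have hfinH : Finite H := Finite.of_injective _ (inclusion_injective hHK)
  have : (H.subgroupOf K).Normal := (normal_subgroupOf_iff_le_normalizer hHK).mpr hn
  have h2 : Nat.card (H.subgroupOf K) = Nat.card H := by
    rw [← Subgroup.card_subtype K (H.subgroupOf K), Subgroup.map_subgroupOf_eq_of_le hHK]
  have hidx : (H.subgroupOf K).index = p := by
    have h1 := Subgroup.card_mul_index (H.subgroupOf K)
    rw [h2, hcard, mul_comm p] at h1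
    exact Nat.eq_of_mul_eq_mul_left Nat.card_pos h1
  have h3 := Subgroup.pow_index_mem (H.subgroupOf K) (⟨g, hg⟩ : K)
  rw [hidx] at h3
  exact mem_subgroupOf.mp h3

/-- If `w = [e, v]` is central then `[v, e] = w⁻¹`. -/
theorem comm_swap_of_central {e v w : G} (hw : e * w = v * e * v⁻¹) (hwe : e⁻¹ * w = w * e⁻¹)
    (hwv : v * w = w * v) : v⁻¹ * e * v * e⁻¹ = w⁻¹ := by
  apply eq_inv_of_mul_eq_one_left
  calc v⁻¹ * e * v * e⁻¹ * w = v⁻¹ * e * v * (e⁻¹ * w) := by group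
    _ = v⁻¹ * e * v * (w * e⁻¹) := by rw [hwe]
    _ = v⁻¹ * e * (v * w) * e⁻¹ := by group
    _ = v⁻¹ * e * (w * v) * e⁻¹ := by rw [hwv]
    _ = v⁻¹ * (e * w) * v * e⁻¹ := by group
    _ = v⁻¹ * (v * e * v⁻¹) * v * e⁻¹ := by rw [hw]
    _ = 1 := by group

theorem comm_mul_of_central {u v₁ v₂ w₂ : G} (hw₂ : u⁻¹ * v₂ * u * v₂⁻¹ = w₂)
    (hc : w₂ * v₁⁻¹ = v₁⁻¹ * w₂) :
    u⁻¹ * (v₁ * v₂) * u * (v₁ * v₂)⁻¹ = (u⁻¹ * v₁ * u * v₁⁻¹) * w₂ := by
  calc u⁻¹ * (v₁ * v₂) * u * (v₁ * v₂)⁻¹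
      = u⁻¹ * v₁ * u * ((u⁻¹ * v₂ * u * v₂⁻¹) * v₁⁻¹) := by group
    _ = u⁻¹ * v₁ * u * (w₂ * v₁⁻¹) := by rw [hw₂]
    _ = u⁻¹ * v₁ * u * (v₁⁻¹ * w₂) := by rw [hc]
    _ = (u⁻¹ * v₁ * u * v₁⁻¹) * w₂ := by group

theorem comm_inv_of_central {u v w : G} (hw : u⁻¹ * v * u * v⁻¹ = w) (hc : w⁻¹ * v = v * w⁻¹) :
    u⁻¹ * v⁻¹ * u * v⁻¹⁻¹ = w⁻¹ := by
  calc u⁻¹ * v⁻¹ * u * v⁻¹⁻¹ = v⁻¹ * ((u⁻¹ * v * u * v⁻¹)⁻¹ * v) := by group
    _ = v⁻¹ * (w⁻¹ * v) := by rw [hw]
    _ = v⁻¹ * (v * w⁻¹) := by rw [hc]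
    _ = w⁻¹ := by group

end Generic

section Fusion

variable {Ω : Type*} [Group Ω] {S : Subgroup Ω}

theorem map_center_eq (S : Subgroup Ω) :
    (Subgroup.center ↥S).map S.subtype = centralizerIn S S := by
  ext x
  constructor
  · rintro ⟨y, hy, rfl⟩
    refine Subgroup.mem_inf.mpr ⟨y.2, ?_⟩
    rw [Subgroup.mem_centralizer_iff]
    intro h hh
    have h1 := Subgroup.mem_center_iff.mp hy ⟨h, hh⟩
    exact congrArg Subtype.val h1
  · intro hx
    obtain ⟨hxS, hxc⟩ := Subgroup.mem_inf.mp hx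
    rw [Subgroup.mem_centralizer_iff] at hxc
    exact ⟨⟨x, hxS⟩, Subgroup.mem_center_iff.mpr (fun g => Subtype.ext (hxc g g.2)), rfl⟩

theorem mem_zc_iff {x : Ω} : x ∈ centralizerIn S S ↔ x ∈ S ∧ ∀ g ∈ S, g * x = x * g := by
  unfold centralizerIn
  rw [Subgroup.mem_inf, Subgroup.mem_centralizer_iff]
  rfl

theorem card_le_of_center_index [Finite S] {p : ℕ} (hZ : (Subgroup.center ↥S).index ≤ p ^ 2) :
    Nat.card S ≤ p ^ 2 * Nat.card (centralizerIn S S) := by
  have h1 := Subgroup.card_mul_index (Subgroup.center ↥S)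
  have h2 : Nat.card (Subgroup.center ↥S) = Nat.card (centralizerIn S S) := by
    rw [← Subgroup.card_subtype S (Subgroup.center ↥S), map_center_eq]
  rw [h2] at h1
  calc Nat.card S = Nat.card (centralizerIn S S) * (Subgroup.center ↥S).index := h1.symm
    _ ≤ Nat.card (centralizerIn S S) * p ^ 2 := Nat.mul_le_mul_left _ hZ
    _ = p ^ 2 * Nat.card (centralizerIn S S) := mul_comm _ _

/-- Standing hypotheses: a saturated fusion system over a finite `p`-group whose centre has index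
at most `p²`. -/
structure SCHyp (p : ℕ) (F : FusionSystem S) : Prop where
  pS : IsPGroup p S
  sat : F.IsSaturated p
  card_le : Nat.card S ≤ p ^ 2 * Nat.card (centralizerIn S S)

namespace SCHyp

variable [Finite S] {p : ℕ} [Fact p.Prime] {F : FusionSystem S} {E : Subgroup Ω}

theorem zc_le (_H : SCHyp p F) (hE : F.IsEssential p E) : centralizerIn S S ≤ E := by
  have hES : E ≤ S := hE.1.1
  intro x hx
  obtain ⟨hxS, hxc⟩ := Subgroup.mem_inf.mp hx
  apply hE.1.2 E (Cfsg.Agent.Lib.helper88.isConj_refl F hES)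
  exact Subgroup.mem_inf.mpr ⟨hxS, Subgroup.centralizer_le (SetLike.coe_subset_coe.mpr hES) hxc⟩

theorem zc_ne (H : SCHyp p F) (hE : F.IsEssential p E) : centralizerIn S S ≠ E := by
  intro h
  have hlt := Cfsg.Agent.Lib.helper86.essential_lt H.pS F H.sat hE
  have hES : E ≤ S := hE.1.1
  have hSE : S ≤ E := by
    intro x hx
    apply hE.1.2 E (Cfsg.Agent.Lib.helper88.isConj_refl F hES)
    refine Subgroup.mem_inf.mpr ⟨hx, ?_⟩
    rw [Subgroup.mem_centralizer_iff]
    intro y hy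
    have hyZ : y ∈ centralizerIn S S := h ▸ hy
    exact ((mem_zc_iff.mp hyZ).2 x hx).symm
  exact absurd (le_antisymm hES hSE) (ne_of_lt hlt)

theorem card_ess (H : SCHyp p F) (hE : F.IsEssential p E) :
    Nat.card E = p * Nat.card (centralizerIn S S) ∧ Nat.card S = p * Nat.card E := by
  have hES : E ≤ S := hE.1.1
  have hZE := H.zc_le hE
  have hfinE : Finite E := finite_of_le hES
  have hfinZ : Finite (centralizerIn S S) := finite_of_le inf_le_left
  obtain ⟨m, hm⟩ := Subgroup.card_dvd_of_le hZE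
  obtain ⟨k, hk⟩ := Subgroup.card_dvd_of_le hES
  have hZpos : 0 < Nat.card (centralizerIn S S) := Nat.card_pos
  obtain ⟨n, hn⟩ := IsPGroup.iff_card.mp H.pS
  have hp := (Fact.out : p.Prime)
  have hm1 : m ≠ 1 := by
    rintro rfl
    rw [mul_one] at hm
    exact H.zc_ne hE (eq_of_le_of_card_ge hZE (le_of_eq hm))
  have hk1 : k ≠ 1 := by
    rintro rfl
    rw [mul_one] at hk
    exact (ne_of_lt (Cfsg.Agent.Lib.helper86.essential_lt H.pS F H.sat hE))
      (eq_of_le_of_card_ge hES (le_of_eq hk))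
  have hmS : m ∣ p ^ n := by
    rw [← hn, hk, hm]; exact ⟨Nat.card (centralizerIn S S) * k, by ring⟩
  have hkS : k ∣ p ^ n := by rw [← hn, hk]; exact dvd_mul_left k _
  have key : ∀ j : ℕ, j ≠ 1 → j ∣ p ^ n → p ≤ j := by
    intro j hj1 hjS
    obtain ⟨i, -, rfl⟩ := (Nat.dvd_prime_pow hp).mp hjS
    rcases i with _ | i
    · exact absurd (pow_zero p) hj1
    · rw [pow_succ]; exact Nat.le_mul_of_pos_left _ (pow_pos hp.pos i)
  have hpm := key m hm1 hmS
  have hpk := key k hk1 hkS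
  have hmk : m * k ≤ p * p := by
    have h1 := H.card_le
    rw [hk, hm] at h1
    have h2 : Nat.card (centralizerIn S S) * (m * k) ≤ Nat.card (centralizerIn S S) * (p * p) := by
      calc Nat.card (centralizerIn S S) * (m * k)
          = Nat.card (centralizerIn S S) * m * k := by ring
        _ ≤ p ^ 2 * Nat.card (centralizerIn S S) := h1
        _ = Nat.card (centralizerIn S S) * (p * p) := by ring
    exact Nat.le_of_mul_le_mul_left h2 hZpos
  have hm_eq : m = p := by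
    refine le_antisymm ?_ hpm
    have h3 : m * p ≤ p * p := (Nat.mul_le_mul_left m hpk).trans hmk
    exact Nat.le_of_mul_le_mul_right h3 hp.pos
  have hk_eq : k = p := by
    refine le_antisymm ?_ hpk
    have h3 : p * k ≤ p * p := (Nat.mul_le_mul_right k hpm).trans hmk
    exact Nat.le_of_mul_le_mul_left h3 hp.pos
  constructor
  · rw [hm, hm_eq, mul_comm]
  · rw [hk, hk_eq, mul_comm]

theorem ess_comm (H : SCHyp p F) (hE : F.IsEssential p E) :
    ∀ x ∈ E, ∀ y ∈ E, x * y = y * x := by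
  intro x hx y hy
  have hES : E ≤ S := hE.1.1
  have hZE := H.zc_le hE
  have hfinE : Finite E := finite_of_le hES
  by_cases hxZ : x ∈ centralizerIn S S
  · exact ((mem_zc_iff.mp hxZ).2 y (hES hy)).symm
  · have hM : E ⊓ Subgroup.centralizer ({x} : Set Ω) = E := by
      apply eq_of_card_prime_mul (H := centralizerIn S S) (le_inf hZE ?_) inf_le_left
        (H.card_ess hE).1 ?_
      · intro z hz
        rw [Subgroup.mem_centralizer_iff]
        intro h hh
        rw [Set.mem_singleton_iff] at hh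
        subst hh
        exact (mem_zc_iff.mp hz).2 h (hES hx)
      · intro h
        apply hxZ
        rw [← h]
        refine Subgroup.mem_inf.mpr ⟨hx, Subgroup.mem_centralizer_iff.mpr ?_⟩
        intro h hh
        rw [Set.mem_singleton_iff] at hh
        rw [hh]
    have hy' : y ∈ E ⊓ Subgroup.centralizer ({x} : Set Ω) := by rw [hM]; exact hy
    exact (Subgroup.mem_centralizer_iff.mp (Subgroup.mem_inf.mp hy').2) x rfl

theorem ess_normal (H : SCHyp p F) (hE : F.IsEssential p E) :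
    S ≤ Subgroup.normalizer (E : Set Ω) := by
  have hlt := Cfsg.Agent.Lib.helper86.essential_lt H.pS F H.sat hE
  have h1 := lt_normalizerIn H.pS hlt
  have h2 : normalizerIn S E = S :=
    eq_of_card_prime_mul h1.le inf_le_left (H.card_ess hE).2 (ne_of_gt h1)
  intro x hx
  have h3 : x ∈ normalizerIn S E := by rw [h2]; exact hx
  exact (Subgroup.mem_inf.mp h3).2

theorem fix_iff (H : SCHyp p F) (hE : F.IsEssential p E) {s : Ω} (hsS : s ∈ S) (hsE : s ∉ E)
    (hsN : s ∈ Subgroup.normalizer (E : Set Ω)) (x : E) :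
    Cfsg.Agent.Lib.helper88.conjAut E s hsN x = x ↔ (x : Ω) ∈ centralizerIn S S := by
  have hES : E ≤ S := hE.1.1
  constructor
  · intro h
    have h1 : s * (x : Ω) * s⁻¹ = x := by
      have h0 := congrArg Subtype.val h
      rwa [Cfsg.Agent.Lib.helper88.conjAut_apply] at h0
    have hM : S ⊓ Subgroup.centralizer ({(x : Ω)} : Set Ω) = S := by
      apply eq_of_card_prime_mul (H := E) (le_inf hES ?_) inf_le_left (H.card_ess hE).2 ?_
      · intro y hy
        rw [Subgroup.mem_centralizer_iff]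
        intro h hh
        rw [Set.mem_singleton_iff] at hh
        subst hh
        exact H.ess_comm hE _ x.2 y hy
      · intro h2
        apply hsE
        rw [← h2]
        refine Subgroup.mem_inf.mpr ⟨hsS, Subgroup.mem_centralizer_iff.mpr ?_⟩
        intro h hh
        rw [Set.mem_singleton_iff] at hh
        subst hh
        calc (x : Ω) * s = (s * x * s⁻¹) * s := by rw [h1]
          _ = s * x := by group
    refine mem_zc_iff.mpr ⟨hES x.2, ?_⟩
    intro g hg
    have hg' : g ∈ S ⊓ Subgroup.centralizer ({(x : Ω)} : Set Ω) := by rw [hM]; exact hg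
    exact ((Subgroup.mem_centralizer_iff.mp (Subgroup.mem_inf.mp hg').2) x rfl).symm
  · intro hx
    apply Subtype.ext
    rw [Cfsg.Agent.Lib.helper88.conjAut_apply]
    have h1 := (mem_zc_iff.mp hx).2 s hsS
    rw [h1]; group

theorem comm_mem_zc (H : SCHyp p F) (hE : F.IsEssential p E) :
    ∀ u ∈ S, ∀ v ∈ S, u⁻¹ * v * u * v⁻¹ ∈ centralizerIn S S := by
  have hc := H.card_ess hE
  have hfinZ : Finite (centralizerIn S S) := finite_of_le inf_le_left
  have hq : Nat.card (↥S ⧸ Subgroup.center ↥S) = p ^ 2 := by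
    rw [← Subgroup.index_eq_card]
    have h1 := Subgroup.card_mul_index (Subgroup.center ↥S)
    have h2 : Nat.card (Subgroup.center ↥S) = Nat.card (centralizerIn S S) := by
      rw [← Subgroup.card_subtype S (Subgroup.center ↥S), map_center_eq]
    rw [h2, hc.2, hc.1] at h1
    have hZpos : 0 < Nat.card (centralizerIn S S) := Nat.card_pos
    apply Nat.eq_of_mul_eq_mul_left hZpos
    rw [h1]; ring
  have hcomm := IsPGroup.commutative_of_card_eq_prime_sq hq
  have hcomm' : ∀ a b : ↥S ⧸ Subgroup.center ↥S, a⁻¹ * b * a * b⁻¹ = 1 := by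
    intro a b
    rw [hcomm a⁻¹ b]; group
  intro u hu v hv
  have h3 : (((⟨u, hu⟩ : S)⁻¹ * ⟨v, hv⟩ * ⟨u, hu⟩ * (⟨v, hv⟩ : S)⁻¹ : S) :
      ↥S ⧸ Subgroup.center ↥S) = 1 := by
    rw [QuotientGroup.mk_mul, QuotientGroup.mk_mul, QuotientGroup.mk_mul, QuotientGroup.mk_inv,
      QuotientGroup.mk_inv]
    exact hcomm' _ _
  have h4 := (QuotientGroup.eq_one_iff _).mp h3
  have h5 : (((⟨u, hu⟩ : S)⁻¹ * ⟨v, hv⟩ * ⟨u, hu⟩ * (⟨v, hv⟩ : S)⁻¹ : S) : Ω)
      ∈ (Subgroup.center ↥S).map S.subtype := ⟨_, h4, rfl⟩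
  rw [map_center_eq] at h5
  exact h5

/-- `Aut_S(E) = ⟨c_s⟩` for `s ∈ S ∖ E`. -/
theorem autS_mem_zpowers (H : SCHyp p F) (hE : F.IsEssential p E) {s : Ω} (hsS : s ∈ S)
    (hsE : s ∉ E) (hsN : s ∈ Subgroup.normalizer (E : Set Ω)) :
    ∀ g ∈ S, ∃ τ ∈ zpowers (Cfsg.Agent.Lib.helper88.conjAut E s hsN),
      ∀ x : E, ((τ x : E) : Ω) = g * x * g⁻¹ := by
  have hES : E ≤ S := hE.1.1
  let M : Subgroup Ω :=
    { carrier := {g | g ∈ S ∧ ∃ τ ∈ zpowers (Cfsg.Agent.Lib.helper88.conjAut E s hsN),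
        ∀ x : E, ((τ x : E) : Ω) = g * x * g⁻¹}
      one_mem' := ⟨S.one_mem, 1, one_mem _, fun x => by simp⟩
      mul_mem' := by
        rintro g₁ g₂ ⟨h1, τ₁, hτ₁, e1⟩ ⟨h2, τ₂, hτ₂, e2⟩
        exact ⟨S.mul_mem h1 h2, τ₁ * τ₂, mul_mem hτ₁ hτ₂, fun x => by
          rw [MulAut.mul_apply, e1, e2]; group⟩
      inv_mem' := by
        rintro g ⟨h1, τ, hτ, e⟩
        refine ⟨S.inv_mem h1, τ⁻¹, inv_mem hτ, fun x => ?_⟩
        have h2 := e (τ⁻¹ x)
        have h3 : τ (τ⁻¹ x) = x := by simp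
        rw [h3] at h2
        rw [h2]; group }
  have hEM : E ≤ M := by
    intro e he
    refine ⟨hES he, 1, one_mem _, fun x => ?_⟩
    have h1 := H.ess_comm hE e he x x.2
    rw [h1]; simp
  have hsM : s ∈ M := ⟨hsS, _, mem_zpowers _, fun x => Cfsg.Agent.Lib.helper88.conjAut_apply E s hsN x⟩
  have hMS : M ≤ S := fun g hg => hg.1
  have hMeq : M = S := eq_of_card_prime_mul hEM hMS (H.card_ess hE).2 (fun h => hsE (h ▸ hsM))
  intro g hg
  have hgM : g ∈ M := by rw [hMeq]; exact hg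
  exact hgM.2


/-- The transvection data of an essential subgroup. -/
theorem exists_transvData (H : SCHyp p F) (hE : F.IsEssential p E) {s : Ω} (hsS : s ∈ S)
    (hsE : s ∉ E) (hsN : s ∈ Subgroup.normalizer (E : Set Ω)) :
    ∃ d₀ : E, TransvData p (F.autGroup E) (Cfsg.Agent.Lib.helper88.conjAut E s hsN) d₀ := by
  have hES : E ≤ S := hE.1.1
  have hZE := H.zc_le hE
  have hfinE : Finite E := finite_of_le hES
  have hfinZ : Finite (centralizerIn S S) := finite_of_le inf_le_left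
  have hcE : ∀ x y : E, x * y = y * x := fun x y => Subtype.ext (H.ess_comm hE x x.2 y y.2)
  obtain ⟨x₀', hx₀E, hx₀Z⟩ := SetLike.exists_of_lt (lt_of_le_of_ne hZE (H.zc_ne hE))
  obtain ⟨t, ht⟩ : ∃ t, t = Cfsg.Agent.Lib.helper88.conjAut E s hsN := ⟨_, rfl⟩
  have htapp : ∀ x : E, ((t x : E) : Ω) = s * x * s⁻¹ := fun x => by
    rw [ht]; exact Cfsg.Agent.Lib.helper88.conjAut_apply E s hsN x
  have hfix : ∀ x : E, t x = x ↔ (x : Ω) ∈ centralizerIn S S := fun x => by
    rw [ht]; exact H.fix_iff hE hsS hsE hsN x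
  rw [← ht]
  have hcmZ : ∀ x : E, ((cm t x : E) : Ω) ∈ centralizerIn S S := by
    intro x
    have h1 : ((cm t x : E) : Ω) = (x : Ω)⁻¹ * s * x * s⁻¹ := by
      unfold cm
      rw [Subgroup.coe_mul, Subgroup.coe_inv, htapp]; group
    rw [h1]
    exact H.comm_mem_zc hE x (hES x.2) s hsS
  have hfixcm : ∀ x : E, t (cm t x) = cm t x := fun x => (hfix _).mpr (hcmZ x)
  have hd₀ne : cm t ⟨x₀', hx₀E⟩ ≠ 1 := by
    intro h1
    exact hx₀Z ((hfix ⟨x₀', hx₀E⟩).mp (cm_eq_one_iff.mp h1))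
  have hker : (cmHom' hcE t).ker = (centralizerIn S S).subgroupOf E := by
    ext x
    rw [mem_ker_cmHom', hfix, mem_subgroupOf]
  have hcard_range : Nat.card (cmHom' hcE t).range = p := by
    rw [← Subgroup.index_ker, hker]
    have h2 : Nat.card ((centralizerIn S S).subgroupOf E) = Nat.card (centralizerIn S S) := by
      rw [← Subgroup.card_subtype E _, Subgroup.map_subgroupOf_eq_of_le hZE]
    have h1 := Subgroup.card_mul_index ((centralizerIn S S).subgroupOf E)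
    rw [h2, (H.card_ess hE).1, mul_comm p] at h1
    exact Nat.eq_of_mul_eq_mul_left Nat.card_pos h1
  have hd₀range : cm t ⟨x₀', hx₀E⟩ ∈ (cmHom' hcE t).range := ⟨⟨x₀', hx₀E⟩, rfl⟩
  have hd₀pow : (cm t ⟨x₀', hx₀E⟩) ^ p = 1 := by
    have h1 : (⟨cm t ⟨x₀', hx₀E⟩, hd₀range⟩ : (cmHom' hcE t).range) ^ p = 1 := by
      rw [← hcard_range]; exact pow_card_eq_one'
    exact congrArg Subtype.val h1
  have hzp : zpowers (cm t ⟨x₀', hx₀E⟩) = (cmHom' hcE t).range := by
    refine eq_of_le_of_card_ge (zpowers_le.mpr hd₀range) ?_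
    rw [hcard_range, Nat.card_zpowers, orderOf_eq_prime hd₀pow hd₀ne]
  have htcm : ∀ x, cm t x ∈ zpowers (cm t ⟨x₀', hx₀E⟩) := fun x => by
    rw [hzp]; exact ⟨x, rfl⟩
  have htd₀ : t (cm t ⟨x₀', hx₀E⟩) = cm t ⟨x₀', hx₀E⟩ := hfixcm _
  have hle : autInducedBy S E ≤ zpowers t := by
    intro α hα
    obtain ⟨g, hg, hαg⟩ := (mem_autInducedBy_iff S E α).mp hα
    obtain ⟨τ, hτ, hτg⟩ := H.autS_mem_zpowers hE hsS hsE hsN g hg
    have h1 : α = τ := MulEquiv.ext (fun x => Subtype.ext ((hαg x).trans (hτg x).symm))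
    rw [h1, ht]; exact hτ
  have htp : t ^ p = 1 := pow_eq_one_of_cm t _ p hd₀pow htd₀ htcm
  have hsyl : ∀ Q : Subgroup (MulAut E), Q ≤ F.autGroup E → IsPGroup p Q → Nat.card Q ≤ p := by
    intro Q hQA hQp
    have hfa := (Cfsg.Agent.Lib.helper88.fullyAutomized_receptive_of_fullyNormalized H.pS F H.sat
      hE.2.1).1
    have hle2 : autInducedBy S E ≤ F.autGroup E := autInducedBy_le_autGroup F hES
    have h1 := (Cfsg.Agent.Lib.helper87.sylowIn_iff hle2).mp hfa.2
    have h2 := h1.2 Q hQA hQp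
    have h3 : Nat.card (autInducedBy S E) ≤ Nat.card (zpowers t) :=
      Nat.card_le_card_of_injective (inclusion hle) (inclusion_injective hle)
    have h4 : Nat.card (zpowers t) ≤ p := by
      rw [Nat.card_zpowers]; exact orderOf_le_of_pow_eq_one (Fact.out : p.Prime).pos htp
    exact h2.trans (h3.trans h4)
  refine ⟨cm t ⟨x₀', hx₀E⟩, ⟨hcE, H.pS.to_le hES, ?_, hd₀ne, hd₀pow, htd₀, htcm, ⟨_, rfl⟩, hsyl⟩⟩
  rw [ht]
  exact autInducedBy_le_autGroup F hES (Cfsg.Agent.Lib.helper88.conjAut_mem S E s hsN hsS)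

/-- `Aut_S(E)` is not normal in `Aut_F(E)`. -/
theorem exists_not_normal (H : SCHyp p F) (hE : F.IsEssential p E) {t : MulAut E} {d₀ : E}
    (hT : TransvData p (F.autGroup E) t d₀) :
    ∃ a ∈ F.autGroup E, a * t * a⁻¹ ∉ zpowers t := by
  by_contra hcon
  push Not at hcon
  have hES : E ≤ S := hE.1.1
  have hfinE : Finite E := finite_of_le hES
  have hrad := Cfsg.Agent.S5080.result p H.pS F H.sat E hE
  have hD : zpowers t ≤ Inn E := by
    refine Cfsg.Agent.Lib.helper86.le_inn_of_radical F hrad (zpowers t) (zpowers_le.mpr hT.tA) ?_ ?_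
    · intro a ha d hd
      obtain ⟨i, rfl⟩ := mem_zpowers_iff.mp hd
      rw [← conj_zpow]
      exact zpow_mem (hcon a ha) i
    · have h1 : Nat.card (zpowers t) = p := by simpa using hT.card_zpowers_conj 1
      exact IsPGroup.of_card (n := 1) (by rw [h1, pow_one])
  obtain ⟨e, he⟩ := hD (mem_zpowers t)
  have h1 : t = 1 := by
    rw [← he]
    ext x
    have h2 : (MulAut.conj e) x = e * x * e⁻¹ := rfl
    rw [h2, hT.comm e x, mul_inv_cancel_right]
    rfl
  have h3 := hT.conj_ne_one 1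
  simp only [one_mul, inv_one, mul_one] at h3
  exact h3 h1

/-- All commutators of `S` lie in `⟨d₀⟩`. -/
theorem comm_mem_zpowers (H : SCHyp p F) (hE : F.IsEssential p E) {s : Ω} (hsS : s ∈ S)
    (hsE : s ∉ E) (hsN : s ∈ Subgroup.normalizer (E : Set Ω)) {d₀ : E}
    (hT : TransvData p (F.autGroup E) (Cfsg.Agent.Lib.helper88.conjAut E s hsN) d₀) :
    ∀ u ∈ S, ∀ v ∈ S, u⁻¹ * v * u * v⁻¹ ∈ zpowers (d₀ : Ω) := by
  have hES : E ≤ S := hE.1.1
  have hfinE : Finite E := finite_of_le hES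
  have bridge : ∀ y : E, y ∈ zpowers d₀ → (y : Ω) ∈ zpowers (d₀ : Ω) := by
    intro y hy
    obtain ⟨k, rfl⟩ := mem_zpowers_iff.mp hy
    rw [Subgroup.coe_zpow]
    exact zpow_mem_zpowers _ _
  -- (ii)
  have h2 : ∀ e ∈ E, ∀ v ∈ S, e⁻¹ * v * e * v⁻¹ ∈ zpowers (d₀ : Ω) := by
    intro e he v hv
    obtain ⟨τ, hτ, hτv⟩ := H.autS_mem_zpowers hE hsS hsE hsN v hv
    obtain ⟨n, rfl⟩ := TransvData.exists_pow_eq_of_mem_zpowers hτ
    have h3 := hT.conj_pow_apply 1 ⟨e, he⟩ n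
    simp only [one_mul, inv_one, mul_one] at h3
    have h4 : e⁻¹ * v * e * v⁻¹ = ((cm (Cfsg.Agent.Lib.helper88.conjAut E s hsN) ⟨e, he⟩ ^ n : E) : Ω) := by
      have h5 := congrArg Subtype.val h3
      rw [hτv] at h5
      have h6 : e⁻¹ * v * e * v⁻¹ = e⁻¹ * (v * e * v⁻¹) := by group
      rw [h6, h5, Subgroup.coe_mul]
      group
    rw [h4]
    exact bridge _ (pow_mem (hT.t_cm _) n)
  -- (iii)
  have h3 : ∀ e ∈ E, ∀ v ∈ S, v⁻¹ * e * v * e⁻¹ ∈ zpowers (d₀ : Ω) := by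
    intro e he v hv
    have hw := H.comm_mem_zc hE e (hES he) v hv
    have hwc := (mem_zc_iff.mp hw).2
    have h4 : v⁻¹ * e * v * e⁻¹ = (e⁻¹ * v * e * v⁻¹)⁻¹ :=
      comm_swap_of_central (by group) (hwc e⁻¹ (S.inv_mem (hES he))) (hwc v hv)
    rw [h4]
    exact inv_mem (h2 e he v hv)
  intro u hu v hv
  by_cases huE : u ∈ E
  · exact h2 u huE v hv
  · let M : Subgroup Ω :=
      { carrier := {v | v ∈ S ∧ u⁻¹ * v * u * v⁻¹ ∈ zpowers (d₀ : Ω)}
        one_mem' := ⟨S.one_mem, by simp [one_mem]⟩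
        mul_mem' := by
          rintro v₁ v₂ ⟨h11, h12⟩ ⟨h21, h22⟩
          refine ⟨S.mul_mem h11 h21, ?_⟩
          have hw := H.comm_mem_zc hE u hu v₂ h21
          have hwc := (mem_zc_iff.mp hw).2 v₁⁻¹ (S.inv_mem h11)
          rw [comm_mul_of_central rfl hwc.symm]
          exact mul_mem h12 h22
        inv_mem' := by
          rintro v ⟨h11, h12⟩
          refine ⟨S.inv_mem h11, ?_⟩
          have hw := H.comm_mem_zc hE u hu v h11
          have hw' : (u⁻¹ * v * u * v⁻¹)⁻¹ ∈ centralizerIn S S := inv_mem hw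
          have hwc := (mem_zc_iff.mp hw').2 v h11
          rw [comm_inv_of_central rfl hwc.symm]
          exact inv_mem h12 }
    have hEM : E ≤ M := fun e he => ⟨hES he, h3 e he u hu⟩
    have huM : u ∈ M := ⟨hu, by simp [one_mem]⟩
    have hMS : M ≤ S := fun g hg => hg.1
    have hMeq : M = S := eq_of_card_prime_mul hEM hMS (H.card_ess hE).2 (fun h => huE (h ▸ huM))
    have hvM : v ∈ M := by rw [hMeq]; exact hv
    exact hvM.2

end SCHyp

/-- The subgroup generated by the commutators of `S`. -/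
def commSub (S : Subgroup Ω) : Subgroup Ω :=
  closure {y | ∃ u ∈ S, ∃ v ∈ S, y = u⁻¹ * v * u * v⁻¹}

theorem comm_mem_commSub {u v : Ω} (hu : u ∈ S) (hv : v ∈ S) : u⁻¹ * v * u * v⁻¹ ∈ commSub S :=
  subset_closure ⟨u, hu, v, hv, rfl⟩

theorem commSub_le (S : Subgroup Ω) : commSub S ≤ S := by
  unfold commSub
  rw [closure_le]
  rintro _ ⟨u, hu, v, hv, rfl⟩
  exact S.mul_mem (S.mul_mem (S.mul_mem (S.inv_mem hu) hv) hu) (S.inv_mem hv)

/-- The commutator subgroup is invariant under automorphisms. -/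
theorem commSub_invariant (γ : MulAut S) (x : S) (hx : (x : Ω) ∈ commSub S) :
    ((γ x : S) : Ω) ∈ commSub S := by
  have hle : commSub S ≤ (((commSub S).subgroupOf S).comap γ.toMonoidHom).map S.subtype := by
    unfold commSub
    rw [closure_le]
    rintro _ ⟨u, hu, v, hv, rfl⟩
    refine ⟨(⟨u, hu⟩ : S)⁻¹ * ⟨v, hv⟩ * ⟨u, hu⟩ * (⟨v, hv⟩ : S)⁻¹, ?_, rfl⟩
    show γ ((⟨u, hu⟩ : S)⁻¹ * ⟨v, hv⟩ * ⟨u, hu⟩ * (⟨v, hv⟩ : S)⁻¹) ∈ (Subgroup.closure _).subgroupOf S
    rw [map_mul, map_mul, map_mul, map_inv, map_inv, mem_subgroupOf]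
    exact subset_closure ⟨_, (γ ⟨u, hu⟩).2, _, (γ ⟨v, hv⟩).2, rfl⟩
  obtain ⟨y, hy, hyx⟩ := hle hx
  have hyx' : y = x := Subtype.ext hyx
  rw [← hyx']
  exact hy

namespace SCHyp

variable [Finite S] {p : ℕ} [Fact p.Prime] {F : FusionSystem S} {E : Subgroup Ω}

theorem commSub_eq (H : SCHyp p F) (hE : F.IsEssential p E) {s : Ω} (hsS : s ∈ S)
    (hsE : s ∉ E) (hsN : s ∈ Subgroup.normalizer (E : Set Ω)) {d₀ : E}
    (hT : TransvData p (F.autGroup E) (Cfsg.Agent.Lib.helper88.conjAut E s hsN) d₀) :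
    commSub S = zpowers (d₀ : Ω) := by
  have hES : E ≤ S := hE.1.1
  apply le_antisymm
  · unfold commSub
    rw [closure_le]
    rintro _ ⟨u, hu, v, hv, rfl⟩
    exact H.comm_mem_zpowers hE hsS hsE hsN hT u hu v hv
  · rw [zpowers_le]
    obtain ⟨y, hy⟩ := hT.ex_cm
    have h1 : (d₀ : Ω) = (y : Ω)⁻¹ * s * y * s⁻¹ := by
      rw [← hy]
      unfold cm
      rw [Subgroup.coe_mul, Subgroup.coe_inv, Cfsg.Agent.Lib.helper88.conjAut_apply]; group
    rw [h1]
    exact comm_mem_commSub (hES y.2) hsS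

theorem mem_zpowers_iff_commSub (H : SCHyp p F) (hE : F.IsEssential p E) {s : Ω} (hsS : s ∈ S)
    (hsE : s ∉ E) (hsN : s ∈ Subgroup.normalizer (E : Set Ω)) {d₀ : E}
    (hT : TransvData p (F.autGroup E) (Cfsg.Agent.Lib.helper88.conjAut E s hsN) d₀) (x : E) :
    x ∈ zpowers d₀ ↔ (x : Ω) ∈ commSub S := by
  rw [H.commSub_eq hE hsS hsE hsN hT]
  constructor
  · intro hx
    obtain ⟨k, rfl⟩ := mem_zpowers_iff.mp hx
    rw [Subgroup.coe_zpow]
    exact zpow_mem_zpowers _ _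
  · intro hx
    obtain ⟨k, hk⟩ := mem_zpowers_iff.mp hx
    have h1 : x = d₀ ^ k := Subtype.ext (by rw [Subgroup.coe_zpow]; exact hk.symm)
    rw [h1]
    exact zpow_mem_zpowers _ _

end SCHyp

end Fusion

end Cfsg.Agent.Lib.helper89
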