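import Cfsg.Agent.Lib.helper89.SmallCenterA

/-!
# Small centre, part B: lifting to `Aut_F(S)` and the odd case

* `exists_coprime_pow_inner`: a power of every `F`-automorphism of `S`, prime to `p`, is inner;
* `exists_extension_of_normalizes`: elements of `N_{Aut_F(E)}(Aut_S(E))` extend to `S`;
* `exists_core`: the structure `Z(S) = [S,S] × C` attached to an essential subgroup;
* `zc_le_commSub_of_odd`: for `p` odd and `O_p(F) = 1`, `Z(S) = [S,S]`.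
-/

set_option autoImplicit false
set_option linter.unusedSectionVars false

namespace Cfsg.Agent.Lib.helper89

open Cfsg Cfsg.FusionSystem Subgroup

/-- Two "torus" automorphisms acting the same way on a central subgroup `D` of exponent `p` have
the same complementary fixed subgroup, provided their quotient has order prime to `p` on it. -/
theorem torus_unique {G : Type*} [Group G] {p k m : ℕ} (η₁ η₂ : MulAut G) (D C₁ C₂ : Subgroup G)
    (hC₁Z : ∀ c ∈ C₁, ∀ g : G, g * c = c * g)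
    (hDp : ∀ d ∈ D, d ^ p = 1)
    (hDinv : ∀ d ∈ D, η₁⁻¹ d ∈ D)
    (hη₁D : ∀ d ∈ D, η₁ d = d ^ k) (hη₂D : ∀ d ∈ D, η₂ d = d ^ k)
    (hη₁C : ∀ c ∈ C₁, η₁ c = c) (hη₂C : ∀ c ∈ C₂, η₂ c = c)
    (hdec₁ : ∀ c ∈ C₂, ∃ d ∈ D, ∃ c' ∈ C₁, c = d * c')
    (hdec₂ : ∀ c ∈ C₁, ∃ d ∈ D, ∃ c' ∈ C₂, c = d * c')
    (hk : ∀ d ∈ D, d ^ k = d → d = 1)
    (hm : m.Coprime p) (hinn : ∀ c ∈ C₁, ((η₁⁻¹ * η₂) ^ m) c = c) : C₁ ≤ C₂ := by
  intro c hc
  obtain ⟨d₂, hd₂, c₂, hc₂, hcd⟩ := hdec₂ c hc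
  obtain ⟨d₁, hd₁, c₁, hc₁, hcd₁⟩ := hdec₁ c₂ hc₂
  have hη₁inv_d₂ : η₁⁻¹ (d₂ ^ k) = d₂ := by rw [← hη₁D d₂ hd₂]; simp
  have hη₁inv_c₁ : η₁⁻¹ c₁ = c₁ := by
    conv_lhs => rw [← hη₁C c₁ hc₁]
    simp
  have hρc : (η₁⁻¹ * η₂) c = d₂ * (η₁⁻¹ d₁ * c₁) := by
    rw [MulAut.mul_apply, hcd, map_mul, hη₂D d₂ hd₂, hη₂C c₂ hc₂, map_mul, hη₁inv_d₂, hcd₁,
      map_mul, hη₁inv_c₁]
  have hcm : cm (η₁⁻¹ * η₂) c = d₁⁻¹ * η₁⁻¹ d₁ := by
    unfold cm
    rw [hρc, hcd, hcd₁]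
    calc (d₂ * (d₁ * c₁))⁻¹ * (d₂ * (η₁⁻¹ d₁ * c₁))
        = c₁⁻¹ * ((d₁⁻¹ * η₁⁻¹ d₁) * c₁) := by group
      _ = c₁⁻¹ * (c₁ * (d₁⁻¹ * η₁⁻¹ d₁)) := by rw [hC₁Z c₁ hc₁ (d₁⁻¹ * η₁⁻¹ d₁)]
      _ = d₁⁻¹ * η₁⁻¹ d₁ := by group
  have hcmD : cm (η₁⁻¹ * η₂) c ∈ D := by
    rw [hcm]; exact D.mul_mem (D.inv_mem hd₁) (hDinv d₁ hd₁)
  have hρD : ∀ d ∈ D, (η₁⁻¹ * η₂) d = d := by
    intro d hd
    rw [MulAut.mul_apply, hη₂D d hd, ← hη₁D d hd]; simp
  have hpow := pow_apply_of_fixed (η₁⁻¹ * η₂) c (hρD _ hcmD) p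
  rw [hDp _ hcmD, mul_one] at hpow
  have hρc' : (η₁⁻¹ * η₂) c = c := by
    have h1 : (η₁⁻¹ * η₂) ^ p ∈ MulAction.stabilizer (MulAut G) c := by
      rw [MulAction.mem_stabilizer_iff, MulAut.smul_def]; exact hpow
    have h2 : (η₁⁻¹ * η₂) ^ m ∈ MulAction.stabilizer (MulAut G) c := by
      rw [MulAction.mem_stabilizer_iff, MulAut.smul_def]; exact hinn c hc
    have hcop : IsCoprime (m : ℤ) (p : ℤ) := Nat.isCoprime_iff_coprime.mpr hm
    obtain ⟨a, b, hab⟩ := hcop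
    have hab' : (m : ℤ) * a + (p : ℤ) * b = 1 := by linarith
    have h3 : (η₁⁻¹ * η₂) = ((η₁⁻¹ * η₂) ^ m) ^ a * ((η₁⁻¹ * η₂) ^ p) ^ b := by
      rw [← zpow_natCast, ← zpow_natCast, ← zpow_mul, ← zpow_mul, ← zpow_add, hab', zpow_one]
    have h4 : (η₁⁻¹ * η₂) ∈ MulAction.stabilizer (MulAut G) c := by
      rw [h3]; exact mul_mem (zpow_mem h2 a) (zpow_mem h1 b)
    rw [MulAction.mem_stabilizer_iff, MulAut.smul_def] at h4
    exact h4
  have hη₂c : η₂ c = c := by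
    have h7 : η₂ = η₁ * (η₁⁻¹ * η₂) := by group
    rw [h7, MulAut.mul_apply, hρc', hη₁C c hc]
  have h5 : d₂ ^ k = d₂ := by
    rw [hcd, map_mul, hη₂D d₂ hd₂, hη₂C c₂ hc₂] at hη₂c
    exact mul_right_cancel hη₂c
  have h6 := hk d₂ hd₂ h5
  rw [hcd, h6, one_mul]
  exact hc₂

section Fusion

variable {Ω : Type*} [Group Ω] {S : Subgroup Ω}

theorem isFullyNormalized_self (F : FusionSystem S) [Finite S] : F.IsFullyNormalized S := by
  refine ⟨le_rfl, fun Q _ => ?_⟩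
  have h1 : normalizerIn S Q ≤ normalizerIn S S := by
    intro x hx
    exact Subgroup.mem_inf.mpr ⟨(Subgroup.mem_inf.mp hx).1,
      Subgroup.le_normalizer (Subgroup.mem_inf.mp hx).1⟩
  have hfin : Finite ↥(normalizerIn S S) := finite_of_le inf_le_left
  exact Nat.card_le_card_of_injective (inclusion h1) (inclusion_injective h1)

/-- The restriction of an `F`-automorphism of `S` to an invariant subgroup. -/
theorem exists_restriction (F : FusionSystem S) [Finite S] {E : Subgroup Ω} (hES : E ≤ S)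
    {γ : MulAut S} (hγ : γ ∈ F.autGroup S) (hinv : ∀ x : E, ((γ ⟨x, hES x.2⟩ : S) : Ω) ∈ E) :
    ∃ n ∈ F.autGroup E, ∀ x : E, ((n x : E) : Ω) = γ ⟨x, hES x.2⟩ := by
  have h1 : S.subtype.comp γ.toMonoidHom ∈ F.Hom S := (mem_autGroup_iff F le_rfl γ).mp hγ
  have h2 := Cfsg.Agent.Lib.helper88.restrict_mem F hES h1
  obtain ⟨n, hn⟩ := exists_aut_of_mem F h2 (fun x => hinv x)
  refine ⟨n, ?_, fun x => hn x⟩
  rw [mem_autGroup_iff F hES]
  have h3 : E.subtype.comp n.toMonoidHom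
      = (S.subtype.comp γ.toMonoidHom).comp (Subgroup.inclusion hES) := by
    ext x
    exact hn x
  rw [h3]
  exact h2

namespace SCHyp

variable [Finite S] {p : ℕ} [Fact p.Prime] {F : FusionSystem S} {E : Subgroup Ω}

/-- Some power, prime to `p`, of every `F`-automorphism of `S` is inner. -/
theorem exists_coprime_pow_inner (H : SCHyp p F) :
    ∃ m : ℕ, m.Coprime p ∧ ∀ γ ∈ F.autGroup S, ∃ g ∈ S,
      ∀ x : S, (((γ ^ m) x : S) : Ω) = g * x * g⁻¹ := by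
  have hfa := (Cfsg.Agent.Lib.helper88.fullyAutomized_receptive_of_fullyNormalized H.pS F H.sat
    (isFullyNormalized_self F)).1
  obtain ⟨-, R, hR⟩ := hfa
  have hN : (R : Subgroup (F.autGroup S)).Normal := by
    rw [hR]
    constructor
    intro n hn g
    rw [mem_subgroupOf] at hn ⊢
    obtain ⟨h, hh, hnh⟩ := (mem_autInducedBy_iff S S _).mp hn
    refine (mem_autInducedBy_iff S S _).mpr
      ⟨((g : MulAut S) ⟨h, hh⟩ : S), ((g : MulAut S) ⟨h, hh⟩).2, fun x => ?_⟩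
    have h1 : ((g * n * g⁻¹ : F.autGroup S) : MulAut S) x
        = (g : MulAut S) ((n : MulAut S) ((g : MulAut S)⁻¹ x)) := rfl
    have h2 : (n : MulAut S) ((g : MulAut S)⁻¹ x)
        = ⟨h, hh⟩ * ((g : MulAut S)⁻¹ x) * (⟨h, hh⟩ : S)⁻¹ := Subtype.ext (hnh _)
    rw [h1, h2, map_mul, map_mul, map_inv]
    simp
  have hfin : Finite (F.autGroup S) := inferInstance
  refine ⟨(R : Subgroup (F.autGroup S)).index, ?_, ?_⟩
  · have h1 := Sylow.not_dvd_index R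
    exact ((Nat.Prime.coprime_iff_not_dvd Fact.out).mpr h1).symm
  · intro γ hγ
    have h1 := Subgroup.pow_index_mem (R : Subgroup (F.autGroup S)) (⟨γ, hγ⟩ : F.autGroup S)
    have h2 : ((⟨γ, hγ⟩ : F.autGroup S) ^ (R : Subgroup (F.autGroup S)).index)
        ∈ (autInducedBy S S).subgroupOf (F.autGroup S) := by rw [← hR]; exact h1
    rw [mem_subgroupOf] at h2
    obtain ⟨g, hg, hgx⟩ := (mem_autInducedBy_iff S S _).mp h2
    exact ⟨g, hg, fun x => hgx x⟩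

/-- Elements of `Aut_F(E)` normalizing `Aut_S(E)` extend to `F`-automorphisms of `S`. -/
theorem exists_extension_of_normalizes (H : SCHyp p F) (hE : F.IsEssential p E) {s : Ω}
    (hsS : s ∈ S) (hsE : s ∉ E) (hsN : s ∈ Subgroup.normalizer (E : Set Ω)) {n : MulAut E}
    (hn : n ∈ F.autGroup E)
    (hnorm : n * Cfsg.Agent.Lib.helper88.conjAut E s hsN * n⁻¹
      ∈ zpowers (Cfsg.Agent.Lib.helper88.conjAut E s hsN)) :
    ∃ γ ∈ F.autGroup S, ∀ (x : Ω) (hx : x ∈ E) (hxS : x ∈ S),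
      ((γ ⟨x, hxS⟩ : S) : Ω) = n ⟨x, hx⟩ := by
  have hES : E ≤ S := hE.1.1
  have hφ : E.subtype.comp n.toMonoidHom ∈ F.Hom E := (mem_autGroup_iff F hES n).mp hn
  have hφR : (E.subtype.comp n.toMonoidHom).range = E := by
    ext y
    constructor
    · rintro ⟨x, rfl⟩
      exact (n x).2
    · intro hy
      exact ⟨n⁻¹ ⟨y, hy⟩, by simp⟩
  have hrec := (Cfsg.Agent.Lib.helper88.fullyAutomized_receptive_of_fullyNormalized H.pS F H.sat
    hE.2.1).2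
  have hzle : zpowers (Cfsg.Agent.Lib.helper88.conjAut E s hsN) ≤ autInducedBy S E :=
    zpowers_le.mpr (Cfsg.Agent.Lib.helper88.conjAut_mem S E s hsN hsS)
  have hN : ∀ g ∈ S, g ∈ S ∧ g ∈ Subgroup.normalizer (E : Set Ω) ∧ ∃ h ∈ S,
      ∀ (x : E) (hx : g * (x : Ω) * g⁻¹ ∈ E),
        (E.subtype.comp n.toMonoidHom) ⟨g * x * g⁻¹, hx⟩
          = h * (E.subtype.comp n.toMonoidHom) x * h⁻¹ := by
    intro g hg
    refine ⟨hg, H.ess_normal hE hg, ?_⟩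
    obtain ⟨τ, hτ, hτg⟩ := H.autS_mem_zpowers hE hsS hsE hsN g hg
    have h1 : n * τ * n⁻¹ ∈ zpowers (Cfsg.Agent.Lib.helper88.conjAut E s hsN) := by
      obtain ⟨i, rfl⟩ := mem_zpowers_iff.mp hτ
      rw [← conj_zpow]
      exact zpow_mem hnorm i
    obtain ⟨h, hh, hτ'⟩ := (mem_autInducedBy_iff S E _).mp (hzle h1)
    refine ⟨h, hh, fun x hx => ?_⟩
    have h2 : (⟨g * x * g⁻¹, hx⟩ : E) = τ x := Subtype.ext (hτg x).symm
    have h3 := hτ' (n x)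
    have h4 : (n * τ * n⁻¹) (n x) = n (τ x) := by simp
    rw [h4] at h3
    show ((n ⟨g * x * g⁻¹, hx⟩ : E) : Ω) = h * ((n x : E) : Ω) * h⁻¹
    rw [h2, h3]
  obtain ⟨ψ, hψ, hψext⟩ := exists_extension F hrec hφ hφR S hN
  obtain ⟨α, hα⟩ := exists_aut_of_mem F hψ (fun x => (F.le_of_mem hψ).2 x)
  refine ⟨α, ?_, fun x hx hxS => ?_⟩
  · rw [mem_autGroup_iff F le_rfl]
    have h5 : S.subtype.comp α.toMonoidHom = ψ := by
      ext x
      exact hα x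
    rw [h5]
    exact hψ
  · rw [hα, hψext x hx hxS]
    rfl

end SCHyp

end Fusion

end Cfsg.Agent.Lib.helper89
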