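import Cfsg.Agent.Lib.helper89.SmallCenterB

/-!
# Small centre, part C: the facts attached to an essential subgroup

For an essential subgroup `E` of a saturated fusion system over a `p`-group `S` with
`|S : Z(S)| ≤ p²` we collect, at the level of the ambient group, everything that the later global
arguments need (`EssFacts`).
-/

set_option autoImplicit false
set_option linter.unusedSectionVars false

namespace Cfsg.Agent.Lib.helper89

open Cfsg Cfsg.FusionSystem Subgroup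

section Fusion

variable {Ω : Type*} [Group Ω] {S : Subgroup Ω}

/-- The elements of `E` all of whose `Aut_F(E)`-images lie in `Z(S)`. -/
def essCore (F : FusionSystem S) (E : Subgroup Ω) : Subgroup Ω where
  carrier := {x | ∃ hx : x ∈ E, ∀ b ∈ F.autGroup E, ((b ⟨x, hx⟩ : E) : Ω) ∈ centralizerIn S S}
  one_mem' := ⟨E.one_mem, fun b _ => by
    have h1 : (⟨1, E.one_mem⟩ : E) = 1 := rfl
    rw [h1, map_one]
    exact one_mem _⟩
  mul_mem' := by
    rintro x y ⟨hx, hx'⟩ ⟨hy, hy'⟩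
    refine ⟨E.mul_mem hx hy, fun b hb => ?_⟩
    have h1 : (⟨x * y, E.mul_mem hx hy⟩ : E) = ⟨x, hx⟩ * ⟨y, hy⟩ := rfl
    rw [h1, map_mul, Subgroup.coe_mul]
    exact mul_mem (hx' b hb) (hy' b hb)
  inv_mem' := by
    rintro x ⟨hx, hx'⟩
    refine ⟨E.inv_mem hx, fun b hb => ?_⟩
    have h1 : (⟨x⁻¹, E.inv_mem hx⟩ : E) = (⟨x, hx⟩ : E)⁻¹ := rfl
    rw [h1, map_inv, Subgroup.coe_inv]
    exact inv_mem (hx' b hb)

theorem mem_essCore_iff {F : FusionSystem S} {E : Subgroup Ω} (y : E) :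
    (y : Ω) ∈ essCore F E ↔ ∀ b ∈ F.autGroup E, ((b y : E) : Ω) ∈ centralizerIn S S :=
  ⟨fun ⟨_, h⟩ => h, fun h => ⟨y.2, h⟩⟩

theorem essCore_le (F : FusionSystem S) (E : Subgroup Ω) : essCore F E ≤ E := by
  rintro x ⟨hx, -⟩
  exact hx

theorem essCore_le_zc (F : FusionSystem S) (E : Subgroup Ω) :
    essCore F E ≤ centralizerIn S S := by
  rintro x ⟨hx, h⟩
  exact h 1 (one_mem _)

theorem essCore_invariant {F : FusionSystem S} {E : Subgroup Ω} {α : MulAut E}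
    (hα : α ∈ F.autGroup E) (y : E) (hy : (y : Ω) ∈ essCore F E) :
    ((α y : E) : Ω) ∈ essCore F E := by
  rw [mem_essCore_iff] at hy ⊢
  intro b hb
  exact hy (b * α) (mul_mem hb hα)

/-- The facts about an essential subgroup `E` used by the global arguments. -/
structure EssFacts (p : ℕ) (F : FusionSystem S) (E V : Subgroup Ω) (x : Ω) : Prop where
  ess : F.IsEssential p E
  dec : ∀ z ∈ centralizerIn S S, ∃ d ∈ commSub S, ∃ c ∈ essCore F E, z = d * c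
  inf : ∀ c ∈ essCore F E, c ∈ commSub S → c = 1
  D_le : commSub S ≤ V
  V_le : V ≤ E
  V_zc : ∀ v ∈ V, v ∈ centralizerIn S S → v ∈ commSub S
  xV : x ∈ V
  xZ : x ∉ centralizerIn S S
  xp : x ^ p = 1
  frat : ∀ α ∈ F.autGroup E, ∃ γ ∈ F.autGroup S, ∃ k ∈ F.autGroup E,
      (∀ y : E, (y : Ω) ∈ essCore F E → k y = y) ∧ (∀ y : E, (y : Ω)⁻¹ * ((k y : E) : Ω) ∈ V) ∧
      ∀ y : E, ∃ y' : E, ∃ hy : (y : Ω) ∈ S, (y' : Ω) = ((γ ⟨y, hy⟩ : S) : Ω) ∧ α y = k y'
  torus : p ≠ 2 → ∃ η ∈ F.autGroup S, (∀ c : S, (c : Ω) ∈ essCore F E → η c = c) ∧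
      ∀ d : S, (d : Ω) ∈ commSub S → η d = d ^ ((p + 1) / 2)
  gen : ∃ d₀ : Ω, commSub S = zpowers d₀ ∧ d₀ ≠ 1 ∧ d₀ ^ p = 1
  D_zc : commSub S ≤ centralizerIn S S

namespace SCHyp

variable [Finite S] {p : ℕ} [Fact p.Prime] {F : FusionSystem S} {E : Subgroup Ω}

theorem commSub_le_zc (H : SCHyp p F) (hE : F.IsEssential p E) :
    commSub S ≤ centralizerIn S S := by
  unfold commSub
  rw [closure_le]
  rintro _ ⟨u, hu, v, hv, rfl⟩
  exact H.comm_mem_zc hE u hu v hv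

theorem exists_data (H : SCHyp p F) (hE : F.IsEssential p E) :
    ∃ (s : Ω) (hsS : s ∈ S) (hsE : s ∉ E) (hsN : s ∈ Subgroup.normalizer (E : Set Ω)) (d₀ : E)
      (a : MulAut E), TransvData p (F.autGroup E) (Cfsg.Agent.Lib.helper88.conjAut E s hsN) d₀ ∧
        a ∈ F.autGroup E ∧ a * Cfsg.Agent.Lib.helper88.conjAut E s hsN * a⁻¹
          ∉ zpowers (Cfsg.Agent.Lib.helper88.conjAut E s hsN) := by
  have hlt := Cfsg.Agent.Lib.helper86.essential_lt H.pS F H.sat hE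
  obtain ⟨s, hsS, hsE⟩ := SetLike.exists_of_lt hlt
  have hsN := H.ess_normal hE hsS
  obtain ⟨d₀, hT⟩ := H.exists_transvData hE hsS hsE hsN
  obtain ⟨a, haA, ha⟩ := H.exists_not_normal hE hT
  exact ⟨s, hsS, hsE, hsN, d₀, a, hT, haA, ha⟩

theorem mem_essCore_iff_Ccore (H : SCHyp p F) (hE : F.IsEssential p E) {s : Ω} (hsS : s ∈ S)
    (hsE : s ∉ E) (hsN : s ∈ Subgroup.normalizer (E : Set Ω)) (y : E) :
    (y : Ω) ∈ essCore F E ↔
      y ∈ Ccore (F.autGroup E) (Cfsg.Agent.Lib.helper88.conjAut E s hsN) := by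
  rw [mem_essCore_iff, mem_Ccore]
  constructor
  · intro h b hb
    have h1 := (H.fix_iff hE hsS hsE hsN (b⁻¹ y)).mpr (h b⁻¹ (inv_mem hb))
    show b (Cfsg.Agent.Lib.helper88.conjAut E s hsN (b⁻¹ y)) = y
    rw [h1]
    simp
  · intro h b hb
    have h1 := h b⁻¹ (inv_mem hb)
    have h2 : Cfsg.Agent.Lib.helper88.conjAut E s hsN (b y) = b y := by
      have h3 : (b⁻¹ * Cfsg.Agent.Lib.helper88.conjAut E s hsN * b⁻¹⁻¹) y
          = b⁻¹ (Cfsg.Agent.Lib.helper88.conjAut E s hsN (b y)) := by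
        rw [inv_inv]; rfl
      rw [h3] at h1
      have h4 := congrArg b h1
      simpa using h4
    exact (H.fix_iff hE hsS hsE hsN (b y)).mp h2

theorem exists_essFacts (H : SCHyp p F) (hE : F.IsEssential p E) :
    ∃ (V : Subgroup Ω) (x : Ω), EssFacts p F E V x := by
  obtain ⟨s, hsS, hsE, hsN, d₀, a, hT, haA, ha⟩ := H.exists_data hE
  have hES : E ≤ S := hE.1.1
  have hfinE : Finite E := finite_of_le hES
  have hZE := H.zc_le hE
  have hcore := H.mem_essCore_iff_Ccore hE hsS hsE hsN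
  have hD := H.mem_zpowers_iff_commSub hE hsS hsE hsN hT
  have hDeq := H.commSub_eq hE hsS hsE hsN hT
  have hfix := H.fix_iff hE hsS hsE hsN
  have hDZ := H.commSub_le_zc hE
  refine ⟨(Vspan (F.autGroup E) d₀).map E.subtype, ((a d₀ : E) : Ω), ?_⟩
  refine { ess := hE, dec := ?_, inf := ?_, D_le := ?_, V_le := ?_, V_zc := ?_, xV := ?_,
           xZ := ?_, xp := ?_, frat := ?_, torus := ?_, gen := ?_, D_zc := hDZ }
  · -- dec
    intro z hz
    obtain ⟨d, hd, c, hc, hdc⟩ :=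
      hT.exists_mul_of_fixed haA ha ((hfix ⟨z, hZE hz⟩).mpr hz)
    exact ⟨d, (hD d).mp hd, c, (hcore c).mpr hc, congrArg Subtype.val hdc⟩
  · -- inf
    intro c hc hcD
    have hcE : c ∈ E := essCore_le F E hc
    have h1 := hT.Ccore_inf haA ha ((hcore ⟨c, hcE⟩).mp hc) ((hD ⟨c, hcE⟩).mpr hcD)
    exact congrArg Subtype.val h1
  · -- D_le
    rw [hDeq, zpowers_le]
    exact ⟨d₀, subset_closure ⟨1, one_mem _, rfl⟩, rfl⟩
  · -- V_le
    rintro _ ⟨v, -, rfl⟩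
    exact v.2
  · -- V_zc
    rintro _ ⟨v, hv, rfl⟩ hvZ
    exact (hD v).mp (hT.Vspan_fixed haA ha hv ((hfix v).mpr hvZ))
  · -- xV
    exact ⟨a d₀, subset_closure ⟨a, haA, rfl⟩, rfl⟩
  · -- xZ
    intro hx
    exact hT.not_fix_conj_d₀ haA ha ((hfix (a d₀)).mpr hx)
  · -- xp
    have h1 := hT.conj_d₀_pow a
    have h2 := congrArg Subtype.val h1
    simpa using h2
  · -- frat
    intro α hα
    obtain ⟨k, hk, hnorm⟩ := hT.frattini haA ha hα
    have hkA : k ∈ F.autGroup E := Kcl_le hT.tA hk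
    have hn : k⁻¹ * α ∈ F.autGroup E := mul_mem (inv_mem hkA) hα
    obtain ⟨γ, hγ, hγn⟩ := H.exists_extension_of_normalizes hE hsS hsE hsN hn hnorm
    refine ⟨γ, hγ, k, hkA, ?_, ?_, ?_⟩
    · intro y hy
      exact Kcl_fixes hk ((hcore y).mp hy)
    · intro y
      exact ⟨y⁻¹ * k y, hT.Kcl_cm_mem hk y, rfl⟩
    · intro y
      refine ⟨(k⁻¹ * α) y, hES y.2, (hγn y y.2 (hES y.2)).symm, ?_⟩
      simp [MulAut.mul_apply]
  · -- torus
    intro hp2
    obtain ⟨η, hηA, hηnorm, hηC, hηD⟩ := hT.exists_torus haA ha hp2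
    obtain ⟨γ, hγ, hγn⟩ := H.exists_extension_of_normalizes hE hsS hsE hsN hηA hηnorm
    refine ⟨γ, hγ, ?_, ?_⟩
    · intro c hc
      have hcE : (c : Ω) ∈ E := essCore_le F E hc
      apply Subtype.ext
      have h1 := hγn c hcE c.2
      rw [hηC ⟨c, hcE⟩ ((hcore ⟨c, hcE⟩).mp hc)] at h1
      exact h1
    · intro d hd
      have hdE : (d : Ω) ∈ E := hZE (hDZ hd)
      apply Subtype.ext
      have h1 := hγn d hdE d.2
      rw [hηD ⟨d, hdE⟩ ((hD ⟨d, hdE⟩).mpr hd)] at h1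
      exact h1
  · -- gen
    refine ⟨d₀, hDeq, ?_, ?_⟩
    · intro h
      exact hT.d₀_ne (Subtype.ext h)
    · have h1 := congrArg Subtype.val hT.d₀_pow
      simpa using h1

end SCHyp

end Fusion

end Cfsg.Agent.Lib.helper89
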