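import Cfsg.Agent.Lib.helper89.SmallCenterC
import Cfsg.Agent.Lib.helper89.Focal
import Cfsg.Agent.S5082

/-!
# Small centre, part D: the case `p = 2`

Global arguments for `p = 2`: every `F`-automorphism of `S` preserves every essential subgroup, the
intersection of the cores of the essential subgroups is normal in `F`, and, if `O_2(F) = 1` and
`hyp(F) = S`, the centre of `S` is the commutator subgroup.
-/

set_option autoImplicit false
set_option linter.unusedSectionVars false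
set_option linter.unusedVariables false

namespace Cfsg.Agent.Lib.helper89

open Cfsg Cfsg.FusionSystem Subgroup

section Generic

variable {G : Type*} [Group G]

theorem mul_mem_of_card_two_mul {H K : Subgroup G} [Finite K] (hHK : H ≤ K)
    (hcard : Nat.card K = 2 * Nat.card H) {a b : G} (ha : a ∈ K) (hb : b ∈ K) (ha' : a ∉ H)
    (hb' : b ∉ H) : a * b ∈ H := by
  have hfinH : Finite H := Finite.of_injective _ (inclusion_injective hHK)
  have hidx : (H.subgroupOf K).index = 2 := by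
    have h1 := Subgroup.card_mul_index (H.subgroupOf K)
    have h2 : Nat.card (H.subgroupOf K) = Nat.card H := by
      rw [← Subgroup.card_subtype K (H.subgroupOf K), Subgroup.map_subgroupOf_eq_of_le hHK]
    rw [h2, hcard, mul_comm 2] at h1
    exact Nat.eq_of_mul_eq_mul_left Nat.card_pos h1
  have h3 : (⟨a, ha⟩ : K) * ⟨b, hb⟩ ∈ H.subgroupOf K :=
    (Subgroup.mul_mem_iff_of_index_two hidx).mpr
      ⟨fun h => absurd (mem_subgroupOf.mp h) ha', fun h => absurd (mem_subgroupOf.mp h) hb'⟩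
  exact mem_subgroupOf.mp h3

theorem pow_mul_of_comm {w e c : G} (hew : e * w = w * e * c) (hce : Commute c e) (n : ℕ) :
    e ^ n * w = w * e ^ n * c ^ n := by
  induction n with
  | zero => simp
  | succ n ih =>
    calc e ^ (n + 1) * w = e * (e ^ n * w) := by rw [pow_succ' e n, mul_assoc]
      _ = e * (w * e ^ n * c ^ n) := by rw [ih]
      _ = (e * w) * e ^ n * c ^ n := by group
      _ = w * e * c * e ^ n * c ^ n := by rw [hew]
      _ = w * e * (c * e ^ n) * c ^ n := by group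
      _ = w * e * (e ^ n * c) * c ^ n := by rw [(hce.pow_right n).eq]
      _ = w * (e * e ^ n) * (c * c ^ n) := by group
      _ = w * e ^ (n + 1) * c ^ (n + 1) := by rw [← pow_succ' e n, ← pow_succ' c n]

theorem mul_pow_of_comm {w e c : G} (hew : e * w = w * e * c) (hcw : Commute c w)
    (hce : Commute c e) (n : ℕ) : (w * e) ^ n = w ^ n * e ^ n * c ^ (n.choose 2) := by
  induction n with
  | zero => simp
  | succ n ih =>
    have h1 := pow_mul_of_comm hew hce n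
    have h2 : Nat.choose (n + 1) 2 = n + Nat.choose n 2 := by
      rw [Nat.choose_succ_succ' n 1, Nat.choose_one_right]
    calc (w * e) ^ (n + 1) = (w * e) ^ n * (w * e) := pow_succ _ _
      _ = w ^ n * e ^ n * c ^ (n.choose 2) * (w * e) := by rw [ih]
      _ = w ^ n * e ^ n * (c ^ (n.choose 2) * w) * e := by group
      _ = w ^ n * e ^ n * (w * c ^ (n.choose 2)) * e := by rw [(hcw.pow_left _).eq]
      _ = w ^ n * (e ^ n * w) * (c ^ (n.choose 2) * e) := by group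
      _ = w ^ n * (w * e ^ n * c ^ n) * (e * c ^ (n.choose 2)) := by
        rw [h1, (hce.pow_left _).eq]
      _ = w ^ n * w * e ^ n * (c ^ n * e) * c ^ (n.choose 2) := by group
      _ = w ^ n * w * e ^ n * (e * c ^ n) * c ^ (n.choose 2) := by rw [(hce.pow_left n).eq]
      _ = (w ^ n * w) * (e ^ n * e) * (c ^ n * c ^ (n.choose 2)) := by group
      _ = w ^ (n + 1) * e ^ (n + 1) * c ^ (n + n.choose 2) := by
        rw [← pow_succ w n, ← pow_succ e n, ← pow_add]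
      _ = _ := by rw [h2]

theorem mem_sup_of_normalizes {H K : Subgroup G} (hn : ∀ k ∈ K, ∀ h ∈ H, k * h * k⁻¹ ∈ H)
    {x : G} (hx : x ∈ H ⊔ K) : ∃ h ∈ H, ∃ k ∈ K, x = h * k := by
  let T : Subgroup G :=
    { carrier := {x | ∃ h ∈ H, ∃ k ∈ K, x = h * k}
      one_mem' := ⟨1, H.one_mem, 1, K.one_mem, by simp⟩
      mul_mem' := by
        rintro _ _ ⟨h₁, hh₁, k₁, hk₁, rfl⟩ ⟨h₂, hh₂, k₂, hk₂, rfl⟩
        exact ⟨h₁ * (k₁ * h₂ * k₁⁻¹), H.mul_mem hh₁ (hn k₁ hk₁ h₂ hh₂), k₁ * k₂,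
          K.mul_mem hk₁ hk₂, by group⟩
      inv_mem' := by
        rintro _ ⟨h, hh, k, hk, rfl⟩
        exact ⟨k⁻¹ * h⁻¹ * k⁻¹⁻¹, hn k⁻¹ (K.inv_mem hk) h⁻¹ (H.inv_mem hh), k⁻¹,
          K.inv_mem hk, by group⟩ }
  have hle : H ⊔ K ≤ T :=
    sup_le (fun h hh => ⟨h, hh, 1, K.one_mem, by simp⟩) (fun k hk => ⟨1, H.one_mem, k, hk, by simp⟩)
  exact hle hx

end Generic

section Fusion

variable {Ω : Type*} [Group Ω] {S : Subgroup Ω}

theorem aut_zc (γ : MulAut S) (x : S) (hx : (x : Ω) ∈ centralizerIn S S) :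
    ((γ x : S) : Ω) ∈ centralizerIn S S := by
  obtain ⟨-, hxc⟩ := mem_zc_iff.mp hx
  refine mem_zc_iff.mpr ⟨(γ x).2, fun g hg => ?_⟩
  have h1 : γ.symm ⟨g, hg⟩ * x = x * γ.symm ⟨g, hg⟩ :=
    Subtype.ext (hxc _ (γ.symm ⟨g, hg⟩).2)
  have h2 := congrArg (fun y => ((γ y : S) : Ω)) h1
  simpa using h2

theorem aut_zc_iff (γ : MulAut S) (x : S) :
    ((γ x : S) : Ω) ∈ centralizerIn S S ↔ (x : Ω) ∈ centralizerIn S S := by
  constructor
  · intro h
    have h1 := aut_zc γ⁻¹ (γ x) h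
    simpa using h1
  · exact aut_zc γ x

theorem commutator_le_commSub (S : Subgroup Ω) : ⁅S, S⁆ ≤ commSub S := by
  rw [Subgroup.commutator_le]
  intro g hg k hk
  rw [commutatorElement_def]
  have h1 : g * k * g⁻¹ * k⁻¹ = (g⁻¹)⁻¹ * k * g⁻¹ * k⁻¹ := by rw [inv_inv]
  rw [h1]
  exact comm_mem_commSub (S.inv_mem hg) hk

/-- The intersection of the cores of all essential subgroups. -/
def essInf (F : FusionSystem S) (p : ℕ) : Subgroup Ω :=
  ⨅ (E : Subgroup Ω) (_ : F.IsEssential p E), essCore F E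

theorem mem_essInf {F : FusionSystem S} {p : ℕ} {x : Ω} :
    x ∈ essInf F p ↔ ∀ E : Subgroup Ω, F.IsEssential p E → x ∈ essCore F E := by
  unfold essInf
  simp only [Subgroup.mem_iInf]

namespace EssFacts

variable [Finite S] {p : ℕ} [Fact p.Prime] {F : FusionSystem S} {E V : Subgroup Ω} {x : Ω}

theorem D_pow (h : EssFacts p F E V x) {d : Ω} (hd : d ∈ commSub S) : d ^ p = 1 := by
  obtain ⟨d₀, hD, -, hd₀⟩ := h.gen
  rw [hD] at hd
  obtain ⟨k, rfl⟩ := mem_zpowers_iff.mp hd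
  rw [← zpow_natCast, ← zpow_mul, mul_comm, zpow_mul, zpow_natCast, hd₀, one_zpow]

theorem xE (h : EssFacts p F E V x) : x ∈ E := h.V_le h.xV

theorem ES (h : EssFacts p F E V x) : E ≤ S := h.ess.1.1

theorem xS (h : EssFacts p F E V x) : x ∈ S := h.ES h.xE

theorem dec' (h : EssFacts p F E V x) (z : S) (hz : (z : Ω) ∈ centralizerIn S S) :
    ∃ d : S, (d : Ω) ∈ commSub S ∧ ∃ c : S, (c : Ω) ∈ essCore F E ∧ z = d * c := by
  obtain ⟨d, hd, c, hc, hdc⟩ := h.dec z hz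
  exact ⟨⟨d, commSub_le S hd⟩, hd, ⟨c, (mem_zc_iff.mp (essCore_le_zc F E hc)).1⟩, hc,
    Subtype.ext hdc⟩

end EssFacts

namespace SCHyp

variable [Finite S] {p : ℕ} [Fact p.Prime] {F : FusionSystem S} {E : Subgroup Ω}

theorem mem_of_commute (H : SCHyp p F) (hE : F.IsEssential p E) {x : Ω} (hxE : x ∈ E)
    (hxZ : x ∉ centralizerIn S S) {g : Ω} (hg : g ∈ S) (hgx : g * x = x * g) : g ∈ E := by
  by_contra hgE
  have hES : E ≤ S := hE.1.1
  have hM : S ⊓ Subgroup.centralizer ({x} : Set Ω) = S := by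
    apply eq_of_card_prime_mul (H := E) (le_inf hES ?_) inf_le_left (H.card_ess hE).2 ?_
    · intro e he
      rw [Subgroup.mem_centralizer_iff]
      intro h hh
      rw [Set.mem_singleton_iff.mp hh]
      exact H.ess_comm hE x hxE e he
    · intro h
      apply hgE
      rw [← h]
      refine Subgroup.mem_inf.mpr ⟨hg, Subgroup.mem_centralizer_iff.mpr ?_⟩
      intro h' hh
      rw [Set.mem_singleton_iff.mp hh]
      exact hgx.symm
  apply hxZ
  refine mem_zc_iff.mpr ⟨hES hxE, fun h hh => ?_⟩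
  have h1 : h ∈ S ⊓ Subgroup.centralizer ({x} : Set Ω) := by rw [hM]; exact hh
  exact ((Subgroup.mem_centralizer_iff.mp (Subgroup.mem_inf.mp h1).2) x rfl).symm

theorem ess_eq_of_mem (H : SCHyp p F) {E₁ E₂ : Subgroup Ω} (hE₁ : F.IsEssential p E₁)
    (hE₂ : F.IsEssential p E₂) {x : Ω} (hx₁ : x ∈ E₁) (hx₂ : x ∈ E₂)
    (hxZ : x ∉ centralizerIn S S) : E₁ = E₂ := by
  apply le_antisymm
  · intro g hg
    exact H.mem_of_commute hE₂ hx₂ hxZ (hE₁.1.1 hg) (H.ess_comm hE₁ g hg x hx₁)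
  · intro g hg
    exact H.mem_of_commute hE₁ hx₁ hxZ (hE₂.1.1 hg) (H.ess_comm hE₂ g hg x hx₂)

end SCHyp

/-! ### The prime `2` -/

namespace SCHyp

variable [Finite S] {F : FusionSystem S}

/-- The third coset of `Z(S)` contains no involution. -/
theorem no_third_involution (H : SCHyp 2 F) {E V : Subgroup Ω} {x : Ω} (h : EssFacts 2 F E V x)
    {y : Ω} (hyS : y ∈ S) (hyE : y ∉ E) (hy2 : y ^ 2 = 1) {ζ : Ω}
    (hζ : ζ ∈ centralizerIn S S) : (y * x * ζ) ^ 2 ≠ 1 := by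
  intro hcon
  have hxS := h.xS
  obtain ⟨d, hd, c, hc, hζeq⟩ := h.dec ζ hζ
  have hcZ := mem_zc_iff.mp (essCore_le_zc F E hc)
  have hζZ := mem_zc_iff.mp hζ
  have hx2 : x * x = 1 := by rw [← pow_two]; exact h.xp
  have hy2' : y * y = 1 := by rw [← pow_two]; exact hy2
  have hxi : x⁻¹ = x := inv_eq_of_mul_eq_one_left hx2
  have hyi : y⁻¹ = y := inv_eq_of_mul_eq_one_left hy2'
  have h1 : (y * x * ζ) ^ 2 = (y * x * y⁻¹ * x⁻¹) * ζ ^ 2 := by
    rw [hyi, hxi, pow_two, pow_two]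
    calc y * x * ζ * (y * x * ζ) = y * x * (ζ * y) * x * ζ := by group
      _ = y * x * (y * ζ) * x * ζ := by rw [← hζZ.2 y hyS]
      _ = y * x * y * (ζ * x) * ζ := by group
      _ = y * x * y * (x * ζ) * ζ := by rw [← hζZ.2 x hxS]
      _ = y * x * y * x * (ζ * ζ) := by group
  have hdc : Commute d c := hcZ.2 d (commSub_le S hd)
  have hd2 : d ^ 2 = 1 := h.D_pow hd
  have h2 : ζ ^ 2 = c ^ 2 := by
    rw [hζeq, hdc.mul_pow, hd2, one_mul]
  rw [h1, h2] at hcon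
  have hκ : y * x * y⁻¹ * x⁻¹ ∈ commSub S := by
    have h3 := comm_mem_commSub (S := S) (S.inv_mem hyS) hxS
    rwa [inv_inv] at h3
  have hc2 : c ^ 2 ∈ commSub S := by
    have h3 : c ^ 2 = (y * x * y⁻¹ * x⁻¹)⁻¹ := eq_inv_of_mul_eq_one_right hcon
    rw [h3]
    exact inv_mem hκ
  have hc2' : c ^ 2 = 1 := h.inf _ (pow_mem hc 2) hc2
  rw [hc2', mul_one] at hcon
  have hyx : y * x = x * y := by
    have h3 : y * x * y⁻¹ = x := mul_inv_eq_one.mp hcon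
    exact mul_inv_eq_iff_eq_mul.mp h3
  exact hyE (H.mem_of_commute h.ess h.xE h.xZ hyS hyx)

/-- Every `F`-automorphism of `S` preserves every essential subgroup (`p = 2`). -/
theorem aut_preserves_ess (H : SCHyp 2 F) {E V : Subgroup Ω} {x : Ω} (h : EssFacts 2 F E V x)
    {γ : MulAut S} (hγ : γ ∈ F.autGroup S) :
    ∀ u : S, (u : Ω) ∈ E → ((γ u : S) : Ω) ∈ E := by
  have hE := h.ess
  have hES : E ≤ S := hE.1.1
  have hZE := H.zc_le hE
  have hfinE : Finite E := finite_of_le hES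
  have hcE := (H.card_ess hE).1
  have hcS := (H.card_ess hE).2
  have hxE := h.xE
  have hxZ := h.xZ
  obtain ⟨x', hx'⟩ : ∃ x' : S, (x' : Ω) = x := ⟨⟨x, h.xS⟩, rfl⟩
  have hx'E : (x' : Ω) ∈ E := by rw [hx']; exact hxE
  have hx'Z : (x' : Ω) ∉ centralizerIn S S := by rw [hx']; exact hxZ
  have hxiZ : (x' : Ω)⁻¹ ∉ centralizerIn S S := fun hh => hx'Z (by simpa using inv_mem hh)
  have hx'2 : x' ^ 2 = 1 := by
    apply Subtype.ext
    rw [Subgroup.coe_pow, hx']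
    exact h.xp
  have lemA : ∀ δ : MulAut S, ((δ x' : S) : Ω) ∈ E →
      ∀ u : S, (u : Ω) ∈ E → ((δ u : S) : Ω) ∈ E := by
    intro δ hδ u hu
    by_cases huZ : (u : Ω) ∈ centralizerIn S S
    · exact hZE (aut_zc δ u huZ)
    · have h1 : (x' : Ω)⁻¹ * (u : Ω) ∈ centralizerIn S S :=
        mul_mem_of_card_two_mul hZE hcE (E.inv_mem hx'E) hu hxiZ huZ
      have h2 : u = x' * (x'⁻¹ * u) := by group
      have h3 : ((δ (x'⁻¹ * u) : S) : Ω) ∈ centralizerIn S S := aut_zc δ _ h1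
      rw [h2, map_mul, Subgroup.coe_mul]
      exact E.mul_mem hδ (hZE h3)
  intro u hu
  apply lemA γ _ u hu
  by_contra hyE
  obtain ⟨y, hy⟩ : ∃ y : S, y = γ x' := ⟨_, rfl⟩
  rw [← hy] at hyE
  have hy2S : y ^ 2 = 1 := by rw [hy, ← map_pow, hx'2, map_one]
  have hy2 : (y : Ω) ^ 2 = 1 := by
    have h1 := congrArg Subtype.val hy2S
    rwa [Subgroup.coe_pow] at h1
  have hyZ : (y : Ω) ∉ centralizerIn S S := by
    rw [hy, aut_zc_iff]
    exact hx'Z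
  have hyiE : (y : Ω)⁻¹ ∉ E := fun hh => hyE (by simpa using E.inv_mem hh)
  obtain ⟨m, hm, hinn⟩ := H.exists_coprime_pow_inner
  have hw2 : ((γ y : S) : Ω) ^ 2 = 1 := by
    have h1 : (γ y) ^ 2 = 1 := by rw [← map_pow, hy2S, map_one]
    have h2 := congrArg Subtype.val h1
    rwa [Subgroup.coe_pow] at h2
  have hwZ : ((γ y : S) : Ω) ∉ centralizerIn S S := by
    rw [aut_zc_iff]
    exact hyZ
  by_cases hwE : ((γ y : S) : Ω) ∈ E
  · -- `γ² x ∈ x Z(S)`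
    have h1 : (x' : Ω)⁻¹ * ((γ y : S) : Ω) ∈ centralizerIn S S :=
      mul_mem_of_card_two_mul hZE hcE (E.inv_mem hx'E) hwE hxiZ hwZ
    have h2 : (γ ^ 2) x' = x' * (x'⁻¹ * γ y) := by
      rw [mul_inv_cancel_left, hy, pow_two]
      rfl
    have key : ∀ j : ℕ, ∃ ζ : S, (ζ : Ω) ∈ centralizerIn S S ∧ ((γ ^ 2) ^ j) x' = x' * ζ := by
      intro j
      induction j with
      | zero => exact ⟨1, one_mem _, by simp⟩
      | succ j ih =>
        obtain ⟨ζ, hζ, hj⟩ := ih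
        refine ⟨ζ * ((γ ^ 2) ^ j) (x'⁻¹ * γ y), mul_mem hζ (aut_zc _ _ h1), ?_⟩
        calc ((γ ^ 2) ^ (j + 1)) x' = ((γ ^ 2) ^ j * γ ^ 2) x' := by rw [pow_succ (γ ^ 2) j]
          _ = ((γ ^ 2) ^ j) ((γ ^ 2) x') := rfl
          _ = ((γ ^ 2) ^ j) (x' * (x'⁻¹ * γ y)) := by rw [h2]
          _ = ((γ ^ 2) ^ j) x' * ((γ ^ 2) ^ j) (x'⁻¹ * γ y) := map_mul _ _ _
          _ = x' * ζ * ((γ ^ 2) ^ j) (x'⁻¹ * γ y) := by rw [hj]
          _ = x' * (ζ * ((γ ^ 2) ^ j) (x'⁻¹ * γ y)) := mul_assoc _ _ _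
    obtain ⟨j, hj⟩ : ∃ j, m = 2 * j + 1 := Nat.coprime_two_right.mp hm
    subst hj
    obtain ⟨ζ, hζ, hζj⟩ := key j
    obtain ⟨g, hg, hgx⟩ := hinn γ hγ
    have h3 : (γ ^ (2 * j + 1)) x' = y * γ ζ := by
      calc (γ ^ (2 * j + 1)) x' = (γ * γ ^ (2 * j)) x' := by rw [pow_succ' γ (2 * j)]
        _ = γ ((γ ^ (2 * j)) x') := rfl
        _ = γ (((γ ^ 2) ^ j) x') := by rw [pow_mul γ 2 j]
        _ = γ (x' * ζ) := by rw [hζj]
        _ = γ x' * γ ζ := map_mul _ _ _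
        _ = y * γ ζ := by rw [← hy]
    have h4 : (((γ ^ (2 * j + 1)) x' : S) : Ω) ∈ E := by
      rw [hgx]
      exact ((Subgroup.mem_normalizer_iff.mp (H.ess_normal hE hg)) (x' : Ω)).mp hx'E
    rw [h3, Subgroup.coe_mul] at h4
    have h5 : (y : Ω) = (y : Ω) * ((γ ζ : S) : Ω) * ((γ ζ : S) : Ω)⁻¹ := by group
    rw [h5] at hyE
    exact hyE (E.mul_mem h4 (E.inv_mem (hZE (aut_zc γ ζ hζ))))
  · have h1 : (y : Ω)⁻¹ * ((γ y : S) : Ω) ∈ E :=
      mul_mem_of_card_two_mul hES hcS (S.inv_mem y.2) (γ y).2 hyiE hwE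
    by_cases hZ' : (y : Ω)⁻¹ * ((γ y : S) : Ω) ∈ centralizerIn S S
    · -- `γ y ∈ y Z(S)`
      have e1 : γ⁻¹ y = x' := by rw [hy]; simp
      have e2 : γ⁻¹ (y⁻¹ * γ y) = (γ⁻¹ y)⁻¹ * y := by rw [map_mul, map_inv]; simp
      have h2 : y = x' * γ⁻¹ (y⁻¹ * γ y) := by rw [e2, e1]; group
      have h3 : ((γ⁻¹ (y⁻¹ * γ y) : S) : Ω) ∈ centralizerIn S S := aut_zc _ _ hZ'
      apply hyE
      rw [h2, Subgroup.coe_mul]
      exact E.mul_mem hx'E (hZE h3)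
    · -- `γ y ∈ y x Z(S)`
      have h2 : (x' : Ω)⁻¹ * ((y : Ω)⁻¹ * ((γ y : S) : Ω)) ∈ centralizerIn S S :=
        mul_mem_of_card_two_mul hZE hcE (E.inv_mem hx'E) h1 hxiZ hZ'
      have h3 : ((γ y : S) : Ω)
          = (y : Ω) * (x' : Ω) * ((x' : Ω)⁻¹ * ((y : Ω)⁻¹ * ((γ y : S) : Ω))) := by group
      rw [h3] at hw2
      rw [hx'] at hw2 h2
      exact H.no_third_involution h y.2 hyE hy2 h2 hw2

/-- Every `F`-automorphism of `S` preserves the core of every essential subgroup (`p = 2`). -/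
theorem aut_essCore (H : SCHyp 2 F) {E V : Subgroup Ω} {x : Ω} (h : EssFacts 2 F E V x)
    {γ : MulAut S} (hγ : γ ∈ F.autGroup S) (u : S) (hu : (u : Ω) ∈ essCore F E) :
    ((γ u : S) : Ω) ∈ essCore F E := by
  have hES := h.ES
  have hinv := H.aut_preserves_ess h hγ
  obtain ⟨n, hn, hnγ⟩ := exists_restriction F hES hγ (fun y => hinv ⟨y, hES y.2⟩ y.2)
  have huE : (u : Ω) ∈ E := essCore_le F E hu
  have h1 : ((n ⟨u, huE⟩ : E) : Ω) ∈ essCore F E := essCore_invariant hn ⟨u, huE⟩ hu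
  rw [hnγ] at h1
  exact h1

theorem essInf_normal (H : SCHyp 2 F) (hex : ∃ E, F.IsEssential 2 E) :
    F.IsNormal (essInf F 2) := by
  obtain ⟨E₀, hE₀⟩ := hex
  have hQZ : essInf F 2 ≤ centralizerIn S S :=
    fun q hq => essCore_le_zc F E₀ (mem_essInf.mp hq E₀ hE₀)
  have key : ∀ γ ∈ F.autGroup S, ∀ u : S, (u : Ω) ∈ essInf F 2 →
      ((γ u : S) : Ω) ∈ essInf F 2 := by
    intro γ hγ u hu
    rw [mem_essInf] at hu ⊢
    intro E hE
    obtain ⟨V, x, hf⟩ := H.exists_essFacts hE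
    exact H.aut_essCore hf hγ u (hu E hE)
  apply Cfsg.Agent.Lib.helper86.isNormal_of_aut_invariant H.pS F H.sat
  intro P hP
  rcases hP with rfl | hess
  · exact ⟨fun q hq => (mem_zc_iff.mp (hQZ hq)).1, fun α hα u hu => key α hα u hu⟩
  · obtain ⟨V, x, hf⟩ := H.exists_essFacts hess
    refine ⟨fun q hq => H.zc_le hess (hQZ hq), fun α hα u hu => ?_⟩
    obtain ⟨γ, hγ, k, hk, hkC, -, hdec⟩ := hf.frat α hα
    obtain ⟨u', huS, hu', hαu⟩ := hdec u
    have h1 := key γ hγ ⟨u, huS⟩ hu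
    rw [← hu'] at h1
    have h2 : k u' = u' := hkC u' (mem_essInf.mp h1 P hess)
    rw [hαu, h2]
    exact h1

theorem ess_eq_or (H : SCHyp 2 F) {E₁ V₁ E₂ V₂ E₃ V₃ : Subgroup Ω} {x₁ x₂ x₃ : Ω}
    (h₁ : EssFacts 2 F E₁ V₁ x₁) (h₂ : EssFacts 2 F E₂ V₂ x₂) (hne : E₁ ≠ E₂)
    (h₃ : EssFacts 2 F E₃ V₃ x₃) : E₃ = E₁ ∨ E₃ = E₂ := by
  have hfin₁ : Finite E₁ := finite_of_le h₁.ES
  have hZE₁ := H.zc_le h₁.ess
  have hx₂E₁ : x₂ ∉ E₁ := fun hh => hne (H.ess_eq_of_mem h₁.ess h₂.ess hh h₂.xE h₂.xZ)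
  by_cases hx₃ : x₃ ∈ E₁
  · exact Or.inl (H.ess_eq_of_mem h₃.ess h₁.ess h₃.xE hx₃ h₃.xZ)
  · have h1 : x₂⁻¹ * x₃ ∈ E₁ :=
      mul_mem_of_card_two_mul h₁.ES (H.card_ess h₁.ess).2 (S.inv_mem h₂.xS) h₃.xS
        (fun hh => hx₂E₁ (by simpa using E₁.inv_mem hh)) hx₃
    by_cases hz : x₂⁻¹ * x₃ ∈ centralizerIn S S
    · right
      have h2 : x₃ ∈ E₂ := by
        have h3 : x₃ = x₂ * (x₂⁻¹ * x₃) := by group
        rw [h3]
        exact E₂.mul_mem h₂.xE (H.zc_le h₂.ess hz)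
      exact H.ess_eq_of_mem h₃.ess h₂.ess h₃.xE h2 h₃.xZ
    · exfalso
      have h2 : x₁⁻¹ * (x₂⁻¹ * x₃) ∈ centralizerIn S S :=
        mul_mem_of_card_two_mul hZE₁ (H.card_ess h₁.ess).1 (E₁.inv_mem h₁.xE) h1
          (fun hh => h₁.xZ (by simpa using inv_mem hh)) hz
      have h3 : x₃ = x₂ * x₁ * (x₁⁻¹ * (x₂⁻¹ * x₃)) := by group
      have h4 : (x₂ * x₁ * (x₁⁻¹ * (x₂⁻¹ * x₃))) ^ 2 = 1 := by
        rw [← h3]
        exact h₃.xp
      exact H.no_third_involution h₁ h₂.xS hx₂E₁ h₂.xp h2 h4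

end SCHyp

end Fusion

end Cfsg.Agent.Lib.helper89
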