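import Cfsg.Agent.Lib.helper89.SmallCenterE
import Cfsg.Agent.Lib.helper3.PGroupFrattini
import Cfsg.Agent.Lib.helper71.Frattini

/-!
# Small centre, part F: the structure of `S` once `Z(S) = [S, S]`

`S` is extraspecial of order `p³`; of exponent `p` when `p` is odd (and `O_p(F) = 1`), and it has a
pair of dihedral generators when `p = 2`.
-/

set_option autoImplicit false
set_option linter.unusedSectionVars false
set_option linter.unusedVariables false

namespace Cfsg.Agent.Lib.helper89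

open Cfsg Cfsg.FusionSystem Subgroup
open scoped commutatorElement

section Fusion

variable {Ω : Type*} [Group Ω] {S : Subgroup Ω}

theorem mem_center_iff_zc (x : S) :
    x ∈ Subgroup.center ↥S ↔ (x : Ω) ∈ centralizerIn S S := by
  rw [← map_center_eq S]
  constructor
  · intro hx
    exact ⟨x, hx, rfl⟩
  · rintro ⟨y, hy, hyx⟩
    have h1 : y = x := Subtype.ext hyx
    rw [← h1]
    exact hy

theorem le_normalizer_zc :
    S ≤ Subgroup.normalizer ((centralizerIn S S : Subgroup Ω) : Set Ω) := by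
  intro g hg
  rw [Subgroup.mem_normalizer_iff]
  intro h
  constructor
  · intro hh
    have h1 := (mem_zc_iff.mp hh).2 g hg
    rw [h1, mul_inv_cancel_right]
    exact hh
  · intro hh
    have h1 := (mem_zc_iff.mp hh).2 g⁻¹ (S.inv_mem hg)
    have h2 : h = g⁻¹ * (g * h * g⁻¹) * g := by group
    rw [h2, h1, inv_mul_cancel_right]
    exact hh

namespace SCHyp

variable [Finite S] {p : ℕ} [Fact p.Prime] {F : FusionSystem S}

theorem pow_eq_one_of_ess (H : SCHyp p F) {E V : Subgroup Ω} {x : Ω} (h : EssFacts p F E V x)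
    (hZp : ∀ z ∈ centralizerIn S S, z ^ p = 1) : ∀ u ∈ E, u ^ p = 1 := by
  have hE := h.ess
  have hfinE : Finite E := finite_of_le h.ES
  obtain ⟨T, hT⟩ : ∃ T : Subgroup Ω, ∀ u, u ∈ T ↔ (u ∈ E ∧ u ^ p = 1) :=
    ⟨{ carrier := {u | u ∈ E ∧ u ^ p = 1}
       one_mem' := ⟨E.one_mem, one_pow p⟩
       mul_mem' := by
         rintro u v ⟨hu, hu'⟩ ⟨hv, hv'⟩
         refine ⟨E.mul_mem hu hv, ?_⟩
         have hc : Commute u v := H.ess_comm hE u hu v hv
         rw [hc.mul_pow, hu', hv', one_mul]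
       inv_mem' := by
         rintro u ⟨hu, hu'⟩
         exact ⟨E.inv_mem hu, by rw [inv_pow, hu', inv_one]⟩ }, fun u => Iff.rfl⟩
  have hZT : centralizerIn S S ≤ T := fun z hz => (hT z).mpr ⟨H.zc_le hE hz, hZp z hz⟩
  have hTE : T ≤ E := fun u hu => ((hT u).mp hu).1
  have hne : T ≠ centralizerIn S S := by
    intro hh
    apply h.xZ
    rw [← hh]
    exact (hT x).mpr ⟨h.xE, h.xp⟩
  have hTeq : T = E := eq_of_card_prime_mul hZT hTE (H.card_ess hE).1 hne
  intro u hu
  have h1 : u ∈ T := by rw [hTeq]; exact hu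
  exact ((hT u).mp h1).2

theorem pow_eq_one_odd (H : SCHyp p F) (hp2 : p ≠ 2) (hcore : F.core = ⊥)
    {E₁ V₁ : Subgroup Ω} {x₁ : Ω} (h₁ : EssFacts p F E₁ V₁ x₁)
    (hZD : centralizerIn S S ≤ commSub S) : ∀ u ∈ S, u ^ p = 1 := by
  have hE₁ := h₁.ess
  have hZp : ∀ z ∈ centralizerIn S S, z ^ p = 1 := fun z hz => h₁.D_pow (hZD hz)
  have hp3 : 2 < p := lt_of_le_of_ne (Fact.out : p.Prime).two_le (Ne.symm hp2)
  have hchoose : p ∣ p.choose 2 := (Fact.out : p.Prime).dvd_choose_self (by norm_num) hp3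
  have hmulpow : ∀ w ∈ S, ∀ e ∈ S, (w * e) ^ p = w ^ p * e ^ p := by
    intro w hw e he
    have hcD : e⁻¹ * w⁻¹ * e * w ∈ commSub S := by
      have h3 := comm_mem_commSub (S := S) he (S.inv_mem hw)
      rwa [inv_inv] at h3
    have hcZ := mem_zc_iff.mp (h₁.D_zc hcD)
    have hew : e * w = w * e * (e⁻¹ * w⁻¹ * e * w) := by group
    have h1 := mul_pow_of_comm hew (hcZ.2 w hw).symm (hcZ.2 e he).symm p
    obtain ⟨k, hk⟩ := hchoose
    rw [h1, hk, pow_mul, h₁.D_pow hcD, one_pow, mul_one]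
  obtain ⟨T, hT⟩ : ∃ T : Subgroup Ω, ∀ u, u ∈ T ↔ (u ∈ S ∧ u ^ p = 1) :=
    ⟨{ carrier := {u | u ∈ S ∧ u ^ p = 1}
       one_mem' := ⟨S.one_mem, one_pow p⟩
       mul_mem' := by
         rintro u v ⟨hu, hu'⟩ ⟨hv, hv'⟩
         exact ⟨S.mul_mem hu hv, by rw [hmulpow u hu v hv, hu', hv', one_mul]⟩
       inv_mem' := by
         rintro u ⟨hu, hu'⟩
         exact ⟨S.inv_mem hu, by rw [inv_pow, hu', inv_one]⟩ }, fun u => Iff.rfl⟩
  have hET : ∀ {E V : Subgroup Ω} {x : Ω}, EssFacts p F E V x → E ≤ T := by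
    intro E V x hf u hu
    exact (hT u).mpr ⟨hf.ES hu, H.pow_eq_one_of_ess hf hZp u hu⟩
  have hTS : T ≤ S := fun u hu => ((hT u).mp hu).1
  by_cases hTE : T = E₁
  · exfalso
    have hnorm : F.IsNormal E₁ := by
      apply Cfsg.Agent.Lib.helper86.isNormal_of_aut_invariant H.pS F H.sat
      intro P hP
      rcases hP with h | hess
      · subst h
        refine ⟨h₁.ES, fun γ hγ u hu => ?_⟩
        have h1 : ((γ u : P) : Ω) ∈ T := by
          refine (hT _).mpr ⟨(γ u).2, ?_⟩
          have h2 : (u : Ω) ^ p = 1 := ((hT _).mp (hET h₁ hu)).2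
          have h3 : u ^ p = 1 := by
            apply Subtype.ext
            rw [Subgroup.coe_pow]
            exact h2
          have h4 : (γ u) ^ p = 1 := by rw [← map_pow, h3, map_one]
          have h5 := congrArg Subtype.val h4
          rw [Subgroup.coe_pow] at h5
          exact h5
        rw [hTE] at h1
        exact h1
      · obtain ⟨V', x', h'⟩ := H.exists_essFacts hess
        have hPE : P ≤ E₁ := by
          rw [← hTE]
          exact hET h'
        have hfinE₁ : Finite E₁ := finite_of_le h₁.ES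
        have hEq : P = E₁ := by
          apply Subgroup.eq_of_le_of_card_ge hPE
          exact le_of_eq (by rw [(H.card_ess hess).1, (H.card_ess hE₁).1])
        rw [hEq]
        exact ⟨le_rfl, fun α hα u hu => (α u).2⟩
    have h2 : E₁ ≤ F.core := le_sSup hnorm
    rw [hcore] at h2
    have h3 : x₁ = 1 := by
      have h4 := h2 h₁.xE
      rwa [Subgroup.mem_bot] at h4
    apply h₁.xZ
    rw [h3]
    exact one_mem _
  · have hTS' : T = S := eq_of_card_prime_mul (hET h₁) hTS (H.card_ess hE₁).2 hTE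
    intro u hu
    have h1 : u ∈ T := by rw [hTS']; exact hu
    exact ((hT u).mp h1).2

theorem card_zc_eq (H : SCHyp p F) {E V : Subgroup Ω} {x : Ω} (h : EssFacts p F E V x)
    (hZD : centralizerIn S S ≤ commSub S) : Nat.card (centralizerIn S S) = p := by
  obtain ⟨d₀, hD, hd₀ne, hd₀p⟩ := h.gen
  have hZeq : centralizerIn S S = zpowers d₀ := by
    rw [← hD]
    exact le_antisymm hZD h.D_zc
  rw [hZeq, Nat.card_zpowers]
  exact orderOf_eq_prime hd₀p hd₀ne

theorem pow_mem_zc (H : SCHyp p F) {E : Subgroup Ω} (hE : F.IsEssential p E) :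
    ∀ u ∈ S, u ^ p ∈ centralizerIn S S := by
  intro u hu
  have hES := hE.1.1
  have hfinE : Finite E := finite_of_le hES
  by_cases huE : u ∈ E
  · exact pow_mem_of_card_prime_mul (H.zc_le hE) (hES.trans le_normalizer_zc) (H.card_ess hE).1 huE
  · have h1 : u ^ p ∈ E :=
      pow_mem_of_card_prime_mul hES (H.ess_normal hE) (H.card_ess hE).2 hu
    by_contra hZ
    exact huE (H.mem_of_commute hE h1 hZ hu (by rw [← pow_succ', ← pow_succ]))

theorem isExtraspecial_of (H : SCHyp p F) {E V : Subgroup Ω} {x : Ω} (h : EssFacts p F E V x)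
    (hZD : centralizerIn S S ≤ commSub S) : IsExtraspecial p ↥S := by
  have hE := h.ess
  have hcardZ := H.card_zc_eq h hZD
  have hcardC : Nat.card (Subgroup.center ↥S) = p := by
    rw [← Subgroup.card_subtype S (Subgroup.center ↥S), map_center_eq]
    exact hcardZ
  have hcomm : ∀ a b : S, a * b * a⁻¹ * b⁻¹ ∈ Subgroup.center ↥S := by
    intro a b
    rw [mem_center_iff_zc]
    apply h.D_zc
    have h1 := comm_mem_commSub (S := S) (S.inv_mem a.2) b.2
    rw [inv_inv] at h1
    exact h1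
  have hcomm_le : commutator ↥S ≤ Subgroup.center ↥S := by
    rw [_root_.commutator_def, Subgroup.commutator_le]
    intro a _ b _
    rw [commutatorElement_def]
    exact hcomm a b
  have hcomm_ne : commutator ↥S ≠ ⊥ := by
    intro hbot
    apply h.xZ
    refine mem_zc_iff.mpr ⟨h.xS, fun g hg => ?_⟩
    have h1 : ⁅(⟨g, hg⟩ : S), ⟨x, h.xS⟩⁆ ∈ commutator ↥S := by
      rw [_root_.commutator_def]
      exact Subgroup.commutator_mem_commutator (Subgroup.mem_top _) (Subgroup.mem_top _)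
    rw [hbot, Subgroup.mem_bot, commutatorElement_eq_one_iff_mul_comm] at h1
    exact congrArg Subtype.val h1
  have hcomm_eq : commutator ↥S = Subgroup.center ↥S := by
    apply Subgroup.eq_of_le_of_card_ge hcomm_le
    have hdvd := Subgroup.card_dvd_of_le hcomm_le
    rw [hcardC] at hdvd ⊢
    rcases (Nat.dvd_prime Fact.out).mp hdvd with h1 | h1
    · exact absurd (Subgroup.eq_bot_of_card_eq _ h1) hcomm_ne
    · exact le_of_eq h1.symm
  refine ⟨⟨H.pS, ?_, hcomm_eq⟩, hcardC⟩
  apply le_antisymm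
  · apply Cfsg.Agent.Lib.helper71.frattini_le_of_comm_pow (Fact.out : p.Prime) _ hcomm
    intro u
    rw [mem_center_iff_zc, Subgroup.coe_pow]
    exact H.pow_mem_zc hE u u.2
  · rw [← hcomm_eq]
    exact Cfsg.Agent.Lib.helper3.commutator_le_frattini H.pS

end SCHyp

namespace SCHyp

variable [Finite S] {F : FusionSystem S}

theorem exists_dihedral_gens (H : SCHyp 2 F) {E V : Subgroup Ω} {x : Ω}
    (h : EssFacts 2 F E V x) (hZD : centralizerIn S S ≤ commSub S) :
    ∃ c ∈ S, c ^ 2 ≠ 1 ∧ c ^ 4 = 1 ∧ x * c * x⁻¹ = c⁻¹ := by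
  have hE := h.ess
  have hES := h.ES
  have hxS := h.xS
  have hlt := Cfsg.Agent.Lib.helper86.essential_lt H.pS F H.sat hE
  obtain ⟨s, hsS, hsE⟩ := SetLike.exists_of_lt hlt
  obtain ⟨κ, hκdef⟩ : ∃ κ, κ = s * x * s⁻¹ * x⁻¹ := ⟨_, rfl⟩
  have hκD : κ ∈ commSub S := by
    rw [hκdef]
    have h3 := comm_mem_commSub (S := S) (S.inv_mem hsS) hxS
    rwa [inv_inv] at h3
  have hκZ := mem_zc_iff.mp (h.D_zc hκD)
  have hκne : κ ≠ 1 := by
    intro h1
    rw [hκdef] at h1
    have h3 : s * x * s⁻¹ = x := mul_inv_eq_one.mp h1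
    have h4 : s * x = x * s := mul_inv_eq_iff_eq_mul.mp h3
    exact hsE (H.mem_of_commute hE h.xE h.xZ hsS h4)
  have hκ2 : κ * κ = 1 := by
    rw [← pow_two]
    exact h.D_pow hκD
  have hx2 : x * x = 1 := by
    rw [← pow_two]
    exact h.xp
  have hxi : x⁻¹ = x := inv_eq_of_mul_eq_one_left hx2
  obtain ⟨d₀, hD, hd₀ne, hd₀2⟩ := h.gen
  have hDcases : ∀ d ∈ commSub S, d = 1 ∨ d = d₀ := by
    intro d hd
    rw [hD] at hd
    obtain ⟨k, rfl⟩ := mem_zpowers_iff.mp hd
    rcases Int.even_or_odd' k with ⟨j, rfl | rfl⟩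
    · left
      rw [zpow_mul, zpow_ofNat, hd₀2, one_zpow]
    · right
      rw [zpow_add, zpow_mul, zpow_ofNat, hd₀2, one_zpow, one_mul, zpow_one]
  have hκd₀ : κ = d₀ := by
    rcases hDcases κ hκD with h1 | h1
    · exact absurd h1 hκne
    · exact h1
  have hs2 : s ^ 2 ∈ commSub S := hZD (H.pow_mem_zc hE s hsS)
  rcases hDcases _ hs2 with h1 | h1
  · have hss : s * s = 1 := by
      rw [← pow_two]
      exact h1
    have hsi : s⁻¹ = s := inv_eq_of_mul_eq_one_left hss
    have hc2 : (s * x) ^ 2 = κ := by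
      rw [pow_two]
      calc s * x * (s * x) = (s * x * s⁻¹ * x⁻¹) * (x * (s * s) * x) := by group
        _ = κ * (x * 1 * x) := by rw [← hκdef, hss]
        _ = κ := by rw [mul_one, hx2, mul_one]
    refine ⟨s * x, S.mul_mem hsS hxS, ?_, ?_, ?_⟩
    · rw [hc2]
      exact hκne
    · have h5 : (s * x) ^ 4 = ((s * x) ^ 2) ^ 2 := pow_mul (s * x) 2 2
      rw [h5, hc2, pow_two]
      exact hκ2
    · calc x * (s * x) * x⁻¹ = x * s := by group
        _ = x⁻¹ * s⁻¹ := by rw [hxi, hsi]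
        _ = (s * x)⁻¹ := by group
  · have hss : s * s = κ := by
      rw [← pow_two, hκd₀]
      exact h1
    refine ⟨s, hsS, ?_, ?_, ?_⟩
    · rw [h1]
      exact hd₀ne
    · have h5 : s ^ 4 = (s ^ 2) ^ 2 := pow_mul s 2 2
      rw [h5, h1]
      exact hd₀2
    · have hκx : x * κ = κ * x := hκZ.2 x hxS
      have key : s * (x * s * x⁻¹) = 1 := by
        calc s * (x * s * x⁻¹) = (s * x * s⁻¹ * x⁻¹) * (x * (s * s) * x⁻¹) := by group
          _ = κ * (x * κ * x⁻¹) := by rw [← hκdef, hss]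
          _ = κ * (κ * x * x⁻¹) := by rw [hκx]
          _ = κ * κ := by group
          _ = 1 := hκ2
      exact eq_inv_of_mul_eq_one_right key

end SCHyp

end Fusion

end Cfsg.Agent.Lib.helper89
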