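import Mathlib

set_option autoImplicit false

namespace Cfsg.Agent.Lib.helper89

universe u

/-! ### Chains with cyclic steps -/

/-- `C` can be reached from `A` by steps `X ↦ X ⊔ ⟨x⟩`, all subgroups met satisfying `Pp`. -/
inductive CycReach {G : Type*} [Group G] (Pp : Subgroup G → Prop) : Subgroup G → Subgroup G → Prop
  | refl (A : Subgroup G) : Pp A → CycReach Pp A A
  | step (A B C : Subgroup G) : Pp A → A ≤ B → (∃ x : G, B = A ⊔ Subgroup.zpowers x) →
      CycReach Pp B C → CycReach Pp A C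

theorem CycReach.comap {G G' : Type*} [Group G] [Group G'] (f : G →* G')
    (hf : Function.Surjective f) {Pp : Subgroup G → Prop} {Pq : Subgroup G' → Prop}
    (hPp : ∀ N, Pq N → Pp (N.comap f)) (hn : ∀ N, Pq N → N.Normal)
    {A C : Subgroup G'} (h : CycReach Pq A C) : CycReach Pp (A.comap f) (C.comap f) := by
  induction h with
  | refl A hA => exact CycReach.refl _ (hPp A hA)
  | step A B C hA hAB hx _ ih =>
    obtain ⟨x', rfl⟩ := hx
    obtain ⟨x, rfl⟩ := hf x'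
    have hAn := hn A hA
    refine CycReach.step _ ((A ⊔ Subgroup.zpowers (f x)).comap f) _ (hPp A hA)
      (Subgroup.comap_mono hAB) ⟨x, ?_⟩ ih
    apply le_antisymm
    · intro g hg
      rw [Subgroup.mem_comap] at hg
      obtain ⟨a, ha, z, hz, hgz⟩ := Subgroup.mem_sup_of_normal_left.mp hg
      obtain ⟨k, rfl⟩ := Subgroup.mem_zpowers_iff.mp hz
      have h1 : g * (x ^ k)⁻¹ ∈ A.comap f := by
        rw [Subgroup.mem_comap, map_mul, map_inv, map_zpow, ← hgz, mul_inv_cancel_right]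
        exact ha
      have h2 : g = g * (x ^ k)⁻¹ * x ^ k := by group
      rw [h2]
      exact Subgroup.mul_mem _ (Subgroup.mem_sup_left h1)
        (Subgroup.mem_sup_right (Subgroup.zpow_mem _ (Subgroup.mem_zpowers x) k))
    · refine sup_le (Subgroup.comap_mono le_sup_left) ?_
      rw [Subgroup.zpowers_le, Subgroup.mem_comap]
      exact Subgroup.mem_sup_right (Subgroup.mem_zpowers _)

theorem CycReach.exists_chain {G : Type*} [Group G] {Pp : Subgroup G → Prop} {A C : Subgroup G}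
    (h : CycReach Pp A C) :
    ∃ (m : ℕ) (c : Fin (m + 1) → Subgroup G), c 0 = A ∧ c (Fin.last m) = C ∧ (∀ i, Pp (c i)) ∧
      ∀ i : Fin m, c i.castSucc ≤ c i.succ ∧
        ∃ x : G, c i.succ = c i.castSucc ⊔ Subgroup.zpowers x := by
  induction h with
  | refl A hA => exact ⟨0, fun _ => A, rfl, rfl, fun _ => hA, fun i => i.elim0⟩
  | step A B C hA hAB hx _ ih =>
    obtain ⟨m, c, h0, hl, hP, hs⟩ := ih
    refine ⟨m + 1, Fin.cons (α := fun _ => Subgroup G) A c, rfl, ?_, ?_, ?_⟩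
    · rw [← Fin.succ_last, Fin.cons_succ]
      exact hl
    · intro i
      refine Fin.cases ?_ (fun j => ?_) i
      · exact hA
      · rw [Fin.cons_succ]
        exact hP j
    · intro i
      refine Fin.cases ?_ (fun j => ?_) i
      · rw [Fin.castSucc_zero, Fin.cons_zero, Fin.cons_succ, h0]
        exact ⟨hAB, hx⟩
      · rw [← Fin.succ_castSucc, Fin.cons_succ, Fin.cons_succ]
        exact hs j

/-! ### Eigenvectors for automorphisms of exponent dividing `p - 1` -/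

theorem sum_shift_of_eq {M : Type*} [AddCommGroup M] (g : ℕ → M) (n : ℕ) (h : g n = g 0) :
    ∑ j ∈ Finset.range n, g (j + 1) = ∑ j ∈ Finset.range n, g j := by
  have h1 := Finset.sum_range_succ g n
  have h2 := Finset.sum_range_succ' g n
  rw [h1, h] at h2
  exact (add_right_cancel h2).symm

theorem exists_eigen {p : ℕ} [Fact p.Prime] {T : Type*} [CommGroup T]
    (hT : ∀ x : T, x ^ p = 1) (h : T →* T) (hh : ∀ x : T, (⇑h)^[p - 1] x = x)
    {x : T} (hx : x ≠ 1) : ∃ y : T, y ≠ 1 ∧ ∃ n : ℕ, h y = y ^ n := by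
  have hp : p.Prime := Fact.out
  haveI : NeZero p := ⟨hp.ne_zero⟩
  letI : Module (ZMod p) (Additive T) := AddCommGroup.zmodModule (n := p) (fun w => by
    apply Additive.toMul.injective
    rw [toMul_nsmul, toMul_zero]
    exact hT _)
  obtain ⟨f, hf⟩ : ∃ f : Additive T →+ Additive T,
      ∀ w, f w = Additive.ofMul (h (Additive.toMul w)) :=
    ⟨MonoidHom.toAdditive h, fun w => rfl⟩
  have hiter : ∀ (j : ℕ) (w : Additive T),
      (⇑f)^[j] w = Additive.ofMul ((⇑h)^[j] (Additive.toMul w)) := by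
    intro j
    induction j with
    | zero => intro w; rfl
    | succ j ih =>
      intro w
      rw [Function.iterate_succ_apply', Function.iterate_succ_apply', ih, hf]
      rfl
  have hfix : ∀ w : Additive T, (⇑f)^[p - 1] w = w := by
    intro w
    rw [hiter, hh]
    rfl
  have hlin : ∀ (c : ZMod p) (w : Additive T), f (c • w) = c • f w := by
    intro c w
    obtain ⟨k, rfl⟩ : ∃ k : ℕ, c = (k : ZMod p) := ⟨c.val, (ZMod.natCast_zmod_val c).symm⟩
    rw [Nat.cast_smul_eq_nsmul, Nat.cast_smul_eq_nsmul, map_nsmul]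
  obtain ⟨v, hv⟩ : ∃ v : Additive T, v = Additive.ofMul x := ⟨_, rfl⟩
  have hv0 : v ≠ 0 := by
    rw [hv]
    intro h0
    exact hx (ofMul_eq_zero.mp h0)
  obtain ⟨e, he⟩ : ∃ e : (ZMod p)ˣ → Additive T, ∀ l, e l =
      ∑ j ∈ Finset.range (p - 1), (((l⁻¹ : (ZMod p)ˣ) : ZMod p) ^ j) • (⇑f)^[j] v :=
    ⟨_, fun l => rfl⟩
  have hei : ∀ l : (ZMod p)ˣ, f (e l) = (l : ZMod p) • e l := by
    intro l
    rw [he, map_sum]
    have h1 : ∀ j ∈ Finset.range (p - 1),
        f ((((l⁻¹ : (ZMod p)ˣ) : ZMod p) ^ j) • (⇑f)^[j] v) =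
          (l : ZMod p) • ((((l⁻¹ : (ZMod p)ˣ) : ZMod p) ^ (j + 1)) • (⇑f)^[j + 1] v) := by
      intro j _
      rw [hlin, smul_smul, pow_succ', ← mul_assoc, Units.mul_inv, one_mul,
        Function.iterate_succ_apply']
    rw [Finset.sum_congr rfl h1, ← Finset.smul_sum]
    congr 1
    refine sum_shift_of_eq (fun j => (((l⁻¹ : (ZMod p)ˣ) : ZMod p) ^ j) • (⇑f)^[j] v) (p - 1) ?_
    show (((l⁻¹ : (ZMod p)ˣ) : ZMod p) ^ (p - 1)) • (⇑f)^[p - 1] v =
      (((l⁻¹ : (ZMod p)ˣ) : ZMod p) ^ 0) • (⇑f)^[0] v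
    rw [ZMod.pow_card_sub_one_eq_one (Units.ne_zero _), hfix, pow_zero]
    rfl
  have hsum : ∑ l : (ZMod p)ˣ, e l = -v := by
    simp only [he]
    rw [Finset.sum_comm]
    have h2 : ∀ j ∈ Finset.range (p - 1),
        ∑ l : (ZMod p)ˣ, (((l⁻¹ : (ZMod p)ˣ) : ZMod p) ^ j) • (⇑f)^[j] v
          = (if p - 1 ∣ j then (-1 : ZMod p) else 0) • (⇑f)^[j] v := by
      intro j _
      have h4 := FiniteField.sum_pow_units (ZMod p) j
      rw [ZMod.card p] at h4
      have h5 : ∑ l : (ZMod p)ˣ, (((l⁻¹ : (ZMod p)ˣ) : ZMod p) ^ j) =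
          if p - 1 ∣ j then (-1 : ZMod p) else 0 :=
        (Equiv.sum_comp (Equiv.inv (ZMod p)ˣ) (fun l : (ZMod p)ˣ => ((l : ZMod p)) ^ j)).trans h4
      rw [← Finset.sum_smul, h5]
    rw [Finset.sum_congr rfl h2, Finset.sum_eq_single 0]
    · rw [if_pos (dvd_zero _)]
      simp
    · intro j hj hj0
      rw [if_neg, zero_smul]
      intro hdvd
      have h6 := Nat.le_of_dvd (Nat.pos_of_ne_zero hj0) hdvd
      have h7 := Finset.mem_range.mp hj
      omega
    · intro h0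
      exact absurd (Finset.mem_range.mpr (by have := hp.two_le; omega)) h0
  obtain ⟨l, hl⟩ : ∃ l, e l ≠ 0 := by
    by_contra hcon
    push Not at hcon
    rw [Finset.sum_eq_zero (fun l _ => hcon l)] at hsum
    exact hv0 (neg_eq_zero.mp hsum.symm)
  refine ⟨Additive.toMul (e l), fun h1 => hl (toMul_eq_one.mp h1), ((l : ZMod p)).val, ?_⟩
  have h2 := hei l
  rw [hf] at h2
  have h3 : ((l : (ZMod p)ˣ) : ZMod p) • e l = ((l : ZMod p).val) • e l := by
    conv_lhs => rw [← ZMod.natCast_zmod_val (l : ZMod p)]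
    exact Nat.cast_smul_eq_nsmul _ _ _
  rw [h3] at h2
  have h4 := congrArg Additive.toMul h2
  rw [toMul_nsmul] at h4
  exact h4


/-- A nontrivial finite `p`-group with a commuting family of automorphisms of exponent dividing
`p - 1` has a nontrivial central element that every member of the family maps to a power of
itself. -/
theorem exists_central_eigen {p : ℕ} [Fact p.Prime] {G : Type*} [Group G] [Finite G] [Nontrivial G]
    (hG : IsPGroup p G) (H : Set (MulAut G)) (hcomm : ∀ a ∈ H, ∀ b ∈ H, a * b = b * a)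
    (hexp : ∀ a ∈ H, a ^ (p - 1) = 1) :
    ∃ x : G, x ≠ 1 ∧ x ∈ Subgroup.center G ∧ ∀ a ∈ H, ∃ n : ℕ, a x = x ^ n := by
  have hp : p.Prime := Fact.out
  obtain ⟨Z₁, hZ₁⟩ : ∃ Z₁ : Subgroup G, ∀ x, x ∈ Z₁ ↔ x ∈ Subgroup.center G ∧ x ^ p = 1 :=
    ⟨{ carrier := {x | x ∈ Subgroup.center G ∧ x ^ p = 1}
       one_mem' := ⟨Subgroup.one_mem _, one_pow _⟩
       mul_mem' := by
         rintro a b ⟨ha, ha'⟩ ⟨hb, hb'⟩
         refine ⟨Subgroup.mul_mem _ ha hb, ?_⟩
         have hc : Commute a b := Subgroup.mem_center_iff.mp hb a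
         rw [hc.mul_pow, ha', hb', one_mul]
       inv_mem' := by
         rintro a ⟨ha, ha'⟩
         exact ⟨Subgroup.inv_mem _ ha, by rw [inv_pow, ha', inv_one]⟩ }, fun x => Iff.rfl⟩
  -- `Z₁` is nontrivial
  have hZne : Z₁ ≠ ⊥ := by
    have hnt := hG.center_nontrivial
    obtain ⟨z, hz⟩ := exists_ne (1 : Subgroup.center G)
    obtain ⟨k, hk⟩ := (IsPGroup.iff_orderOf.mp hG) (z : G)
    have hz1 : (z : G) ≠ 1 := fun h => hz (Subtype.ext h)
    have hk0 : k ≠ 0 := by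
      rintro rfl
      rw [pow_zero] at hk
      exact hz1 (orderOf_eq_one_iff.mp hk)
    intro hbot
    have hw : (z : G) ^ p ^ (k - 1) ∈ Z₁ := by
      rw [hZ₁]
      refine ⟨Subgroup.pow_mem _ z.2 _, ?_⟩
      rw [← pow_mul, ← pow_succ, Nat.sub_add_cancel (Nat.pos_of_ne_zero hk0), ← hk]
      exact pow_orderOf_eq_one _
    rw [hbot, Subgroup.mem_bot] at hw
    have h1 := orderOf_dvd_of_pow_eq_one hw
    rw [hk] at h1
    have h2 := (Nat.pow_dvd_pow_iff_le_right hp.one_lt).mp h1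
    omega
  have hZinv : ∀ a : MulAut G, ∀ x ∈ Z₁, a x ∈ Z₁ := by
    intro a x hx
    rw [hZ₁] at hx ⊢
    refine ⟨?_, by rw [← map_pow, hx.2, map_one]⟩
    rw [Subgroup.mem_center_iff]
    intro g
    have h1 := Subgroup.mem_center_iff.mp hx.1 (a⁻¹ g)
    have h2 := congrArg a h1
    rw [map_mul, map_mul] at h2
    have h3 : a (a⁻¹ g) = g := by
      rw [← MulAut.mul_apply, mul_inv_cancel, MulAut.one_apply]
    rw [h3] at h2
    exact h2
  -- a minimal invariant subgroup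
  obtain ⟨T, hTmem, hTmin⟩ := wellFounded_lt.has_min
    {T : Subgroup G | T ≠ ⊥ ∧ T ≤ Z₁ ∧ ∀ a ∈ H, ∀ x ∈ T, a x ∈ T}
    ⟨Z₁, hZne, le_rfl, fun a _ x hx => hZinv a x hx⟩
  obtain ⟨hTne, hTZ, hTinv⟩ := hTmem
  have hTc : ∀ s ∈ T, ∀ t : G, s * t = t * s := fun s hs t =>
    (Subgroup.mem_center_iff.mp ((hZ₁ s).mp (hTZ hs)).1 t).symm
  obtain ⟨t₀, ht₀⟩ := Subgroup.ne_bot_iff_exists_ne_one.mp hTne
  have key : ∀ a ∈ H, ∃ n : ℕ, ∀ t ∈ T, a t = t ^ n := by
    intro a ha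
    letI : CommGroup ↥T :=
      { (inferInstance : Group ↥T) with
        mul_comm := fun s t => Subtype.ext (hTc s s.2 t) }
    obtain ⟨aT, haT⟩ : ∃ aT : ↥T →* ↥T, ∀ t : ↥T, ((aT t : ↥T) : G) = a t :=
      ⟨{ toFun := fun t => ⟨a t, hTinv a ha t t.2⟩
         map_one' := Subtype.ext (map_one a)
         map_mul' := fun s t => Subtype.ext (map_mul a (s : G) (t : G)) }, fun t => rfl⟩
    have hiter : ∀ (j : ℕ) (t : ↥T), (((⇑aT)^[j] t : ↥T) : G) = (a ^ j) (t : G) := by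
      intro j
      induction j with
      | zero => intro t; simp
      | succ j ih =>
        intro t
        rw [Function.iterate_succ_apply', haT, ih, pow_succ', MulAut.mul_apply]
    have hfix : ∀ t : ↥T, (⇑aT)^[p - 1] t = t := by
      intro t
      apply Subtype.ext
      rw [hiter, hexp a ha, MulAut.one_apply]
    have hTp : ∀ t : ↥T, t ^ p = 1 := by
      intro t
      apply Subtype.ext
      exact ((hZ₁ _).mp (hTZ t.2)).2
    obtain ⟨y, hy1, n, hyn⟩ := exists_eigen (p := p) hTp aT hfix ht₀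
    have hyn' : a (y : G) = (y : G) ^ n := by
      rw [← haT, hyn]
      rfl
    refine ⟨n, ?_⟩
    obtain ⟨E, hE⟩ : ∃ E : Subgroup G, ∀ t, t ∈ E ↔ t ∈ T ∧ a t = t ^ n :=
      ⟨{ carrier := {t | t ∈ T ∧ a t = t ^ n}
         one_mem' := ⟨T.one_mem, by rw [map_one, one_pow]⟩
         mul_mem' := by
           rintro s t ⟨hs, hs'⟩ ⟨ht, ht'⟩
           refine ⟨T.mul_mem hs ht, ?_⟩
           have hc : Commute s t := hTc s hs t
           rw [map_mul, hs', ht', hc.mul_pow]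
         inv_mem' := by
           rintro s ⟨hs, hs'⟩
           exact ⟨T.inv_mem hs, by rw [map_inv, hs', inv_pow]⟩ }, fun t => Iff.rfl⟩
    have hET : E ≤ T := fun t ht => ((hE t).mp ht).1
    have hEmem : E ∈ {T : Subgroup G | T ≠ ⊥ ∧ T ≤ Z₁ ∧ ∀ a ∈ H, ∀ x ∈ T, a x ∈ T} := by
      refine ⟨?_, hET.trans hTZ, ?_⟩
      · intro hbot
        have h1 : (y : G) ∈ E := (hE _).mpr ⟨y.2, hyn'⟩
        rw [hbot, Subgroup.mem_bot] at h1
        exact hy1 (Subtype.ext h1)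
      · intro b hb t ht
        obtain ⟨htT, hta⟩ := (hE t).mp ht
        refine (hE _).mpr ⟨hTinv b hb t htT, ?_⟩
        rw [← MulAut.mul_apply, hcomm a ha b hb, MulAut.mul_apply, hta, map_pow]
    have hEeq : E = T := eq_of_le_of_not_lt hET (hTmin E hEmem)
    intro t ht
    rw [← hEeq] at ht
    exact ((hE t).mp ht).2
  refine ⟨(t₀ : G), fun h => ht₀ (Subtype.ext h), ((hZ₁ _).mp (hTZ t₀.2)).1, fun a ha => ?_⟩
  obtain ⟨n, hn⟩ := key a ha
  exact ⟨n, hn _ t₀.2⟩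

/-- A finite `p`-group with a commuting family `H` of automorphisms of exponent dividing `p - 1`
has a chain of normal `H`-invariant subgroups from `⊥` to `⊤` with cyclic steps. -/
theorem cycReach_bot_top {p : ℕ} [Fact p.Prime] :
    ∀ (n : ℕ) (G : Type u) [Group G] [Finite G], Nat.card G = n → IsPGroup p G →
      ∀ (H : Set (MulAut G)), (∀ a ∈ H, ∀ b ∈ H, a * b = b * a) → (∀ a ∈ H, a ^ (p - 1) = 1) →
        CycReach (fun N : Subgroup G => N.Normal ∧ ∀ a ∈ H, ∀ x ∈ N, a x ∈ N) ⊥ ⊤ := by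
  intro n
  induction n using Nat.strong_induction_on with
  | _ n ih =>
    intro G _ _ hn hG H hcomm hexp
    by_cases htriv : Subsingleton G
    · have hbt : (⊥ : Subgroup G) = ⊤ := by
        ext x
        simp [Subsingleton.elim x 1]
      rw [← hbt]
      exact CycReach.refl ⊥ ⟨inferInstance, fun a _ x hx => by
        rw [Subgroup.mem_bot] at hx ⊢
        rw [hx, map_one]⟩
    · have hnt : Nontrivial G := not_subsingleton_iff_nontrivial.mp htriv
      obtain ⟨x, hx1, hxc, hxe⟩ := exists_central_eigen hG H hcomm hexp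
      obtain ⟨T, hT⟩ : ∃ T : Subgroup G, T = Subgroup.zpowers x := ⟨_, rfl⟩
      have hTc : T ≤ Subgroup.center G := by
        rw [hT, Subgroup.zpowers_le]
        exact hxc
      have hTn : T.Normal := ⟨fun t ht g => by
        have h1 := Subgroup.mem_center_iff.mp (hTc ht) g
        rw [h1, mul_inv_cancel_right]
        exact ht⟩
      have hTinv : ∀ a ∈ H, ∀ t ∈ T, a t ∈ T := by
        intro a ha t ht
        rw [hT] at ht ⊢
        obtain ⟨k, rfl⟩ := Subgroup.mem_zpowers_iff.mp ht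
        obtain ⟨m, hm⟩ := hxe a ha
        rw [map_zpow, hm]
        exact Subgroup.zpow_mem _ (Subgroup.pow_mem _ (Subgroup.mem_zpowers x) m) k
      have hTmap : ∀ a ∈ H, T.map (a : G ≃* G).toMonoidHom = T := fun a ha =>
        Subgroup.eq_of_le_of_card_ge (by
          rintro _ ⟨t, ht, rfl⟩
          exact hTinv a ha t ht)
          (le_of_eq (Subgroup.card_map_of_injective (f := (a : G ≃* G).toMonoidHom)
            a.injective).symm)
      obtain ⟨H', hH'⟩ : ∃ H' : Set (MulAut (G ⧸ T)), ∀ b, b ∈ H' ↔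
          ∃ a ∈ H, ∀ g : G, b (QuotientGroup.mk g) = QuotientGroup.mk (a g) :=
        ⟨{b | ∃ a ∈ H, ∀ g : G, b (QuotientGroup.mk g) = QuotientGroup.mk (a g)}, fun b => Iff.rfl⟩
      have hex : ∀ a ∈ H, ∃ b ∈ H', ∀ g : G, b (QuotientGroup.mk g) = QuotientGroup.mk (a g) := by
        intro a ha
        have h1 : ∀ g : G, (QuotientGroup.congr T T a (hTmap a ha)) (QuotientGroup.mk g) =
            QuotientGroup.mk (a g) := fun g => QuotientGroup.congr_mk _ _ _ _ g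
        exact ⟨QuotientGroup.congr T T a (hTmap a ha), (hH' _).mpr ⟨a, ha, h1⟩, h1⟩
      have hcomm' : ∀ b₁ ∈ H', ∀ b₂ ∈ H', b₁ * b₂ = b₂ * b₁ := by
        intro b₁ h₁ b₂ h₂
        obtain ⟨a₁, ha₁, e₁⟩ := (hH' b₁).mp h₁
        obtain ⟨a₂, ha₂, e₂⟩ := (hH' b₂).mp h₂
        apply MulEquiv.ext
        intro q
        obtain ⟨g, rfl⟩ := QuotientGroup.mk_surjective q
        rw [MulAut.mul_apply, MulAut.mul_apply, e₂, e₁, e₁, e₂, ← MulAut.mul_apply,
          ← MulAut.mul_apply, hcomm a₁ ha₁ a₂ ha₂]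
      have hexp' : ∀ b ∈ H', b ^ (p - 1) = 1 := by
        intro b hb
        obtain ⟨a, ha, e⟩ := (hH' b).mp hb
        have hpow : ∀ (j : ℕ) (g : G),
            (b ^ j) (QuotientGroup.mk g) = QuotientGroup.mk ((a ^ j) g) := by
          intro j
          induction j with
          | zero => intro g; simp
          | succ j ihj =>
            intro g
            rw [pow_succ', MulAut.mul_apply, ihj, e, pow_succ', MulAut.mul_apply]
        apply MulEquiv.ext
        intro q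
        obtain ⟨g, rfl⟩ := QuotientGroup.mk_surjective q
        rw [hpow, hexp a ha]
        rfl
      have hcard : Nat.card (G ⧸ T) < n := by
        rw [← hn, ← Subgroup.index_eq_card, ← Subgroup.card_mul_index T]
        have h1 : 1 < Nat.card T := T.one_lt_card_iff_ne_bot.mpr (by
          rw [hT]
          intro h0
          exact hx1 (Subgroup.zpowers_eq_bot.mp h0))
        have h2 : 0 < T.index := Nat.pos_of_ne_zero Subgroup.index_ne_zero_of_finite
        nlinarith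
      have hGq : IsPGroup p (G ⧸ T) := hG.to_quotient T
      have ih' := ih _ hcard (G ⧸ T) rfl hGq H' hcomm' hexp'
      have hpull := CycReach.comap (QuotientGroup.mk' T) (QuotientGroup.mk'_surjective T)
        (Pp := fun N : Subgroup G => N.Normal ∧ ∀ a ∈ H, ∀ x ∈ N, a x ∈ N)
        (fun N hN => ⟨hN.1.comap _, fun a ha x hx => by
          obtain ⟨b, hb, hbe⟩ := hex a ha
          rw [Subgroup.mem_comap] at hx ⊢
          have h1 := hN.2 b hb _ hx
          rw [QuotientGroup.mk'_apply, hbe] at h1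
          exact h1⟩) (fun N hN => hN.1) ih'
      rw [MonoidHom.comap_bot, QuotientGroup.ker_mk', Subgroup.comap_top] at hpull
      refine CycReach.step ⊥ T ⊤ ⟨inferInstance, fun a _ y hy => ?_⟩ bot_le
        ⟨x, by rw [bot_sup_eq, hT]⟩ hpull
      rw [Subgroup.mem_bot] at hy ⊢
      rw [hy, map_one]

/-! ### Automorphisms acting on a cyclic section -/

theorem exists_gen_of_le_zpowers {G Q : Type*} [Group G] [Group Q] (ρ : G →* Q) (M : Subgroup G)
    (q : Q) (h : ∀ y ∈ M, ρ y ∈ Subgroup.zpowers q) :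
    ∃ y₀ ∈ M, ∀ y ∈ M, ρ y ∈ Subgroup.zpowers (ρ y₀) := by
  have hle : M.map ρ ≤ Subgroup.zpowers q := by
    rintro _ ⟨y, hy, rfl⟩
    exact h y hy
  have hcyc : IsCyclic ↥(M.map ρ) := Subgroup.isCyclic_of_le hle
  obtain ⟨g, hg⟩ := IsCyclic.exists_generator (α := ↥(M.map ρ))
  obtain ⟨y₀, hy₀, hgy⟩ := g.2
  refine ⟨y₀, hy₀, fun y hy => ?_⟩
  obtain ⟨k, hk⟩ := Subgroup.mem_zpowers_iff.mp (hg ⟨ρ y, ⟨y, hy, rfl⟩⟩)
  rw [hgy]
  refine Subgroup.mem_zpowers_iff.mpr ⟨k, ?_⟩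
  have h1 := congrArg Subtype.val hk
  simpa using h1

theorem section_pow {G Q : Type*} [Group G] [Group Q] (ρ : G →* Q) (M : Subgroup G)
    {y₀ : G} (hy₀ : y₀ ∈ M) (hcyc : ∀ y ∈ M, ρ y ∈ Subgroup.zpowers (ρ y₀))
    (a : MulAut G) (haM : ∀ x ∈ M, a x ∈ M) (haK : ∀ x, ρ x = 1 → ρ (a x) = 1) :
    ∃ n : ℤ, ∀ y ∈ M, ρ (a y) = ρ y ^ n := by
  obtain ⟨n, hn⟩ := Subgroup.mem_zpowers_iff.mp (hcyc _ (haM _ hy₀))
  refine ⟨n, fun y hy => ?_⟩
  obtain ⟨k, hk⟩ := Subgroup.mem_zpowers_iff.mp (hcyc y hy)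
  have h1 : ρ (y₀ ^ (-k) * y) = 1 := by
    rw [map_mul, map_zpow, ← hk, ← zpow_add, neg_add_cancel, zpow_zero]
  have h2 := haK _ h1
  rw [map_mul, map_zpow, map_mul, map_zpow, ← hn] at h2
  have h3 : ρ (a y) = (ρ y₀ ^ n) ^ k := by
    have h4 := eq_inv_of_mul_eq_one_right h2
    rw [h4, zpow_neg, inv_inv]
  rw [h3, ← hk, ← zpow_mul, ← zpow_mul, mul_comm]

theorem section_comm {G Q : Type*} [Group G] [Group Q] (ρ : G →* Q) (M : Subgroup G)
    {y₀ : G} (hy₀ : y₀ ∈ M) (hcyc : ∀ y ∈ M, ρ y ∈ Subgroup.zpowers (ρ y₀))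
    (A : Subgroup (MulAut G)) (hAM : ∀ a ∈ A, ∀ x ∈ M, a x ∈ M)
    (hAK : ∀ a ∈ A, ∀ x, ρ x = 1 → ρ (a x) = 1)
    {a b : MulAut G} (ha : a ∈ A) (hb : b ∈ A) :
    ∀ x ∈ M, ρ ((a * b * a⁻¹ * b⁻¹) x) = ρ x := by
  obtain ⟨n, hn⟩ := section_pow ρ M hy₀ hcyc a (hAM a ha) (hAK a ha)
  obtain ⟨m, hm⟩ := section_pow ρ M hy₀ hcyc b (hAM b hb) (hAK b hb)
  have h1 : ∀ z ∈ M, ρ ((a * b) z) = ρ ((b * a) z) := by
    intro z hz
    rw [MulAut.mul_apply, MulAut.mul_apply, hn _ (hAM b hb z hz), hm z hz,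
      hm _ (hAM a ha z hz), hn z hz, ← zpow_mul, ← zpow_mul, mul_comm]
  intro x hx
  have hz : (b * a)⁻¹ x ∈ M := hAM _ (A.inv_mem (A.mul_mem hb ha)) x hx
  have h2 := h1 _ hz
  have e0 : a * b * a⁻¹ * b⁻¹ = (a * b) * (b * a)⁻¹ := by group
  have e1 : (a * b * a⁻¹ * b⁻¹) x = (a * b) ((b * a)⁻¹ x) := by
    rw [e0, MulAut.mul_apply]
  have e2 : (b * a) ((b * a)⁻¹ x) = x := by
    rw [← MulAut.mul_apply, mul_inv_cancel, MulAut.one_apply]
  rw [e1, h2, e2]

theorem section_exp {p : ℕ} [Fact p.Prime] {G Q : Type*} [Group G] [Group Q] (ρ : G →* Q)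
    (M : Subgroup G) {y₀ : G} (hy₀ : y₀ ∈ M)
    (hcyc : ∀ y ∈ M, ρ y ∈ Subgroup.zpowers (ρ y₀)) (k : ℕ) (hk : ρ y₀ ^ (p ^ k) = 1)
    (A : Subgroup (MulAut G)) (hAM : ∀ a ∈ A, ∀ x ∈ M, a x ∈ M)
    (hAK : ∀ a ∈ A, ∀ x, ρ x = 1 → ρ (a x) = 1) {a : MulAut G} (ha : a ∈ A) :
    ∀ x ∈ M, ρ ((a ^ ((p - 1) * p ^ k)) x) = ρ x := by
  have hp : p.Prime := Fact.out
  obtain ⟨n, hn⟩ := section_pow ρ M hy₀ hcyc a (hAM a ha) (hAK a ha)
  obtain ⟨n', hn'⟩ := section_pow ρ M hy₀ hcyc a⁻¹ (hAM _ (A.inv_mem ha)) (hAK _ (A.inv_mem ha))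
  have hpow : ∀ (j : ℕ), ∀ x ∈ M, ρ ((a ^ j) x) = ρ x ^ (n ^ j) := by
    intro j
    induction j with
    | zero => intro x hx; simp
    | succ j ih =>
      intro x hx
      rw [pow_succ', MulAut.mul_apply, hn _ (hAM _ (A.pow_mem ha j) x hx), ih x hx, ← zpow_mul,
        pow_succ]
  have hg : ρ y₀ ^ (n * n') = ρ y₀ := by
    have h1 := hn _ (hAM _ (A.inv_mem ha) y₀ hy₀)
    rw [hn' y₀ hy₀] at h1
    have h2 : a (a⁻¹ y₀) = y₀ := by
      rw [← MulAut.mul_apply, mul_inv_cancel, MulAut.one_apply]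
    rw [h2, ← zpow_mul, mul_comm] at h1
    exact h1.symm
  have hkey : ρ y₀ ^ (n ^ ((p - 1) * p ^ k)) = ρ y₀ := by
    by_cases h1 : ρ y₀ = 1
    · rw [h1, one_zpow]
    · have hnp : ¬ (p : ℤ) ∣ n := by
        intro hdvd
        have h2 : ρ y₀ ^ (n * n' - 1) = 1 := by
          rw [zpow_sub, hg, zpow_one, mul_inv_cancel]
        have h3 : (orderOf (ρ y₀) : ℤ) ∣ n * n' - 1 := orderOf_dvd_iff_zpow_eq_one.mpr h2
        have h4 : orderOf (ρ y₀) ∣ p ^ k := orderOf_dvd_of_pow_eq_one hk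
        obtain ⟨j, -, hjo⟩ := (Nat.dvd_prime_pow hp).mp h4
        have hj0 : j ≠ 0 := by
          rintro rfl
          rw [pow_zero] at hjo
          exact h1 (orderOf_eq_one_iff.mp hjo)
        have h5 : (p : ℤ) ∣ n * n' - 1 := by
          refine dvd_trans ?_ h3
          rw [hjo]
          push_cast
          exact dvd_pow_self _ hj0
        have h6 : (p : ℤ) ∣ n * n' := Dvd.dvd.mul_right hdvd n'
        have h7 : (p : ℤ) ∣ 1 := by
          have h8 := dvd_sub h6 h5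
          simpa using h8
        have h9 : p ∣ 1 := by exact_mod_cast h7
        exact hp.one_lt.ne' (Nat.dvd_one.mp h9)
      have hcop : IsCoprime n (p : ℤ) :=
        ((Nat.prime_iff_prime_int.mp hp).coprime_iff_not_dvd.mpr hnp).symm
      have hfer := Int.ModEq.pow_card_sub_one_eq_one hp hcop
      have h2 : (p : ℤ) ∣ n ^ (p - 1) - 1 := hfer.symm.dvd
      have h3 := dvd_sub_pow_of_dvd_sub h2 k
      rw [← pow_mul, one_pow] at h3
      have h4 : ((p : ℤ) ^ k) ∣ n ^ ((p - 1) * p ^ k) - 1 :=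
        dvd_trans (pow_dvd_pow _ (Nat.le_succ k)) h3
      obtain ⟨t, ht⟩ := h4
      have h5 : ρ y₀ ^ (n ^ ((p - 1) * p ^ k) - 1) = 1 := by
        rw [ht, zpow_mul]
        have h6 : ρ y₀ ^ ((p : ℤ) ^ k) = 1 := by
          have h7 : ((p : ℤ) ^ k) = ((p ^ k : ℕ) : ℤ) := by push_cast; rfl
          rw [h7, zpow_natCast, hk]
        rw [h6, one_zpow]
      have h6 : n ^ ((p - 1) * p ^ k) = (n ^ ((p - 1) * p ^ k) - 1) + 1 := by ring
      rw [h6, zpow_add, h5, one_mul, zpow_one]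
  intro x hx
  obtain ⟨m, hm⟩ := Subgroup.mem_zpowers_iff.mp (hcyc x hx)
  rw [hpow _ x hx, ← hm, ← zpow_mul, mul_comm, zpow_mul, hkey]

/-- If all commutators of a finite group lie in a `p`-subgroup, a Sylow `p`-subgroup is normal. -/
theorem exists_normal_sylow_of_comm {p : ℕ} [Fact p.Prime] {Γ : Type*} [Group Γ] [Finite Γ]
    (K : Subgroup Γ) (hK : IsPGroup p K) (hcomm : ∀ a b : Γ, a * b * a⁻¹ * b⁻¹ ∈ K) :
    ∃ R : Sylow p Γ, (R : Subgroup Γ).Normal := by
  obtain ⟨R, hR⟩ := hK.exists_le_sylow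
  refine ⟨R, ⟨fun r hr a => ?_⟩⟩
  have h1 : a * r * a⁻¹ = (a * r * a⁻¹ * r⁻¹) * r := by group
  rw [h1]
  exact (R : Subgroup Γ).mul_mem (hR (hcomm a r)) hr

end Cfsg.Agent.Lib.helper89
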