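import Mathlib
import Cfsg.Agent.S1137

set_option autoImplicit false

namespace Cfsg.Agent.Lib.helper89.Suz

open Cfsg.Agent.S1137

universe u v

/-! ### pure group identities for `cm` -/
section ident
variable {G : Type u} [Group G]

theorem cm_mul_l (x y z : G) : cm (x * y) z = y⁻¹ * cm x z * y * cm y z := by unfold cm; group
theorem cm_mul_r (x y z : G) : cm x (y * z) = cm x z * (z⁻¹ * cm x y * z) := by unfold cm; group
theorem cm_inv_swap (x y : G) : cm y x = (cm x y)⁻¹ := by unfold cm; group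
theorem conj_eq_mul_cm (x g : G) : g⁻¹ * x * g = x * cm x g := by unfold cm; group
theorem sq_mul_cm (x y : G) : (x * y) * (x * y) = (x * x) * cm x y⁻¹ * (y * y) := by
  unfold cm; group
theorem cm_eq_sq (x y : G) : cm x y = (x * x)⁻¹ * ((x * y⁻¹) * (x * y⁻¹)) * (y * y) := by
  unfold cm; group
theorem cm_inv_l (g x : G) : cm g⁻¹ x = g * (cm g x)⁻¹ * g⁻¹ := by unfold cm; group
theorem cm_conj (y x w : G) : cm (y * x * y⁻¹) w = y * cm x (y⁻¹ * w * y) * y⁻¹ := by
  unfold cm; group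
theorem cm_one_l (x : G) : cm 1 x = 1 := by unfold cm; group
theorem cm_one_r (x : G) : cm x 1 = 1 := by unfold cm; group
theorem cm_eq_one_of_comm {x y : G} (e : x * y = y * x) : cm x y = 1 := by
  unfold cm; rw [e]; group

/-- in a 2-group every nontrivial element has a power which is an involution -/
theorem pow_invol (hQ : IsPGroup 2 G) {x : G} (hx : x ≠ 1) :
    ∃ m : ℕ, x ^ m ≠ 1 ∧ x ^ m * x ^ m = 1 := by
  have : Fact (Nat.Prime 2) := ⟨Nat.prime_two⟩
  obtain ⟨j, hj⟩ := (IsPGroup.iff_orderOf.mp hQ) x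
  have hj0 : j ≠ 0 := by
    rintro rfl
    rw [pow_zero, orderOf_eq_one_iff] at hj
    exact hx hj
  obtain ⟨i, rfl⟩ := Nat.exists_eq_succ_of_ne_zero hj0
  refine ⟨2 ^ i, ?_, ?_⟩
  · intro h1
    have h3 := orderOf_dvd_of_pow_eq_one h1
    rw [hj] at h3
    have h2 := Nat.le_of_dvd (by positivity) h3
    rw [pow_succ] at h2
    have : 0 < 2 ^ i := by positivity
    omega
  · rw [← pow_add, ← two_mul, ← pow_succ', ← hj, pow_orderOf_eq_one]

/-- A nontrivial normal subgroup of a nilpotent group meets the centre nontrivially. -/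
theorem normal_inf_center_ne_bot' {Q : Type*} [Group Q] [hG : Group.IsNilpotent Q]
    (H : Subgroup Q) [hn : H.Normal] (hH : H ≠ ⊥) : H ⊓ Subgroup.center Q ≠ ⊥ := by
  obtain ⟨n, hn'⟩ := hG.nilpotent'
  have key : ∀ n : ℕ, H ⊓ Subgroup.upperCentralSeries Q n ≠ ⊥ → H ⊓ Subgroup.center Q ≠ ⊥ := by
    intro n
    induction n with
    | zero =>
      intro h
      exact absurd (by simp) h
    | succ n ih =>
      intro h
      by_cases h0 : H ⊓ Subgroup.upperCentralSeries Q n = ⊥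
      · obtain ⟨x, hx1⟩ := (Subgroup.ne_bot_iff_exists_ne_one).mp h
        have hx1' : (x : Q) ≠ 1 := fun h => hx1 (Subtype.ext h)
        have hxH : (x : Q) ∈ H := (Subgroup.mem_inf.mp x.2).1
        have hxZ : (x : Q) ∈ Subgroup.upperCentralSeries Q (n + 1) := (Subgroup.mem_inf.mp x.2).2
        rw [Subgroup.mem_upperCentralSeries_succ_iff] at hxZ
        have hc : (x : Q) ∈ Subgroup.center Q := by
          rw [Subgroup.mem_center_iff]
          intro g
          have h1 : (x : Q) * g * (x : Q)⁻¹ * g⁻¹ ∈ Subgroup.upperCentralSeries Q n := hxZ g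
          have h2 : (x : Q) * g * (x : Q)⁻¹ * g⁻¹ ∈ H := by
            have := hn.conj_mem _ (H.inv_mem hxH) g
            have h3 : (x : Q) * g * (x : Q)⁻¹ * g⁻¹ = (x : Q) * (g * (x : Q)⁻¹ * g⁻¹) := by group
            rw [h3]
            exact H.mul_mem hxH this
          have h3 : (x : Q) * g * (x : Q)⁻¹ * g⁻¹ ∈ H ⊓ Subgroup.upperCentralSeries Q n := ⟨h2, h1⟩
          rw [h0, Subgroup.mem_bot] at h3
          have h4 : (x : Q) * g = g * (x : Q) := by
            have : (x : Q) * g = ((x : Q) * g * (x : Q)⁻¹ * g⁻¹) * (g * (x : Q)) := by group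
            rw [this, h3, one_mul]
          exact h4.symm
        intro hbot
        have : (x : Q) ∈ H ⊓ Subgroup.center Q := ⟨hxH, hc⟩
        rw [hbot, Subgroup.mem_bot] at this
        exact hx1' this
      · exact ih h0
  apply key n
  rw [hn', inf_top_eq]
  exact hH

theorem exists_central_invol_in {Q : Type*} [Group Q] [Finite Q] (hQ : IsPGroup 2 Q)
    (X : Subgroup Q) [X.Normal] (hX : X ≠ ⊥) :
    ∃ y ∈ X, y ∈ Subgroup.center Q ∧ y ≠ 1 ∧ y * y = 1 := by
  have : Fact (Nat.Prime 2) := ⟨Nat.prime_two⟩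
  have : Group.IsNilpotent Q := hQ.isNilpotent
  have hne := normal_inf_center_ne_bot' X hX
  obtain ⟨a, ha1⟩ := (Subgroup.ne_bot_iff_exists_ne_one).mp hne
  have ha1' : (a : Q) ≠ 1 := fun h => ha1 (Subtype.ext h)
  obtain ⟨m, hm1, hm2⟩ := pow_invol hQ ha1'
  have hmem : (a : Q) ^ m ∈ X ⊓ Subgroup.center Q := Subgroup.pow_mem _ a.2 m
  exact ⟨(a : Q) ^ m, (Subgroup.mem_inf.mp hmem).1, (Subgroup.mem_inf.mp hmem).2, hm1, hm2⟩

/-- the `p`-group lemma: a normal subgroup `X` not inside the normal subgroup `Y` has an element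
outside `Y` which is an involution and central modulo `Y`. -/
theorem PG [Finite G] (hpg : IsPGroup 2 G) {Y X : Subgroup G} [Y.Normal] [X.Normal] {x₁ : G}
    (hx₁ : x₁ ∈ X) (hx₁Y : x₁ ∉ Y) :
    ∃ x ∈ X, x ∉ Y ∧ x * x ∈ Y ∧ ∀ g, cm x g ∈ Y := by
  have hXn : (X.map (QuotientGroup.mk' Y)).Normal :=
    Subgroup.Normal.map inferInstance _ (QuotientGroup.mk'_surjective Y)
  have hXne : X.map (QuotientGroup.mk' Y) ≠ ⊥ := by
    intro hbot
    have : QuotientGroup.mk' Y x₁ ∈ X.map (QuotientGroup.mk' Y) := Subgroup.mem_map_of_mem _ hx₁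
    rw [hbot, Subgroup.mem_bot] at this
    exact hx₁Y ((QuotientGroup.eq_one_iff x₁).mp this)
  obtain ⟨y, hyX, hyc, hy1, hyy⟩ := exists_central_invol_in (hpg.to_quotient Y) _ hXne
  obtain ⟨x, hx, rfl⟩ := Subgroup.mem_map.mp hyX
  refine ⟨x, hx, ?_, ?_, ?_⟩
  · intro hxY; exact hy1 ((QuotientGroup.eq_one_iff x).mpr hxY)
  · have : ((x * x : G) : G ⧸ Y) = 1 := hyy
    exact (QuotientGroup.eq_one_iff _).mp this
  · intro g
    have h1 := Subgroup.mem_center_iff.mp hyc (QuotientGroup.mk' Y g)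
    have h2 : ((g * x : G) : G ⧸ Y) = ((x * g : G) : G ⧸ Y) := h1
    exact QuotientGroup.eq.mp h2

end ident

/-- `K`-invariant subgroup -/
def Inv {G : Type u} [Group G] {K : Type v} (f : K → G →* G) (H : Subgroup G) : Prop :=
  ∀ k, ∀ x ∈ H, f k x ∈ H

/-- restricted action on an invariant subgroup -/
def resf {G : Type u} [Group G] {K : Type v} (f : K → G →* G) (H : Subgroup G) (hH : Inv f H) :
    K → H →* H :=
  fun k => ((f k).comp H.subtype).codRestrict H (fun x => hH k x x.2)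

section hyp
variable {G : Type u} [Group G] {K : Type v} [Group K] {f : K → G →* G} (h : Hyp G K f)
include h

theorem V_central {z : G} (hz : z ∈ h.V) (g : G) : z * g = g * z :=
  (Subgroup.mem_center_iff.mp (h.sq_one_central (h.mem_V.mp hz)) g).symm

theorem conj_V {z : G} (hz : z ∈ h.V) (g : G) : g⁻¹ * z * g = z := by
  rw [mul_assoc, V_central h hz g, ← mul_assoc, inv_mul_cancel, one_mul]

theorem V_inv : Inv f h.V := fun k x hx => by
  rw [h.mem_V] at hx ⊢
  rw [← map_mul, hx, map_one]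

theorem V_inv_eq {z : G} (hz : z ∈ h.V) : z⁻¹ = z :=
  inv_eq_of_mul_eq_one_left (h.mem_V.mp hz)

theorem V_normal : h.V.Normal :=
  ⟨fun z hz g => by
    have : g * z * g⁻¹ = z := by
      rw [mul_assoc, V_central h hz g⁻¹, ← mul_assoc, mul_inv_cancel, one_mul]
    rw [this]; exact hz⟩

theorem inv_iff {H : Subgroup G} (hH : Inv f H) (k : K) {x : G} : f k x ∈ H ↔ x ∈ H := by
  constructor
  · intro hx
    have := hH k⁻¹ _ hx
    rwa [h.inv_left] at this
  · exact hH k x

theorem cm_mul_l' {x z : G} (hx : cm x z ∈ h.V) (y : G) : cm (x * y) z = cm x z * cm y z := by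
  rw [cm_mul_l, conj_V h hx]

theorem cm_mul_r' {x y : G} (hx : cm x y ∈ h.V) (z : G) : cm x (y * z) = cm x y * cm x z := by
  rw [cm_mul_r, conj_V h hx]
  exact (V_central h hx _).symm

theorem cm_inv_r' {x y : G} (hx : cm x y ∈ h.V) : cm x y⁻¹ = (cm x y)⁻¹ := by
  have := cm_mul_r' h hx y⁻¹
  rw [mul_inv_cancel, cm_one_r] at this
  exact eq_inv_of_mul_eq_one_right this.symm

theorem exists_pow_invol {x : G} (hx : x ≠ 1) : ∃ m : ℕ, x ^ m ≠ 1 ∧ x ^ m * x ^ m = 1 :=
  pow_invol h.pg hx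

theorem fpf {k : K} {x : G} (e : f k x = x) : k = 1 ∨ x = 1 := by
  by_contra hc
  push Not at hc
  obtain ⟨m, hm1, hm2⟩ := exists_pow_invol h hc.2
  have e2 : f k (x ^ m) = f 1 (x ^ m) := by rw [map_pow, e, h.one]
  exact hc.1 (h.reg_eq hm1 hm2 e2)

theorem V_le {H : Subgroup G} (hH : Inv f H) {x : G} (hx : x ∈ H) (hx1 : x ≠ 1) : h.V ≤ H := by
  intro z hz
  obtain ⟨m, hm1, hm2⟩ := exists_pow_invol h hx1
  by_cases hz1 : z = 1
  · rw [hz1]; exact H.one_mem
  · obtain ⟨k, hk, -⟩ := h.reg (x ^ m) z hm1 hm2 hz1 (h.mem_V.mp hz)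
    rw [← hk]
    exact hH k _ (H.pow_mem hx m)

theorem fpf_mod {A : Subgroup G} (hA : Inv f A) {k : K} {x : G} (e : x⁻¹ * f k x ∈ A) :
    k = 1 ∨ x ∈ A := by
  have := h.fin
  by_cases hk : k = 1
  · exact Or.inl hk
  · right
    have hinj : Function.Injective (fun a : A =>
        (⟨(a : G)⁻¹ * f k a, A.mul_mem (A.inv_mem a.2) (hA k a a.2)⟩ : A)) := by
      intro a b hab
      have hab' : (a : G)⁻¹ * f k a = (b : G)⁻¹ * f k b := congrArg Subtype.val hab
      have e2 : f k ((a : G) * (b : G)⁻¹) = (a : G) * (b : G)⁻¹ := by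
        rw [map_mul, map_inv]
        have h3 : f k (a : G) = (a : G) * ((b : G)⁻¹ * f k b) := by rw [← hab']; group
        rw [h3]; group
      rcases fpf h e2 with h1 | h1
      · exact absurd h1 hk
      · exact Subtype.ext (mul_inv_eq_one.mp h1)
    obtain ⟨a, ha⟩ := (Finite.injective_iff_surjective.mp hinj) ⟨x⁻¹ * f k x, e⟩
    have ha' : (a : G)⁻¹ * f k a = x⁻¹ * f k x := congrArg Subtype.val ha
    have e2 : f k (x * (a : G)⁻¹) = x * (a : G)⁻¹ := by
      rw [map_mul, map_inv]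
      have h3 : f k x = x * ((a : G)⁻¹ * f k a) := by rw [ha']; group
      rw [h3]; group
    rcases fpf h e2 with h1 | h1
    · exact absurd h1 hk
    · rw [mul_inv_eq_one.mp h1]; exact a.2

theorem exists_invol : ∃ z : G, z ≠ 1 ∧ z * z = 1 := by
  obtain ⟨x, y, -, hx1, hxx, -, -⟩ := h.two
  exact ⟨x, hx1, hxx⟩

theorem finite_K : Finite K := by
  have := h.fin
  obtain ⟨z, hz1, hzz⟩ := exists_invol h
  exact Finite.of_injective (fun k => f k z) (fun k k' e => h.reg_eq hz1 hzz e)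

theorem exists_k_ne_one : ∃ k : K, k ≠ 1 := by
  obtain ⟨x, y, hxy, hx1, hxx, hy1, hyy⟩ := h.two
  obtain ⟨k, hk, -⟩ := h.reg x y hx1 hxx hy1 hyy
  refine ⟨k, ?_⟩
  rintro rfl
  rw [h.one] at hk
  exact hxy hk

/-- the bijection `Option K → V` given by an involution. -/
theorem opt_bij {z : G} (hz1 : z ≠ 1) (hzz : z * z = 1) :
    Function.Bijective (fun o : Option K =>
      (Option.elim o (1 : h.V) (fun k => ⟨f k z, V_inv h k z (h.mem_V.mpr hzz)⟩) : h.V)) := by
  constructor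
  · intro a b hab
    cases a with
    | none =>
      cases b with
      | none => rfl
      | some k =>
        exfalso
        have e : (1 : G) = f k z := congrArg Subtype.val hab
        have e2 : f k z = f k 1 := by rw [map_one]; exact e.symm
        exact hz1 (h.inj k e2)
    | some k =>
      cases b with
      | none =>
        exfalso
        have e : f k z = (1 : G) := congrArg Subtype.val hab
        have e2 : f k z = f k 1 := by rw [map_one]; exact e
        exact hz1 (h.inj k e2)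
      | some k' =>
        have e : f k z = f k' z := congrArg Subtype.val hab
        rw [h.reg_eq hz1 hzz e]
  · intro w
    by_cases hw : (w : G) = 1
    · exact ⟨none, Subtype.ext hw.symm⟩
    · obtain ⟨k, hk, -⟩ := h.reg z w hz1 hzz hw (h.mem_V.mp w.2)
      exact ⟨some k, Subtype.ext hk⟩

theorem card_V : Nat.card h.V = Nat.card K + 1 := by
  have := h.fin
  have := finite_K h
  obtain ⟨z, hz1, hzz⟩ := exists_invol h
  rw [← Nat.card_eq_of_bijective _ (opt_bij h hz1 hzz), Finite.card_option]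

theorem card_K_pow : ∃ n : ℕ, Nat.card K + 1 = 2 ^ n := by
  have := h.fin
  have : Fact (Nat.Prime 2) := ⟨Nat.prime_two⟩
  obtain ⟨n, hn⟩ := (h.pg.to_subgroup h.V).exists_card_eq
  exact ⟨n, by rw [← card_V h, hn]⟩

theorem coset_inj {A : Subgroup G} (hA : Inv f A) {b₀ : G} (hb₀ : b₀ ∉ A)
    {k k' : K} {a a' : G} (ha : a ∈ A) (ha' : a' ∈ A) (e : f k b₀ * a = f k' b₀ * a') :
    k = k' ∧ a = a' := by
  have h1 : (f k' b₀)⁻¹ * f k b₀ = a' * a⁻¹ := by
    have h0 : f k b₀ = f k' b₀ * a' * a⁻¹ := by rw [← e]; group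
    rw [h0]; group
  have h2 : b₀⁻¹ * f (k'⁻¹ * k) b₀ ∈ A := by
    have h3 : f k' (b₀⁻¹ * f (k'⁻¹ * k) b₀) = (f k' b₀)⁻¹ * f k b₀ := by
      rw [map_mul, map_inv, ← h.comp, ← mul_assoc, mul_inv_cancel, one_mul]
    have h4 : f k' (b₀⁻¹ * f (k'⁻¹ * k) b₀) ∈ A := by
      rw [h3, h1]; exact A.mul_mem ha' (A.inv_mem ha)
    exact (inv_iff h hA k').mp h4
  rcases fpf_mod h hA h2 with h5 | h5
  · have hk : k' = k := inv_mul_eq_one.mp h5
    subst hk
    exact ⟨rfl, mul_left_cancel e⟩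
  · exact absurd h5 hb₀

/-- counting cosets in an invariant section. -/
theorem card_ge {A B : Subgroup G} (hA : Inv f A) (hB : Inv f B) (hAB : A ≤ B) {b₀ : G}
    (hb₀B : b₀ ∈ B) (hb₀ : b₀ ∉ A) :
    (Nat.card K + 1) * Nat.card A ≤ Nat.card B ∧
    (Nat.card B = (Nat.card K + 1) * Nat.card A →
      ∀ b ∈ B, b ∉ A → ∃ k, ∃ a ∈ A, b = f k b₀ * a) ∧
    ((∀ b ∈ B, b ∉ A → ∃ k, ∃ a ∈ A, b = f k b₀ * a) →
      Nat.card B = (Nat.card K + 1) * Nat.card A) := by
  have := h.fin
  have := finite_K h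
  obtain ⟨φ, hφ⟩ : ∃ φ : K × A → G, ∀ p, φ p = f p.1 b₀ * (p.2 : G) := ⟨_, fun _ => rfl⟩
  have hinj : Function.Injective φ := by
    rintro ⟨k, a⟩ ⟨k', a'⟩ e
    rw [hφ, hφ] at e
    obtain ⟨h1, h2⟩ := coset_inj h hA hb₀ a.2 a'.2 e
    exact Prod.ext h1 (Subtype.ext h2)
  have hI : (Set.range φ).ncard = Nat.card K * Nat.card A := by
    rw [← Set.image_univ, Set.ncard_image_of_injective _ hinj, Set.ncard_univ, Nat.card_prod]
  have hsub : Set.range φ ⊆ (B : Set G) \ (A : Set G) := by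
    rintro _ ⟨⟨k, a⟩, rfl⟩
    rw [hφ]
    refine ⟨B.mul_mem (hB k _ hb₀B) (hAB a.2), fun hc => hb₀ ?_⟩
    have h1 : f k b₀ ∈ A := by
      have h2 := A.mul_mem hc (A.inv_mem a.2)
      have h3 : f k b₀ * (a : G) * (a : G)⁻¹ = f k b₀ := by group
      rw [← h3]; exact h2
    exact (inv_iff h hA k).mp h1
  have hAB' : (A : Set G) ⊆ (B : Set G) := hAB
  have e1 : Nat.card B = (B : Set G).ncard := Nat.card_coe_set_eq (B : Set G)
  have e2 : Nat.card A = (A : Set G).ncard := Nat.card_coe_set_eq (A : Set G)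
  have hd : ((B : Set G) \ (A : Set G)).ncard = Nat.card B - Nat.card A := by
    rw [Set.ncard_sdiff hAB', e1, e2]
  have hle : Nat.card A ≤ Nat.card B := Subgroup.card_le_of_le hAB
  have h1 : Nat.card K * Nat.card A ≤ Nat.card B - Nat.card A := by
    rw [← hI, ← hd]; exact Set.ncard_le_ncard hsub
  have hr : (Nat.card K + 1) * Nat.card A = Nat.card K * Nat.card A + Nat.card A := by ring
  refine ⟨?_, ?_, ?_⟩
  · omega
  · intro hc b hb hbA
    have heq : Set.range φ = (B : Set G) \ (A : Set G) := by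
      apply Set.eq_of_subset_of_ncard_le hsub
      rw [hI, hd, hc]
      omega
    have h2 : b ∈ Set.range φ := by rw [heq]; exact ⟨hb, hbA⟩
    obtain ⟨⟨k, a⟩, rfl⟩ := h2
    exact ⟨k, a, a.2, hφ _⟩
  · intro hall
    have heq : Set.range φ = (B : Set G) \ (A : Set G) := by
      apply Set.Subset.antisymm hsub
      rintro b ⟨hb, hbA⟩
      obtain ⟨k, a, ha, rfl⟩ := hall b hb hbA
      exact ⟨(k, ⟨a, ha⟩), hφ _⟩
    have h2 : Nat.card K * Nat.card A = Nat.card B - Nat.card A := by rw [← hI, ← hd, heq]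
    omega

theorem resHyp {H : Subgroup G} (hH : Inv f H) {x : G} (hx : x ∈ H) (hx1 : x ≠ 1) :
    Hyp H K (resf f H hH) := by
  have hV := V_le h hH hx hx1
  refine
    { fin := by have := h.fin; infer_instance
      pg := h.pg.to_subgroup H
      comm := h.comm
      comp := fun k k' y => Subtype.ext (h.comp k k' y)
      one := fun y => Subtype.ext (h.one y)
      two := ?_
      reg := ?_ }
  · obtain ⟨a, b, hab, ha1, haa, hb1, hbb⟩ := h.two
    refine ⟨⟨a, hV (h.mem_V.mpr haa)⟩, ⟨b, hV (h.mem_V.mpr hbb)⟩, ?_, ?_, ?_, ?_, ?_⟩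
    · intro e; exact hab (congrArg Subtype.val e)
    · intro e; exact ha1 (congrArg Subtype.val e)
    · exact Subtype.ext haa
    · intro e; exact hb1 (congrArg Subtype.val e)
    · exact Subtype.ext hbb
  · intro a b ha1 haa hb1 hbb
    have ha1' : (a : G) ≠ 1 := fun e => ha1 (Subtype.ext e)
    have hb1' : (b : G) ≠ 1 := fun e => hb1 (Subtype.ext e)
    have haa' : (a : G) * a = 1 := congrArg Subtype.val haa
    have hbb' : (b : G) * b = 1 := congrArg Subtype.val hbb
    obtain ⟨k, hk, huniq⟩ := h.reg a b ha1' haa' hb1' hbb'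
    exact ⟨k, Subtype.ext hk, fun k' hk' => huniq k' (congrArg Subtype.val hk')⟩

/-- the centre of a nonabelian invariant subgroup has exponent 2. -/
theorem center_sq {H : Subgroup G} (hH : Inv f H) {a b : G} (ha : a ∈ H) (hb : b ∈ H)
    (hab : a * b ≠ b * a) {x : G} (hx : x ∈ H) (hxc : ∀ y ∈ H, x * y = y * x) : x * x = 1 := by
  have ha1 : a ≠ 1 := by rintro rfl; simp at hab
  have hyp := resHyp h hH ha ha1
  rcases key (Nat.card H) H K _ hyp rfl with h1 | h1
  · exact absurd (congrArg Subtype.val (h1 ⟨a, ha⟩ ⟨b, hb⟩)) hab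
  · have h2 := h1 ⟨x, hx⟩ (Subgroup.mem_center_iff.mpr (fun y => Subtype.ext (hxc y y.2).symm))
    exact congrArg Subtype.val h2

theorem center_sq_top (hna : ∃ a b : G, a * b ≠ b * a) {x : G} (hxc : ∀ y, x * y = y * x) :
    x * x = 1 := by
  obtain ⟨a, b, hab⟩ := hna
  rcases key (Nat.card G) G K _ h rfl with h1 | h1
  · exact absurd (h1 a b) hab
  · exact h1 x (Subgroup.mem_center_iff.mpr (fun y => (hxc y).symm))

end hyp

end Cfsg.Agent.Lib.helper89.Suz
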