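import Mathlib
import Cfsg.Agent.Lib.helper89.Suz1

set_option autoImplicit false

namespace Cfsg.Agent.Lib.helper89.Suz

open Cfsg.Agent.S1137

universe u v

theorem frob_two {T : Type*} [CommRing T] (h2 : (2 : T) = 0) (x : T) (n : ℕ) :
    (1 + x) ^ (2 ^ n) = 1 + x ^ (2 ^ n) := by
  induction n with
  | zero => simp
  | succ n ih =>
    rw [pow_succ, pow_mul, ih, pow_mul]
    linear_combination (x ^ 2 ^ n) * h2

theorem domain_core {T : Type*} [CommRing T] [IsDomain T] (h2 : (2 : T) = 0)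
    {K : Type*} [Group K] [Finite K] (rk : K →* T) (hinj : Function.Injective rk)
    (n : ℕ) (hn : Nat.card K + 1 = 2 ^ n) (k : K) (hk : 1 + rk k ≠ 0) :
    ∃ k', rk k' = 1 + rk k := by
  classical
  have := Fintype.ofFinite K
  have hx : rk k ^ Nat.card K = 1 := by rw [← map_pow, pow_card_eq_one', map_one]
  have ht : (1 + rk k) ^ (Nat.card K + 1) = 1 + rk k := by
    rw [hn, frob_two h2, ← hn, pow_succ, hx, one_mul]
  have ht1 : (1 + rk k) ^ Nat.card K = 1 := by
    have h3 : (1 + rk k) ^ Nat.card K * (1 + rk k) = 1 * (1 + rk k) := by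
      rw [← pow_succ, ht, one_mul]
    exact mul_right_cancel₀ hk h3
  have hpos : 0 < Nat.card K := Nat.card_pos
  have hS : (Finset.univ.image rk) ⊆ Polynomial.nthRootsFinset (Nat.card K) (1 : T) := by
    intro y hy
    obtain ⟨a, -, rfl⟩ := Finset.mem_image.mp hy
    rw [Polynomial.mem_nthRootsFinset hpos, ← map_pow, pow_card_eq_one', map_one]
  have hcard : (Finset.univ.image rk).card = Nat.card K := by
    rw [Finset.card_image_of_injective _ hinj, Finset.card_univ, Nat.card_eq_fintype_card]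
  have hle : (Polynomial.nthRootsFinset (Nat.card K) (1 : T)).card ≤ Nat.card K := by
    rw [Polynomial.nthRootsFinset_def]
    exact (Multiset.toFinset_card_le _).trans (Polynomial.card_nthRoots _ _)
  have heq : Finset.univ.image rk = Polynomial.nthRootsFinset (Nat.card K) (1 : T) :=
    Finset.eq_of_subset_of_card_le hS (by rw [hcard]; exact hle)
  have hmem : (1 + rk k) ∈ Polynomial.nthRootsFinset (Nat.card K) (1 : T) := by
    rw [Polynomial.mem_nthRootsFinset hpos]; exact ht1
  rw [← heq] at hmem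
  obtain ⟨k', -, hk'⟩ := Finset.mem_image.mp hmem
  exact ⟨k', hk'⟩

theorem sec_aux {V : Type*} [Group V] [Finite V] {K : Type*} [Group K] [Finite K]
    (ρ : K → V →* V) (hcomm : ∀ a b : V, a * b = b * a) (hexp : ∀ a : V, a * a = 1)
    (hnt : ∃ a : V, a ≠ 1)
    (hKc : ∀ a b : K, a * b = b * a)
    (hmul : ∀ k k' v, ρ (k * k') v = ρ k (ρ k' v)) (hone : ∀ v, ρ 1 v = v)
    (hfpf : ∀ k v, ρ k v = v → k = 1 ∨ v = 1)
    (hirr : ∀ W : Subgroup V, (∀ k, ∀ w ∈ W, ρ k w ∈ W) → W = ⊥ ∨ W = ⊤)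
    (n : ℕ) (hn : Nat.card K + 1 = 2 ^ n) (k : K) (hk : k ≠ 1) :
    ∃ k' : K, ∀ v : V, v * ρ k v = ρ k' v := by
  classical
  letI instC : CommGroup V := { (inferInstance : Group V) with mul_comm := hcomm }
  obtain ⟨v₀, hv₀⟩ := hnt
  obtain ⟨r, hr⟩ : ∃ r : K → AddMonoid.End (Additive V),
      ∀ k (v : V), r k (Additive.ofMul v) = Additive.ofMul (ρ k v) :=
    ⟨fun k => MonoidHom.toAdditive (ρ k), fun k v => rfl⟩
  have hr_mul : ∀ k k', r (k * k') = r k * r k' := by
    intro k k'
    refine AddMonoidHom.ext (fun v => ?_)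
    obtain ⟨w, rfl⟩ : ∃ w : V, Additive.ofMul w = v := ⟨Additive.toMul v, rfl⟩
    show r (k * k') (Additive.ofMul w) = r k (r k' (Additive.ofMul w))
    rw [hr, hr, hr, hmul]
  have hr_one : r 1 = 1 := by
    refine AddMonoidHom.ext (fun v => ?_)
    obtain ⟨w, rfl⟩ : ∃ w : V, Additive.ofMul w = v := ⟨Additive.toMul v, rfl⟩
    show r 1 (Additive.ofMul w) = Additive.ofMul w
    rw [hr, hone]
  have h2E : (2 : AddMonoid.End (Additive V)) = 0 := by
    rw [← one_add_one_eq_two]
    refine AddMonoidHom.ext (fun v => ?_)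
    obtain ⟨w, rfl⟩ : ∃ w : V, Additive.ofMul w = v := ⟨Additive.toMul v, rfl⟩
    show Additive.ofMul w + Additive.ofMul w = 0
    rw [← ofMul_mul, hexp, ofMul_one]
  have hrc : ∀ x ∈ Set.range r, ∀ y ∈ Set.range r, x * y = y * x := by
    rintro _ ⟨a, rfl⟩ _ ⟨b, rfl⟩
    rw [← hr_mul, ← hr_mul, hKc]
  letI instT : CommRing (Subring.closure (Set.range r)) := Subring.closureCommRingOfComm hrc
  obtain ⟨rk, hrk⟩ : ∃ rk : K →* Subring.closure (Set.range r), ∀ k, (rk k).1 = r k :=
    ⟨{ toFun := fun k => ⟨r k, Subring.subset_closure ⟨k, rfl⟩⟩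
       map_one' := Subtype.ext hr_one
       map_mul' := fun a b => Subtype.ext (hr_mul a b) }, fun k => rfl⟩
  have hnzd : NoZeroDivisors (Subring.closure (Set.range r)) := by
    refine ⟨?_⟩
    intro a b hab
    by_contra hc
    push Not at hc
    obtain ⟨ha, hb⟩ := hc
    have hb' : ∃ v : V, b.1 (Additive.ofMul v) ≠ 0 := by
      by_contra hcon
      push Not at hcon
      apply hb
      apply Subtype.ext
      refine AddMonoidHom.ext (fun v => ?_)
      exact hcon (Additive.toMul v)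
    obtain ⟨v, hv⟩ := hb'
    obtain ⟨W, hW⟩ : ∃ W : Subgroup V, ∀ x, x ∈ W ↔ a.1 (Additive.ofMul x) = 0 := by
      refine ⟨{ carrier := {x | a.1 (Additive.ofMul x) = 0}
                one_mem' := ?_, mul_mem' := ?_, inv_mem' := ?_ }, fun x => Iff.rfl⟩
      · intro x y hx hy
        have hx' : a.1 (Additive.ofMul x) = 0 := hx
        have hy' : a.1 (Additive.ofMul y) = 0 := hy
        show a.1 (Additive.ofMul (x * y)) = 0
        rw [ofMul_mul, map_add, hx', hy', add_zero]
      · show a.1 (Additive.ofMul 1) = 0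
        rw [ofMul_one, map_zero]
      · intro x hx
        have hx' : a.1 (Additive.ofMul x) = 0 := hx
        show a.1 (Additive.ofMul x⁻¹) = 0
        rw [ofMul_inv, map_neg, hx', neg_zero]
    have hWinv : ∀ k, ∀ w ∈ W, ρ k w ∈ W := by
      intro k w hw
      rw [hW] at hw ⊢
      have h1 : a * rk k = rk k * a := mul_comm _ _
      have h3 : (a * rk k).1 (Additive.ofMul w) = a.1 (Additive.ofMul (ρ k w)) := by
        show a.1 ((rk k).1 (Additive.ofMul w)) = _
        rw [hrk, hr]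
      have h4 : (rk k * a).1 (Additive.ofMul w) = 0 := by
        show (rk k).1 (a.1 (Additive.ofMul w)) = 0
        rw [hw, map_zero]
      rw [← h3, h1, h4]
    have hmem : Additive.toMul (b.1 (Additive.ofMul v)) ∈ W := by
      rw [hW]
      show a.1 (b.1 (Additive.ofMul v)) = 0
      have h5 : (a * b).1 (Additive.ofMul v) = 0 := by rw [hab]; rfl
      exact h5
    rcases hirr W hWinv with h1 | h1
    · rw [h1, Subgroup.mem_bot] at hmem
      apply hv
      have h6 : b.1 (Additive.ofMul v) = Additive.ofMul (Additive.toMul (b.1 (Additive.ofMul v))) :=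
        rfl
      rw [h6, hmem, ofMul_one]
    · apply ha
      apply Subtype.ext
      refine AddMonoidHom.ext (fun x => ?_)
      have h7 : Additive.toMul x ∈ W := by rw [h1]; exact Subgroup.mem_top _
      exact (hW _).mp h7
  have hntT : Nontrivial (Subring.closure (Set.range r)) := by
    refine ⟨⟨0, 1, fun e => hv₀ ?_⟩⟩
    have h8 : (0 : Subring.closure (Set.range r)).1 (Additive.ofMul v₀)
        = (1 : Subring.closure (Set.range r)).1 (Additive.ofMul v₀) := by rw [e]
    have h9 : (0 : Additive V) = Additive.ofMul v₀ := h8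
    exact (Additive.ofMul.injective (h9.symm.trans ofMul_one.symm))
  have hdom : IsDomain (Subring.closure (Set.range r)) := NoZeroDivisors.to_isDomain _
  have h2T : (2 : Subring.closure (Set.range r)) = 0 := by
    rw [← one_add_one_eq_two]
    apply Subtype.ext
    show (1 : AddMonoid.End (Additive V)) + 1 = 0
    rw [one_add_one_eq_two]; exact h2E
  have hrkinj : Function.Injective rk := by
    intro a b hab
    have h10 : r a = r b := by rw [← hrk, ← hrk, hab]
    have h11 : ρ a v₀ = ρ b v₀ := by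
      have h12 := hr a v₀
      rw [h10, hr] at h12
      exact (Additive.ofMul.injective h12).symm
    have h13 : ρ (b⁻¹ * a) v₀ = v₀ := by
      rw [hmul, h11, ← hmul, inv_mul_cancel, hone]
    rcases hfpf _ _ h13 with h14 | h14
    · exact (inv_mul_eq_one.mp h14).symm
    · exact absurd h14 hv₀
  have hk0 : 1 + rk k ≠ 0 := by
    intro e
    have h15 : (1 + rk k).1 (Additive.ofMul v₀) = (0 : Subring.closure (Set.range r)).1
        (Additive.ofMul v₀) := by rw [e]
    have h16 : Additive.ofMul v₀ + (rk k).1 (Additive.ofMul v₀) = 0 := h15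
    rw [hrk, hr, ← ofMul_mul] at h16
    have h17 : v₀ * ρ k v₀ = 1 := Additive.ofMul.injective (h16.trans ofMul_one.symm)
    have h18 : ρ k v₀ = v₀ := by
      have h19 := hexp v₀
      exact mul_left_cancel (h17.trans h19.symm)
    rcases hfpf _ _ h18 with h20 | h20
    · exact hk h20
    · exact hv₀ h20
  obtain ⟨k', hk'⟩ := domain_core h2T rk hrkinj n hn k hk0
  refine ⟨k', fun v => ?_⟩
  have h21 : (rk k').1 (Additive.ofMul v) = (1 + rk k).1 (Additive.ofMul v) := by rw [hk']
  have h22 : (rk k').1 (Additive.ofMul v) = Additive.ofMul v + (rk k).1 (Additive.ofMul v) := h21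
  rw [hrk, hrk, hr, hr, ← ofMul_mul] at h22
  exact (Additive.ofMul.injective h22).symm

/-- an irreducible fixed-point-free module for `K` is regular. -/
theorem sec {V : Type*} [Group V] [Finite V] {K : Type*} [Group K] [Finite K]
    (ρ : K → V →* V) (hcomm : ∀ a b : V, a * b = b * a) (hexp : ∀ a : V, a * a = 1)
    (hnt : ∃ a : V, a ≠ 1)
    (hKc : ∀ a b : K, a * b = b * a)
    (hmul : ∀ k k' v, ρ (k * k') v = ρ k (ρ k' v)) (hone : ∀ v, ρ 1 v = v)
    (hfpf : ∀ k v, ρ k v = v → k = 1 ∨ v = 1)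
    (hirr : ∀ W : Subgroup V, (∀ k, ∀ w ∈ W, ρ k w ∈ W) → W = ⊥ ∨ W = ⊤)
    (n : ℕ) (hn : Nat.card K + 1 = 2 ^ n) :
    ∀ v w : V, v ≠ 1 → w ≠ 1 → ∃ k, ρ k v = w := by
  intro v w hv hw
  have hA := sec_aux ρ hcomm hexp hnt hKc hmul hone hfpf hirr n hn
  obtain ⟨W, hW⟩ : ∃ W : Subgroup V, ∀ x, x ∈ W ↔ (x = 1 ∨ ∃ k, ρ k v = x) := by
    refine ⟨{ carrier := {x | x = 1 ∨ ∃ k, ρ k v = x}
              one_mem' := Or.inl rfl, mul_mem' := ?_, inv_mem' := ?_ }, fun x => Iff.rfl⟩
    · rintro x y (rfl | ⟨k₁, rfl⟩) (rfl | ⟨k₂, rfl⟩)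
      · left; rw [one_mul]
      · right; exact ⟨k₂, by rw [one_mul]⟩
      · right; exact ⟨k₁, by rw [mul_one]⟩
      · by_cases hk : k₁ = k₂
        · left; rw [hk]; exact hexp _
        · right
          have hk' : k₁⁻¹ * k₂ ≠ 1 := fun e => hk (inv_mul_eq_one.mp e)
          obtain ⟨k', hk''⟩ := hA _ hk'
          refine ⟨k₁ * k', ?_⟩
          rw [hmul, ← hk'' v, map_mul, ← hmul, ← mul_assoc, mul_inv_cancel, one_mul]
    · rintro x (rfl | ⟨k₁, rfl⟩)
      · left; rw [inv_one]
      · right; exact ⟨k₁, (inv_eq_of_mul_eq_one_left (hexp _)).symm⟩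
  have hWinv : ∀ k, ∀ x ∈ W, ρ k x ∈ W := by
    intro k x hx
    rw [hW] at hx ⊢
    rcases hx with rfl | ⟨k₁, rfl⟩
    · left; rw [map_one]
    · right; exact ⟨k * k₁, hmul _ _ _⟩
  have hvW : v ∈ W := (hW v).mpr (Or.inr ⟨1, hone v⟩)
  rcases hirr W hWinv with h1 | h1
  · rw [h1, Subgroup.mem_bot] at hvW
    exact absurd hvW hv
  · have hwW : w ∈ W := by rw [h1]; exact Subgroup.mem_top _
    rcases (hW w).mp hwW with h2 | h2
    · exact absurd h2 hw
    · exact h2

section top
variable {G : Type u} [Group G] {K : Type v} [Group K] {f : K → G →* G} (h : Hyp G K f)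
include h

theorem top_inv : Inv f (⊤ : Subgroup G) := fun _ _ _ => Subgroup.mem_top _

/-- existence of an invariant normal subgroup with regular quotient. -/
theorem top_exists (hna : ∃ a b : G, a * b ≠ b * a) :
    ∃ N : Subgroup G, N.Normal ∧ Inv f N ∧ Nat.card G = (Nat.card K + 1) * Nat.card N := by
  have := h.fin
  have := finite_K h
  have hF : Fact (Nat.Prime 2) := ⟨Nat.prime_two⟩
  have hnil : Group.IsNilpotent G := h.pg.isNilpotent
  obtain ⟨a₀, b₀, hab₀⟩ := hna
  have hbot : Inv f (⊥ : Subgroup G) ∧ (⊥ : Subgroup G) ≠ ⊤ := by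
    refine ⟨fun k x hx => ?_, fun e => ?_⟩
    · rw [Subgroup.mem_bot] at hx ⊢
      rw [hx, map_one]
    · have h1 : a₀ ∈ (⊥ : Subgroup G) := by rw [e]; exact Subgroup.mem_top _
      rw [Subgroup.mem_bot] at h1
      rw [h1] at hab₀
      simp at hab₀
  obtain ⟨M, -, hMmax⟩ := Finite.exists_le_maximal
    (p := fun M : Subgroup G => Inv f M ∧ M ≠ ⊤) hbot
  have hM : Inv f M := hMmax.1.1
  have hMtop : M ≠ ⊤ := hMmax.1.2
  have hmax : ∀ W : Subgroup G, Inv f W → M ≤ W → W = M ∨ W = ⊤ := by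
    intro W hW hMW
    by_cases hWt : W = ⊤
    · exact Or.inr hWt
    · exact Or.inl (le_antisymm (hMmax.2 ⟨hW, hWt⟩ hMW) hMW)
  -- normality
  have hMn : M.Normal := by
    rw [← Subgroup.normalizer_eq_top_iff]
    have hNinv : Inv f (Subgroup.normalizer (M : Set G)) := by
      intro k g hg
      rw [Subgroup.mem_normalizer_iff] at hg ⊢
      intro x
      have h1 : f k g * x * (f k g)⁻¹ = f k (g * f k⁻¹ x * g⁻¹) := by
        rw [map_mul, map_mul, map_inv, h.inv_right]
      rw [h1, inv_iff h hM, ← hg, inv_iff h hM]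
    rcases hmax _ hNinv Subgroup.le_normalizer with h1 | h1
    · exfalso
      have h2 := Group.normalizerCondition_of_isNilpotent M (lt_top_iff_ne_top.mpr hMtop)
      rw [h1] at h2
      exact lt_irrefl _ h2
    · exact h1
  obtain ⟨g₀, hg₀⟩ : ∃ g₀ : G, g₀ ∉ M := by
    by_contra hc
    push Not at hc
    exact hMtop (eq_top_iff.mpr (fun x _ => hc x))
  -- the quotient
  have hle : ∀ k, M ≤ M.comap (f k) := fun k x hx => hM k x hx
  obtain ⟨ρ, hρ⟩ : ∃ ρ : K → (G ⧸ M) →* (G ⧸ M), ∀ k (x : G), ρ k (x : G ⧸ M) = ((f k x : G) : G ⧸ M) :=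
    ⟨fun k => QuotientGroup.map M M (f k) (hle k), fun k x => rfl⟩
  have hρmul : ∀ k k' y, ρ (k * k') y = ρ k (ρ k' y) := by
    intro k k' y
    induction y using QuotientGroup.induction_on with
    | H x => rw [hρ, hρ, hρ, h.comp]
  have hρone : ∀ y, ρ 1 y = y := by
    intro y
    induction y using QuotientGroup.induction_on with
    | H x => rw [hρ, h.one]
  have hirr : ∀ W : Subgroup (G ⧸ M), (∀ k, ∀ w ∈ W, ρ k w ∈ W) → W = ⊥ ∨ W = ⊤ := by
    intro W hW
    have hWinv : Inv f (W.comap (QuotientGroup.mk' M)) := by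
      intro k x hx
      rw [Subgroup.mem_comap] at hx ⊢
      have := hW k _ hx
      rwa [QuotientGroup.mk'_apply, hρ] at this
    have hMW : M ≤ W.comap (QuotientGroup.mk' M) := by
      intro x hx
      rw [Subgroup.mem_comap, QuotientGroup.mk'_apply, (QuotientGroup.eq_one_iff x).mpr hx]
      exact W.one_mem
    rcases hmax _ hWinv hMW with h1 | h1
    · left
      rw [eq_bot_iff]
      intro y hy
      induction y using QuotientGroup.induction_on with
      | H x =>
        have h2 : x ∈ W.comap (QuotientGroup.mk' M) := hy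
        rw [h1] at h2
        rw [Subgroup.mem_bot]
        exact (QuotientGroup.eq_one_iff x).mpr h2
    · right
      rw [eq_top_iff]
      intro y _
      induction y using QuotientGroup.induction_on with
      | H x =>
        have h2 : x ∈ W.comap (QuotientGroup.mk' M) := by rw [h1]; exact Subgroup.mem_top _
        exact h2
  have hg₀' : (g₀ : G ⧸ M) ≠ 1 := fun e => hg₀ ((QuotientGroup.eq_one_iff g₀).mp e)
  have hntQ : Nontrivial (G ⧸ M) := ⟨⟨_, _, hg₀'⟩⟩
  have hpQ : IsPGroup 2 (G ⧸ M) := h.pg.to_quotient M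
  -- commutative
  have hcomm : ∀ a b : G ⧸ M, a * b = b * a := by
    have hc : Subgroup.center (G ⧸ M) = ⊤ := by
      have hcinv : ∀ k, ∀ w ∈ Subgroup.center (G ⧸ M), ρ k w ∈ Subgroup.center (G ⧸ M) := by
        intro k w hw
        rw [Subgroup.mem_center_iff] at hw ⊢
        intro y
        have h1 : y = ρ k (ρ k⁻¹ y) := by rw [← hρmul, mul_inv_cancel, hρone]
        rw [h1, ← map_mul, ← map_mul, hw]
      rcases hirr _ hcinv with h1 | h1
      · exact absurd h1 (ne_of_gt hpQ.bot_lt_center)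
      · exact h1
    intro a b
    have h1 : b ∈ Subgroup.center (G ⧸ M) := by rw [hc]; exact Subgroup.mem_top _
    exact Subgroup.mem_center_iff.mp h1 a
  have hexp : ∀ a : G ⧸ M, a * a = 1 := by
    obtain ⟨W, hW⟩ : ∃ W : Subgroup (G ⧸ M), ∀ x, x ∈ W ↔ x * x = 1 := by
      refine ⟨{ carrier := {x | x * x = 1}
                one_mem' := mul_one 1, mul_mem' := ?_, inv_mem' := ?_ }, fun x => Iff.rfl⟩
      · intro x y hx hy
        have hx' : x * x = 1 := hx
        have hy' : y * y = 1 := hy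
        show x * y * (x * y) = 1
        have h5 : x * y * (x * y) = (x * x) * (y * y) := by
          rw [mul_assoc, ← mul_assoc y x y, hcomm y x, mul_assoc, ← mul_assoc]
        rw [h5, hx', hy', one_mul]
      · intro x hx
        have hx' : x * x = 1 := hx
        show x⁻¹ * x⁻¹ = 1
        rw [← mul_inv_rev, hx', inv_one]
    have hWinv : ∀ k, ∀ w ∈ W, ρ k w ∈ W := by
      intro k w hw
      rw [hW] at hw ⊢
      rw [← map_mul, hw, map_one]
    obtain ⟨m, hm1, hm2⟩ := pow_invol hpQ hg₀'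
    rcases hirr W hWinv with h1 | h1
    · exfalso
      have h2 : (g₀ : G ⧸ M) ^ m ∈ W := (hW _).mpr hm2
      rw [h1, Subgroup.mem_bot] at h2
      exact hm1 h2
    · intro a
      have h2 : a ∈ W := by rw [h1]; exact Subgroup.mem_top _
      exact (hW a).mp h2
  have hfpf : ∀ k (y : G ⧸ M), ρ k y = y → k = 1 ∨ y = 1 := by
    intro k y hy
    induction y using QuotientGroup.induction_on with
    | H x =>
      rw [hρ] at hy
      have h1 : x⁻¹ * f k x ∈ M := QuotientGroup.eq.mp hy.symm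
      rcases fpf_mod h hM h1 with h2 | h2
      · exact Or.inl h2
      · exact Or.inr ((QuotientGroup.eq_one_iff x).mpr h2)
  obtain ⟨n, hn⟩ := card_K_pow h
  have htrans := sec ρ hcomm hexp ⟨_, hg₀'⟩ h.comm hρmul hρone hfpf hirr n hn
  refine ⟨M, hMn, hM, ?_⟩
  have hall : ∀ b ∈ (⊤ : Subgroup G), b ∉ M → ∃ k, ∃ a ∈ M, b = f k g₀ * a := by
    intro b _ hb
    have hb' : (b : G ⧸ M) ≠ 1 := fun e => hb ((QuotientGroup.eq_one_iff b).mp e)
    obtain ⟨k, hk⟩ := htrans _ _ hg₀' hb'
    rw [hρ] at hk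
    have h1 : (f k g₀)⁻¹ * b ∈ M := QuotientGroup.eq.mp hk
    exact ⟨k, _, h1, by group⟩
  have h3 := (card_ge h hM (top_inv h) le_top (Subgroup.mem_top g₀) hg₀).2.2 hall
  rw [Subgroup.card_top] at h3
  exact h3

end top

end Cfsg.Agent.Lib.helper89.Suz
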