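import Mathlib
import Cfsg.Agent.Lib.helper89.Suz1

set_option autoImplicit false

namespace Cfsg.Agent.Lib.helper89.Suz

open Cfsg.Agent.S1137

universe u v

section pair
variable {G : Type u} [Group G] {K : Type v} [Group K] {f : K → G →* G} (h : Hyp G K f)
include h

theorem conj_by_V {z : G} (hz : z ∈ h.V) (w : G) : z⁻¹ * w * z = w := by
  rw [mul_assoc, ← V_central h hz w, ← mul_assoc, inv_mul_cancel, one_mul]

theorem sq_mul_V (b : G) {z : G} (hz : z ∈ h.V) : (b * z) * (b * z) = b * b := by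
  rw [mul_assoc, ← mul_assoc z b z, V_central h hz b, mul_assoc b z z, h.mem_V.mp hz, mul_one]

theorem cm_inv_l' {x z : G} (hx : cm x z ∈ h.V) : cm x⁻¹ z = (cm x z)⁻¹ := by
  have h1 := cm_mul_l' h hx x⁻¹
  rw [mul_inv_cancel, cm_one_l] at h1
  exact eq_inv_of_mul_eq_one_right h1.symm

theorem cm_mul_V (a b : G) {z : G} (hz : z ∈ h.V) : cm a (b * z) = cm a b := by
  rw [cm_mul_r, cm_eq_one_of_comm (V_central h hz a).symm, one_mul, conj_by_V h hz]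

theorem pair_count1 {A B : Subgroup G} (hAinv : Inv f A) (hBinv : Inv f B) (hZB : h.V ≤ B)
    (hB : Nat.card B = (Nat.card K + 1) * Nat.card h.V)
    (k₀ : K) {b₀ : G} (hb₀ : b₀ ∈ B) (hb₀' : b₀ ∉ h.V) :
    ({p : G × G | p.1 ∈ A ∧ p.2 ∈ B ∧ p.2 ∉ h.V ∧ cm p.1 p.2 = f k₀ (p.2 * p.2)}).ncard =
      Nat.card K * (({a : G | a ∈ A ∧ cm a b₀ = f k₀ (b₀ * b₀)}).ncard * Nat.card h.V) := by
  have := h.fin
  have := finite_K h
  have htB := (card_ge h (V_inv h) hBinv hZB hb₀ hb₀').2.1 hB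
  have eV : Nat.card h.V = (h.V : Set G).ncard := Nat.card_coe_set_eq _
  have hD : ((Set.univ : Set K) ×ˢ ({a : G | a ∈ A ∧ cm a b₀ = f k₀ (b₀ * b₀)} ×ˢ (h.V : Set G))).ncard
      = Nat.card K * (({a : G | a ∈ A ∧ cm a b₀ = f k₀ (b₀ * b₀)}).ncard * Nat.card h.V) := by
    rw [Set.ncard_prod, Set.ncard_prod, Set.ncard_univ, eV]
  have hinj : Set.InjOn (fun t : K × G × G => (f t.1 t.2.1, f t.1 b₀ * t.2.2))
      ((Set.univ : Set K) ×ˢ ({a : G | a ∈ A ∧ cm a b₀ = f k₀ (b₀ * b₀)} ×ˢ (h.V : Set G))) := by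
    rintro ⟨k, a, z⟩ ⟨-, ha, hz⟩ ⟨k', a', z'⟩ ⟨-, ha', hz'⟩ e
    have e1 : f k a = f k' a' := congrArg Prod.fst e
    have e2 : f k b₀ * z = f k' b₀ * z' := congrArg Prod.snd e
    obtain ⟨hk, hzz⟩ := coset_inj h (V_inv h) hb₀' hz hz' e2
    subst hk
    subst hzz
    rw [h.inj k e1]
  have himg : (fun t : K × G × G => (f t.1 t.2.1, f t.1 b₀ * t.2.2)) ''
      ((Set.univ : Set K) ×ˢ ({a : G | a ∈ A ∧ cm a b₀ = f k₀ (b₀ * b₀)} ×ˢ (h.V : Set G)))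
      = {p : G × G | p.1 ∈ A ∧ p.2 ∈ B ∧ p.2 ∉ h.V ∧ cm p.1 p.2 = f k₀ (p.2 * p.2)} := by
    ext ⟨a, b⟩
    constructor
    · rintro ⟨⟨k, a', z⟩, ⟨-, ⟨ha'A, ha'c⟩, hz⟩, e⟩
      have e' : (f k a', f k b₀ * z) = (a, b) := e
      obtain ⟨rfl, rfl⟩ := Prod.mk.inj e'
      have hz' : z ∈ h.V := hz
      refine ⟨hAinv k _ ha'A, B.mul_mem (hBinv k _ hb₀) (hZB hz'), ?_, ?_⟩
      · intro hc
        have h1 : f k b₀ ∈ h.V := (Subgroup.mul_mem_cancel_right h.V hz').mp hc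
        exact hb₀' ((inv_iff h (V_inv h) k).mp h1)
      · show cm (f k a') (f k b₀ * z) = f k₀ ((f k b₀ * z) * (f k b₀ * z))
        rw [cm_mul_V h _ _ hz', sq_mul_V h _ hz', h.cm_map, ha'c, ← map_mul, h.swap]
    · rintro ⟨haA, hbB, hbV, hc⟩
      have haA' : a ∈ A := haA
      have hbB' : b ∈ B := hbB
      have hbV' : b ∉ h.V := hbV
      have hc' : cm a b = f k₀ (b * b) := hc
      obtain ⟨k, z, hz, rfl⟩ := htB b hbB' hbV'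
      rw [cm_mul_V h _ _ hz, sq_mul_V h _ hz] at hc'
      refine ⟨(k, f k⁻¹ a, z), ⟨Set.mem_univ _, ⟨hAinv _ _ haA', ?_⟩, hz⟩, ?_⟩
      · show cm (f k⁻¹ a) b₀ = f k₀ (b₀ * b₀)
        apply h.inj k
        rw [← h.cm_map, h.inv_right, h.swap, map_mul]
        exact hc'
      · show (f k (f k⁻¹ a), f k b₀ * z) = (a, f k b₀ * z)
        rw [h.inv_right]
  rw [← hD, ← himg]
  exact Set.InjOn.ncard_image hinj

theorem pair_count2 {A NA B : Subgroup G} (hNA : NA ≤ A) (hAinv : Inv f A) (hNAinv : Inv f NA)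
    (hBinv : Inv f B)
    (hcZ : ∀ a ∈ A, ∀ b ∈ B, cm a b ∈ h.V)
    (hc1 : ∀ a ∈ NA, ∀ b ∈ B, cm a b = 1)
    (hA : Nat.card A = (Nat.card K + 1) * Nat.card NA)
    (k₀ : K) {a₀ : G} (ha₀ : a₀ ∈ A) (ha₀' : a₀ ∉ NA) :
    ({p : G × G | p.1 ∈ A ∧ p.2 ∈ B ∧ p.2 ∉ h.V ∧ cm p.1 p.2 = f k₀ (p.2 * p.2)}).ncard =
      Nat.card K * (Nat.card NA *
        ({b : G | b ∈ B ∧ b ∉ h.V ∧ cm a₀ b = f k₀ (b * b)}).ncard) := by
  have := h.fin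
  have := finite_K h
  have htA := (card_ge h hNAinv hAinv hNA ha₀ ha₀').2.1 hA
  have eN : Nat.card NA = (NA : Set G).ncard := Nat.card_coe_set_eq _
  have hD : ((Set.univ : Set K) ×ˢ ((NA : Set G) ×ˢ
      {b : G | b ∈ B ∧ b ∉ h.V ∧ cm a₀ b = f k₀ (b * b)})).ncard
      = Nat.card K * (Nat.card NA *
        ({b : G | b ∈ B ∧ b ∉ h.V ∧ cm a₀ b = f k₀ (b * b)}).ncard) := by
    rw [Set.ncard_prod, Set.ncard_prod, Set.ncard_univ, eN]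
  have hinj : Set.InjOn (fun t : K × G × G => (f t.1 a₀ * t.2.1, f t.1 t.2.2))
      ((Set.univ : Set K) ×ˢ ((NA : Set G) ×ˢ
      {b : G | b ∈ B ∧ b ∉ h.V ∧ cm a₀ b = f k₀ (b * b)})) := by
    rintro ⟨k, m, b⟩ ⟨-, hm, hb⟩ ⟨k', m', b'⟩ ⟨-, hm', hb'⟩ e
    have e1 : f k a₀ * m = f k' a₀ * m' := congrArg Prod.fst e
    have e2 : f k b = f k' b' := congrArg Prod.snd e
    obtain ⟨hk, hmm⟩ := coset_inj h hNAinv ha₀' hm hm' e1
    subst hk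
    subst hmm
    rw [h.inj k e2]
  have himg : (fun t : K × G × G => (f t.1 a₀ * t.2.1, f t.1 t.2.2)) ''
      ((Set.univ : Set K) ×ˢ ((NA : Set G) ×ˢ
      {b : G | b ∈ B ∧ b ∉ h.V ∧ cm a₀ b = f k₀ (b * b)}))
      = {p : G × G | p.1 ∈ A ∧ p.2 ∈ B ∧ p.2 ∉ h.V ∧ cm p.1 p.2 = f k₀ (p.2 * p.2)} := by
    ext ⟨a, b⟩
    constructor
    · rintro ⟨⟨k, m, b'⟩, ⟨-, hm, ⟨hbB, hbV, hbc⟩⟩, e⟩
      have e' : (f k a₀ * m, f k b') = (a, b) := e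
      obtain ⟨rfl, rfl⟩ := Prod.mk.inj e'
      have hm' : m ∈ NA := hm
      refine ⟨A.mul_mem (hAinv k _ ha₀) (hNA hm'), hBinv k _ hbB, ?_, ?_⟩
      · intro hc
        exact hbV ((inv_iff h (V_inv h) k).mp hc)
      · show cm (f k a₀ * m) (f k b') = f k₀ (f k b' * f k b')
        rw [cm_mul_l' h (hcZ _ (hAinv k _ ha₀) _ (hBinv k _ hbB)), hc1 m hm' _ (hBinv k _ hbB),
          mul_one, h.cm_map, hbc, ← map_mul, h.swap]
    · rintro ⟨haA, hbB, hbV, hc⟩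
      have haA' : a ∈ A := haA
      have hbB' : b ∈ B := hbB
      have hbV' : b ∉ h.V := hbV
      have hc' : cm a b = f k₀ (b * b) := hc
      have haN : a ∉ NA := by
        intro haN
        rw [hc1 a haN b hbB'] at hc'
        have h1 : f k₀ (b * b) = f k₀ 1 := by rw [map_one]; exact hc'.symm
        exact hbV' (h.mem_V.mpr (h.inj k₀ h1))
      obtain ⟨k, m, hm, rfl⟩ := htA a haA' haN
      rw [cm_mul_l' h (hcZ _ (hAinv k _ ha₀) _ hbB'), hc1 m hm b hbB', mul_one] at hc'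
      refine ⟨(k, m, f k⁻¹ b), ⟨Set.mem_univ _, hm, hBinv _ _ hbB', ?_, ?_⟩, ?_⟩
      · exact fun hc'' => hbV' ((inv_iff h (V_inv h) k⁻¹).mp hc'')
      · show cm a₀ (f k⁻¹ b) = f k₀ (f k⁻¹ b * f k⁻¹ b)
        apply h.inj k
        rw [← h.cm_map, h.inv_right, h.swap, map_mul, h.inv_right]
        exact hc'
      · show (f k a₀ * m, f k (f k⁻¹ b)) = (f k a₀ * m, b)
        rw [h.inv_right]
  rw [← hD, ← himg]
  exact Set.InjOn.ncard_image hinj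

theorem pair_key {A NA B : Subgroup G} (hNA : NA ≤ A) (hAinv : Inv f A) (hNAinv : Inv f NA)
    (hBinv : Inv f B) (hZB : h.V ≤ B)
    (hBab : ∀ b ∈ B, ∀ b' ∈ B, b * b' = b' * b)
    (hcZ : ∀ a ∈ A, ∀ b ∈ B, cm a b ∈ h.V)
    (hc1 : ∀ a ∈ NA, ∀ b ∈ B, cm a b = 1)
    (hA : Nat.card A = (Nat.card K + 1) * Nat.card NA)
    (hB : Nat.card B = (Nat.card K + 1) * Nat.card h.V)
    (k₀ : K) {a₀ b₀ b₁ : G} (ha₀ : a₀ ∈ A) (ha₀' : a₀ ∉ NA)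
    (hb₀ : b₀ ∈ B) (hb₀' : b₀ ∉ h.V) (hb₁ : b₁ ∈ B) (hb₁' : b₁ ∉ h.V)
    (hE : cm a₀ b₁ = f k₀ (b₁ * b₁)) :
    (∀ a ∈ A, cm a b₀ = 1 → a ∈ NA) ∧
    (∀ u ∈ B, ∀ u' ∈ B, u ∉ h.V → u' ∉ h.V → cm a₀ u = f k₀ (u * u) →
      cm a₀ u' = f k₀ (u' * u') → u⁻¹ * u' ∈ h.V) := by
  have := h.fin
  have := finite_K h
  have hF2 : Fact (Nat.Prime 2) := ⟨Nat.prime_two⟩
  have hc1' := pair_count1 h hAinv hBinv hZB hB k₀ hb₀ hb₀' (A := A)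
  have hc2' := pair_count2 h hNA hAinv hNAinv hBinv hcZ hc1 hA k₀ ha₀ ha₀' (B := B)
  have hKpos : 0 < Nat.card K := Nat.card_pos
  have hcount : ({a : G | a ∈ A ∧ cm a b₀ = f k₀ (b₀ * b₀)}).ncard * Nat.card h.V =
      Nat.card NA * ({b : G | b ∈ B ∧ b ∉ h.V ∧ cm a₀ b = f k₀ (b * b)}).ncard :=
    Nat.eq_of_mul_eq_mul_left hKpos (hc1'.symm.trans hc2')
  obtain ⟨S, hS⟩ : ∃ S : Subgroup G, ∀ b, b ∈ S ↔ (b ∈ B ∧ cm a₀ b = f k₀ (b * b)) := by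
    refine ⟨{ carrier := {b | b ∈ B ∧ cm a₀ b = f k₀ (b * b)}
              mul_mem' := ?_, one_mem' := ?_, inv_mem' := ?_ }, fun b => Iff.rfl⟩
    · rintro b b' ⟨hb, hbc⟩ ⟨hb', hbc'⟩
      refine ⟨B.mul_mem hb hb', ?_⟩
      have h1 : (b * b') * (b * b') = (b * b) * (b' * b') := by
        rw [mul_assoc, ← mul_assoc b' b b', hBab b' hb' b hb, mul_assoc, ← mul_assoc]
      rw [cm_mul_r' h (hcZ a₀ ha₀ b hb), hbc, hbc', h1, ← map_mul]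
    · exact ⟨B.one_mem, by rw [cm_one_r, mul_one, map_one]⟩
    · rintro b ⟨hb, hbc⟩
      refine ⟨B.inv_mem hb, ?_⟩
      rw [cm_inv_r' h (hcZ a₀ ha₀ b hb), hbc, ← mul_inv_rev, map_inv]
  have hVS : h.V ≤ S := by
    intro z hz
    rw [hS]
    refine ⟨hZB hz, ?_⟩
    rw [cm_eq_one_of_comm (V_central h hz a₀).symm, h.mem_V.mp hz, map_one]
  obtain ⟨R, hR⟩ : ∃ R : Subgroup G, ∀ a, a ∈ R ↔ (a ∈ A ∧ cm a b₀ = 1) := by
    refine ⟨{ carrier := {a | a ∈ A ∧ cm a b₀ = 1}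
              mul_mem' := ?_, one_mem' := ?_, inv_mem' := ?_ }, fun b => Iff.rfl⟩
    · rintro a a' ⟨ha, hac⟩ ⟨ha', hac'⟩
      refine ⟨A.mul_mem ha ha', ?_⟩
      rw [cm_mul_l' h (hcZ a ha b₀ hb₀), hac, hac', mul_one]
    · exact ⟨A.one_mem, cm_one_l _⟩
    · rintro a ⟨ha, hac⟩
      refine ⟨A.inv_mem ha, ?_⟩
      rw [cm_inv_l, hac]; group
  have hNR : NA ≤ R := fun a ha => (hR a).mpr ⟨hNA ha, hc1 a ha b₀ hb₀⟩
  have hEset : {b : G | b ∈ B ∧ b ∉ h.V ∧ cm a₀ b = f k₀ (b * b)}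
      = (S : Set G) \ (h.V : Set G) := by
    ext b
    constructor
    · rintro ⟨hb, hbV, hbc⟩
      exact ⟨(hS b).mpr ⟨hb, hbc⟩, hbV⟩
    · rintro ⟨hbS, hbV⟩
      obtain ⟨hb, hbc⟩ := (hS b).mp hbS
      exact ⟨hb, hbV, hbc⟩
  have hVS' : (h.V : Set G) ⊆ (S : Set G) := hVS
  have eS : Nat.card S = (S : Set G).ncard := Nat.card_coe_set_eq _
  have eV : Nat.card h.V = (h.V : Set G).ncard := Nat.card_coe_set_eq _
  have eR : Nat.card R = (R : Set G).ncard := Nat.card_coe_set_eq _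
  have hEcard : ({b : G | b ∈ B ∧ b ∉ h.V ∧ cm a₀ b = f k₀ (b * b)}).ncard
      = Nat.card S - Nat.card h.V := by
    rw [hEset, Set.ncard_sdiff hVS', eS, eV]
  have hb₁S : b₁ ∈ S := (hS b₁).mpr ⟨hb₁, hE⟩
  obtain ⟨κ, hκ⟩ := Subgroup.card_dvd_of_le hVS
  obtain ⟨r, hr⟩ := Subgroup.card_dvd_of_le hNR
  have hqpos : 0 < Nat.card h.V := Nat.card_pos
  have hNpos : 0 < Nat.card NA := Nat.card_pos
  have hκ2 : 2 ≤ κ := by
    by_contra hlt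
    have hκ1 : κ ≤ 1 := by omega
    have hle : Nat.card S ≤ Nat.card h.V := by
      rw [hκ]
      calc Nat.card h.V * κ ≤ Nat.card h.V * 1 := Nat.mul_le_mul_left _ hκ1
        _ = Nat.card h.V := mul_one _
    have hSV : h.V = S := Subgroup.eq_of_le_of_card_ge hVS hle
    rw [← hSV] at hb₁S
    exact hb₁' hb₁S
  have hsub : Nat.card S - Nat.card h.V = Nat.card h.V * (κ - 1) := by
    rw [hκ, Nat.mul_sub_one]
  have hFpos : 0 < ({a : G | a ∈ A ∧ cm a b₀ = f k₀ (b₀ * b₀)}).ncard := by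
    by_contra hc
    have h0 : ({a : G | a ∈ A ∧ cm a b₀ = f k₀ (b₀ * b₀)}).ncard = 0 := by omega
    rw [h0, zero_mul, hEcard, hsub] at hcount
    have h1 : 0 < Nat.card NA * (Nat.card h.V * (κ - 1)) :=
      Nat.mul_pos hNpos (Nat.mul_pos hqpos (by omega))
    omega
  obtain ⟨a₁, ha₁, ha₁c⟩ := Set.nonempty_of_ncard_ne_zero (Nat.pos_iff_ne_zero.mp hFpos)
  have hFset : {a : G | a ∈ A ∧ cm a b₀ = f k₀ (b₀ * b₀)} = (fun x => a₁ * x) '' (R : Set G) := by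
    ext a
    constructor
    · rintro ⟨ha, hac⟩
      refine ⟨a₁⁻¹ * a, (hR _).mpr ⟨A.mul_mem (A.inv_mem ha₁) ha, ?_⟩, by group⟩
      rw [cm_mul_l' h (hcZ _ (A.inv_mem ha₁) b₀ hb₀), cm_inv_l' h (hcZ a₁ ha₁ b₀ hb₀), ha₁c, hac,
        inv_mul_cancel]
    · rintro ⟨x, hx, rfl⟩
      obtain ⟨hxA, hxc⟩ := (hR x).mp hx
      refine ⟨A.mul_mem ha₁ hxA, ?_⟩
      show cm (a₁ * x) b₀ = f k₀ (b₀ * b₀)
      rw [cm_mul_l' h (hcZ a₁ ha₁ b₀ hb₀), hxc, mul_one]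
      exact ha₁c
  have hFcard : ({a : G | a ∈ A ∧ cm a b₀ = f k₀ (b₀ * b₀)}).ncard = Nat.card R := by
    rw [hFset, Set.ncard_image_of_injective _ (mul_right_injective a₁), eR]
  rw [hFcard, hEcard, hsub, hr] at hcount
  have hrk : r = κ - 1 := by
    have h1 : Nat.card NA * (r * Nat.card h.V) = Nat.card NA * (Nat.card h.V * (κ - 1)) := by
      rw [← hcount]; ring
    have h2 := Nat.eq_of_mul_eq_mul_left hNpos h1
    rw [mul_comm r] at h2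
    exact Nat.eq_of_mul_eq_mul_left hqpos h2
  obtain ⟨s, hs⟩ := (h.pg.to_subgroup S).exists_card_eq
  obtain ⟨ρ, hρ⟩ := (h.pg.to_subgroup R).exists_card_eq
  have hκdvd : κ ∣ 2 ^ s := by rw [← hs, hκ]; exact Dvd.intro_left _ rfl
  have hrdvd : r ∣ 2 ^ ρ := by rw [← hρ, hr]; exact Dvd.intro_left _ rfl
  obtain ⟨i, -, hi⟩ := (Nat.dvd_prime_pow Nat.prime_two).mp hrdvd
  obtain ⟨j, -, hj⟩ := (Nat.dvd_prime_pow Nat.prime_two).mp hκdvd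
  have hfin : r = 1 ∧ κ = 2 := by
    rcases j with _ | j
    · rw [pow_zero] at hj; omega
    · rcases i with _ | i
      · rw [pow_zero] at hi; omega
      · have h1 : 2 ∣ κ := by rw [hj]; exact dvd_pow_self 2 (Nat.succ_ne_zero j)
        have h2 : 2 ∣ r := by rw [hi]; exact dvd_pow_self 2 (Nat.succ_ne_zero i)
        omega
  constructor
  · intro a ha hac
    have hNR' : NA = R := Subgroup.eq_of_le_of_card_ge hNR (by rw [hr, hfin.1, mul_one])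
    rw [hNR']
    exact (hR a).mpr ⟨ha, hac⟩
  · intro u hu u' hu' huV hu'V huc hu'c
    have huS : u ∈ S := (hS u).mpr ⟨hu, huc⟩
    have hu'S : u' ∈ S := (hS u').mpr ⟨hu', hu'c⟩
    have hidx : (h.V.subgroupOf S).index = 2 := by
      have h1 := Subgroup.card_mul_index (h.V.subgroupOf S)
      have h2 : Nat.card (h.V.subgroupOf S) = Nat.card h.V :=
        Nat.card_congr (Subgroup.subgroupOfEquivOfLe hVS).toEquiv
      rw [h2, hκ, hfin.2] at h1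
      exact Nat.eq_of_mul_eq_mul_left hqpos h1
    have h3 := Subgroup.mul_mem_iff_of_index_two hidx (a := (⟨u⁻¹, S.inv_mem huS⟩ : S))
      (b := ⟨u', hu'S⟩)
    rw [Subgroup.mem_subgroupOf, Subgroup.mem_subgroupOf, Subgroup.mem_subgroupOf] at h3
    exact h3.mpr ⟨fun hc => absurd ((Subgroup.inv_mem_iff _).mp hc) huV,
      fun hc => absurd hc hu'V⟩

theorem pair_NZ {A NA B : Subgroup G} (hNA : NA ≤ A) (hAinv : Inv f A) (hNAinv : Inv f NA)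
    (hBinv : Inv f B) (hZB : h.V ≤ B)
    (hBab : ∀ b ∈ B, ∀ b' ∈ B, b * b' = b' * b)
    (hB4 : ∀ b ∈ B, b * b ∈ h.V)
    (hcZ : ∀ a ∈ A, ∀ b ∈ B, cm a b ∈ h.V)
    (hc1 : ∀ a ∈ NA, ∀ b ∈ B, cm a b = 1)
    (hA : Nat.card A = (Nat.card K + 1) * Nat.card NA)
    (hB : Nat.card B = (Nat.card K + 1) * Nat.card h.V)
    {a₁ b₁ : G} (ha₁ : a₁ ∈ A) (ha₁' : a₁ ∉ NA) (hb₁ : b₁ ∈ B) (hb₁' : b₁ ∉ h.V)
    (hc : cm a₁ b₁ = 1) : ∀ a ∈ A, ∀ b ∈ B, cm a b = 1 := by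
  intro a ha b hb
  by_cases haN : a ∈ NA
  · exact hc1 a haN b hb
  by_cases hbV : b ∈ h.V
  · exact cm_eq_one_of_comm (V_central h hbV a).symm
  by_contra hne
  have hbb : b * b ≠ 1 := fun e => hbV (h.mem_V.mpr e)
  have hbb2 : (b * b) * (b * b) = 1 := h.mem_V.mp (hB4 b hb)
  obtain ⟨k₀, hk₀, -⟩ := h.reg (b * b) (cm a b) hbb hbb2 hne (h.mem_V.mp (hcZ a ha b hb))
  have h1 := (pair_key h hNA hAinv hNAinv hBinv hZB hBab hcZ hc1 hA hB k₀ ha haN hb₁ hb₁'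
    hb hbV hk₀.symm).1 a₁ ha₁ hc
  exact ha₁' h1

theorem pair_CL {A NA B : Subgroup G} (hNA : NA ≤ A) (hAinv : Inv f A) (hNAinv : Inv f NA)
    (hBinv : Inv f B) (hZB : h.V ≤ B)
    (hBab : ∀ b ∈ B, ∀ b' ∈ B, b * b' = b' * b)
    (hcZ : ∀ a ∈ A, ∀ b ∈ B, cm a b ∈ h.V)
    (hc1 : ∀ a ∈ NA, ∀ b ∈ B, cm a b = 1)
    (hA : Nat.card A = (Nat.card K + 1) * Nat.card NA)
    (hB : Nat.card B = (Nat.card K + 1) * Nat.card h.V)
    {a₀ u u' : G} (ha₀ : a₀ ∈ A) (ha₀' : a₀ ∉ NA) (hu : u ∈ B) (hu' : u' ∈ B)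
    (huV : u ∉ h.V) (hu'V : u' ∉ h.V)
    (hc : cm a₀ u = u * u) (hc' : cm a₀ u' = u' * u') : u⁻¹ * u' ∈ h.V := by
  have e1 : cm a₀ u = f 1 (u * u) := by rw [h.one]; exact hc
  have e2 : cm a₀ u' = f 1 (u' * u') := by rw [h.one]; exact hc'
  exact (pair_key h hNA hAinv hNAinv hBinv hZB hBab hcZ hc1 hA hB 1 ha₀ ha₀' hu huV hu huV
    e1).2 u hu u' hu' huV hu'V e1 e2

end pair

end Cfsg.Agent.Lib.helper89.Suz
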