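import Mathlib
import Cfsg.Agent.Lib.helper89.Suz1

set_option autoImplicit false

namespace Cfsg.Agent.Lib.helper89.Suz

open Cfsg.Agent.S1137

universe u v

theorem hom_sum {H : Type*} [Group H] [Fintype H] (ψ : H → ℤ)
    (hmul : ∀ x y, ψ (x * y) = ψ x * ψ y) (hval : ∀ x, ψ x = 1 ∨ ψ x = -1) :
    ((∀ x, ψ x = 1) ∧ ∑ x, ψ x = (Fintype.card H : ℤ)) ∨ ((∃ x, ψ x = -1) ∧ ∑ x, ψ x = 0) := by
  by_cases hall : ∀ x, ψ x = 1
  · left
    refine ⟨hall, ?_⟩
    simp [hall]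
  · right
    push Not at hall
    obtain ⟨x₀, hx₀⟩ := hall
    have hx₀' : ψ x₀ = -1 := (hval x₀).resolve_left hx₀
    refine ⟨⟨x₀, hx₀'⟩, ?_⟩
    have h1 : ∑ x, ψ x = ∑ x, ψ (x * x₀) := (Equiv.sum_comp (Equiv.mulRight x₀) ψ).symm
    have h2 : ∑ x, ψ (x * x₀) = - ∑ x, ψ x := by
      rw [← Finset.sum_neg_distrib]
      apply Finset.sum_congr rfl
      intro x _
      rw [hmul, hx₀']; ring
    linarith

theorem odd_part {i j : ℕ} {a b : ℤ} (ha : Odd a) (hb : Odd b) (ha0 : 0 ≤ a) (hb0 : 0 ≤ b)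
    (e : (2 : ℤ) ^ i * a ^ 2 = 2 ^ j * b ^ 2) : a = b := by
  wlog hij : i ≤ j generalizing i j a b
  · exact (this hb ha hb0 ha0 e.symm (by omega)).symm
  obtain ⟨d, rfl⟩ := Nat.exists_eq_add_of_le hij
  rw [pow_add, mul_assoc] at e
  have e2 : a ^ 2 = 2 ^ d * b ^ 2 := mul_left_cancel₀ (by positivity) e
  rcases d with _ | d
  · rw [pow_zero, one_mul] at e2
    exact (pow_left_inj₀ ha0 hb0 (by norm_num)).mp e2
  · exfalso
    have h1 : Even ((2 : ℤ) ^ (d + 1) * b ^ 2) := by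
      rw [pow_succ]; exact ⟨2 ^ d * b ^ 2, by ring⟩
    rw [← e2] at h1
    exact (Int.not_even_iff_odd.mpr ha.pow) h1

theorem odd_two_pow_sub_one (d : ℕ) : Odd ((2 : ℤ) ^ (d + 1) - 1) :=
  ⟨2 ^ d - 1, by ring⟩

theorem gs_arith {N m r : ℕ} (S : ℤ)
    (h3 : ((2 : ℤ) ^ (N + 1) - 1) * S = ((2 : ℤ) ^ (N + 1)) ^ 2 - (2 : ℤ) ^ m)
    (h4 : S * S = (2 : ℤ) ^ m * (2 : ℤ) ^ r ∨ S * S = 0) :
    m = N + 1 ∨ m = 2 * (N + 1) ∨ m = 3 * (N + 1) := by
  have hpos : ∀ d : ℕ, (0 : ℤ) ≤ 2 ^ (d + 1) - 1 := by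
    intro d
    have : (1 : ℤ) ≤ 2 ^ (d + 1) := one_le_pow₀ (by norm_num)
    linarith
  have hinj : ∀ d : ℕ, (2 : ℤ) ^ (d + 1) - 1 = 2 ^ (N + 1) - 1 → d = N := by
    intro d e
    have e1 : (2 : ℤ) ^ (d + 1) = 2 ^ (N + 1) := by linarith
    have e2 : (2 : ℕ) ^ (d + 1) = 2 ^ (N + 1) := by exact_mod_cast e1
    have := Nat.pow_right_injective (le_refl 2) e2
    omega
  rcases h4 with h4 | h4
  · have key : (((2 : ℤ) ^ (N + 1)) ^ 2 - (2 : ℤ) ^ m) ^ 2
        = ((2 : ℤ) ^ (N + 1) - 1) ^ 2 * ((2 : ℤ) ^ m * (2 : ℤ) ^ r) := by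
      rw [← h3, ← h4]; ring
    rcases lt_trichotomy m (2 * (N + 1)) with hlt | heq | hgt
    · left
      obtain ⟨d, hd⟩ : ∃ d, 2 * (N + 1) = m + (d + 1) := ⟨2 * (N + 1) - m - 1, by omega⟩
      have e1 : ((2 : ℤ) ^ (N + 1)) ^ 2 = (2 : ℤ) ^ m * (2 : ℤ) ^ (d + 1) := by
        rw [← pow_mul, ← pow_add]; congr 1; omega
      have e2 : (2 : ℤ) ^ (2 * m) * ((2 : ℤ) ^ (d + 1) - 1) ^ 2
          = 2 ^ (m + r) * ((2 : ℤ) ^ (N + 1) - 1) ^ 2 := by
        have p1 : (2 : ℤ) ^ (2 * m) = ((2 : ℤ) ^ m) ^ 2 := by rw [← pow_mul, mul_comm]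
        have p2 : (2 : ℤ) ^ (m + r) = (2 : ℤ) ^ m * 2 ^ r := pow_add _ _ _
        rw [e1] at key
        rw [p1, p2]
        linear_combination key
      have e3 := odd_part (odd_two_pow_sub_one d) (odd_two_pow_sub_one N) (hpos d) (hpos N) e2
      have := hinj d e3
      omega
    · right; left; exact heq
    · right; right
      obtain ⟨d, hd⟩ : ∃ d, m = 2 * (N + 1) + (d + 1) := ⟨m - 2 * (N + 1) - 1, by omega⟩
      have e1 : (2 : ℤ) ^ m = ((2 : ℤ) ^ (N + 1)) ^ 2 * (2 : ℤ) ^ (d + 1) := by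
        rw [← pow_mul, ← pow_add]; congr 1; omega
      have e2 : (2 : ℤ) ^ (4 * (N + 1)) * ((2 : ℤ) ^ (d + 1) - 1) ^ 2
          = 2 ^ (m + r) * ((2 : ℤ) ^ (N + 1) - 1) ^ 2 := by
        have e4 : (2 : ℤ) ^ (4 * (N + 1)) = (((2 : ℤ) ^ (N + 1)) ^ 2) ^ 2 := by
          rw [← pow_mul, ← pow_mul]; congr 1; omega
        have p2 : (2 : ℤ) ^ (m + r) = (2 : ℤ) ^ m * 2 ^ r := pow_add _ _ _
        rw [e1] at key
        rw [e4, p2, e1]
        linear_combination key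
      have e3 := odd_part (odd_two_pow_sub_one d) (odd_two_pow_sub_one N) (hpos d) (hpos N) e2
      have := hinj d e3
      omega
  · right; left
    have hS : S = 0 := by
      rcases mul_self_eq_zero.mp h4 with e
      exact e
    rw [hS, mul_zero] at h3
    have e1 : (2 : ℤ) ^ m = ((2 : ℤ) ^ (N + 1)) ^ 2 := by linarith
    rw [← pow_mul] at e1
    have e2 : (2 : ℕ) ^ m = 2 ^ ((N + 1) * 2) := by exact_mod_cast e1
    have := Nat.pow_right_injective (le_refl 2) e2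
    omega

section gs
variable {G : Type u} [Group G] {K : Type v} [Group K] {f : K → G →* G} (h : Hyp G K f)
include h

/-- the Gauss-sum bound: a class-2 Suzuki-type group with central squares has order
`q`, `q²` or `q³`. -/
theorem ord (hcl : ∀ x y : G, cm x y ∈ h.V) (hsq : ∀ x : G, x * x ∈ h.V) :
    Nat.card G = (Nat.card K + 1) ∨ Nat.card G = (Nat.card K + 1) ^ 2 ∨
      Nat.card G = (Nat.card K + 1) ^ 3 := by
  classical
  have := h.fin
  have := finite_K h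
  have hF2 : Fact (Nat.Prime 2) := ⟨Nat.prime_two⟩
  have := Fintype.ofFinite G
  have := Fintype.ofFinite K
  obtain ⟨N, hN⟩ := (h.pg.to_subgroup h.V).exists_card_eq
  obtain ⟨m, hm⟩ := h.pg.exists_card_eq
  have hcV := card_V h
  have hKpos : 0 < Nat.card K := Nat.card_pos
  have hN1 : 1 ≤ N := by
    by_contra hc
    have hN0 : N = 0 := by omega
    rw [hN0, pow_zero] at hN
    omega
  obtain ⟨N', rfl⟩ : ∃ N', N = N' + 1 := ⟨N - 1, by omega⟩
  obtain ⟨Y₀, hY₀⟩ := Sylow.exists_subgroup_card_pow_prime 2 (n := N') (G := h.V)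
    (by rw [hN]; exact pow_dvd_pow 2 (Nat.le_succ N'))
  have hidx : Y₀.index = 2 := by
    have h1 := Subgroup.card_mul_index Y₀
    rw [hY₀, hN, pow_succ] at h1
    exact Nat.eq_of_mul_eq_mul_left (by positivity) h1
  obtain ⟨χ, hχ⟩ : ∃ χ : h.V → ℤ, ∀ z, χ z = if z ∈ Y₀ then 1 else -1 := ⟨_, fun _ => rfl⟩
  have hχval : ∀ z, χ z = 1 ∨ χ z = -1 := by
    intro z; rw [hχ]; split_ifs <;> simp
  have hχmul : ∀ z z', χ (z * z') = χ z * χ z' := by
    intro z z'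
    have h1 := Subgroup.mul_mem_iff_of_index_two hidx (a := z) (b := z')
    rw [hχ, hχ, hχ]
    by_cases hz : z ∈ Y₀ <;> by_cases hz' : z' ∈ Y₀ <;> simp [hz, hz', h1]
  have hχ1 : χ 1 = 1 := by rw [hχ, if_pos Y₀.one_mem]
  have hχsq : ∀ z, χ z * χ z = 1 := by
    intro z; rcases hχval z with e | e <;> rw [e] <;> norm_num
  obtain ⟨z₁, hz₁⟩ : ∃ z₁ : h.V, χ z₁ = -1 := by
    by_contra hc
    push Not at hc
    have h1 : Y₀ = ⊤ := by
      rw [eq_top_iff]
      intro z _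
      by_contra hz
      exact hc z (by rw [hχ, if_neg hz])
    rw [← Subgroup.index_eq_one] at h1
    omega
  obtain ⟨sq, hsq'⟩ : ∃ sq : G → h.V, ∀ x, (sq x : G) = x * x :=
    ⟨fun x => ⟨x * x, hsq x⟩, fun _ => rfl⟩
  obtain ⟨c, hc⟩ : ∃ c : G → G → h.V, ∀ x y, (c x y : G) = cm x y :=
    ⟨fun x y => ⟨cm x y, hcl x y⟩, fun _ _ => rfl⟩
  obtain ⟨fV, hfV⟩ : ∃ fV : K → h.V → h.V, ∀ k z, (fV k z : G) = f k z :=
    ⟨fun k z => ⟨f k z, V_inv h k z z.2⟩, fun _ _ => rfl⟩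
  have hs1 : ∀ k, ∑ x, χ (fV k (sq x)) = ∑ x, χ (sq x) := by
    intro k
    have e1 : ∀ x, fV k (sq x) = sq (f k x) := fun x =>
      Subtype.ext (by rw [hfV, hsq', hsq', map_mul])
    rw [Finset.sum_congr rfl (fun x _ => congrArg χ (e1 x))]
    exact Equiv.sum_comp (Equiv.mk (fun x => f k x) (fun x => f k⁻¹ x) (h.inv_left k)
      (h.inv_right k)) (fun x => χ (sq x))
  have h0 : ∑ w : h.V, χ w = 0 := by
    rcases hom_sum χ hχmul hχval with ⟨hall, -⟩ | ⟨-, h0⟩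
    · exfalso
      have h1 := hall z₁
      rw [hz₁] at h1
      norm_num at h1
    · exact h0
  have hs2 : ∀ z : h.V, z ≠ 1 → ∑ k, χ (fV k z) = -1 := by
    intro z hz
    have hz1 : (z : G) ≠ 1 := fun e => hz (Subtype.ext e)
    have hzz : (z : G) * z = 1 := h.mem_V.mp z.2
    have hb := opt_bij h hz1 hzz
    have h1 : ∑ w : h.V, χ w = χ 1 + ∑ k, χ (fV k z) := by
      rw [← Function.Bijective.sum_comp hb χ, Fintype.sum_option]
      congr 1
      exact Finset.sum_congr rfl (fun k _ => congrArg χ (Subtype.ext (hfV k z).symm))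
    rw [h0, hχ1] at h1
    linarith
  have hs2' : ∑ k, χ (fV k 1) = (Fintype.card K : ℤ) := by
    have e1 : ∀ k, fV k 1 = 1 := fun k => Subtype.ext (by rw [hfV]; simp)
    rw [Finset.sum_congr rfl (fun k _ => congrArg χ (e1 k))]
    simp [hχ1]
  have hs3 : (Fintype.card K : ℤ) * ∑ x, χ (sq x)
      = ∑ x : G, (if sq x = 1 then (Fintype.card K : ℤ) else -1) := by
    calc (Fintype.card K : ℤ) * ∑ x, χ (sq x) = ∑ k : K, ∑ x, χ (fV k (sq x)) := by
          rw [Finset.sum_congr rfl (fun k _ => hs1 k), Finset.sum_const, Finset.card_univ,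
            nsmul_eq_mul]
      _ = ∑ x, ∑ k : K, χ (fV k (sq x)) := Finset.sum_comm
      _ = _ := by
          apply Finset.sum_congr rfl
          intro x _
          by_cases hx : sq x = 1
          · rw [if_pos hx, hx]; exact hs2'
          · rw [if_neg hx]; exact hs2 _ hx
  have hc1 : (Finset.univ.filter (fun x : G => sq x = 1)).card = Nat.card K + 1 := by
    rw [← hcV, Nat.card_eq_fintype_card]
    refine (Fintype.card_of_subtype _ ?_).symm
    intro x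
    rw [Finset.mem_filter]
    constructor
    · rintro ⟨-, hx⟩
      have h1 := congrArg Subtype.val hx
      rw [hsq'] at h1
      exact h.mem_V.mpr h1
    · intro hx
      exact ⟨Finset.mem_univ _, Subtype.ext (by rw [hsq']; exact h.mem_V.mp hx)⟩
  have hc2 : (Finset.univ.filter (fun x : G => ¬ sq x = 1)).card + (Nat.card K + 1)
      = Nat.card G := by
    have h1 := Finset.card_filter_add_card_filter_not (s := (Finset.univ : Finset G))
      (fun x : G => sq x = 1)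
    rw [hc1, Finset.card_univ, ← Nat.card_eq_fintype_card] at h1
    omega
  have hs3' : ∑ x : G, (if sq x = 1 then (Fintype.card K : ℤ) else -1)
      = (Fintype.card K : ℤ) * ((Nat.card K : ℤ) + 1)
        - ((Finset.univ.filter (fun x : G => ¬ sq x = 1)).card : ℤ) := by
    rw [Finset.sum_ite, Finset.sum_const, Finset.sum_const, nsmul_eq_mul, nsmul_eq_mul, hc1]
    push_cast
    ring
  have hcmul : ∀ w x y, c (x * y) w = c x w * c y w := fun w x y =>
    Subtype.ext (by rw [Subgroup.coe_mul, hc, hc, hc]; exact cm_mul_l' h (hcl x w) y)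
  have hs4 : (∑ x, χ (sq x)) * (∑ x, χ (sq x)) = ∑ v : G, χ (sq v) * ∑ x : G, χ (c x v⁻¹) := by
    calc (∑ x, χ (sq x)) * (∑ x, χ (sq x)) = ∑ x : G, ∑ y : G, χ (sq x) * χ (sq y) :=
          Finset.sum_mul_sum _ _ _ _
      _ = ∑ x : G, ∑ v : G, χ (sq x) * χ (sq (x * v)) := by
          apply Finset.sum_congr rfl
          intro x _
          exact (Equiv.sum_comp (Equiv.mulLeft x) (fun y => χ (sq x) * χ (sq y))).symm
      _ = ∑ x : G, ∑ v : G, χ (sq v) * χ (c x v⁻¹) := by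
          apply Finset.sum_congr rfl
          intro x _
          apply Finset.sum_congr rfl
          intro v _
          have e : sq (x * v) = sq x * c x v⁻¹ * sq v := Subtype.ext (by
            simp only [Subgroup.coe_mul, hsq', hc]
            exact sq_mul_cm x v)
          rw [e, hχmul, hχmul]
          linear_combination (χ (c x v⁻¹) * χ (sq v)) * hχsq (sq x)
      _ = ∑ v : G, ∑ x : G, χ (sq v) * χ (c x v⁻¹) := Finset.sum_comm
      _ = _ := by
          apply Finset.sum_congr rfl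
          intro v _
          rw [Finset.mul_sum]
  have hT : ∀ v : G, ((∀ x, χ (c x v⁻¹) = 1) ∧ ∑ x : G, χ (c x v⁻¹) = (Fintype.card G : ℤ)) ∨
      ((∃ x, χ (c x v⁻¹) = -1) ∧ ∑ x : G, χ (c x v⁻¹) = 0) := fun v =>
    hom_sum (fun x => χ (c x v⁻¹)) (fun x y => by rw [hcmul, hχmul]) (fun x => hχval _)
  obtain ⟨R, hR⟩ : ∃ R : Subgroup G, ∀ v, v ∈ R ↔ ∀ x, χ (c x v⁻¹) = 1 := by
    refine ⟨{ carrier := {v | ∀ x, χ (c x v⁻¹) = 1}
              mul_mem' := ?_, one_mem' := ?_, inv_mem' := ?_ }, fun v => Iff.rfl⟩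
    · intro v v' hv hv' x
      have hv1 : χ (c x v⁻¹) = 1 := hv x
      have hv2 : χ (c x v'⁻¹) = 1 := hv' x
      have e : c x (v * v')⁻¹ = c x v'⁻¹ * c x v⁻¹ := Subtype.ext (by
        rw [Subgroup.coe_mul, hc, hc, hc, mul_inv_rev]
        exact cm_mul_r' h (hcl x v'⁻¹) v⁻¹)
      show χ (c x (v * v')⁻¹) = 1
      rw [e, hχmul, hv1, hv2, mul_one]
    · intro x
      have e : c x 1⁻¹ = 1 := Subtype.ext (by rw [hc, inv_one, cm_one_r]; rfl)
      show χ (c x 1⁻¹) = 1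
      rw [e, hχ1]
    · intro v hv x
      have hv1 : χ (c x v⁻¹) = 1 := hv x
      have e : c x v⁻¹⁻¹ = c x v⁻¹ := Subtype.ext (by
        rw [hc, hc, cm_inv_r' h (hcl x v⁻¹), V_inv_eq h (hcl x v⁻¹)])
      show χ (c x v⁻¹⁻¹) = 1
      rw [e, hv1]
  have hs4' : (∑ x, χ (sq x)) * (∑ x, χ (sq x)) = (Fintype.card G : ℤ) * ∑ v : R, χ (sq v) := by
    rw [hs4]
    have e1 : ∀ v : G, χ (sq v) * ∑ x : G, χ (c x v⁻¹)
        = if v ∈ R then (Fintype.card G : ℤ) * χ (sq v) else 0 := by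
      intro v
      rcases hT v with ⟨hall, hsum⟩ | ⟨⟨x, hx⟩, hsum⟩
      · rw [if_pos ((hR v).mpr hall), hsum, mul_comm]
      · have hv : v ∉ R := fun hv => by
          have h1 := (hR v).mp hv x
          rw [hx] at h1
          norm_num at h1
        rw [if_neg hv, hsum, mul_zero]
    rw [Finset.sum_congr rfl (fun v _ => e1 v), ← Finset.sum_filter, Finset.mul_sum]
    exact Finset.sum_subtype _ (fun v => by simp) _
  have hmulR : ∀ v v' : R, χ (sq ((v * v' : R) : G)) = χ (sq v) * χ (sq v') := by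
    intro v v'
    have hv' := (hR v').mp v'.2 v
    have e : sq ((v * v' : R) : G) = sq v * c v (v' : G)⁻¹ * sq v' := Subtype.ext (by
      simp only [Subgroup.coe_mul, hsq', hc]
      exact sq_mul_cm _ _)
    rw [e, hχmul, hχmul, hv', mul_one]
  have hR2 : (∑ v : R, χ (sq v) = (Fintype.card R : ℤ)) ∨ (∑ v : R, χ (sq v) = 0) := by
    rcases hom_sum (fun v : R => χ (sq v)) hmulR (fun v => hχval _) with ⟨-, e⟩ | ⟨-, e⟩
    · exact Or.inl e
    · exact Or.inr e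
  obtain ⟨r, hr⟩ := (h.pg.to_subgroup R).exists_card_eq
  have hKc : (Fintype.card K : ℤ) = (2 : ℤ) ^ (N' + 1) - 1 := by
    have h1 : Nat.card K + 1 = 2 ^ (N' + 1) := by rw [← hcV, hN]
    rw [← Nat.card_eq_fintype_card]
    have h2 : ((Nat.card K + 1 : ℕ) : ℤ) = ((2 ^ (N' + 1) : ℕ) : ℤ) := by rw [h1]
    push_cast at h2
    linarith
  have hGc : (Fintype.card G : ℤ) = (2 : ℤ) ^ m := by
    rw [← Nat.card_eq_fintype_card, hm]; push_cast; rfl
  have h3 : ((2 : ℤ) ^ (N' + 1) - 1) * (∑ x, χ (sq x))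
      = ((2 : ℤ) ^ (N' + 1)) ^ 2 - (2 : ℤ) ^ m := by
    have h4 : ((Finset.univ.filter (fun x : G => ¬ sq x = 1)).card : ℤ) + ((Nat.card K : ℤ) + 1)
        = (Nat.card G : ℤ) := by exact_mod_cast hc2
    have h5 : (Nat.card K : ℤ) = (2 : ℤ) ^ (N' + 1) - 1 := by
      rw [Nat.card_eq_fintype_card]; exact hKc
    have h6 : (Nat.card G : ℤ) = (2 : ℤ) ^ m := by
      rw [Nat.card_eq_fintype_card]; exact hGc
    rw [← hKc, hs3, hs3', hKc]
    rw [h5] at h4 ⊢
    rw [h6] at h4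
    linear_combination (-1 : ℤ) * h4
  have h4 : (∑ x, χ (sq x)) * (∑ x, χ (sq x)) = (2 : ℤ) ^ m * (2 : ℤ) ^ r ∨
      (∑ x, χ (sq x)) * (∑ x, χ (sq x)) = 0 := by
    rcases hR2 with e | e
    · left
      rw [hs4', e, hGc, ← Nat.card_eq_fintype_card, hr]; push_cast; rfl
    · right
      rw [hs4', e, mul_zero]
  have hq : Nat.card K + 1 = 2 ^ (N' + 1) := by rw [← hcV, hN]
  rcases gs_arith _ h3 h4 with e | e | e
  · left; rw [hm, hq, e]
  · right; left; rw [hm, hq, e, ← pow_mul, mul_comm]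
  · right; right; rw [hm, hq, e, ← pow_mul, mul_comm]

end gs

end Cfsg.Agent.Lib.helper89.Suz
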