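import Mathlib
import Cfsg.Agent.Lib.helper89.Suz2
import Cfsg.Agent.Lib.helper89.Suz3

set_option autoImplicit false

namespace Cfsg.Agent.Lib.helper89.Suz

open Cfsg.Agent.S1137

universe u v

theorem sq_mul_of_comm {G : Type*} [Group G] {c b : G} (e : b * c = c * b) :
    (c * b) * (c * b) = (c * c) * (b * b) := by
  rw [mul_assoc, ← mul_assoc b c b, e, mul_assoc, ← mul_assoc]

/-- in a 2-group, an element whose square is nontrivial has a power of order 4. -/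
theorem exists_order4 {G : Type*} [Group G] (hQ : IsPGroup 2 G) {a : G} (ha : a * a ≠ 1) :
    ∃ m : ℕ, a ^ m * a ^ m ≠ 1 ∧ (a ^ m * a ^ m) * (a ^ m * a ^ m) = 1 := by
  obtain ⟨m, hm1, hm2⟩ := pow_invol hQ ha
  have e : (a * a) ^ m = a ^ m * a ^ m := (Commute.refl a).mul_pow m
  rw [e] at hm1 hm2
  exact ⟨m, hm1, hm2⟩

section main
variable {G : Type u} [Group G] {K : Type v} [Group K] {f : K → G →* G} (h : Hyp G K f)

/-- preimage of `Ω₁(Z(G/Z))`. -/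
def U (h : Hyp G K f) : Subgroup G where
  carrier := {g | g * g ∈ h.V ∧ ∀ x, cm g x ∈ h.V}
  mul_mem' := by
    rintro g g' ⟨hg, hgc⟩ ⟨hg', hgc'⟩
    refine ⟨?_, fun x => ?_⟩
    · rw [sq_mul_cm]
      exact h.V.mul_mem (h.V.mul_mem hg (hgc _)) hg'
    · rw [cm_mul_l' h (hgc x)]
      exact h.V.mul_mem (hgc x) (hgc' x)
  one_mem' := by
    refine ⟨?_, fun x => ?_⟩
    · rw [mul_one]; exact h.V.one_mem
    · rw [cm_one_l]; exact h.V.one_mem
  inv_mem' := by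
    rintro g ⟨hg, hgc⟩
    refine ⟨?_, fun x => ?_⟩
    · rw [← mul_inv_rev]; exact h.V.inv_mem hg
    · rw [cm_inv_l' h (hgc x)]; exact h.V.inv_mem (hgc x)

include h

theorem mem_U {g : G} : g ∈ U h ↔ g * g ∈ h.V ∧ ∀ x, cm g x ∈ h.V := Iff.rfl

theorem U_inv : Inv f (U h) := by
  rintro k g ⟨hg, hgc⟩
  refine ⟨?_, fun x => ?_⟩
  · rw [← map_mul]; exact V_inv h k _ hg
  · have e : cm (f k g) x = f k (cm g (f k⁻¹ x)) := by rw [← h.cm_map, h.inv_right]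
    rw [e]; exact V_inv h k _ (hgc _)

theorem U_normal : (U h).Normal := by
  refine ⟨fun g hg y => ?_⟩
  obtain ⟨hg1, hgc⟩ := hg
  refine ⟨?_, fun w => ?_⟩
  · have e : (y * g * y⁻¹) * (y * g * y⁻¹) = y * (g * g) * y⁻¹ := by group
    rw [e]; exact (V_normal h).conj_mem _ hg1 y
  · rw [cm_conj]; exact (V_normal h).conj_mem _ (hgc _) y

theorem V_le_U : h.V ≤ U h := by
  intro z hz
  refine ⟨?_, fun x => ?_⟩
  · rw [h.mem_V.mp hz]; exact h.V.one_mem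
  · rw [cm_eq_one_of_comm (V_central h hz x)]; exact h.V.one_mem

/-- an abelian invariant subgroup of exponent 4 (not inside `Z`) has order `q²`. -/
theorem ab4 {B : Subgroup G} (hB : Inv f B) (hBab : ∀ b ∈ B, ∀ b' ∈ B, b * b' = b' * b)
    (hB4 : ∀ b ∈ B, b * b ∈ h.V) {b₀ : G} (hb₀ : b₀ ∈ B) (hb₀V : b₀ ∉ h.V) :
    Nat.card B = (Nat.card K + 1) * Nat.card h.V := by
  have hb₀1 : b₀ ≠ 1 := by rintro rfl; exact hb₀V h.V.one_mem
  have hVB : h.V ≤ B := V_le h hB hb₀ hb₀1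
  refine (card_ge h (V_inv h) hB hVB hb₀ hb₀V).2.2 ?_
  intro b hb hbV
  have h1 : b₀ * b₀ ≠ 1 := fun e => hb₀V (h.mem_V.mpr e)
  have h2 : b * b ≠ 1 := fun e => hbV (h.mem_V.mpr e)
  obtain ⟨k, hk, -⟩ := h.reg (b₀ * b₀) (b * b) h1 (h.mem_V.mp (hB4 b₀ hb₀)) h2
    (h.mem_V.mp (hB4 b hb))
  refine ⟨k, (f k b₀)⁻¹ * b, ?_, by group⟩
  rw [h.mem_V, sq_mul_of_comm (hBab b hb _ (B.inv_mem (hB k _ hb₀))), ← mul_inv_rev, ← map_mul,
    hk, inv_mul_cancel]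

theorem gen2 {X Y : Subgroup G} (hgen : ∀ g, ∃ x ∈ X, ∃ y ∈ Y, g = x * y)
    (hX : ∀ x ∈ X, ∀ w, cm x w ∈ h.V) (hY : ∀ y ∈ Y, ∀ y' ∈ Y, cm y y' ∈ h.V) :
    ∀ g g', cm g g' ∈ h.V := by
  intro g g'
  obtain ⟨x, hx, y, hy, rfl⟩ := hgen g
  obtain ⟨x', hx', y', hy', rfl⟩ := hgen g'
  rw [cm_mul_l' h (hX x hx _)]
  refine h.V.mul_mem (hX x hx _) ?_
  have h1 : cm y x' ∈ h.V := by rw [cm_inv_swap x' y]; exact h.V.inv_mem (hX x' hx' y)
  rw [cm_mul_r' h h1]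
  exact h.V.mul_mem h1 (hY y hy y' hy')

theorem ne_top_of_card {N : Subgroup G} (hcard : Nat.card G = (Nat.card K + 1) * Nat.card N) :
    N ≠ ⊤ := by
  have := h.fin
  have := finite_K h
  have hKpos : 0 < Nat.card K := Nat.card_pos
  intro e
  rw [e, Subgroup.card_top] at hcard
  have h1 : 0 < Nat.card G := Nat.card_pos
  have h2 : (Nat.card K + 1) * Nat.card G = Nat.card K * Nat.card G + Nat.card G := by ring
  have h3 := Nat.mul_pos hKpos h1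
  omega

/-- the case of an abelian invariant normal subgroup with regular quotient. -/
theorem l_ab (hna : ∃ a b : G, a * b ≠ b * a) {A : Subgroup G} [hAn : A.Normal] (hA : Inv f A)
    (hAab : ∀ a ∈ A, ∀ b ∈ A, a * b = b * a)
    (hcard : Nat.card G = (Nat.card K + 1) * Nat.card A) : ∀ x y : G, cm x y ∈ h.V := by
  have := h.fin
  have := finite_K h
  have hAtop : A ≠ ⊤ := ne_top_of_card h hcard
  obtain ⟨g₀, hg₀⟩ : ∃ g₀ : G, g₀ ∉ A := by
    by_contra hc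
    push Not at hc
    exact hAtop (eq_top_iff.mpr (fun x _ => hc x))
  have hAcard : Nat.card (⊤ : Subgroup G) = (Nat.card K + 1) * Nat.card A := by
    rw [Subgroup.card_top]; exact hcard
  have hregA : ∀ g₁, g₁ ∉ A → ∀ g, g ∉ A → ∃ k, ∃ a ∈ A, g = f k g₁ * a :=
    fun g₁ hg₁ g hg => (card_ge h hA (top_inv h) le_top (Subgroup.mem_top g₁) hg₁).2.1 hAcard g
      (Subgroup.mem_top g) hg
  have hsqA : ∀ g, g * g ∈ A := by
    obtain ⟨x, -, hxA, hxx, -⟩ := PG h.pg (Y := A) (X := ⊤) (Subgroup.mem_top g₀) hg₀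
    intro g
    by_cases hg : g ∈ A
    · exact A.mul_mem hg hg
    · obtain ⟨k, a, ha, rfl⟩ := hregA x hxA g hg
      have h1 : (f k x * a) * (f k x * a) = (f k (x * x)) * ((f k x)⁻¹ * a * (f k x)) * a := by
        rw [map_mul]; group
      rw [h1]
      refine A.mul_mem (A.mul_mem (hA k _ hxx) ?_) ha
      have h2 := hAn.conj_mem a ha (f k x)⁻¹
      rw [inv_inv] at h2
      exact h2
  have hcmA : ∀ x y, cm x y ∈ A := by
    intro x y
    rw [cm_eq_sq]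
    exact A.mul_mem (A.mul_mem (A.inv_mem (hsqA x)) (hsqA _)) (hsqA y)
  have hVA : h.V ≤ A := by
    by_cases hA1 : ∃ x ∈ A, x ≠ 1
    · obtain ⟨x, hx, hx1⟩ := hA1
      exact V_le h hA hx hx1
    · exfalso
      push Not at hA1
      have hAbot : A = ⊥ := by
        rw [eq_bot_iff]; intro x hx; exact Subgroup.mem_bot.mpr (hA1 x hx)
      rw [hAbot, Subgroup.card_bot, mul_one, ← card_V h] at hcard
      have hVtop : h.V = ⊤ := Subgroup.eq_top_of_card_eq _ hcard.symm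
      obtain ⟨a, b, hab⟩ := hna
      exact hab (V_central h (by rw [hVtop]; exact Subgroup.mem_top a) b)
  obtain ⟨B, hB⟩ : ∃ B : Subgroup G, ∀ b, b ∈ B ↔ (b ∈ A ∧ b * b ∈ h.V) := by
    refine ⟨{ carrier := {b | b ∈ A ∧ b * b ∈ h.V}
              mul_mem' := ?_, one_mem' := ?_, inv_mem' := ?_ }, fun b => Iff.rfl⟩
    · rintro b b' ⟨hb, hbb⟩ ⟨hb', hbb'⟩
      refine ⟨A.mul_mem hb hb', ?_⟩
      have h1 : (b * b') * (b * b') = (b * b) * (b' * b') := sq_mul_of_comm (hAab b' hb' b hb)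
      rw [h1]; exact h.V.mul_mem hbb hbb'
    · exact ⟨A.one_mem, by rw [mul_one]; exact h.V.one_mem⟩
    · rintro b ⟨hb, hbb⟩
      exact ⟨A.inv_mem hb, by rw [← mul_inv_rev]; exact h.V.inv_mem hbb⟩
  have hBA : B ≤ A := fun b hb => ((hB b).mp hb).1
  have hBinv : Inv f B := fun k b hb =>
    (hB _).mpr ⟨hA k b ((hB b).mp hb).1, by rw [← map_mul]; exact V_inv h k _ ((hB b).mp hb).2⟩
  have hVB : h.V ≤ B := fun z hz =>
    (hB z).mpr ⟨hVA hz, by rw [h.mem_V.mp hz]; exact h.V.one_mem⟩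
  have hBab : ∀ b ∈ B, ∀ b' ∈ B, b * b' = b' * b :=
    fun b hb b' hb' => hAab b (hBA hb) b' (hBA hb')
  have hB4 : ∀ b ∈ B, b * b ∈ h.V := fun b hb => ((hB b).mp hb).2
  have hcZ : ∀ a ∈ (⊤ : Subgroup G), ∀ b ∈ B, cm a b ∈ h.V := by
    intro g _ b hb
    rw [h.mem_V]
    have hb' := hBA hb
    have h1 : g⁻¹ * b⁻¹ * g ∈ A := by
      have h2 := hAn.conj_mem b⁻¹ (A.inv_mem hb') g⁻¹
      rw [inv_inv] at h2; exact h2
    have h2 : cm g b = (g⁻¹ * b⁻¹ * g) * b := by unfold cm; group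
    have h3 : (g⁻¹ * b⁻¹ * g) * (g⁻¹ * b⁻¹ * g) = g⁻¹ * (b * b)⁻¹ * g := by group
    rw [h2, sq_mul_of_comm (hAab b hb' _ h1), h3, conj_V h (h.V.inv_mem (hB4 b hb)),
      inv_mul_cancel]
  have hc1 : ∀ a ∈ A, ∀ b ∈ B, cm a b = 1 :=
    fun a ha b hb => cm_eq_one_of_comm (hAab a ha b (hBA hb))
  by_cases hBV : ∀ b ∈ B, b ∈ h.V
  · have hAV : ∀ a ∈ A, a ∈ h.V := by
      intro a ha
      by_contra haV
      have h1 : a * a ≠ 1 := fun e => haV (h.mem_V.mpr e)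
      obtain ⟨m, hm1, hm2⟩ := exists_order4 h.pg h1
      have h2 : a ^ m ∈ B := (hB _).mpr ⟨A.pow_mem ha m, h.mem_V.mpr hm2⟩
      exact hm1 (h.mem_V.mp (hBV _ h2))
    intro x y
    exact hAV _ (hcmA x y)
  · push Not at hBV
    obtain ⟨b₀, hb₀, hb₀V⟩ := hBV
    have hBcard := ab4 h hBinv hBab hB4 hb₀ hb₀V
    have hnz : ∃ g, cm g b₀ ≠ 1 := by
      by_contra hc
      push Not at hc
      apply hb₀V
      rw [h.mem_V]
      apply center_sq_top h hna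
      intro y
      exact (comm_of_cm (hc y)).symm
    have hNZ : ∀ g, g ∉ A → ∀ b ∈ B, b ∉ h.V → cm g b ≠ 1 := by
      intro g hg b hb hbV hc
      obtain ⟨g₁, hg₁⟩ := hnz
      exact hg₁ (pair_NZ h le_top (top_inv h) hA hBinv hVB hBab hB4 hcZ hc1 hAcard hBcard
        (Subgroup.mem_top g) hg hb hbV hc g₁ (Subgroup.mem_top g₁) b₀ hb₀)
    have hA4 : ∀ a ∈ A, a * a ∈ h.V := by
      intro a ha
      by_contra haV
      have h1 : (a * a) * (a * a) ≠ 1 := fun e => haV (h.mem_V.mpr e)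
      obtain ⟨m, hm1, hm2⟩ := exists_order4 h.pg h1
      have e0 : (a * a) ^ m = a ^ m * a ^ m := (Commute.refl a).mul_pow m
      rw [e0] at hm1 hm2
      obtain ⟨w, hw, hwdef⟩ : ∃ w, w ∈ A ∧ w = a ^ m := ⟨_, A.pow_mem ha m, rfl⟩
      rw [← hwdef] at hm1 hm2
      have hsA : w * w ∈ A := A.mul_mem hw hw
      have hsB : w * w ∈ B := (hB _).mpr ⟨hsA, h.mem_V.mpr hm2⟩
      have hsV : w * w ∉ h.V := fun hc => hm1 (h.mem_V.mp hc)
      have star : ∀ g, g ∉ A → (cm g w)⁻¹ * (w * w) ∈ h.V := by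
        intro g hg
        have hcA : g⁻¹ * w⁻¹ * g ∈ A := by
          have h2 := hAn.conj_mem w⁻¹ (A.inv_mem hw) g⁻¹
          rw [inv_inv] at h2; exact h2
        have hd : cm g w = (g⁻¹ * w⁻¹ * g) * w := by unfold cm; group
        have hdA : cm g w ∈ A := hcmA g w
        have hdd : cm g w * cm g w = cm g (w * w) := by
          have h3 : (g⁻¹ * w⁻¹ * g) * (g⁻¹ * w⁻¹ * g) * (w * w) = cm g (w * w) := by
            unfold cm; group
          rw [hd, sq_mul_of_comm (hAab w hw _ hcA), h3]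
        have hdB : cm g w ∈ B := (hB _).mpr ⟨hdA, by
          rw [hdd]; exact hcZ g (Subgroup.mem_top g) _ hsB⟩
        have e1 : g⁻¹ * (g⁻¹ * w * g) * g = w := by
          have h4 : g⁻¹ * (g⁻¹ * w * g) * g = (g * g)⁻¹ * (w * (g * g)) := by group
          rw [h4, ← hAab (g * g) (hsqA g) w hw]; group
        have e2 : cm g (cm g w) = cm g w * cm g w := by
          have e3 : cm g (cm g w)
              = ((g⁻¹ * (g⁻¹ * w * g) * g)⁻¹ * (g⁻¹ * w * g))⁻¹ * cm g w := by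
            unfold cm; group
          have e5 : (w⁻¹ * (g⁻¹ * w * g))⁻¹ = cm g w := by unfold cm; group
          rw [e3, e1, e5]
        have e6 : cm g ((cm g w)⁻¹ * (w * w)) = 1 := by
          rw [cm_mul_r' h (hcZ g (Subgroup.mem_top g) _ (B.inv_mem hdB)),
            cm_inv_r' h (hcZ g (Subgroup.mem_top g) _ hdB), e2, hdd, inv_mul_cancel]
        by_contra hc
        exact hNZ g hg _ (B.mul_mem (B.inv_mem hdB) hsB) hc e6
      obtain ⟨k₁, hk₁⟩ := exists_k_ne_one h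
      have hg₁ : g₀⁻¹ ∉ A := fun hc => hg₀ ((Subgroup.inv_mem_iff A).mp hc)
      have hg₂ : f k₁ g₀ ∉ A := fun hc => hg₀ ((inv_iff h hA k₁).mp hc)
      have hg₁₂ : g₀⁻¹ * f k₁ g₀ ∉ A := by
        intro hc
        rcases fpf_mod h hA hc with e | e
        · exact hk₁ e
        · exact hg₀ e
      have hd12 : cm (g₀⁻¹ * f k₁ g₀) w
          = cm g₀⁻¹ w * cm (cm g₀⁻¹ w) (f k₁ g₀) * cm (f k₁ g₀) w := by
        rw [cm_mul_l, conj_eq_mul_cm]
      have hz1 := star _ hg₁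
      have hz2 := star _ hg₂
      have hz3 := star _ hg₁₂
      have hd1B : cm g₀⁻¹ w ∈ B := by
        have hdd : cm g₀⁻¹ w * cm g₀⁻¹ w ∈ h.V := by
          -- (cm g w)⁻¹ * (w*w) ∈ V and w*w ∈ B
          have e7 : cm g₀⁻¹ w = (w * w) * ((cm g₀⁻¹ w)⁻¹ * (w * w))⁻¹ := by group
          have h8 : cm g₀⁻¹ w ∈ B := by
            rw [e7]; exact B.mul_mem hsB (B.inv_mem (hVB hz1))
          exact hB4 _ h8
        exact (hB _).mpr ⟨hcmA _ _, hdd⟩
      have hζ : cm (cm g₀⁻¹ w) (f k₁ g₀) ∈ h.V := by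
        rw [cm_inv_swap (f k₁ g₀) (cm g₀⁻¹ w)]
        exact h.V.inv_mem (hcZ _ (Subgroup.mem_top _) _ hd1B)
      have hd2 : (cm (f k₁ g₀) w)⁻¹ ∈ h.V := by
        have e : (cm (f k₁ g₀) w)⁻¹ = ((cm (g₀⁻¹ * f k₁ g₀) w)⁻¹ * (w * w)) *
            ((cm (cm g₀⁻¹ w) (f k₁ g₀))⁻¹ * ((cm g₀⁻¹ w)⁻¹ * (w * w)))⁻¹ := by
          rw [hd12]; group
        rw [e]
        exact h.V.mul_mem hz3 (h.V.inv_mem (h.V.mul_mem (h.V.inv_mem hζ) hz1))
      apply hsV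
      have e : w * w = ((cm (f k₁ g₀) w)⁻¹)⁻¹ * ((cm (f k₁ g₀) w)⁻¹ * (w * w)) := by group
      rw [e]
      exact h.V.mul_mem (h.V.inv_mem hd2) hz2
    have hsqV : ∀ g, g * g ∈ h.V := by
      intro g
      by_cases hg : g ∈ A
      · exact hA4 g hg
      · by_contra hc
        have hgB : g * g ∈ B := (hB _).mpr ⟨hsqA g, hA4 _ (hsqA g)⟩
        exact hNZ g hg (g * g) hgB hc (cm_eq_one_of_comm (mul_assoc g g g).symm)
    intro x y
    rw [cm_eq_sq]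
    exact h.V.mul_mem (h.V.mul_mem (h.V.inv_mem (hsqV x)) (hsqV _)) (hsqV y)

end main

end Cfsg.Agent.Lib.helper89.Suz
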