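import Mathlib
import Cfsg.Agent.Lib.helper89.Suz4
import Cfsg.Agent.Lib.helper89.Suz5

set_option autoImplicit false

namespace Cfsg.Agent.Lib.helper89.Suz

open Cfsg.Agent.S1137

universe u v

theorem sq_in_V {G : Type u} [Group G] {K : Type v} [Group K] {f : K → G →* G} (h : Hyp G K f)
    (hna : ∃ a b : G, a * b ≠ b * a) (hcl : ∀ x y : G, cm x y * cm x y = 1) (x : G) :
    x * x ∈ h.V := by
  rw [h.mem_V]
  have hc := h.sq_central hcl x
  exact center_sq_top h hna (fun y => (Subgroup.mem_center_iff.mp hc y).symm)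

set_option maxHeartbeats 1600000 in
/-- Higman: a nonabelian Suzuki-type 2-group has class 2. -/
theorem class2 : ∀ (n : ℕ) (G : Type u) [Group G] (K : Type v) [Group K] (f : K → G →* G),
    Hyp G K f → Nat.card G = n → (∃ a b : G, a * b ≠ b * a) →
      ∀ x y : G, cm x y * cm x y = 1 := by
  intro n
  induction n using Nat.strong_induction_on with
  | _ n ih =>
    intro G _ K _ f h hn hna
    have := h.fin
    have := finite_K h
    have hKpos : 0 < Nat.card K := Nat.card_pos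
    have hIH : ∀ H : Subgroup G, Inv f H → H ≠ ⊤ → (∃ a ∈ H, ∃ b ∈ H, a * b ≠ b * a) →
        (∀ x ∈ H, ∀ y ∈ H, cm x y ∈ h.V) ∧ (∀ x ∈ H, x * x ∈ h.V) ∧
        (Nat.card H = (Nat.card K + 1) ^ 2 ∨ Nat.card H = (Nat.card K + 1) ^ 3) := by
      rintro H hH hHtop ⟨a, ha, b, hb, hab⟩
      have ha1 : a ≠ 1 := by rintro rfl; simp at hab
      have hyp := resHyp h hH ha ha1
      have hlt : Nat.card H < n := by
        rw [← hn]
        exact lt_of_le_of_ne (Subgroup.card_le_card_group H)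
          (fun e => hHtop (Subgroup.eq_top_of_card_eq H e))
      have hnaH : ∃ a b : H, a * b ≠ b * a :=
        ⟨⟨a, ha⟩, ⟨b, hb⟩, fun e => hab (congrArg Subtype.val e)⟩
      have hcl := ih _ hlt H K (resf f H hH) hyp rfl hnaH
      have hclV : ∀ x y : H, cm x y ∈ hyp.V := fun x y => hyp.mem_V.mpr (hcl x y)
      have hsqH : ∀ x : H, x * x ∈ hyp.V := fun x => sq_in_V hyp hnaH hcl x
      have hord := ord hyp hclV hsqH
      refine ⟨?_, ?_, ?_⟩
      · intro x hx y hy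
        rw [h.mem_V]
        exact congrArg Subtype.val (hcl ⟨x, hx⟩ ⟨y, hy⟩)
      · intro x hx
        rw [h.mem_V]
        exact congrArg Subtype.val (hyp.mem_V.mp (hsqH ⟨x, hx⟩))
      · rcases hord with e | e | e
        · exfalso
          rw [← card_V hyp] at e
          have hVtop : hyp.V = ⊤ := Subgroup.eq_top_of_card_eq _ e.symm
          have h1 : (⟨a, ha⟩ : H) ∈ hyp.V := by rw [hVtop]; exact Subgroup.mem_top _
          exact hab (congrArg Subtype.val (V_central hyp h1 ⟨b, hb⟩))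
        · exact Or.inl e
        · exact Or.inr e
    have hVn := V_normal h
    obtain ⟨a₀, b₀, hab₀⟩ := hna
    have ha₀V : a₀ ∉ h.V := fun hc => hab₀ (V_central h hc b₀)
    obtain ⟨u₀, -, hu₀V, hu₀sq, hu₀c⟩ :=
      PG h.pg (Y := h.V) (X := ⊤) (Subgroup.mem_top a₀) ha₀V
    have hu₀U : u₀ ∈ U h := ⟨hu₀sq, hu₀c⟩
    suffices hgoal : ∀ x y : G, cm x y ∈ h.V from fun x y => h.mem_V.mp (hgoal x y)
    have hUn := U_normal h
    have hUinv := U_inv h
    have hVU := V_le_U h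
    by_cases hUab : ∀ u ∈ U h, ∀ u' ∈ U h, u * u' = u' * u
    swap
    · -- `U` nonabelian
      push Not at hUab
      obtain ⟨u, hu, u', hu', huu'⟩ := hUab
      by_contra hcon
      push Not at hcon
      obtain ⟨g, g', hgg'⟩ := hcon
      have hcent : ∀ w ∈ U h, cm g g' * w = w * cm g g' := by
        intro w hw
        have hwc : ∀ y, cm w y ∈ h.V := hw.2
        have e0 : cm g g' = g⁻¹ * g'⁻¹ * g * g' := by unfold cm; group
        have e1 : cm w (cm g g') = cm w g⁻¹ * cm w g'⁻¹ * cm w g * cm w g' := by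
          rw [e0, cm_mul_r' h (hwc _), cm_mul_r' h (hwc _), cm_mul_r' h (hwc _)]
        rw [cm_inv_r' h (hwc g), cm_inv_r' h (hwc g')] at e1
        have e3 : (cm w g')⁻¹ * cm w g = cm w g * (cm w g')⁻¹ := (V_central h (hwc g) _).symm
        have e2 : (cm w g)⁻¹ * (cm w g')⁻¹ * cm w g * cm w g' = 1 := by
          calc (cm w g)⁻¹ * (cm w g')⁻¹ * cm w g * cm w g'
              = (cm w g)⁻¹ * ((cm w g')⁻¹ * cm w g) * cm w g' := by group
            _ = 1 := by rw [e3]; group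
        exact (comm_of_cm (e1.trans e2)).symm
      have hcmem : cm g g' ∈ Subgroup.centralizer (U h : Set G) := by
        rw [Subgroup.mem_centralizer_iff]
        intro w hw
        exact (hcent w hw).symm
      obtain ⟨c', hc', hc'V, hc'sq, hc'c⟩ :=
        PG h.pg (Y := h.V) (X := Subgroup.centralizer (U h : Set G)) hcmem hgg'
      have hc'U : c' ∈ U h := ⟨hc'sq, hc'c⟩
      have hc'cent : ∀ y ∈ U h, c' * y = y * c' :=
        fun y hy => ((Subgroup.mem_centralizer_iff.mp hc') y hy).symm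
      exact hc'V (h.mem_V.mpr (center_sq h hUinv hu hu' huu' hc'U hc'cent))
    · -- `U` abelian
      have hU4 : ∀ u ∈ U h, u * u ∈ h.V := fun u hu => hu.1
      have hUcard : Nat.card (U h) = (Nat.card K + 1) * Nat.card h.V :=
        ab4 h hUinv hUab hU4 hu₀U hu₀V
      obtain ⟨N, hNn, hNinv, hNcard⟩ := top_exists h ⟨a₀, b₀, hab₀⟩
      by_cases hNab : ∀ a ∈ N, ∀ b ∈ N, a * b = b * a
      · exact l_ab h ⟨a₀, b₀, hab₀⟩ hNinv hNab hNcard
      push Not at hNab
      obtain ⟨a₁, ha₁, b₁, hb₁, hab₁⟩ := hNab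
      have hNtop : N ≠ ⊤ := ne_top_of_card h hNcard
      obtain ⟨hN1, hN2, hN3⟩ := hIH N hNinv hNtop ⟨a₁, ha₁, b₁, hb₁, hab₁⟩
      have hregG : ∀ g₁, g₁ ∉ N → ∀ g, g ∉ N → ∃ k, ∃ a ∈ N, g = f k g₁ * a :=
        fun g₁ hg₁ g hg => (card_ge h hNinv (top_inv h) le_top (Subgroup.mem_top g₁) hg₁).2.1
          (by rw [Subgroup.card_top]; exact hNcard) g (Subgroup.mem_top g) hg
      by_cases hUN : U h ≤ N
      swap
      · obtain ⟨u₁, hu₁, hu₁N⟩ := SetLike.not_le_iff_exists.mp hUN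
        apply gen2 h (X := U h) (Y := N) ?_ (fun x hx w => hx.2 w) hN1
        intro g
        by_cases hg : g ∈ N
        · exact ⟨1, (U h).one_mem, g, hg, (one_mul g).symm⟩
        · obtain ⟨k, a, ha, rfl⟩ := hregG u₁ hu₁N g hg
          exact ⟨f k u₁, hUinv k _ hu₁, a, ha, rfl⟩
      exfalso
      obtain ⟨x₁, hx₁N, hx₁U⟩ : ∃ x₁ ∈ N, x₁ ∉ U h := by
        by_contra hc
        push Not at hc
        exact hab₁ (hUab a₁ (hc a₁ ha₁) b₁ (hc b₁ hb₁))
      have hcg := card_ge h hUinv hNinv hUN hx₁N hx₁U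
      have hVcard := card_V h
      have hNcardU : Nat.card N = (Nat.card K + 1) * Nat.card (U h) := by
        rcases hN3 with e | e
        · exfalso
          have h1 := hcg.1
          rw [e, hUcard, hVcard] at h1
          have h2 : (Nat.card K + 1) ^ 2 * 2 ≤ (Nat.card K + 1) * ((Nat.card K + 1) * (Nat.card K + 1)) := by
            have h3 : 2 ≤ Nat.card K + 1 := by omega
            calc (Nat.card K + 1) ^ 2 * 2 ≤ (Nat.card K + 1) ^ 2 * (Nat.card K + 1) :=
                  Nat.mul_le_mul_left _ h3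
              _ = (Nat.card K + 1) * ((Nat.card K + 1) * (Nat.card K + 1)) := by ring
          have h4 : 0 < (Nat.card K + 1) ^ 2 := by positivity
          omega
        · rw [e, hUcard, hVcard]; ring
      have hregN : ∀ x₀ ∈ N, x₀ ∉ U h → ∀ x ∈ N, x ∉ U h → ∃ k, ∃ u ∈ U h, x = f k x₀ * u :=
        fun x₀ hx₀ hx₀U x hx hxU => (card_ge h hUinv hNinv hUN hx₀ hx₀U).2.1 hNcardU x hx hxU
      have hGN : ∀ x ∈ N, ∀ g, cm x g ∈ U h := by
        obtain ⟨x₀, hx₀N, hx₀U, -, hx₀c⟩ := PG h.pg (Y := U h) (X := N) hx₁N hx₁U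
        intro x hx g
        by_cases hxU : x ∈ U h
        · exact hVU (hxU.2 g)
        · obtain ⟨k, u, hu, rfl⟩ := hregN x₀ hx₀N hx₀U x hx hxU
          rw [cm_mul_l]
          have h1 : cm (f k x₀) g ∈ U h := by
            have e : cm (f k x₀) g = f k (cm x₀ (f k⁻¹ g)) := by rw [← h.cm_map, h.inv_right]
            rw [e]; exact hUinv k _ (hx₀c _)
          exact (U h).mul_mem ((U h).mul_mem ((U h).mul_mem ((U h).inv_mem hu) h1) hu)
            (hVU (hu.2 g))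
      have hDN : ∀ x ∈ N, x ∉ U h → ∃ g, cm x g ∉ h.V := by
        intro x hx hxU
        by_contra hc
        push Not at hc
        exact hxU ⟨hN2 x hx, hc⟩
      have hcZ : ∀ a ∈ N, ∀ b ∈ U h, cm a b ∈ h.V := fun a _ b hb => by
        rw [cm_inv_swap b a]; exact h.V.inv_mem (hb.2 a)
      have hc1 : ∀ a ∈ U h, ∀ b ∈ U h, cm a b = 1 :=
        fun a ha b hb => cm_eq_one_of_comm (hUab a ha b hb)
      have hCL : ∀ x ∈ N, x ∉ U h → ∀ u ∈ U h, ∀ u' ∈ U h, u ∉ h.V → u' ∉ h.V →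
          cm x u = u * u → cm x u' = u' * u' → u⁻¹ * u' ∈ h.V :=
        fun x hx hxU u hu u' hu' huV hu'V e e' =>
          pair_CL h hUN hNinv hUinv hUinv hVU hUab hcZ hc1 hNcardU hUcard hx hxU hu hu' huV hu'V
            e e'
      have hT : ∀ x ∈ N, x ∉ U h → ∀ g g', cm x g ∉ h.V → cm x g' ∉ h.V →
          (cm x g)⁻¹ * cm x g' ∈ h.V := by
        intro x hx hxU g g' hg hg'
        have key : ∀ g₂, cm x (cm x g₂)⁻¹ = (cm x g₂)⁻¹ * (cm x g₂)⁻¹ := by
          intro g₂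
          have e1 : (x * cm x g₂) * (x * cm x g₂) = x * x := by
            rw [← conj_eq_mul_cm]
            have e0 : (g₂⁻¹ * x * g₂) * (g₂⁻¹ * x * g₂) = g₂⁻¹ * (x * x) * g₂ := by group
            rw [e0, conj_V h (hN2 x hx)]
          rw [sq_mul_cm] at e1
          have e2 : cm x (cm x g₂)⁻¹ * (cm x g₂ * cm x g₂) = 1 := by
            apply mul_left_cancel (a := x * x)
            rw [mul_one, ← mul_assoc]; exact e1
          rw [← mul_inv_rev]
          exact eq_inv_of_mul_eq_one_left e2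
        have h1 := hCL x hx hxU (cm x g)⁻¹ ((U h).inv_mem (hGN x hx g)) (cm x g')⁻¹
          ((U h).inv_mem (hGN x hx g')) (fun hc => hg ((Subgroup.inv_mem_iff _).mp hc))
          (fun hc => hg' ((Subgroup.inv_mem_iff _).mp hc)) (key g) (key g')
        rw [inv_inv] at h1
        have h2 : (cm x g)⁻¹ * cm x g' = (cm x g * (cm x g')⁻¹)⁻¹ := by
          rw [mul_inv_rev, inv_inv]
          exact hUab _ ((U h).inv_mem (hGN x hx g)) _ (hGN x hx g')
        rw [h2]; exact h.V.inv_mem h1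
      have hHg : ∀ x ∈ N, ∀ g g', ∃ ζ ∈ h.V, cm x (g * g') = cm x g * cm x g' * ζ := by
        intro x hx g g'
        refine ⟨cm (cm x g) g', (hGN x hx g).2 g', ?_⟩
        rw [cm_mul_r, conj_eq_mul_cm, ← mul_assoc, hUab _ (hGN x hx g') _ (hGN x hx g)]
      have hHx : ∀ x ∈ N, ∀ x' ∈ N, ∀ g, ∃ ζ ∈ h.V, cm (x * x') g = cm x g * cm x' g * ζ := by
        intro x hx x' hx' g
        refine ⟨cm (cm x g) x', (hGN x hx g).2 x', ?_⟩
        rw [cm_mul_l, conj_eq_mul_cm, mul_assoc, V_central h ((hGN x hx g).2 x') (cm x' g),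
          ← mul_assoc]
      have hH1 : ∀ x ∈ N, ∀ g g', cm x g ∈ h.V → (cm x (g * g') ∈ h.V ↔ cm x g' ∈ h.V) := by
        intro x hx g g' hg
        obtain ⟨ζ, hζ, e⟩ := hHg x hx g g'
        rw [e]
        constructor
        · intro hc
          have e2 : cm x g' = (cm x g)⁻¹ * (cm x g * cm x g' * ζ) * ζ⁻¹ := by group
          rw [e2]; exact h.V.mul_mem (h.V.mul_mem (h.V.inv_mem hg) hc) (h.V.inv_mem hζ)
        · intro hc; exact h.V.mul_mem (h.V.mul_mem hg hc) hζ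
      have hH2 : ∀ x ∈ N, x ∉ U h → ∀ g g', cm x g ∉ h.V → cm x g' ∉ h.V →
          cm x (g * g') ∈ h.V := by
        intro x hx hxU g g' hg hg'
        obtain ⟨ζ, hζ, e⟩ := hHg x hx g g'
        have hz := hT x hx hxU g g' hg hg'
        have e2 : cm x g * cm x g' * ζ = (cm x g * cm x g) * ((cm x g)⁻¹ * cm x g') * ζ := by
          group
        rw [e, e2]
        exact h.V.mul_mem (h.V.mul_mem (hU4 _ (hGN x hx g)) hz) hζ
      have hHinv : ∀ x ∈ N, ∀ g, cm x g⁻¹ ∈ h.V → cm x g ∈ h.V := by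
        intro x hx g hg
        exact (hH1 x hx g⁻¹ g hg).mp (by rw [inv_mul_cancel, cm_one_r]; exact h.V.one_mem)
      have hHu : ∀ x ∈ N, ∀ u ∈ U h, ∀ g, (cm (x * u) g ∈ h.V ↔ cm x g ∈ h.V) := by
        intro x hx u hu g
        obtain ⟨ζ, hζ, e⟩ := hHx x hx u (hUN hu) g
        rw [e]
        constructor
        · intro hc
          have e2 : cm x g = (cm x g * cm u g * ζ) * ζ⁻¹ * (cm u g)⁻¹ := by group
          rw [e2]; exact h.V.mul_mem (h.V.mul_mem hc (h.V.inv_mem hζ)) (h.V.inv_mem (hu.2 g))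
        · intro hc; exact h.V.mul_mem (h.V.mul_mem hc (hu.2 g)) hζ
      have hHk : ∀ x g k, (cm (f k x) g ∈ h.V ↔ cm x (f k⁻¹ g) ∈ h.V) := by
        intro x g k
        have e : cm (f k x) g = f k (cm x (f k⁻¹ g)) := by rw [← h.cm_map, h.inv_right]
        rw [e]; exact inv_iff h (V_inv h) k
      have hB : ∀ x ∈ N, x ∉ U h → ∀ x' ∈ N, x' ∉ U h → ∀ g, cm x g ∈ h.V → cm x' g ∈ h.V := by
        intro x hx hxU x' hx' hx'U g hg
        by_contra hg'
        obtain ⟨g₂, hg₂⟩ := hDN x hx hxU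
        obtain ⟨g₄, hg₄, hg₄'⟩ : ∃ g₄, cm x g₄ ∉ h.V ∧ cm x' g₄ ∈ h.V := by
          by_cases h2 : cm x' g₂ ∈ h.V
          · exact ⟨g₂, hg₂, h2⟩
          · refine ⟨g * g₂, ?_, hH2 x' hx' hx'U g g₂ hg' h2⟩
            rw [hH1 x hx g g₂ hg]; exact hg₂
        obtain ⟨ζ₁, hζ₁, e₁⟩ := hHx x hx x' hx' g
        obtain ⟨ζ₂, hζ₂, e₂⟩ := hHx x hx x' hx' g₄
        have hy : x * x' ∈ N := N.mul_mem hx hx'
        have hyg : cm (x * x') g ∉ h.V := by
          intro hc
          rw [e₁] at hc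
          apply hg'
          have e3 : cm x' g = (cm x g)⁻¹ * (cm x g * cm x' g * ζ₁) * ζ₁⁻¹ := by group
          rw [e3]; exact h.V.mul_mem (h.V.mul_mem (h.V.inv_mem hg) hc) (h.V.inv_mem hζ₁)
        have hyg₄ : cm (x * x') g₄ ∉ h.V := by
          intro hc
          rw [e₂] at hc
          apply hg₄
          have e3 : cm x g₄ = (cm x g₄ * cm x' g₄ * ζ₂) * ζ₂⁻¹ * (cm x' g₄)⁻¹ := by group
          rw [e3]; exact h.V.mul_mem (h.V.mul_mem hc (h.V.inv_mem hζ₂)) (h.V.inv_mem hg₄')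
        have hyU : x * x' ∉ U h := fun hc => hyg (hc.2 g)
        have hE1 := hT (x * x') hy hyU g g₄ hyg hyg₄
        have hE1' : (cm x' g)⁻¹ * cm x g₄ ∈ h.V := by
          rw [e₁, e₂] at hE1
          have e7 : cm x g * (cm x' g)⁻¹ = (cm x' g)⁻¹ * cm x g := V_central h hg _
          have e5 : (cm x' g)⁻¹ * cm x g₄ = cm x g * (ζ₁ * ((cm x g * cm x' g * ζ₁)⁻¹ *
              (cm x g₄ * cm x' g₄ * ζ₂)) * ζ₂⁻¹ * (cm x' g₄)⁻¹) := by
            calc (cm x' g)⁻¹ * cm x g₄ = ((cm x' g)⁻¹ * cm x g) * (cm x g)⁻¹ * cm x g₄ := by group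
              _ = (cm x g * (cm x' g)⁻¹) * (cm x g)⁻¹ * cm x g₄ := by rw [e7]
              _ = _ := by group
          rw [e5]
          exact h.V.mul_mem hg (h.V.mul_mem (h.V.mul_mem (h.V.mul_mem hζ₁ hE1)
            (h.V.inv_mem hζ₂)) (h.V.inv_mem hg₄'))
        obtain ⟨k, u, hu, rfl⟩ := hregN x hx hxU x' hx' hx'U
        have h3 : cm x (f k⁻¹ g) ∉ h.V := by
          intro hc
          exact hg' ((hHu _ (hNinv k x hx) u hu g).mpr ((hHk x g k).mpr hc))
        have hE2 := hT x hx hxU (f k⁻¹ g) g₄ h3 hg₄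
        obtain ⟨ζ₃, hζ₃, e₃⟩ := hHx (f k x) (hNinv k x hx) u (hUN hu) g
        have e4 : cm (f k x) g = f k (cm x (f k⁻¹ g)) := by rw [← h.cm_map, h.inv_right]
        have hw : (cm x g₄)⁻¹ * f k (cm x g₄) ∈ h.V := by
          have h5 : f k ((cm x (f k⁻¹ g))⁻¹ * cm x g₄) ∈ h.V := V_inv h k _ hE2
          rw [map_mul, map_inv, ← e4] at h5
          rw [e₃] at hE1'
          have e8 : (cm x g₄)⁻¹ * f k (cm x g₄) = ((cm (f k x) g * cm u g * ζ₃)⁻¹ * cm x g₄)⁻¹ *
              ζ₃⁻¹ * (cm u g)⁻¹ * ((cm (f k x) g)⁻¹ * f k (cm x g₄)) := by group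
          rw [e8]
          exact h.V.mul_mem (h.V.mul_mem (h.V.mul_mem (h.V.inv_mem hE1') (h.V.inv_mem hζ₃))
            (h.V.inv_mem (hu.2 g))) h5
        rcases fpf_mod h (V_inv h) hw with hk1 | hwV
        · subst hk1
          apply hg'
          exact (hHu _ (hNinv 1 x hx) u hu g).mpr (by rw [h.one]; exact hg)
        · exact hg₄ hwV
      have hC : ∀ x ∈ N, x ∉ U h → ∀ g k, cm x g ∈ h.V → cm x (f k g) ∈ h.V := by
        intro x hx hxU g k hg
        have e : cm x (f k g) = f k (cm (f k⁻¹ x) g) := by rw [← h.cm_map, h.inv_right]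
        rw [e]
        apply V_inv h k
        exact hB x hx hxU (f k⁻¹ x) (hNinv _ _ hx)
          (fun hc => hxU ((inv_iff h hUinv k⁻¹).mp hc)) g hg
      obtain ⟨g₁, hg₁⟩ : ∃ g₁ : G, g₁ ∉ N := by
        by_contra hc
        push Not at hc
        exact hNtop (eq_top_iff.mpr (fun x _ => hc x))
      obtain ⟨k₁, hk₁⟩ := exists_k_ne_one h
      obtain ⟨g₀, hg₀N, hg₀⟩ : ∃ g₀, g₀ ∉ N ∧ cm x₁ g₀ ∈ h.V := by
        by_cases h1 : cm x₁ g₁ ∈ h.V
        · exact ⟨g₁, hg₁, h1⟩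
        by_cases h2 : cm x₁ (f k₁ g₁) ∈ h.V
        · exact ⟨f k₁ g₁, fun hc => hg₁ ((inv_iff h hNinv k₁).mp hc), h2⟩
        refine ⟨g₁⁻¹ * f k₁ g₁, ?_, ?_⟩
        · intro hc
          rcases fpf_mod h hNinv hc with e | e
          · exact hk₁ e
          · exact hg₁ e
        · apply hH2 x₁ hx₁N hx₁U _ _ ?_ h2
          intro hc; exact h1 (hHinv x₁ hx₁N g₁ hc)
      obtain ⟨g, hg⟩ := hDN x₁ hx₁N hx₁U
      apply hg
      by_cases hgN : g ∈ N
      · exact hN1 x₁ hx₁N g hgN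
      · obtain ⟨k, a, ha, rfl⟩ := hregG g₀ hg₀N g hgN
        rw [hH1 x₁ hx₁N _ _ (hC x₁ hx₁N hx₁U g₀ k hg₀)]
        exact hN1 x₁ hx₁N a ha

/-- Higman's theorem for Suzuki-type 2-groups. -/
theorem higman {G : Type u} [Group G] {K : Type v} [Group K] {f : K → G →* G} (h : Hyp G K f)
    (hna : ∃ a b : G, a * b ≠ b * a) :
    (∀ x y : G, cm x y ∈ h.V) ∧ (∀ x : G, x * x ∈ h.V) ∧
      (Nat.card G = (Nat.card K + 1) ^ 2 ∨ Nat.card G = (Nat.card K + 1) ^ 3) := by
  have := h.fin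
  have hcl := class2 (Nat.card G) G K f h rfl hna
  have hclV : ∀ x y : G, cm x y ∈ h.V := fun x y => h.mem_V.mpr (hcl x y)
  have hsq : ∀ x : G, x * x ∈ h.V := fun x => sq_in_V h hna hcl x
  refine ⟨hclV, hsq, ?_⟩
  rcases ord h hclV hsq with e | e | e
  · exfalso
    rw [← card_V h] at e
    have hVtop : h.V = ⊤ := Subgroup.eq_top_of_card_eq _ e.symm
    obtain ⟨a, b, hab⟩ := hna
    exact hab (V_central h (by rw [hVtop]; exact Subgroup.mem_top a) b)
  · exact Or.inl e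
  · exact Or.inr e

end Cfsg.Agent.Lib.helper89.Suz
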