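import Cfsg.Agent.Lib.helper68.W2PDefs

/-!
# S0720 piece G2: coordinates for a fixed-point-free permutation of order `p` on `2p` points
-/

set_option autoImplicit false

namespace Cfsg.Agent.Lib.helper89.W2P

open Finset
open scoped Classical

variable {p : ℕ} [Fact p.Prime]

theorem g2_pow_val_add {M : Type*} [Monoid M] (a : M) (ha : a ^ p = 1) (x y : ZMod p) :
    a ^ (x + y).val = a ^ x.val * a ^ y.val := by
  rw [← pow_add, ZMod.val_add]
  conv_rhs => rw [← Nat.mod_add_div (x.val + y.val) p]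
  rw [pow_add, pow_mul, ha, one_pow, mul_one]

theorem g2_fix_dvd {α : Type*} [Fintype α] [DecidableEq α] (g : Equiv.Perm α)
    (hg : orderOf g = p) (hfpf : ∀ x : α, g x ≠ x) (a : α) (m : ℕ) (h : (g ^ m) a = a) :
    p ∣ m := by
  by_contra hnd
  have hp : p.Prime := Fact.out
  have hcop : Nat.Coprime m p := Nat.Coprime.symm ((Nat.Prime.coprime_iff_not_dvd hp).2 hnd)
  obtain ⟨k, -, hk⟩ := Nat.exists_mul_mod_eq_one_of_coprime hcop hp.one_lt
  have h1 : ((g ^ m) ^ k) a = a := Equiv.Perm.pow_apply_eq_self_of_apply_eq_self h k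
  have h2 : (g ^ m) ^ k = g := by
    rw [← pow_mul, ← pow_mod_orderOf, hg, hk, pow_one]
  rw [h2] at h1
  exact hfpf a h1

theorem exists_coords {α : Type*} [Fintype α] [DecidableEq α]
    (hα : Fintype.card α = 2 * p) (g : Equiv.Perm α) (hg : orderOf g = p)
    (hfpf : ∀ x : α, g x ≠ x) :
    ∃ e : ZMod p × Fin 2 ≃ α, ∀ (x : ZMod p) (j : Fin 2), g (e (x, j)) = e (x + 1, j) := by
  have hp : p.Prime := Fact.out
  have hgp : g ^ p = 1 := by rw [← hg]; exact pow_orderOf_eq_one g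
  have hadd : ∀ x y : ZMod p, g ^ (x + y).val = g ^ x.val * g ^ y.val := g2_pow_val_add g hgp
  have hzero : g ^ (0 : ZMod p).val = 1 := by rw [ZMod.val_zero, pow_zero]
  have hfix : ∀ (z : ZMod p) (a : α), (g ^ z.val) a = a → z = 0 := by
    intro z a h
    have hd := g2_fix_dvd g hg hfpf a z.val h
    have hlt : z.val < p := ZMod.val_lt z
    have h0 : z.val = 0 := Nat.eq_zero_of_dvd_of_lt hd hlt
    exact (ZMod.val_eq_zero z).1 h0
  have hcancel : ∀ (x y : ZMod p) (a b : α), (g ^ x.val) a = (g ^ y.val) b →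
      b = (g ^ (x - y).val) a := by
    intro x y a b h
    have h1 : (g ^ (-y).val) ((g ^ x.val) a) = (g ^ (-y).val) ((g ^ y.val) b) := by rw [h]
    rw [← Equiv.Perm.mul_apply, ← Equiv.Perm.mul_apply, ← hadd, ← hadd, neg_add_cancel, hzero,
      Equiv.Perm.one_apply] at h1
    rw [← h1, sub_eq_neg_add]
  have hpos : 0 < Fintype.card α := by rw [hα]; exact Nat.mul_pos (by norm_num) hp.pos
  obtain ⟨a0⟩ : Nonempty α := Fintype.card_pos_iff.1 hpos
  obtain ⟨a1, ha1⟩ : ∃ a1 : α, ∀ z : ZMod p, a1 ≠ (g ^ z.val) a0 := by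
    by_contra hcon
    push Not at hcon
    have hsurj : Function.Surjective (fun z : ZMod p => (g ^ z.val) a0) := by
      intro a
      obtain ⟨z, hz⟩ := hcon a
      exact ⟨z, hz.symm⟩
    have hle := Fintype.card_le_of_surjective _ hsurj
    rw [hα, ZMod.card] at hle
    have hp0 := hp.pos
    omega
  obtain ⟨r, hr0, hr1⟩ : ∃ r : Fin 2 → α, r 0 = a0 ∧ r 1 = a1 := ⟨![a0, a1], rfl, rfl⟩
  obtain ⟨e₀, he₀⟩ : ∃ e₀ : ZMod p × Fin 2 → α, ∀ w, e₀ w = (g ^ w.1.val) (r w.2) :=
    ⟨_, fun _ => rfl⟩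
  have hj2 : ∀ i : Fin 2, i = 0 ∨ i = 1 := by decide
  have hinj : Function.Injective e₀ := by
    rintro ⟨x, j⟩ ⟨y, k⟩ h
    rw [he₀, he₀] at h
    simp only at h
    rcases hj2 j with rfl | rfl <;> rcases hj2 k with rfl | rfl
    · rw [hr0] at h
      have hc := hcancel x y a0 a0 h
      have hz := hfix (x - y) a0 hc.symm
      rw [sub_eq_zero] at hz
      rw [hz]
    · rw [hr0, hr1] at h
      exact absurd (hcancel x y a0 a1 h) (ha1 _)
    · rw [hr0, hr1] at h
      exact absurd (hcancel y x a0 a1 h.symm) (ha1 _)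
    · rw [hr1] at h
      have hc := hcancel x y a1 a1 h
      have hz := hfix (x - y) a1 hc.symm
      rw [sub_eq_zero] at hz
      rw [hz]
  have hcard : Fintype.card (ZMod p × Fin 2) = Fintype.card α := by
    rw [Fintype.card_prod, ZMod.card, Fintype.card_fin, hα, mul_comm]
  have hbij : Function.Bijective e₀ := (Fintype.bijective_iff_injective_and_card e₀).2 ⟨hinj, hcard⟩
  refine ⟨Equiv.ofBijective e₀ hbij, ?_⟩
  intro x j
  rw [Equiv.ofBijective_apply, Equiv.ofBijective_apply, he₀, he₀]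
  simp only
  rw [add_comm x 1, hadd, ZMod.val_one, pow_one, Equiv.Perm.mul_apply]

end Cfsg.Agent.Lib.helper89.W2P
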