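import Cfsg.Agent.Lib.helper89.W2P_G6
import Cfsg.Agent.Lib.helper16.Rank3

/-!
# S0720 piece G5: the scheme of a primitive group satisfies `PrimA` and `PrimB`
-/

set_option autoImplicit false

namespace Cfsg.Agent.Lib.helper89.W2P

open Finset
open scoped Classical
open Cfsg.Agent.Lib.helper68.W2P

variable {p : ℕ} [Fact p.Prime] {ι : Type*}

theorem g5_col_shift (D : Scheme p ι) (t x y : ZMod p) (j k : Fin 2) :
    D.col (x + t, j) (y + t, k) = D.col (x, j) (y, k) := by
  have key : ∀ n : ℕ, ∀ x y : ZMod p,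
      D.col (x + (n : ZMod p), j) (y + (n : ZMod p), k) = D.col (x, j) (y, k) := by
    intro n
    induction n with
    | zero => intro x y; simp
    | succ n ih =>
      intro x y
      have h := D.shift (x + (n : ZMod p)) (y + (n : ZMod p)) j k
      rw [Nat.cast_succ, ← add_assoc, ← add_assoc, h, ih]
  have h := key t.val x y
  rwa [ZMod.natCast_zmod_val] at h

theorem g5_col_zero (D : Scheme p ι) (x y : ZMod p) (j k : Fin 2) :
    D.col (x, j) (y, k) = D.col (0, j) (y - x, k) := by
  have h := g5_col_shift D x 0 (y - x) j k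
  rw [zero_add, sub_add_cancel] at h
  exact h

theorem g5_primA {α : Type*} [Fintype α] [DecidableEq α]
    (G : Subgroup (Equiv.Perm α)) (hG : MulAction.IsPreprimitive G α)
    (e : ZMod p × Fin 2 ≃ α) (D : Scheme p ι)
    (hcol : ∀ a b a' b' : α, D.col (e.symm a) (e.symm b) = D.col (e.symm a') (e.symm b') ↔
        ∃ h ∈ G, h a = a' ∧ h b = b') : D.PrimA := by
  rintro ⟨j, hj0, hj1⟩
  obtain ⟨B, hB⟩ : ∃ B : Set α, ∀ a, a ∈ B ↔ (e.symm a).2 = 0 :=
    ⟨{a | (e.symm a).2 = 0}, fun _ => Iff.rfl⟩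
  have hclaim : ∀ (g : G) (a : α), a ∈ B → g • a ∈ B → ∀ b ∈ B, g • b ∈ B := by
    intro g a ha hga b hb
    by_cases hab : b = a
    · rw [hab]; exact hga
    rw [hB] at ha hga hb ⊢
    have h1 : e.symm a = ((e.symm a).1, 0) := Prod.ext rfl ha
    have h2 : e.symm b = ((e.symm b).1, 0) := Prod.ext rfl hb
    have hc1 : D.col (e.symm a) (e.symm b) = j := by
      rw [h1, h2, g5_col_zero]
      apply hj0
      intro h0
      apply hab
      apply e.symm.injective
      rw [h2, h1, sub_eq_zero.1 h0]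
    have hc : D.col (e.symm a) (e.symm b) = D.col (e.symm (g • a)) (e.symm (g • b)) :=
      (hcol a b (g • a) (g • b)).2 ⟨(g : Equiv.Perm α), g.2, rfl, rfl⟩
    have hc2 : D.col (e.symm (g • a)) (e.symm (g • b)) = j := by rw [← hc]; exact hc1
    by_contra hk
    have hk1 : (e.symm (g • b)).2 = 1 := by
      rcases (by decide : ∀ i : Fin 2, i = 0 ∨ i = 1) (e.symm (g • b)).2 with h | h
      · exact absurd h hk
      · exact h
    have h3 : e.symm (g • a) = ((e.symm (g • a)).1, 0) := Prod.ext rfl hga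
    have h4 : e.symm (g • b) = ((e.symm (g • b)).1, 1) := Prod.ext rfl hk1
    rw [h3, h4, g5_col_zero] at hc2
    exact hj1 _ hc2
  have hblock : MulAction.IsBlock G B := by
    rw [MulAction.isBlock_iff_smul_eq_of_mem]
    intro g a ha hga
    apply Set.Subset.antisymm
    · rintro _ ⟨b, hb, rfl⟩
      exact hclaim g a ha hga b hb
    · intro b hb
      have h1 : g⁻¹ • b ∈ B :=
        hclaim g⁻¹ (g • a) hga (by rw [inv_smul_smul]; exact ha) b hb
      exact ⟨g⁻¹ • b, h1, smul_inv_smul g b⟩
  rcases hG.isTrivialBlock_of_isBlock hblock with hsub | huniv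
  · have h0 : e (0, 0) ∈ B := by rw [hB, e.symm_apply_apply]
    have h1 : e (1, 0) ∈ B := by rw [hB, e.symm_apply_apply]
    have h2 := e.injective (hsub h0 h1)
    have h3 : (0 : ZMod p) = 1 := congrArg Prod.fst h2
    exact zero_ne_one h3
  · have h1 : e (0, 1) ∈ B := by rw [huniv]; exact Set.mem_univ _
    rw [hB, e.symm_apply_apply] at h1
    have h2 : (1 : Fin 2) = 0 := h1
    exact absurd h2 (by decide)

theorem g5_primB {α : Type*} [Fintype α] [DecidableEq α]
    (G : Subgroup (Equiv.Perm α)) (hG : MulAction.IsPreprimitive G α)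
    (e : ZMod p × Fin 2 ≃ α) (D : Scheme p ι)
    (hcol : ∀ a b a' b' : α, D.col (e.symm a) (e.symm b) = D.col (e.symm a') (e.symm b') ↔
        ∃ h ∈ G, h a = a' ∧ h b = b') : D.PrimB := by
  intro j hj
  by_contra hlt
  have hp : p.Prime := Fact.out
  have htr : MulAction.IsPretransitive G α := hG.toIsPretransitive
  obtain ⟨ω, ω', hcj⟩ := D.surj j
  have hne : e ω' ≠ e ω := by
    intro h
    have h1 : ω' = ω := e.injective h
    rw [h1] at hcj
    exact hj (hcj ▸ ((D.diag ω ω).2 rfl))
  have hn1 : 1 ≤ D.n j := by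
    rw [← D.valency j ω]
    exact Finset.card_pos.2 ⟨ω', Finset.mem_filter.2 ⟨Finset.mem_univ _, hcj⟩⟩
  have hn : D.n j = 1 := by omega
  have hsub := suborbit_card G htr e D hcol (e ω) (e ω')
  rw [e.symm_apply_apply, e.symm_apply_apply, hcj, hn] at hsub
  have hnt : Nontrivial α := ⟨⟨e ω', e ω, hne⟩⟩
  refine Cfsg.Agent.Lib.helper16.orbit_card_ne_one_of_isPreprimitive hG (e ω) ?_ (e ω') hne hsub
  intro heq
  have hsurj : Function.Surjective (fun x : α => (Quotient.mk'' x :
      MulAction.orbitRel.Quotient (MulAction.stabilizer G (e ω)) α)) := by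
    intro q
    induction q using Quotient.inductionOn' with
    | _ x => exact ⟨x, rfl⟩
  obtain ⟨eqv⟩ := Finite.card_eq.1 heq.symm
  have hinj := (Finite.injective_iff_surjective_of_equiv eqv).2 hsurj
  have hall : ∀ s : G, s ∈ MulAction.stabilizer G (e ω) → ∀ x : α, s • x = x := by
    intro s hs x
    apply hinj
    show (Quotient.mk'' (s • x) :
      MulAction.orbitRel.Quotient (MulAction.stabilizer G (e ω)) α) = Quotient.mk'' x
    apply Quotient.sound'
    exact MulAction.mem_orbit_iff.2 ⟨⟨s, hs⟩, rfl⟩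
  have hbot : MulAction.stabilizer G (e ω) = ⊥ := by
    rw [eq_bot_iff]
    intro s hs
    rw [Subgroup.mem_bot]
    apply Subtype.ext
    apply Equiv.ext
    intro x
    exact hall s hs x
  have hco : IsCoatom (MulAction.stabilizer G (e ω)) :=
    MulAction.IsPreprimitive.isCoatom_stabilizer_of_isPreprimitive (G := G) (e ω)
  have hidx : (MulAction.stabilizer G (e ω)).index = Nat.card α :=
    MulAction.index_stabilizer_of_transitive (G := G) (e ω)
  rw [hbot, Subgroup.index_bot] at hidx
  have hcα : Nat.card α = 2 * p := by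
    rw [Nat.card_eq_fintype_card, ← Fintype.card_congr e, Fintype.card_prod, ZMod.card,
      Fintype.card_fin, mul_comm]
  have hcG : Nat.card G = 2 * p := hidx.trans hcα
  obtain ⟨x, hx⟩ := exists_prime_orderOf_dvd_card' (G := G) p
    (by rw [hcG]; exact Dvd.intro_left 2 rfl)
  have hzt : Subgroup.zpowers x = ⊤ := by
    rw [hbot] at hco
    apply hco.2
    rw [bot_lt_iff_ne_bot]
    intro hb
    have h1 : x = 1 := by
      have h2 := Subgroup.mem_zpowers x
      rw [hb, Subgroup.mem_bot] at h2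
      exact h2
    rw [h1, orderOf_one] at hx
    exact hp.one_lt.ne hx
  have hcz : Nat.card (Subgroup.zpowers x) = p := by rw [Nat.card_zpowers, hx]
  rw [hzt, Subgroup.card_top, hcG] at hcz
  have hp0 := hp.pos
  omega

theorem primA_primB {α : Type*} [Fintype α] [DecidableEq α]
    (G : Subgroup (Equiv.Perm α)) (hG : MulAction.IsPreprimitive G α)
    (e : ZMod p × Fin 2 ≃ α) (D : Scheme p ι)
    (hcol : ∀ a b a' b' : α, D.col (e.symm a) (e.symm b) = D.col (e.symm a') (e.symm b') ↔
        ∃ h ∈ G, h a = a' ∧ h b = b') :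
    D.PrimA ∧ D.PrimB :=
  ⟨g5_primA G hG e D hcol, g5_primB G hG e D hcol⟩

end Cfsg.Agent.Lib.helper89.W2P
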