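import Cfsg.Agent.Lib.helper68.W2PDefs

/-!
# S0720 piece G6: the scheme of a transitive group: 2-transitivity, rank, subdegrees
-/

set_option autoImplicit false

namespace Cfsg.Agent.Lib.helper89.W2P

open Finset
open scoped Classical
open Cfsg.Agent.Lib.helper68.W2P

variable {p : ℕ} [Fact p.Prime] {ι : Type*}

theorem two_trans_of_card_two {α : Type*} [Fintype α] [DecidableEq α]
    (G : Subgroup (Equiv.Perm α)) (hG : MulAction.IsPretransitive G α)
    (e : ZMod p × Fin 2 ≃ α) [Fintype ι] (D : Scheme p ι)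
    (hcol : ∀ a b a' b' : α, D.col (e.symm a) (e.symm b) = D.col (e.symm a') (e.symm b') ↔
        ∃ h ∈ G, h a = a' ∧ h b = b')
    (hcard : Fintype.card ι = 2) : MulAction.IsMultiplyPretransitive G α 2 := by
  rw [MulAction.is_two_pretransitive_iff]
  intro a b c d hab hcd
  have h1 : D.col (e.symm a) (e.symm b) ≠ D.i0 := by
    intro h
    exact hab (e.symm.injective ((D.diag _ _).1 h))
  have h2 : D.col (e.symm c) (e.symm d) ≠ D.i0 := by
    intro h
    exact hcd (e.symm.injective ((D.diag _ _).1 h))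
  have h3 : D.col (e.symm a) (e.symm b) = D.col (e.symm c) (e.symm d) := by
    by_contra hne
    have hc3 : ({D.i0, D.col (e.symm a) (e.symm b), D.col (e.symm c) (e.symm d)} :
        Finset ι).card = 3 := by
      rw [Finset.card_insert_of_notMem, Finset.card_insert_of_notMem, Finset.card_singleton]
      · simpa using hne
      · simp only [Finset.mem_insert, Finset.mem_singleton, not_or]
        exact ⟨fun h => h1 h.symm, fun h => h2 h.symm⟩
    have hle := Finset.card_le_univ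
      ({D.i0, D.col (e.symm a) (e.symm b), D.col (e.symm c) (e.symm d)} : Finset ι)
    omega
  obtain ⟨h, hh, ha, hb⟩ := (hcol a b c d).1 h3
  exact ⟨⟨h, hh⟩, ha, hb⟩

theorem rank_of_card {α : Type*} [Fintype α] [DecidableEq α]
    (G : Subgroup (Equiv.Perm α)) (hG : MulAction.IsPretransitive G α)
    (e : ZMod p × Fin 2 ≃ α) [Fintype ι] (D : Scheme p ι)
    (hcol : ∀ a b a' b' : α, D.col (e.symm a) (e.symm b) = D.col (e.symm a') (e.symm b') ↔
        ∃ h ∈ G, h a = a' ∧ h b = b') (a₀ : α) :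
    Nat.card (MulAction.orbitRel.Quotient (MulAction.stabilizer G a₀) α) = Fintype.card ι := by
  rw [← Nat.card_eq_fintype_card]
  have hwd : ∀ b b' : α, (MulAction.orbitRel (MulAction.stabilizer G a₀) α).r b b' →
      D.col (e.symm a₀) (e.symm b) = D.col (e.symm a₀) (e.symm b') := by
    intro b b' h
    have h' : b ∈ MulAction.orbit (MulAction.stabilizer G a₀) b' := h
    obtain ⟨⟨g, hg⟩, rfl⟩ := h'
    symm
    rw [hcol]
    exact ⟨(g : Equiv.Perm α), g.2, MulAction.mem_stabilizer_iff.1 hg, rfl⟩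
  apply Nat.card_congr
  refine Equiv.ofBijective (Quotient.lift (fun b => D.col (e.symm a₀) (e.symm b)) hwd) ⟨?_, ?_⟩
  · rintro ⟨b⟩ ⟨b'⟩ h
    have h1 : D.col (e.symm a₀) (e.symm b) = D.col (e.symm a₀) (e.symm b') := h
    obtain ⟨k, hk, hka, hkb⟩ := (hcol a₀ b' a₀ b).1 h1.symm
    have hmem : b ∈ MulAction.orbit (MulAction.stabilizer G a₀) b' :=
      MulAction.mem_orbit_iff.2 ⟨⟨⟨k, hk⟩, MulAction.mem_stabilizer_iff.2 hka⟩, hkb⟩
    exact Quot.sound hmem
  · intro j
    obtain ⟨ω, ω', hj⟩ := D.surj j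
    haveI := hG
    obtain ⟨g, hg⟩ := MulAction.exists_smul_eq G (e ω) a₀
    refine ⟨Quotient.mk'' (g • e ω'), ?_⟩
    show D.col (e.symm a₀) (e.symm (g • e ω')) = j
    rw [← hj]
    have h1 := (hcol (e ω) (e ω') a₀ (g • e ω')).2 ⟨(g : Equiv.Perm α), g.2, hg, rfl⟩
    rw [e.symm_apply_apply, e.symm_apply_apply] at h1
    exact h1.symm

theorem suborbit_card {α : Type*} [Fintype α] [DecidableEq α]
    (G : Subgroup (Equiv.Perm α)) (hG : MulAction.IsPretransitive G α)
    (e : ZMod p × Fin 2 ≃ α) (D : Scheme p ι)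
    (hcol : ∀ a b a' b' : α, D.col (e.symm a) (e.symm b) = D.col (e.symm a') (e.symm b') ↔
        ∃ h ∈ G, h a = a' ∧ h b = b') (a₀ b : α) :
    Nat.card (MulAction.orbit (MulAction.stabilizer G a₀) b) =
      D.n (D.col (e.symm a₀) (e.symm b)) := by
  have hset : (MulAction.orbit (MulAction.stabilizer G a₀) b : Set α) =
      {b' | D.col (e.symm a₀) (e.symm b') = D.col (e.symm a₀) (e.symm b)} := by
    ext b'
    constructor
    · rintro ⟨⟨g, hg⟩, rfl⟩
      show D.col (e.symm a₀) (e.symm ((⟨g, hg⟩ : MulAction.stabilizer G a₀) • b)) = _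
      symm
      rw [hcol]
      exact ⟨(g : Equiv.Perm α), g.2, MulAction.mem_stabilizer_iff.1 hg, rfl⟩
    · intro h
      obtain ⟨k, hk, hka, hkb⟩ := (hcol a₀ b a₀ b').1 (Eq.symm h)
      exact MulAction.mem_orbit_iff.2 ⟨⟨⟨k, hk⟩, MulAction.mem_stabilizer_iff.2 hka⟩, hkb⟩
  rw [Nat.card_coe_set_eq, hset, Set.ncard_eq_toFinset_card', Set.toFinset_setOf,
    ← D.valency (D.col (e.symm a₀) (e.symm b)) (e.symm a₀)]
  refine Finset.card_bij (fun b' _ => e.symm b') ?_ ?_ ?_
  · intro b' hb'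
    rw [Finset.mem_filter] at hb' ⊢
    exact ⟨Finset.mem_univ _, hb'.2⟩
  · intro x _ y _ hxy
    exact e.symm.injective hxy
  · intro ω' hω'
    rw [Finset.mem_filter] at hω'
    refine ⟨e ω', ?_, e.symm_apply_apply ω'⟩
    rw [Finset.mem_filter]
    refine ⟨Finset.mem_univ _, ?_⟩
    rw [e.symm_apply_apply]
    exact hω'.2

end Cfsg.Agent.Lib.helper89.W2P
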