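import Cfsg.Agent.Lib.helper68.W2PDefs

/-!
# S0720 piece T1: the Fourier transform of shift-invariant matrices is multiplicative
-/

set_option autoImplicit false

namespace Cfsg.Agent.Lib.helper89.W2P

open Finset
open scoped Classical
open Cfsg.Agent.Lib.helper68.W2P

variable {p : ℕ} [Fact p.Prime]

theorem t1_pow_val_add {M : Type*} [Monoid M] (a : M) (ha : a ^ p = 1) (x y : ZMod p) :
    a ^ (x + y).val = a ^ x.val * a ^ y.val := by
  rw [← pow_add, ZMod.val_add]
  conv_rhs => rw [← Nat.mod_add_div (x.val + y.val) p]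
  rw [pow_add, pow_mul, ha, one_pow, mul_one]

theorem t1_shift_inv (W : ZMod p × Fin 2 → ZMod p × Fin 2 → ℂ)
    (hW : ∀ (x y : ZMod p) (j k : Fin 2), W (x + 1, j) (y + 1, k) = W (x, j) (y, k))
    (t x y : ZMod p) (j k : Fin 2) : W (x + t, j) (y + t, k) = W (x, j) (y, k) := by
  have key : ∀ n : ℕ, ∀ x y : ZMod p,
      W (x + (n : ZMod p), j) (y + (n : ZMod p), k) = W (x, j) (y, k) := by
    intro n
    induction n with
    | zero => intro x y; simp
    | succ n ih =>
      intro x y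
      have h := hW (x + (n : ZMod p)) (y + (n : ZMod p)) j k
      rw [Nat.cast_succ, ← add_assoc, ← add_assoc, h, ih]
  have h := key t.val x y
  rwa [ZMod.natCast_zmod_val] at h

theorem hat_mul (Z W : ZMod p × Fin 2 → ZMod p × Fin 2 → ℂ)
    (hW : ∀ (x y : ZMod p) (j k : Fin 2), W (x + 1, j) (y + 1, k) = W (x, j) (y, k))
    (ξ : ℂ) (hξ : ξ ^ p = 1) :
    hat (fun ω ω' => ∑ ω'' : ZMod p × Fin 2, Z ω ω'' * W ω'' ω') ξ = hat Z ξ * hat W ξ := by
  ext j k
  rw [Matrix.mul_apply]
  simp only [hat_apply]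
  have h1 : ∀ s : ZMod p, (∑ ω'' : ZMod p × Fin 2, Z (0, j) ω'' * W ω'' (s, k)) =
      ∑ l : Fin 2, ∑ t : ZMod p, Z (0, j) (t, l) * W (0, l) (s - t, k) := by
    intro s
    rw [Fintype.sum_prod_type, Finset.sum_comm]
    refine Finset.sum_congr rfl fun l _ => Finset.sum_congr rfl fun t _ => ?_
    congr 1
    have h := t1_shift_inv W hW t 0 (s - t) l k
    rw [zero_add, sub_add_cancel] at h
    exact h
  simp_rw [h1]
  calc ∑ s : ZMod p, (∑ l : Fin 2, ∑ t : ZMod p, Z (0, j) (t, l) * W (0, l) (s - t, k)) * ξ ^ s.val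
      = ∑ l : Fin 2, ∑ t : ZMod p, ∑ s : ZMod p,
          Z (0, j) (t, l) * W (0, l) (s - t, k) * ξ ^ s.val := by
        simp_rw [Finset.sum_mul]
        rw [Finset.sum_comm]
        refine Finset.sum_congr rfl fun l _ => ?_
        rw [Finset.sum_comm]
    _ = ∑ l : Fin 2, ∑ t : ZMod p, ∑ u : ZMod p,
          Z (0, j) (t, l) * W (0, l) (u, k) * (ξ ^ u.val * ξ ^ t.val) := by
        refine Finset.sum_congr rfl fun l _ => Finset.sum_congr rfl fun t _ => ?_
        rw [← Equiv.sum_comp (Equiv.addRight t)]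
        refine Finset.sum_congr rfl fun u _ => ?_
        simp only [Equiv.coe_addRight, add_sub_cancel_right]
        rw [t1_pow_val_add ξ hξ]
    _ = ∑ l : Fin 2, (∑ t : ZMod p, Z (0, j) (t, l) * ξ ^ t.val) *
          (∑ u : ZMod p, W (0, l) (u, k) * ξ ^ u.val) := by
        refine Finset.sum_congr rfl fun l _ => ?_
        rw [Finset.sum_mul_sum]
        refine Finset.sum_congr rfl fun t _ => Finset.sum_congr rfl fun u _ => ?_
        ring

end Cfsg.Agent.Lib.helper89.W2P
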