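import Cfsg.Agent.Lib.helper81.WTDefs
import Cfsg.Agent.Lib.helper13.WTE1
import Cfsg.Agent.Lib.helper50.WTE1b
import Cfsg.Agent.Lib.helper49.WTE2
import Cfsg.Agent.Lib.helper91.WTASMV

/-!
# S4414 piece E4a: apply `main_V` to the base change

`Y = Sp` is abelian of odd order (order `p` or `p ^ 2`), nontrivial and faithful on the irreducible
module `E`, so the sum over `Y` acts as zero (E1); this passes to the base change (E1b) to a finite
field `F` of characteristic `2` with enough roots of unity (E2), where `main_V` (ASMV) applies.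
-/

set_option autoImplicit false

namespace Cfsg.Agent.Lib.helper81.WT

open scoped TensorProduct

universe u v w

/-- [E4a] apply main_V to the base change; uses E1, E1b, E2, ASMV -/
theorem main_bc {S : Type u} [Group S] [Finite S] {E : Type v} [AddCommGroup E] [Module (ZMod 2) E] [Finite E]
    (ρ : Representation (ZMod 2) S E)
    (hE : Nontrivial E)
    (hirr : ∀ N : Submodule (ZMod 2) E, (∀ s : S, ∀ m ∈ N, ρ s m ∈ N) → N = ⊥ ∨ N = ⊤)
    (p q : ℕ) (hp : p.Prime) (hq : q.Prime) (hp2 : p ≠ 2) (hq2 : q ≠ 2)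
    (S₂ : Sylow 2 S) (Sp : Sylow p S) (Sq : Sylow q S)
    (hSpN : (Sp : Subgroup S).Normal) (hSpcard : Nat.card ↥Sp = p ∨ Nat.card ↥Sp = p ^ 2)
    (hSq : Nat.card ↥Sq = q) (hcomm : ⁅(Sp : Subgroup S), (Sq : Subgroup S)⁆ = (Sp : Subgroup S))
    (hfaith : ∀ x ∈ (Sp : Subgroup S), ρ x = 1 → x = 1) :
    ∃ (F : Type) (_ : Field F) (_ : Algebra (ZMod 2) F), Finite F ∧
      (¬ ∃ u : F ⊗[ZMod 2] E, ∀ v ∈ fixT (bc F ρ) (S₂ : Subgroup S), v ∈ Submodule.span F {u}) ∧
      (∀ w₁ w₂ : F ⊗[ZMod 2] E,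
        (∀ v ∈ fixT (bc F ρ) (S₂ : Subgroup S), v ∈ Submodule.span F {w₁, w₂}) →
        ∃ x ∈ (Sq : Subgroup S), ∃ v ∈ fixT (bc F ρ) (S₂ : Subgroup S),
          bc F ρ x v ∉ fixT (bc F ρ) (S₂ : Subgroup S)) := by
  classical
  have hpF : Fact p.Prime := ⟨hp⟩
  have hpodd : Odd p := hp.odd_of_ne_two hp2
  letI : Fintype ↥(Sp : Subgroup S) := Fintype.ofFinite _
  have hSpcard' : Nat.card ↥(Sp : Subgroup S) = p ∨ Nat.card ↥(Sp : Subgroup S) = p ^ 2 := hSpcard
  have hSq' : Nat.card ↥(Sq : Subgroup S) = q := hSq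
  -- `Y` is abelian
  have hYc : ∀ a b : ↥(Sp : Subgroup S), a * b = b * a := by
    rcases hSpcard' with h | h
    · have hcyc : IsCyclic ↥(Sp : Subgroup S) := isCyclic_of_prime_card h
      have hcm : IsMulCommutative ↥(Sp : Subgroup S) := IsCyclic.isMulCommutative
      intro a b
      exact mul_comm' a b
    · have hcm : IsMulCommutative ↥(Sp : Subgroup S) :=
        IsPGroup.isMulCommutative_of_card_eq_prime_sq h
      intro a b
      exact mul_comm' a b
  -- odd order
  have hcardodd : Odd (Nat.card ↥(Sp : Subgroup S)) := by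
    rcases hSpcard' with h | h
    · rw [h]; exact hpodd
    · rw [h]; exact hpodd.pow
  have hodd : Odd (Fintype.card ↥(Sp : Subgroup S)) := by
    rw [← Nat.card_eq_fintype_card]; exact hcardodd
  -- `Y ≠ ⊥`
  have hYne : (Sp : Subgroup S) ≠ ⊥ := by
    intro h
    have h1 : Nat.card ↥(Sp : Subgroup S) = 1 := Subgroup.card_eq_one.mpr h
    rcases hSpcard' with h' | h'
    · rw [h'] at h1; exact hp.one_lt.ne' h1
    · rw [h'] at h1
      have : 1 < p ^ 2 := Nat.one_lt_pow (by norm_num) hp.one_lt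
      exact this.ne' h1
  -- the exponent is odd
  have hexp : Odd (Monoid.exponent ↥(Sp : Subgroup S)) :=
    Odd.of_dvd_nat hcardodd Group.exponent_dvd_nat_card
  obtain ⟨F, instF, instA, hfin, hchar, hroots⟩ := exists_field (Monoid.exponent ↥(Sp : Subgroup S)) hexp
  refine ⟨F, instF, instA, hfin, ?_⟩
  have hVfin : Finite (F ⊗[ZMod 2] E) := Module.finite_of_finite F
  have hVnt : Nontrivial (F ⊗[ZMod 2] E) := by
    apply Module.nontrivial_of_finrank_pos (R := F)
    rw [Module.finrank_baseChange]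
    exact Module.finrank_pos
  have h0 : ∑ y : ↥(Sp : Subgroup S), ρ (y : S) = 0 :=
    sum_eq_zero ρ hirr (Sp : Subgroup S) hYne hfaith
  have h0' : ∑ y : ↥(Sp : Subgroup S), bc F ρ (y : S) = 0 :=
    bc_sum_eq_zero ρ F (Sp : Subgroup S) h0
  exact helper91_main_V (bc F ρ) (Sp : Subgroup S) hYc hodd h0' (S₂ : Subgroup S) S₂.isPGroup'
    (Sq : Subgroup S) q hq hq2 hSq' hcomm

end Cfsg.Agent.Lib.helper81.WT
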