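import Mathlib

/-!
Two counting lemmas (pieces H and I of the split of S1158 / S1159):
* `card_range_pred`: counting through a homomorphism;
* `card_p_elements_of_ti`: the number of `p`-elements when the Sylow `p`-subgroups are TI.
-/

set_option autoImplicit false

namespace Cfsg.Agent.Lib.helper89

theorem card_range_pred {Γ G : Type*} [Group Γ] [Group G] [Finite Γ] (φ : Γ →* G)
    (p : G → Prop) :
    Nat.card {s : Γ // p (φ s)} = Nat.card ↥φ.ker * Nat.card {l : G // l ∈ φ.range ∧ p l} := by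
  classical
  have hfinR : Finite ↥φ.range :=
    Finite.of_surjective φ.rangeRestrict φ.rangeRestrict_surjective
  have hfinL : Finite {l : G // l ∈ φ.range ∧ p l} :=
    Finite.of_injective (fun l => (⟨l.1, l.2.1⟩ : ↥φ.range)) (by
      intro a b h
      apply Subtype.ext
      have h' := congrArg (fun z : ↥φ.range => z.1) h
      exact h')
  have hft : Fintype {l : G // l ∈ φ.range ∧ p l} := Fintype.ofFinite _
  obtain ⟨f, hf⟩ : ∃ f : {s : Γ // p (φ s)} → {l : G // l ∈ φ.range ∧ p l},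
      ∀ s, (f s).1 = φ s.1 := ⟨fun s => ⟨φ s.1, ⟨s.1, rfl⟩, s.2⟩, fun _ => rfl⟩
  rw [← Nat.card_congr (Equiv.sigmaFiberEquiv f), Nat.card_sigma]
  have hfib : ∀ y : {l : G // l ∈ φ.range ∧ p l},
      Nat.card {x : {s : Γ // p (φ s)} // f x = y} = Nat.card ↥φ.ker := by
    intro y
    obtain ⟨s₀, hs₀⟩ := y.2.1
    refine Nat.card_congr ?_
    exact
      { toFun := fun x => ⟨s₀⁻¹ * x.1.1, by
          have h1 : φ x.1.1 = y.1 := by rw [← hf x.1, x.2]
          rw [MonoidHom.mem_ker, map_mul, map_inv, hs₀, h1, inv_mul_cancel]⟩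
        invFun := fun k => ⟨⟨s₀ * k.1, by
          rw [map_mul, MonoidHom.mem_ker.1 k.2, mul_one, hs₀]; exact y.2.2⟩, by
          apply Subtype.ext
          rw [hf]
          show φ (s₀ * k.1) = y.1
          rw [map_mul, MonoidHom.mem_ker.1 k.2, mul_one, hs₀]⟩
        left_inv := by
          intro x
          apply Subtype.ext; apply Subtype.ext
          show s₀ * (s₀⁻¹ * x.1.1) = x.1.1
          rw [mul_inv_cancel_left]
        right_inv := by
          intro k
          apply Subtype.ext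
          show s₀⁻¹ * (s₀ * k.1) = k.1
          rw [inv_mul_cancel_left] }
  rw [Finset.sum_congr rfl (fun y _ => hfib y), Finset.sum_const, Finset.card_univ, smul_eq_mul,
    ← Nat.card_eq_fintype_card, mul_comm]

theorem card_p_elements_of_ti {G : Type*} [Group G] [Finite G] (p : ℕ) [Fact p.Prime]
    (hTI : ∀ P Q : Sylow p G, P ≠ Q → (P : Subgroup G) ⊓ (Q : Subgroup G) = ⊥)
    (P₀ : Sylow p G) :
    Nat.card {g : G // g ≠ 1 ∧ ∃ k : ℕ, g ^ (p ^ k) = 1} + Nat.card (Sylow p G)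
      = Nat.card (Sylow p G) * Nat.card ↥(P₀ : Subgroup G) := by
  classical
  have hex : ∀ g : G, (∃ k : ℕ, g ^ (p ^ k) = 1) → ∃ P : Sylow p G, g ∈ P := by
    rintro g ⟨k, hk⟩
    have hdvd : orderOf g ∣ p ^ k := orderOf_dvd_of_pow_eq_one hk
    obtain ⟨j, -, hj⟩ := (Nat.dvd_prime_pow (Fact.out : p.Prime)).1 hdvd
    have hpg : IsPGroup p (Subgroup.zpowers g) := IsPGroup.of_card (n := j) (by
      rw [Nat.card_zpowers, hj])
    obtain ⟨P, hP⟩ := hpg.exists_le_sylow
    exact ⟨P, hP (Subgroup.mem_zpowers g)⟩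
  have huniq : ∀ (P Q : Sylow p G) (g : G), g ∈ P → g ∈ Q → g ≠ 1 → P = Q := by
    intro P Q g hP hQ hg1
    by_contra hne
    have hmem : g ∈ (P : Subgroup G) ⊓ (Q : Subgroup G) := ⟨hP, hQ⟩
    rw [hTI P Q hne, Subgroup.mem_bot] at hmem
    exact hg1 hmem
  obtain ⟨c, hc⟩ : ∃ c : {g : G // g ≠ 1 ∧ ∃ k : ℕ, g ^ (p ^ k) = 1} → Sylow p G,
      ∀ x, x.1 ∈ c x :=
    ⟨fun x => Classical.choose (hex x.1 x.2.2), fun x => Classical.choose_spec (hex x.1 x.2.2)⟩
  have e : {g : G // g ≠ 1 ∧ ∃ k : ℕ, g ^ (p ^ k) = 1}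
      ≃ Σ P : Sylow p G, {g : G // g ∈ P ∧ g ≠ 1} :=
    { toFun := fun x => ⟨c x, ⟨x.1, hc x, x.2.1⟩⟩
      invFun := fun y => ⟨y.2.1, y.2.2.2, by
        obtain ⟨k, hk⟩ := y.1.isPGroup' ⟨y.2.1, y.2.2.1⟩
        exact ⟨k, by simpa using congrArg Subtype.val hk⟩⟩
      left_inv := by
        intro x
        exact Subtype.ext rfl
      right_inv := by
        rintro ⟨P, ⟨g, hgP, hg1⟩⟩
        apply Sigma.subtype_ext
        · exact huniq _ _ g (hc _) hgP hg1
        · rfl }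
  have hft : Fintype (Sylow p G) := Fintype.ofFinite _
  have hfib : ∀ P : Sylow p G,
      Nat.card {g : G // g ∈ P ∧ g ≠ 1} = Nat.card ↥(P₀ : Subgroup G) - 1 := by
    intro P
    have h1 : {g : G | g ∈ P ∧ g ≠ 1} = ((P : Subgroup G) : Set G) \ {1} := by
      ext g; simp
    have h2 : Nat.card {g : G // g ∈ P ∧ g ≠ 1} = Set.ncard {g : G | g ∈ P ∧ g ≠ 1} :=
      Nat.card_coe_set_eq _
    have h3 : Set.ncard (((P : Subgroup G) : Set G)) = Nat.card ↥(P : Subgroup G) :=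
      (Nat.card_coe_set_eq _).symm
    rw [h2, h1, Set.ncard_sdiff_singleton_of_mem (one_mem (P : Subgroup G)), h3,
      Sylow.card_eq_multiplicity, Sylow.card_eq_multiplicity]
  rw [Nat.card_congr e, Nat.card_sigma, Finset.sum_congr rfl (fun P _ => hfib P),
    Finset.sum_const, Finset.card_univ, smul_eq_mul, ← Nat.card_eq_fintype_card]
  have hpos : 0 < Nat.card ↥(P₀ : Subgroup G) := Nat.card_pos
  obtain ⟨m, hm⟩ : ∃ m, Nat.card ↥(P₀ : Subgroup G) = m + 1 := ⟨_, (Nat.succ_pred_eq_of_pos hpos).symm⟩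
  rw [hm, Nat.add_sub_cancel]
  ring

end Cfsg.Agent.Lib.helper89
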