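import Mathlib
import Cfsg.Prelude.Def_FusionSystem
import Cfsg.Agent.Lib.helper88.FusionBasic
import Cfsg.Agent.Lib.helper89.FusionSat
import Cfsg.Agent.Lib.helper89.FusionClosed
import Cfsg.Agent.Lib.helper89.FusionNormalizer
import Cfsg.Agent.Lib.helper89.FusionQuotient

/-!
# Subgroups of one order with strongly closed companions and inner normalizers (part A)

`WeH1 F c`: every subgroup `Q ≤ S` of order `c` has a strongly closed `P` with `Q ⊔ P` and `Q ⊓ P`
strongly closed. `WeH2 F c`: for every fully normalized `H` of order `c`, the maps of the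
normalizer system of `H` are conjugations by elements of `S`.

Main results of this file, for `c = p ^ d`:
* `exists_invUnder_card`: a strongly closed `T` of order at least `p ^ d` contains a subgroup of order
  `p ^ d` carried into itself by every map of the system whose source contains `T`;
* `exists_conj_of_stronglyClosed_card_le`: every map of the system whose source contains such a `T` is
  conjugation by an element of `S`;
* `innMod_of_card_le`: every map of the system is conjugation modulo `T`;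
* `primeTrivMod_of_innMod`: if every map is conjugation modulo `T`, the automorphisms of order prime
  to `p` act trivially modulo `T`.
-/

set_option autoImplicit false

namespace Cfsg.Agent.Lib.helper89

open Cfsg Cfsg.FusionSystem

variable {Ω : Type*} [Group Ω] {S : Subgroup Ω}

/-- Every subgroup of `S` of order `c` has a strongly closed companion `P` with `Q ⊔ P` and `Q ⊓ P`
strongly closed. -/
def WeH1 (F : FusionSystem S) (c : ℕ) : Prop :=
  ∀ Q : Subgroup Ω, Q ≤ S → Nat.card Q = c →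
    ∃ P : Subgroup Ω, F.StronglyClosed P ∧ F.StronglyClosed (Q ⊔ P) ∧ F.StronglyClosed (Q ⊓ P)

/-- For every fully normalized subgroup `H` of order `c`, the maps of the normalizer system of `H`
are conjugations by elements of `S`. -/
def WeH2 (F : FusionSystem S) (c : ℕ) : Prop :=
  ∀ H : Subgroup Ω, F.IsFullyNormalized H → Nat.card H = c →
    ∀ (P : Subgroup Ω) (φ : P →* Ω), φ ∈ F.normalizerHom H P →
      ∃ g ∈ S, ∀ x : P, φ x = g * (x : Ω) * g⁻¹

/-- Every map of the system is, modulo `T`, conjugation by an element of `S`. -/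
def InnMod (F : FusionSystem S) (T : Subgroup Ω) : Prop :=
  ∀ (P : Subgroup Ω) (φ : P →* Ω), φ ∈ F.Hom P →
    ∃ g ∈ S, ∀ x : P, φ x * (g * (x : Ω) * g⁻¹)⁻¹ ∈ T

/-- The automorphisms of the system of order prime to `p` act trivially modulo `T`. -/
def PrimeTrivMod (F : FusionSystem S) (p : ℕ) (T : Subgroup Ω) : Prop :=
  ∀ R : Subgroup Ω, R ≤ S → ∀ δ ∈ F.autGroup R, (orderOf δ).Coprime p →
    ∀ x : R, ((δ x : R) : Ω) * (x : Ω)⁻¹ ∈ T

/-- `X ≤ T` is carried into itself by every map of the system whose source contains `T`. -/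
def InvUnder (F : FusionSystem S) (T X : Subgroup Ω) : Prop :=
  X ≤ T ∧ ∀ (A : Subgroup Ω) (φ : A →* Ω), φ ∈ F.Hom A → T ≤ A →
    ∀ (x : Ω) (_ : x ∈ X) (hA : x ∈ A), φ ⟨x, hA⟩ ∈ X

theorem invUnder_of_stronglyClosed (F : FusionSystem S) {T X : Subgroup Ω}
    (hX : F.StronglyClosed X) (hXT : X ≤ T) : InvUnder F T X :=
  ⟨hXT, fun _ _ hφ hTA x hx _ => hom_mem_of_stronglyClosed F hX hφ (hXT.trans hTA) x hx⟩

theorem invUnder_bot (F : FusionSystem S) (T : Subgroup Ω) : InvUnder F T ⊥ := by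
  refine ⟨bot_le, fun A φ _ _ x hx hA => ?_⟩
  rw [Subgroup.mem_bot] at hx ⊢
  subst hx
  exact map_one φ

theorem InvUnder.inf_stronglyClosed (F : FusionSystem S) {T X P : Subgroup Ω}
    (hX : InvUnder F T X) (hP : F.StronglyClosed P) : InvUnder F T (X ⊓ P) := by
  refine ⟨inf_le_left.trans hX.1, fun A φ hφ hTA x hx hA => ⟨hX.2 A φ hφ hTA x hx.1 hA, ?_⟩⟩
  have h1 := Cfsg.Agent.Lib.helper88.restrict_mem F (inf_le_left : A ⊓ P ≤ A) hφ
  exact hP.2 (A ⊓ P) inf_le_right _ h1 ⟨x, ⟨hA, hx.2⟩⟩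

theorem InvUnder.sup (F : FusionSystem S) {T X Y : Subgroup Ω}
    (hX : InvUnder F T X) (hY : InvUnder F T Y) : InvUnder F T (X ⊔ Y) := by
  refine ⟨sup_le hX.1 hY.1, fun A φ hφ hTA x hx hA => ?_⟩
  have hXA : X ≤ A := hX.1.trans hTA
  have hYA : Y ≤ A := hY.1.trans hTA
  have h1 : (X ⊔ Y).subgroupOf A ≤ (X ⊔ Y).comap φ := by
    rw [Subgroup.subgroupOf_sup hXA hYA]
    refine sup_le ?_ ?_
    · intro a ha
      exact Subgroup.mem_comap.mpr
        (Subgroup.mem_sup_left (hX.2 A φ hφ hTA a (Subgroup.mem_subgroupOf.mp ha) a.2))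
    · intro a ha
      exact Subgroup.mem_comap.mpr
        (Subgroup.mem_sup_right (hY.2 A φ hφ hTA a (Subgroup.mem_subgroupOf.mp ha) a.2))
  exact Subgroup.mem_comap.mp
    (h1 (show (⟨x, hA⟩ : A) ∈ (X ⊔ Y).subgroupOf A from Subgroup.mem_subgroupOf.mpr hx))

theorem InvUnder.conj_mem (F : FusionSystem S) {T X : Subgroup Ω} (hT : T ≤ S)
    (hX : InvUnder F T X) {g x : Ω} (hg : g ∈ S) (hx : x ∈ X) : g * x * g⁻¹ ∈ X := by
  have h := hX.2 S (conjHom S g) (F.conj_mem le_rfl hg) hT x hx (hT (hX.1 hx))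
  simpa [conjHom] using h

/-- **Chief factor argument.** A strongly closed subgroup `T` of order at least `p ^ d` contains a
subgroup of order exactly `p ^ d` that is carried into itself by every map of the system whose
source contains `T`. -/
theorem exists_invUnder_card [Finite S] {p : ℕ} [Fact p.Prime] (hS : IsPGroup p S)
    (F : FusionSystem S) {d : ℕ} (h1 : WeH1 F (p ^ d)) {T : Subgroup Ω}
    (hT : F.StronglyClosed T) (hTd : p ^ d ≤ Nat.card T) :
    ∃ Q : Subgroup Ω, InvUnder F T Q ∧ Nat.card Q = p ^ d := by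
  classical
  have hp : p.Prime := Fact.out
  have hTS : T ≤ S := hT.1
  have hfin : ∀ X : Subgroup Ω, X ≤ S → Finite X := fun X hX => finite_of_le hX
  -- `A`: of maximal order at most `p ^ d`
  obtain ⟨Pr, hPr⟩ : ∃ Pr : ℕ → Prop, Pr = fun k => ∃ X, InvUnder F T X ∧ Nat.card X = k :=
    ⟨_, rfl⟩
  have hP1 : Pr 1 := by
    rw [hPr]
    exact ⟨⊥, invUnder_bot F T, Subgroup.card_bot⟩
  have h1le : 1 ≤ p ^ d := Nat.one_le_pow _ _ hp.pos
  have hspec := Nat.findGreatest_spec (P := Pr) h1le hP1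
  have hkAle : Nat.findGreatest Pr (p ^ d) ≤ p ^ d := Nat.findGreatest_le _
  rw [hPr] at hspec
  obtain ⟨A, hA, hAc⟩ := hspec
  rw [← hPr] at hAc
  have hAS : A ≤ S := hA.1.trans hTS
  have hAmax : ∀ X, InvUnder F T X → A ≤ X → Nat.card X ≤ p ^ d → X = A := by
    intro X hX hAX hXc
    have := hfin X (hX.1.trans hTS)
    have h2 : Nat.card X ≤ Nat.findGreatest Pr (p ^ d) := by
      by_contra hlt
      rw [not_le] at hlt
      refine Nat.findGreatest_is_greatest hlt hXc ?_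
      rw [hPr]
      exact ⟨X, hX, rfl⟩
    exact (Subgroup.eq_of_le_of_card_ge hAX (by rw [hAc]; exact h2)).symm
  -- `B`: of minimal order at least `p ^ d` above `A`
  have hex : ∃ k, ∃ X, InvUnder F T X ∧ A ≤ X ∧ p ^ d ≤ Nat.card X ∧ Nat.card X = k :=
    ⟨_, T, invUnder_of_stronglyClosed F hT le_rfl, hA.1, hTd, rfl⟩
  obtain ⟨B, hB, hAB, hBd, hBc⟩ := Nat.find_spec hex
  have hBS : B ≤ S := hB.1.trans hTS
  have hBmin : ∀ X, InvUnder F T X → A ≤ X → X ≤ B → p ^ d ≤ Nat.card X → X = B := by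
    intro X hX hAX hXB hXd
    have := hfin B hBS
    have h2 : Nat.card B ≤ Nat.card X := by
      rw [hBc]
      exact Nat.find_min' hex ⟨X, hX, hAX, hXd, rfl⟩
    exact Subgroup.eq_of_le_of_card_ge hXB h2
  by_cases hAd : Nat.card A = p ^ d
  · exact ⟨A, hA, hAd⟩
  by_cases hBd' : Nat.card B = p ^ d
  · exact ⟨B, hB, hBd'⟩
  exfalso
  have hAlt : Nat.card A < p ^ d := lt_of_le_of_ne (hAc ▸ hkAle) hAd
  have hBgt : p ^ d < Nat.card B := lt_of_le_of_ne hBd (Ne.symm hBd')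
  have hBfin := hfin B hBS
  have hAfin := hfin A hAS
  have hBp : IsPGroup p B := hS.of_injective (Subgroup.inclusion hBS) (Subgroup.inclusion_injective hBS)
  have hAp : IsPGroup p A := hS.of_injective (Subgroup.inclusion hAS) (Subgroup.inclusion_injective hAS)
  obtain ⟨b, hb⟩ := IsPGroup.iff_card.mp hBp
  obtain ⟨a, ha⟩ := IsPGroup.iff_card.mp hAp
  have had : a ≤ d := by
    rw [ha] at hAlt
    exact le_of_lt ((Nat.pow_lt_pow_iff_right hp.one_lt).mp hAlt)
  have hdb : d ≤ b := by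
    rw [hb] at hBgt
    exact le_of_lt ((Nat.pow_lt_pow_iff_right hp.one_lt).mp hBgt)
  have hdvd : p ^ d ∣ Nat.card B := by
    rw [hb]
    exact pow_dvd_pow p hdb
  have hAcard : Nat.card (A.subgroupOf B) = p ^ a := by
    rw [← ha]
    exact Nat.card_congr (Subgroup.subgroupOfEquivOfLe hAB).toEquiv
  obtain ⟨K, hKc, hAK⟩ := Sylow.exists_subgroup_card_pow_prime_le p hdvd (A.subgroupOf B) hAcard had
  obtain ⟨Q, hQdef⟩ : ∃ Q : Subgroup Ω, Q = K.map B.subtype := ⟨_, rfl⟩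
  have hQc : Nat.card Q = p ^ d := by
    rw [hQdef, Subgroup.card_map_of_injective B.subtype_injective]
    exact hKc
  have hQB : Q ≤ B := by
    rw [hQdef]
    exact Subgroup.map_subtype_le K
  have hAQ : A ≤ Q := by
    intro x hx
    rw [hQdef]
    exact ⟨⟨x, hAB hx⟩, hAK (Subgroup.mem_subgroupOf.mpr hx), rfl⟩
  have hQS : Q ≤ S := hQB.trans hBS
  have hQfin := hfin Q hQS
  obtain ⟨P, hP, hQP, hQiP⟩ := h1 Q hQS hQc
  -- `Q ⊓ P ≤ A`
  have e1 : A ⊔ (Q ⊓ P) = A := by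
    apply hAmax _ (hA.sup F (invUnder_of_stronglyClosed F hQiP
      (inf_le_left.trans (hQB.trans hB.1)))) le_sup_left
    calc Nat.card ↥(A ⊔ (Q ⊓ P)) ≤ Nat.card Q :=
          Subgroup.card_le_of_le (sup_le hAQ inf_le_left)
      _ = p ^ d := hQc
  have hQiPA : Q ⊓ P ≤ A := le_sup_right.trans e1.le
  -- `B ≤ Q ⊔ P`
  have e2 : B ⊓ (Q ⊔ P) = B := by
    apply hBmin _ (hB.inf_stronglyClosed F hQP) (le_inf hAB (hAQ.trans le_sup_left)) inf_le_left
    have : Finite ↥(B ⊓ (Q ⊔ P)) := hfin _ (inf_le_left.trans hBS)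
    calc p ^ d = Nat.card Q := hQc.symm
      _ ≤ Nat.card ↥(B ⊓ (Q ⊔ P)) := Subgroup.card_le_of_le (le_inf hQB le_sup_left)
  have hBQP : B ≤ Q ⊔ P := fun x hx => (e2.ge hx).2
  have hX : InvUnder F T (A ⊔ (B ⊓ P)) := hA.sup F (hB.inf_stronglyClosed F hP)
  have hPn : ∀ r ∈ Q, ∀ t ∈ P, r * t * r⁻¹ ∈ P := fun r hr t ht =>
    conj_mem_of_stronglyClosed F hP (hQS hr) ht
  by_cases hXc : Nat.card ↥(A ⊔ (B ⊓ P)) ≤ p ^ d
  · have e3 := hAmax _ hX le_sup_left hXc
    have hBPA : B ⊓ P ≤ A := le_sup_right.trans e3.le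
    have hBQ : B ≤ Q := by
      intro y hy
      have hy' : y ∈ P ⊔ Q := by
        rw [sup_comm]
        exact hBQP hy
      obtain ⟨u, hu, q, hq, rfl⟩ := exists_mul_of_mem_sup hPn hy'
      have huB : u ∈ B := by
        have e : u = (u * q) * q⁻¹ := by group
        rw [e]
        exact B.mul_mem hy (B.inv_mem (hQB hq))
      exact Q.mul_mem (hAQ (hBPA ⟨huB, hu⟩)) hq
    have h5 := Subgroup.card_le_of_le hBQ
    rw [hQc] at h5
    exact absurd hBgt (not_lt.mpr h5)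
  · have hXd : p ^ d ≤ Nat.card ↥(A ⊔ (B ⊓ P)) := le_of_lt (not_le.mp hXc)
    have e3 := hBmin _ hX le_sup_left (sup_le hAB inf_le_left) hXd
    have hAn : ∀ r ∈ B ⊓ P, ∀ t ∈ A, r * t * r⁻¹ ∈ A := fun r hr t ht =>
      hA.conj_mem F hTS (hBS hr.1) ht
    have hQA : Q ≤ A := by
      intro q hq
      have hq' : q ∈ A ⊔ (B ⊓ P) := by
        rw [e3]
        exact hQB hq
      obtain ⟨a', ha', u, hu, rfl⟩ := exists_mul_of_mem_sup hAn hq'
      have huQ : u ∈ Q := by
        have e : u = a'⁻¹ * (a' * u) := by group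
        rw [e]
        exact Q.mul_mem (Q.inv_mem (hAQ ha')) hq
      exact A.mul_mem ha' (hQiPA ⟨huQ, hu.2⟩)
    have h5 := Subgroup.card_le_of_le hQA
    rw [hQc] at h5
    exact absurd hAlt (not_lt.mpr h5)

/-- Every map of the system whose source contains a strongly closed subgroup of order at least
`p ^ d` is conjugation by an element of `S`. -/
theorem exists_conj_of_stronglyClosed_card_le [Finite S] {p : ℕ} [Fact p.Prime]
    (hS : IsPGroup p S) (F : FusionSystem S) {d : ℕ} (h1 : WeH1 F (p ^ d)) (h2 : WeH2 F (p ^ d))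
    {T : Subgroup Ω} (hT : F.StronglyClosed T) (hTd : p ^ d ≤ Nat.card T)
    {A : Subgroup Ω} {φ : A →* Ω} (hφ : φ ∈ F.Hom A) (hTA : T ≤ A) :
    ∃ g ∈ S, ∀ x : A, φ x = g * (x : Ω) * g⁻¹ := by
  obtain ⟨Q, hQ, hQc⟩ := exists_invUnder_card hS F h1 hT hTd
  have hTS := hT.1
  have hQS : Q ≤ S := hQ.1.trans hTS
  have hAS : A ≤ S := le_of_hom F hφ
  have hnorm : ∀ g ∈ S, g ∈ Subgroup.normalizer (Q : Set Ω) := by
    intro g hg
    rw [Subgroup.mem_normalizer_iff]
    intro h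
    constructor
    · intro hh
      exact hQ.conj_mem F hTS hg hh
    · intro hh
      have h3 := hQ.conj_mem F hTS (S.inv_mem hg) hh
      have e : g⁻¹ * (g * h * g⁻¹) * g⁻¹⁻¹ = h := by group
      rwa [e] at h3
  have hfn : F.IsFullyNormalized Q := by
    refine ⟨hQS, fun Q' _ => ?_⟩
    have : Finite ↥(normalizerIn S Q) := finite_of_le inf_le_left
    apply Subgroup.card_le_of_le
    intro x hx
    exact ⟨hx.1, hnorm x hx.1⟩
  apply h2 Q hfn hQc A φ
  rw [mem_normalizerHom_iff]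
  refine ⟨hφ, fun x hx => ⟨hAS hx, hnorm x (hAS hx)⟩,
    fun x => ⟨(F.le_of_mem hφ).2 x, hnorm _ ((F.le_of_mem hφ).2 x)⟩, ?_⟩
  exact ⟨A, φ, hφ, le_rfl, hQ.1.trans hTA, fun x hx hR => rfl,
    fun q hq hR => hQ.2 A φ hφ hTA q hq hR⟩

/-- Every map of a saturated system is conjugation modulo a strongly closed subgroup of order at
least `p ^ d`. -/
theorem innMod_of_card_le [Finite S] {p : ℕ} [Fact p.Prime] (hS : IsPGroup p S)
    (F : FusionSystem S) (hF : F.IsSaturated p) {d : ℕ} (h1 : WeH1 F (p ^ d))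
    (h2 : WeH2 F (p ^ d)) {T : Subgroup Ω} (hT : F.StronglyClosed T)
    (hTd : p ^ d ≤ Nat.card T) : InnMod F T := by
  intro P φ hφ
  obtain ⟨N, ψ, hψ, hPN, hTN, hagree⟩ := quotExt_of_saturated F hS hF T hT P φ hφ
  obtain ⟨g, hg, hgψ⟩ := exists_conj_of_stronglyClosed_card_le hS F h1 h2 hT hTd hψ hTN
  refine ⟨g, hg, fun x => ?_⟩
  have h3 := hagree x x.2 (hPN x.2)
  rw [hgψ] at h3
  exact h3

/-- **Power trick.** If an automorphism `δ` of order prime to `p` agrees modulo `T` with conjugation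
by `g ∈ S` on a `δ`-invariant subgroup `X`, it acts trivially modulo `T` on `X`. -/
theorem aut_trivMod_of_conjMod {p : ℕ} [Fact p.Prime] (hS : IsPGroup p S)
    {T : Subgroup Ω} (hTn : ∀ g ∈ S, ∀ t ∈ T, g * t * g⁻¹ ∈ T) {R : Subgroup Ω}
    (X : Subgroup Ω) (δ : MulAut R) (hδX : ∀ x : R, (x : Ω) ∈ X → ((δ x : R) : Ω) ∈ X)
    (hδ : (orderOf δ).Coprime p) {g : Ω} (hg : g ∈ S)
    (h : ∀ x : R, (x : Ω) ∈ X → ((δ x : R) : Ω) * (g * (x : Ω) * g⁻¹)⁻¹ ∈ T) :
    ∀ x : R, (x : Ω) ∈ X → ((δ x : R) : Ω) * (x : Ω)⁻¹ ∈ T := by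
  have hpow : ∀ (k : ℕ) (x : R), (x : Ω) ∈ X →
      (((δ ^ k) x : R) : Ω) ∈ X ∧
        (((δ ^ k) x : R) : Ω) * (g ^ k * (x : Ω) * (g ^ k)⁻¹)⁻¹ ∈ T := by
    intro k
    induction k with
    | zero =>
      intro x hx
      simp [hx, T.one_mem]
    | succ k ih =>
      intro x hx
      obtain ⟨hyX, hyT⟩ := ih x hx
      have e1 : (δ ^ (k + 1)) x = δ ((δ ^ k) x) := by
        rw [pow_succ', MulAut.mul_apply]
      rw [e1]
      refine ⟨hδX _ hyX, ?_⟩
      have h3 := h _ hyX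
      have h4 := hTn g hg _ hyT
      have e2 : ∀ (a y gk x' : Ω), a * (g * gk * x' * (g * gk)⁻¹)⁻¹ =
          (a * (g * y * g⁻¹)⁻¹) * (g * (y * (gk * x' * gk⁻¹)⁻¹) * g⁻¹) := by
        intro a y gk x'
        group
      rw [pow_succ', e2 _ (((δ ^ k) x : R) : Ω)]
      exact T.mul_mem h3 h4
  obtain ⟨k₀, hk₀⟩ := hS ⟨g, hg⟩
  have hg1 : g ^ (p ^ k₀) = 1 := by
    have h5 := congrArg Subtype.val hk₀
    simpa using h5
  obtain ⟨m, hm⟩ := exists_pow_eq_self_of_coprime
    (Nat.Coprime.pow_left k₀ hδ.symm : (p ^ k₀).Coprime (orderOf δ))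
  intro x hx
  have h5 := (hpow (p ^ k₀ * m) x hx).2
  rw [pow_mul, hm, pow_mul, hg1, one_pow] at h5
  simpa using h5

theorem primeTrivMod_of_innMod {p : ℕ} [Fact p.Prime] (hS : IsPGroup p S)
    (F : FusionSystem S) {T : Subgroup Ω} (hT : F.StronglyClosed T) (h : InnMod F T) :
    PrimeTrivMod F p T := by
  intro R hRS δ hδ hcop x
  obtain ⟨g, hg, hgx⟩ := h R _ ((mem_autGroup_iff F hRS δ).mp hδ)
  exact aut_trivMod_of_conjMod hS (fun g hg t ht => conj_mem_of_stronglyClosed F hT hg ht) ⊤ δ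
    (fun _ _ => Subgroup.mem_top _) hcop hg (fun y _ => hgx y) x (Subgroup.mem_top _)

/-- A saturated system all of whose automorphisms of order prime to `p` are trivial is the inner
system of `S`. -/
theorem hom_eq_inner_of_primeTriv [Finite S] {p : ℕ} [Fact p.Prime] (hS : IsPGroup p S)
    (F : FusionSystem S) (hF : F.IsSaturated p)
    (h : ∀ R : Subgroup Ω, R ≤ S → ∀ δ ∈ F.autGroup R, (orderOf δ).Coprime p → δ = 1) :
    ∀ P : Subgroup Ω, F.Hom P = (innerFusionSystem S).Hom P := by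
  have hp : p.Prime := Fact.out
  apply hom_eq_inner_of_aut_pgroups F hS hF
  intro R hR
  have : Finite (F.autGroup R) := finite_autGroup F hR
  intro g
  obtain ⟨a, m, hm, hNe⟩ := Nat.exists_eq_pow_mul_and_not_dvd (orderOf_pos g).ne' p hp.ne_one
  refine ⟨a, ?_⟩
  have hd : orderOf (g ^ p ^ a) ∣ m := by
    apply orderOf_dvd_of_pow_eq_one
    rw [← pow_mul, ← hNe, pow_orderOf_eq_one]
  have hcop : (orderOf (g ^ p ^ a)).Coprime p :=
    Nat.Coprime.coprime_dvd_left hd ((Nat.Prime.coprime_iff_not_dvd hp).2 hm).symm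
  have h1 := h R hR ((g ^ p ^ a : F.autGroup R) : MulAut R) (g ^ p ^ a).2
    (by rw [Subgroup.orderOf_coe]; exact hcop)
  exact Subtype.ext h1

end Cfsg.Agent.Lib.helper89
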