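import Mathlib
import Cfsg.Prelude.Def_FusionSystem
import Cfsg.Prelude.Def_FusionComponents
import Cfsg.Agent.Lib.helper87.Factor
import Cfsg.Agent.Lib.helper88.Solvable
import Cfsg.Agent.Lib.helper89.WeakEmbA

/-!
# Subgroups of one order with strongly closed companions and inner normalizers (part B)

Passage to the factor system modulo a strongly closed subgroup `Z` of order less than `p ^ d`: the
hypotheses `WeH1`, `WeH2` pass to the factor system (with `p ^ d / |Z|`), and if the factor system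
is inner then every map of the system is conjugation modulo `Z`.
-/

set_option autoImplicit false

universe u

namespace Cfsg.Agent.Lib.helper89

open Cfsg Cfsg.FusionSystem

section quot

variable {Ω : Type*} [Group Ω] {S : Subgroup Ω} {Ω' : Type*} [Group Ω']

theorem mem_imageAlong (θ : S →* Ω') (U : Subgroup Ω) (y : Ω') :
    y ∈ imageAlong θ U ↔ ∃ s : S, (s : Ω) ∈ U ∧ θ s = y := by
  unfold imageAlong
  constructor
  · rintro ⟨s, hs, rfl⟩
    exact ⟨s, Subgroup.mem_subgroupOf.mp hs, rfl⟩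
  · rintro ⟨s, hs, rfl⟩
    exact ⟨s, Subgroup.mem_subgroupOf.mpr hs, rfl⟩

theorem imageAlong_preimageAlong (θ : S →* Ω') (hsurj : Function.Surjective θ)
    (P' : Subgroup Ω') : imageAlong θ (preimageAlong θ P') = P' := by
  ext y
  rw [mem_imageAlong]
  constructor
  · rintro ⟨s, hs, rfl⟩
    obtain ⟨h, hmem⟩ := (helper87.mem_preimageAlong θ P' _).mp hs
    exact hmem
  · intro hy
    obtain ⟨s, rfl⟩ := hsurj y
    exact ⟨s, (helper87.mem_preimageAlong θ P' _).mpr ⟨s.2, hy⟩, rfl⟩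

theorem preimageAlong_imageAlong (θ : S →* Ω') {Z : Subgroup Ω}
    (hker : ∀ s : S, θ s = 1 ↔ (s : Ω) ∈ Z) {U : Subgroup Ω} (hUS : U ≤ S) (hZU : Z ≤ U) :
    preimageAlong θ (imageAlong θ U) = U := by
  ext x
  rw [helper87.mem_preimageAlong]
  constructor
  · rintro ⟨h, hx⟩
    obtain ⟨s, hs, hsx⟩ := (mem_imageAlong θ U _).mp hx
    have h1 : θ (s⁻¹ * ⟨x, h⟩) = 1 := by
      rw [map_mul, map_inv, hsx, inv_mul_cancel]
    have h2 : (s : Ω)⁻¹ * x ∈ Z := (hker (s⁻¹ * ⟨x, h⟩)).mp h1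
    have h3 : x = (s : Ω) * ((s : Ω)⁻¹ * x) := by group
    rw [h3]
    exact U.mul_mem hs (hZU h2)
  · intro hx
    exact ⟨hUS hx, (mem_imageAlong θ U _).mpr ⟨⟨x, hUS hx⟩, hx, rfl⟩⟩

theorem imageAlong_sup (θ : S →* Ω') {U V : Subgroup Ω} (hU : U ≤ S) (hV : V ≤ S) :
    imageAlong θ (U ⊔ V) = imageAlong θ U ⊔ imageAlong θ V := by
  unfold imageAlong
  rw [Subgroup.subgroupOf_sup hU hV, Subgroup.map_sup]

theorem imageAlong_inf_preimageAlong (θ : S →* Ω') (P' : Subgroup Ω') (V : Subgroup Ω) :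
    imageAlong θ (preimageAlong θ P' ⊓ V) = P' ⊓ imageAlong θ V := by
  ext y
  rw [mem_imageAlong]
  constructor
  · rintro ⟨s, ⟨hs1, hs2⟩, rfl⟩
    obtain ⟨h, hmem⟩ := (helper87.mem_preimageAlong θ P' _).mp hs1
    exact ⟨hmem, (mem_imageAlong θ V _).mpr ⟨s, hs2, rfl⟩⟩
  · rintro ⟨hy1, hy2⟩
    obtain ⟨s, hs, rfl⟩ := (mem_imageAlong θ V _).mp hy2
    exact ⟨s, ⟨(helper87.mem_preimageAlong θ P' _).mpr ⟨s.2, hy1⟩, hs⟩, rfl⟩

theorem card_preimageAlong [Finite S] (θ : S →* Ω') (hsurj : Function.Surjective θ)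
    {Z : Subgroup Ω} (hZS : Z ≤ S) (hker : ∀ s : S, θ s = 1 ↔ (s : Ω) ∈ Z) (P' : Subgroup Ω') :
    Nat.card (preimageAlong θ P') = Nat.card Z * Nat.card P' := by
  unfold preimageAlong
  rw [Subgroup.card_map_of_injective S.subtype_injective]
  have hkerθ : θ.ker = Z.subgroupOf S := by
    ext s
    rw [MonoidHom.mem_ker, hker, Subgroup.mem_subgroupOf]
  have : Finite Ω' := Finite.of_surjective θ hsurj
  have e1 := Subgroup.card_mul_index (P'.comap θ)
  have e2 := Subgroup.card_mul_index P'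
  have e3 : (P'.comap θ).index = P'.index := Subgroup.index_comap_of_surjective P' hsurj
  have e4 : Nat.card S = Nat.card Ω' * Nat.card Z := by
    have h1 := Subgroup.card_eq_card_quotient_mul_card_subgroup θ.ker
    have h2 : Nat.card (S ⧸ θ.ker) = Nat.card Ω' :=
      Nat.card_congr (QuotientGroup.quotientKerEquivOfSurjective θ hsurj).toEquiv
    have h3 : Nat.card θ.ker = Nat.card Z := by
      rw [hkerθ]
      exact Nat.card_congr (Subgroup.subgroupOfEquivOfLe hZS).toEquiv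
    rw [h1, h2, h3]
  have hidx : P'.index ≠ 0 := Subgroup.index_ne_zero_of_finite
  rw [e3] at e1
  have e5 : Nat.card ↥(P'.comap θ) * P'.index = (Nat.card Z * Nat.card P') * P'.index := by
    rw [e1, e4, ← e2]
    ring
  exact Nat.eq_of_mul_eq_mul_right (Nat.pos_of_ne_zero hidx) e5

theorem normalizerIn_eq_preimageAlong (θ : S →* Ω') {Z : Subgroup Ω}
    (hker : ∀ s : S, θ s = 1 ↔ (s : Ω) ∈ Z) {U : Subgroup Ω} (hUS : U ≤ S) (hZU : Z ≤ U) :
    normalizerIn S U = preimageAlong θ (normalizerIn ⊤ (imageAlong θ U)) := by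
  ext g
  rw [helper87.mem_preimageAlong]
  constructor
  · rintro ⟨hgS, hgN'⟩
    have hgN : g ∈ Subgroup.normalizer (U : Set Ω) := hgN'
    refine ⟨hgS, ⟨Subgroup.mem_top _, ?_⟩⟩
    show θ ⟨g, hgS⟩ ∈ Subgroup.normalizer (imageAlong θ U : Set Ω')
    rw [Subgroup.mem_normalizer_iff]
    intro y
    constructor
    · intro hy
      obtain ⟨s, hs, rfl⟩ := (mem_imageAlong θ U _).mp hy
      refine (mem_imageAlong θ U _).mpr ⟨⟨g, hgS⟩ * s * ⟨g, hgS⟩⁻¹, ?_, by simp⟩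
      exact (Subgroup.mem_normalizer_iff.mp hgN s).mp hs
    · intro hy
      obtain ⟨s, hs, hsy⟩ := (mem_imageAlong θ U _).mp hy
      refine (mem_imageAlong θ U _).mpr ⟨⟨g, hgS⟩⁻¹ * s * ⟨g, hgS⟩, ?_, ?_⟩
      · have e : g * (g⁻¹ * (s : Ω) * g) * g⁻¹ = s := by group
        exact (Subgroup.mem_normalizer_iff.mp hgN (g⁻¹ * (s : Ω) * g)).mpr (by rw [e]; exact hs)
      · rw [map_mul, map_mul, map_inv, hsy]
        group
  · rintro ⟨hgS, -, hgN'⟩
    have hgN : θ ⟨g, hgS⟩ ∈ Subgroup.normalizer (imageAlong θ U : Set Ω') := hgN'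
    refine ⟨hgS, ?_⟩
    show g ∈ Subgroup.normalizer (U : Set Ω)
    rw [Subgroup.mem_normalizer_iff] at hgN ⊢
    intro w
    have key : ∀ (v : Ω) (hv : v ∈ S), θ ⟨v, hv⟩ ∈ imageAlong θ U → v ∈ U := by
      intro v hv hvU
      have h1 := (helper87.mem_preimageAlong θ (imageAlong θ U) v).mpr ⟨hv, hvU⟩
      rwa [preimageAlong_imageAlong θ hker hUS hZU] at h1
    constructor
    · intro hw
      have hgw : g * w * g⁻¹ ∈ S := S.mul_mem (S.mul_mem hgS (hUS hw)) (S.inv_mem hgS)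
      apply key _ hgw
      have h1 := (hgN (θ ⟨w, hUS hw⟩)).mp ((mem_imageAlong θ U _).mpr ⟨⟨w, hUS hw⟩, hw, rfl⟩)
      have e : θ ⟨g * w * g⁻¹, hgw⟩ = θ ⟨g, hgS⟩ * θ ⟨w, hUS hw⟩ * (θ ⟨g, hgS⟩)⁻¹ := by
        rw [← map_inv, ← map_mul, ← map_mul]
        rfl
      rw [e]
      exact h1
    · intro hgw
      have hwS : w ∈ S := by
        have e : w = g⁻¹ * (g * w * g⁻¹) * g := by group
        rw [e]
        exact S.mul_mem (S.mul_mem (S.inv_mem hgS) (hUS hgw)) hgS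
      apply key _ hwS
      apply (hgN (θ ⟨w, hwS⟩)).mpr
      have e : θ ⟨g, hgS⟩ * θ ⟨w, hwS⟩ * (θ ⟨g, hgS⟩)⁻¹ = θ ⟨g * w * g⁻¹, hUS hgw⟩ := by
        rw [← map_inv, ← map_mul, ← map_mul]
        rfl
      rw [e]
      exact (mem_imageAlong θ U _).mpr ⟨⟨g * w * g⁻¹, hUS hgw⟩, hgw, rfl⟩

/-- The image of a map induced along `θ` is the image along `θ` of the image. -/
theorem range_of_inducedAlong (θ : S →* Ω') {H K : Subgroup Ω} {ρ : H →* Ω} (hρK : ρ.range = K)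
    {ρ' : ↥(imageAlong θ H) →* Ω'} (hind : InducedAlong θ ρ ρ') :
    ρ'.range = imageAlong θ K := by
  obtain ⟨hP, hφ, hP', hind⟩ := hind
  ext y
  constructor
  · rintro ⟨w, rfl⟩
    obtain ⟨s, hs, hsw⟩ := (mem_imageAlong θ H _).mp w.2
    have e : w = ⟨θ ⟨(⟨s, hs⟩ : H), hP hs⟩, hP' ⟨s, hs⟩⟩ := Subtype.ext hsw.symm
    rw [e, hind]
    refine (mem_imageAlong θ K _).mpr ⟨⟨ρ ⟨s, hs⟩, hφ _⟩, ?_, rfl⟩
    rw [← hρK]
    exact ⟨_, rfl⟩
  · intro hy
    obtain ⟨s, hs, rfl⟩ := (mem_imageAlong θ K _).mp hy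
    rw [← hρK] at hs
    obtain ⟨x, hx⟩ := hs
    refine ⟨⟨θ ⟨x, hP x.2⟩, hP' x⟩, ?_⟩
    rw [hind]
    congr 1
    exact Subtype.ext hx

end quot

variable {Ω : Type u} [Group Ω] {S : Subgroup Ω}

/-- **Passage to the factor system.** If the statement "`WeH1` and `WeH2` force the system to be
inner" holds for all saturated systems over smaller `p`-groups, then every map of `F` is
conjugation modulo a nontrivial strongly closed subgroup `Z` of order less than `p ^ d`. -/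
theorem innMod_of_card_lt [Finite S] {p : ℕ} [Fact p.Prime] (hS : IsPGroup p S)
    (F : FusionSystem S) (hF : F.IsSaturated p) {d : ℕ} (h1 : WeH1 F (p ^ d))
    (h2 : WeH2 F (p ^ d)) {Z : Subgroup Ω} (hZ : F.StronglyClosed Z) (hZ1 : Z ≠ ⊥)
    (hZd : Nat.card Z < p ^ d) (hd : p ^ d < Nat.card S)
    (IH : ∀ {Ω' : Type u} [Group Ω'] (S' : Subgroup Ω') [Finite S'], Nat.card S' < Nat.card S →
      IsPGroup p S' → ∀ E : FusionSystem S', E.IsSaturated p → ∀ d' : ℕ, 1 ≤ d' →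
        p ^ d' < Nat.card S' → WeH1 E (p ^ d') → WeH2 E (p ^ d') →
          ∀ P : Subgroup Ω', E.Hom P ⊆ (innerFusionSystem S').Hom P) :
    InnMod F Z := by
  have hp : p.Prime := Fact.out
  have hZS : Z ≤ S := hZ.1
  have hZfin : Finite Z := finite_of_le hZS
  have hn : (Z.subgroupOf S).Normal := by
    constructor
    intro n hn g
    rw [Subgroup.mem_subgroupOf] at hn ⊢
    have h3 := conj_mem_of_stronglyClosed F hZ g.2 hn
    simpa using h3
  obtain ⟨θ, hθ⟩ : ∃ θ : S →* S ⧸ Z.subgroupOf S, θ = QuotientGroup.mk' (Z.subgroupOf S) :=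
    ⟨_, rfl⟩
  have hker : ∀ s : S, θ s = 1 ↔ (s : Ω) ∈ Z := by
    intro s
    rw [hθ]
    exact (QuotientGroup.eq_one_iff s).trans Subgroup.mem_subgroupOf
  have hsurj : Function.Surjective θ := by
    rw [hθ]
    exact QuotientGroup.mk'_surjective _
  have hrange : θ.range = ⊤ := MonoidHom.range_eq_top.2 hsurj
  obtain ⟨E, hE⟩ := helper87.exists_factorSystem F Z hZ θ hker ⊤ hrange
  have hEsat := helper88.factorSystem_saturated hS F hF hZ θ E hE
  have hmor := (Cfsg.Agent.S5134.result p hS F hF Z hZ θ E hE).1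
  -- cardinalities
  have hZp : IsPGroup p Z := hS.of_injective (Subgroup.inclusion hZS) (Subgroup.inclusion_injective hZS)
  obtain ⟨z, hz⟩ := IsPGroup.iff_card.mp hZp
  have hzd : z < d := by
    rw [hz] at hZd
    exact (Nat.pow_lt_pow_iff_right hp.one_lt).mp hZd
  have hZ1' : 1 < Nat.card Z := (Subgroup.one_lt_card_iff_ne_bot Z).mpr hZ1
  have hcardS : Nat.card S = Nat.card Z * Nat.card (⊤ : Subgroup (S ⧸ Z.subgroupOf S)) := by
    have h3 := card_preimageAlong θ hsurj hZS hker ⊤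
    have e : preimageAlong θ (⊤ : Subgroup (S ⧸ Z.subgroupOf S)) = S := by
      ext x
      rw [helper87.mem_preimageAlong]
      exact ⟨fun ⟨hx, _⟩ => hx, fun hx => ⟨hx, Subgroup.mem_top _⟩⟩
    rw [e] at h3
    exact h3
  have hpd : p ^ d = Nat.card Z * p ^ (d - z) := by
    rw [hz, ← pow_add]
    congr 1
    omega
  have hcardlt : Nat.card (⊤ : Subgroup (S ⧸ Z.subgroupOf S)) < Nat.card S := by
    rw [hcardS]
    have hpos : 0 < Nat.card (⊤ : Subgroup (S ⧸ Z.subgroupOf S)) := Nat.card_pos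
    nlinarith
  have hd'lt : p ^ (d - z) < Nat.card (⊤ : Subgroup (S ⧸ Z.subgroupOf S)) := by
    rw [hpd, hcardS] at hd
    exact lt_of_mul_lt_mul_left hd (Nat.zero_le _)
  have hpg : IsPGroup p (⊤ : Subgroup (S ⧸ Z.subgroupOf S)) :=
    (hS.to_quotient (Z.subgroupOf S)).to_subgroup ⊤
  -- `WeH1` for the factor system
  have hH1 : WeH1 E (p ^ (d - z)) := by
    intro Q' _ hQ'c
    have hQS : preimageAlong θ Q' ≤ S := helper87.preimageAlong_le θ Q'
    have hQc : Nat.card (preimageAlong θ Q') = p ^ d := by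
      rw [card_preimageAlong θ hsurj hZS hker, hQ'c, hpd]
    obtain ⟨P, hP, hQP, hQiP⟩ := h1 _ hQS hQc
    refine ⟨imageAlong θ P, helper88.stronglyClosed_imageAlong F θ E hE hP, ?_, ?_⟩
    · have e : Q' ⊔ imageAlong θ P = imageAlong θ (preimageAlong θ Q' ⊔ P) := by
        rw [imageAlong_sup θ hQS hP.1, imageAlong_preimageAlong θ hsurj]
      rw [e]
      exact helper88.stronglyClosed_imageAlong F θ E hE hQP
    · rw [← imageAlong_inf_preimageAlong]
      exact helper88.stronglyClosed_imageAlong F θ E hE hQiP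
  -- `WeH2` for the factor system
  have hH2 : WeH2 E (p ^ (d - z)) := by
    intro H' hH'fn hH'c P' φ' hφ'
    obtain ⟨H, hHdef⟩ : ∃ H : Subgroup Ω, H = preimageAlong θ H' := ⟨_, rfl⟩
    have hHS : H ≤ S := by
      rw [hHdef]
      exact helper87.preimageAlong_le θ H'
    have hZH : Z ≤ H := by
      rw [hHdef]
      exact helper87.le_preimageAlong θ hZS hker H'
    have hHc : Nat.card H = p ^ d := by
      rw [hHdef, card_preimageAlong θ hsurj hZS hker, hH'c, hpd]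
    have himH : imageAlong θ H = H' := by
      rw [hHdef]
      exact imageAlong_preimageAlong θ hsurj H'
    have hmemH : ∀ (x : Ω) (hx : x ∈ S), θ ⟨x, hx⟩ ∈ H' → x ∈ H := by
      intro x hx hxH
      rw [hHdef]
      exact (helper87.mem_preimageAlong θ H' x).mpr ⟨hx, hxH⟩
    have hnormH : normalizerIn S H = preimageAlong θ (normalizerIn ⊤ H') := by
      rw [normalizerIn_eq_preimageAlong θ hker hHS hZH, himH]
    -- `H` is fully normalized
    have hHfn : F.IsFullyNormalized H := by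
      refine ⟨hHS, fun K hK => ?_⟩
      obtain ⟨ρ, hρ, hρK⟩ := hK
      have hKS : K ≤ S := by
        rw [← hρK]
        exact range_le_of_hom F hρ
      have hZK : Z ≤ K := by
        intro t ht
        obtain ⟨t', -, htz⟩ := helper87.stronglyClosed_surj F hZ hρ hZH t ht
        rw [← hρK]
        exact ⟨t', htz⟩
      obtain ⟨ρ', hρ', hind⟩ := hmor.2 H ρ hρ
      have hconj : E.IsConj (imageAlong θ H) (imageAlong θ K) :=
        ⟨ρ', hρ', range_of_inducedAlong θ hρK hind⟩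
      rw [himH] at hconj
      have hle := hH'fn.2 _ hconj
      rw [normalizerIn_eq_preimageAlong θ hker hKS hZK, hnormH,
        card_preimageAlong θ hsurj hZS hker, card_preimageAlong θ hsurj hZS hker]
      exact Nat.mul_le_mul_left _ hle
    obtain ⟨hφ'E, hP'N, hφ'N, ψ', hψ', hext, hmap⟩ := hφ'
    obtain ⟨-, ψ, hψ, hAS, hψS, hAP', hind⟩ := (hE.2.2.2 (P' ⊔ H') ψ').mp hψ'
    have hH'N : H' ≤ normalizerIn ⊤ H' := fun x hx => ⟨Subgroup.mem_top _, Subgroup.le_normalizer hx⟩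
    -- `ψ'` maps `P' ⊔ H'` into the normalizer of `H'`
    have hψ'N : ∀ w : ↥(P' ⊔ H'), ψ' w ∈ normalizerIn ⊤ H' := by
      have h3 : (⊤ : Subgroup ↥(P' ⊔ H')) ≤ (normalizerIn ⊤ H').comap ψ' := by
        rw [← Subgroup.subgroupOf_self, Subgroup.subgroupOf_sup le_sup_left le_sup_right]
        refine sup_le ?_ ?_
        · intro w hw
          rw [Subgroup.mem_subgroupOf] at hw
          rw [Subgroup.mem_comap]
          have e : w = Subgroup.inclusion le_sup_left (⟨w, hw⟩ : P') := rfl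
          rw [e, hext]
          exact hφ'N _
        · intro w hw
          rw [Subgroup.mem_comap]
          have h5 : ψ' w ∈ Subgroup.map ψ' (H'.subgroupOf (P' ⊔ H')) := ⟨w, hw, rfl⟩
          rw [hmap] at h5
          exact hH'N h5
      intro w
      exact h3 (Subgroup.mem_top w)
    have hψ'H : ∀ w : ↥(P' ⊔ H'), (w : S ⧸ Z.subgroupOf S) ∈ H' → ψ' w ∈ H' := by
      intro w hw
      have h5 : ψ' w ∈ Subgroup.map ψ' (H'.subgroupOf (P' ⊔ H')) :=
        ⟨w, Subgroup.mem_subgroupOf.mpr hw, rfl⟩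
      rw [hmap] at h5
      exact h5
    have hHA : H ≤ preimageAlong θ (P' ⊔ H') := by
      rw [hHdef]
      intro x hx
      obtain ⟨h, hmem⟩ := (helper87.mem_preimageAlong θ H' x).mp hx
      exact (helper87.mem_preimageAlong θ _ x).mpr ⟨h, Subgroup.mem_sup_right hmem⟩
    have hψH : ∀ (q : Ω) (hq : q ∈ H) (hA : q ∈ preimageAlong θ (P' ⊔ H')), ψ ⟨q, hA⟩ ∈ H := by
      intro q hq hA
      apply hmemH _ (hψS _)
      rw [← hind]
      apply hψ'H
      rw [hHdef] at hq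
      obtain ⟨h, hmem⟩ := (helper87.mem_preimageAlong θ H' q).mp hq
      exact hmem
    have hψnorm : ψ ∈ F.normalizerHom H (preimageAlong θ (P' ⊔ H')) := by
      rw [mem_normalizerHom_iff]
      refine ⟨hψ, ?_, ?_, ?_⟩
      · intro x hx
        rw [hnormH]
        obtain ⟨h, hmem⟩ := (helper87.mem_preimageAlong θ _ x).mp hx
        refine (helper87.mem_preimageAlong θ _ x).mpr ⟨h, ?_⟩
        exact (sup_le hP'N hH'N) hmem
      · intro x
        rw [hnormH]
        refine (helper87.mem_preimageAlong θ _ _).mpr ⟨hψS x, ?_⟩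
        rw [← hind]
        exact hψ'N _
      · exact ⟨_, ψ, hψ, le_rfl, hHA, fun x hx hR => rfl, fun q hq hR => hψH q hq hR⟩
    obtain ⟨g, hg, hgψ⟩ := h2 H hHfn hHc _ ψ hψnorm
    refine ⟨θ ⟨g, hg⟩, Subgroup.mem_top _, fun y => ?_⟩
    obtain ⟨s, hs⟩ := hsurj (y : S ⧸ Z.subgroupOf S)
    have hsA : (s : Ω) ∈ preimageAlong θ (P' ⊔ H') :=
      (helper87.mem_preimageAlong θ _ _).mpr ⟨s.2, by rw [hs]; exact Subgroup.mem_sup_left y.2⟩
    have e : Subgroup.inclusion le_sup_left y =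
        (⟨θ ⟨((⟨s, hsA⟩ : ↥(preimageAlong θ (P' ⊔ H'))) : Ω), hAS hsA⟩, hAP' ⟨s, hsA⟩⟩ :
          ↥(P' ⊔ H')) := Subtype.ext hs.symm
    have h6 : (⟨ψ ⟨s, hsA⟩, hψS ⟨s, hsA⟩⟩ : S) = ⟨g, hg⟩ * s * ⟨g, hg⟩⁻¹ :=
      Subtype.ext (hgψ ⟨s, hsA⟩)
    rw [← hext, e, hind, h6, map_mul, map_mul, map_inv, hs]
  -- the factor system is inner
  have hEinn := IH (⊤ : Subgroup (S ⧸ Z.subgroupOf S)) hcardlt hpg E hEsat (d - z) (by omega)
    hd'lt hH1 hH2
  intro P φ hφ
  obtain ⟨φ', hφ', hPS, hφS, hPP', hind⟩ := hmor.2 P φ hφ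
  obtain ⟨-, g', -, hg'⟩ := hEinn _ hφ'
  obtain ⟨g₀, rfl⟩ := hsurj g'
  refine ⟨g₀, g₀.2, fun x => ?_⟩
  have h3 := hind x
  rw [hg'] at h3
  have h4 : θ (⟨φ x, hφS x⟩ * (g₀ * ⟨x, hPS x.2⟩ * g₀⁻¹)⁻¹) = 1 := by
    rw [map_mul, map_inv, map_mul, map_mul, map_inv, ← h3]
    exact mul_inv_cancel _
  exact (hker _).mp h4

end Cfsg.Agent.Lib.helper89
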