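import Mathlib
import Cfsg.Prelude.Def_FusionSystem
import Cfsg.Agent.Lib.helper3.PGroupFrattini
import Cfsg.Agent.Lib.helper86.Tate
import Cfsg.Agent.Lib.helper87.QdFree1
import Cfsg.Agent.Lib.helper88.Saturated
import Cfsg.Agent.Lib.helper89.Focal
import Cfsg.Agent.Lib.helper89.WeakEmbA
import Cfsg.Agent.Lib.helper89.WeakEmbB

/-!
# Subgroups of one order with strongly closed companions and inner normalizers (part C)

`hom_subset_inner_of_weH`: a saturated fusion system over a finite `p`-group `S` such that, for some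
`1 ≤ d` with `p ^ d < |S|`, every subgroup of order `p ^ d` has a strongly closed companion
(`WeH1`) and every fully normalized subgroup of order `p ^ d` has inner normalizer system (`WeH2`),
is the inner fusion system of `S`.
-/

set_option autoImplicit false

universe u

namespace Cfsg.Agent.Lib.helper89

open Cfsg Cfsg.FusionSystem

/-- **Endgame, non-Frattini case.** `M` is a strongly closed subgroup contained in every nontrivial
strongly closed subgroup, the automorphisms of order prime to `p` act trivially modulo `M`, and `M`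
is not contained in the Frattini subgroup of `S`: then all automorphisms of order prime to `p` are
trivial. -/
theorem primeTriv_of_not_le_frattini {Ω : Type*} [Group Ω] {S : Subgroup Ω} [Finite S] {p : ℕ}
    [Fact p.Prime] (hS : IsPGroup p S) (F : FusionSystem S) (hF : F.IsSaturated p) {d : ℕ}
    (hd1 : 1 ≤ d) (hdS : p ^ d < Nat.card S) (h1 : WeH1 F (p ^ d)) (h2 : WeH2 F (p ^ d))
    {M : Subgroup Ω} (hMsc : F.StronglyClosed M) (hM1 : M ≠ ⊥)
    (hmin : ∀ X : Subgroup Ω, F.StronglyClosed X → X ≠ ⊥ → M ≤ X)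
    (hZM : PrimeTrivMod F p M) (hMΦ : ¬ M ≤ (frattini ↥S).map S.subtype) :
    ∀ R : Subgroup Ω, R ≤ S → ∀ δ ∈ F.autGroup R, (orderOf δ).Coprime p → δ = 1 := by
  have hp : p.Prime := Fact.out
  have hMS : M ≤ S := hMsc.1
  have hMfin : Finite M := finite_of_le hMS
  have hfin : ∀ X : Subgroup Ω, X ≤ S → Finite X := fun X hX => finite_of_le hX
  have hSsc : F.StronglyClosed S := ⟨le_rfl, fun R _ φ hφ x => (F.le_of_mem hφ).2 x⟩
  -- (D)
  have hD : ∀ Q : Subgroup Ω, Q ≤ S → Nat.card Q = p ^ d → Q ⊓ M ≠ ⊥ → M ≤ Q := by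
    intro Q hQS hQc hQM
    obtain ⟨P, hP, hQP, hQiP⟩ := h1 Q hQS hQc
    by_cases hA : Q ⊓ P = ⊥
    · by_cases hP1 : P = ⊥
      · have h3 : M ≤ Q ⊔ P := by
          refine hmin _ hQP (fun h => hQM ?_)
          rw [hP1, sup_bot_eq] at h
          rw [h, bot_inf_eq]
        rw [hP1, sup_bot_eq] at h3
        exact h3
      · exfalso
        have hMP := hmin P hP hP1
        apply hQM
        rw [eq_bot_iff, ← hA]
        exact inf_le_inf_left Q hMP
    · exact (hmin _ hQiP hA).trans inf_le_left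
  -- a maximal subgroup not containing `M`
  obtain ⟨S₀', hS₀', hMS₀⟩ : ∃ K : Subgroup ↥S, IsCoatom K ∧ ¬ M.subgroupOf S ≤ K := by
    by_contra hcon
    apply hMΦ
    intro m hm
    refine ⟨⟨m, hMS hm⟩, ?_, rfl⟩
    rw [SetLike.mem_coe, helper3.mem_frattini_iff]
    intro K hK
    by_contra hmK
    exact hcon ⟨K, hK, fun hle => hmK (hle (Subgroup.mem_subgroupOf.mpr hm))⟩
  obtain ⟨hS₀n, hS₀idx⟩ := helper3.coatom_normal_index hS hS₀'
  obtain ⟨S₀, hS₀def⟩ : ∃ S₀ : Subgroup Ω, S₀ = S₀'.map S.subtype := ⟨_, rfl⟩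
  have hS₀S : S₀ ≤ S := by
    rw [hS₀def]
    exact Subgroup.map_subtype_le S₀'
  have hmemS₀ : ∀ (x : Ω) (hx : x ∈ S), x ∈ S₀ ↔ (⟨x, hx⟩ : S) ∈ S₀' := by
    intro x hx
    rw [hS₀def]
    constructor
    · rintro ⟨s, hs, hsx⟩
      have e : s = ⟨x, hx⟩ := Subtype.ext hsx
      rw [← e]
      exact hs
    · intro h
      exact ⟨⟨x, hx⟩, h, rfl⟩
  have hS₀fin : Finite S₀ := hfin S₀ hS₀S
  have hS₀card : Nat.card S₀ * p = Nat.card S := by
    rw [hS₀def, Subgroup.card_map_of_injective S.subtype_injective, ← hS₀idx]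
    exact Subgroup.card_mul_index S₀'
  have hMnotS₀ : ¬ M ≤ S₀ := by
    intro hle
    apply hMS₀
    intro m hm
    exact (hmemS₀ m m.2).mp (hle (Subgroup.mem_subgroupOf.mp hm))
  -- `p ^ d` divides the order of `S₀`
  have hdvd : p ^ d ∣ Nat.card S₀ := by
    obtain ⟨n, hn⟩ := IsPGroup.iff_card.mp hS
    have hdn : d < n := by
      rw [hn] at hdS
      exact (Nat.pow_lt_pow_iff_right hp.one_lt).mp hdS
    have h3 : Nat.card S₀ = p ^ (n - 1) := by
      have h4 : p ^ n = p ^ (n - 1) * p := by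
        rw [← pow_succ]
        congr 1
        omega
      rw [hn, h4] at hS₀card
      exact Nat.eq_of_mul_eq_mul_right hp.pos hS₀card
    rw [h3]
    exact pow_dvd_pow p (by omega)
  -- (B1) `M ⊓ S₀ = ⊥`
  have hMS₀bot : M ⊓ S₀ = ⊥ := by
    by_contra hne
    have hCS : M ⊓ S₀ ≤ S := inf_le_left.trans hMS
    have hCfin : Finite ↥(M ⊓ S₀) := hfin _ hCS
    have hCp : IsPGroup p ↥(M ⊓ S₀) :=
      hS.of_injective (Subgroup.inclusion hCS) (Subgroup.inclusion_injective hCS)
    obtain ⟨a, ha⟩ := IsPGroup.iff_card.mp hCp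
    have hQex : ∃ Q : Subgroup Ω, Q ≤ S₀ ∧ Nat.card Q = p ^ d ∧ Q ⊓ M ≠ ⊥ := by
      by_cases had : a ≤ d
      · have hcard : Nat.card ((M ⊓ S₀).subgroupOf S₀) = p ^ a := by
          rw [← ha]
          exact Nat.card_congr (Subgroup.subgroupOfEquivOfLe (inf_le_right : M ⊓ S₀ ≤ S₀)).toEquiv
        obtain ⟨K, hKc, hCK⟩ := Sylow.exists_subgroup_card_pow_prime_le p hdvd
          ((M ⊓ S₀).subgroupOf S₀) hcard had
        refine ⟨K.map S₀.subtype, Subgroup.map_subtype_le K, ?_, ?_⟩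
        · rw [Subgroup.card_map_of_injective S₀.subtype_injective]
          exact hKc
        · intro hbot
          apply hne
          rw [eq_bot_iff, ← hbot]
          intro x hx
          exact ⟨⟨⟨x, hx.2⟩, hCK (Subgroup.mem_subgroupOf.mpr hx), rfl⟩, hx.1⟩
      · have hdvd' : p ^ d ∣ Nat.card ↥(M ⊓ S₀) := by
          rw [ha]
          exact pow_dvd_pow p (by omega)
        obtain ⟨K, hKc⟩ := Sylow.exists_subgroup_card_pow_prime p hdvd'
        have hKle : K.map (M ⊓ S₀).subtype ≤ M ⊓ S₀ := Subgroup.map_subtype_le K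
        have hKcard : Nat.card ↥(K.map (M ⊓ S₀).subtype) = p ^ d := by
          rw [Subgroup.card_map_of_injective (M ⊓ S₀).subtype_injective]
          exact hKc
        refine ⟨K.map (M ⊓ S₀).subtype, hKle.trans inf_le_right, hKcard, ?_⟩
        intro hbot
        have h3 : K.map (M ⊓ S₀).subtype = ⊥ := by
          rw [eq_bot_iff, ← hbot]
          exact le_inf le_rfl (hKle.trans inf_le_left)
        rw [h3, Subgroup.card_bot] at hKcard
        have h4 : 1 < p ^ d := Nat.one_lt_pow (by omega) hp.one_lt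
        omega
    obtain ⟨Q, hQS₀, hQc, hQM⟩ := hQex
    exact hMnotS₀ ((hD Q (hQS₀.trans hS₀S) hQc hQM).trans hQS₀)
  -- `M` and `S₀` are normalized by `S`
  have hMn : ∀ g ∈ S, ∀ m ∈ M, g * m * g⁻¹ ∈ M := fun g hg m hm =>
    conj_mem_of_stronglyClosed F hMsc hg hm
  have hS₀n' : ∀ g ∈ S, ∀ s ∈ S₀, g * s * g⁻¹ ∈ S₀ := by
    intro g hg s hs
    have hsS := hS₀S hs
    have h3 := hS₀n.conj_mem ⟨s, hsS⟩ ((hmemS₀ s hsS).mp hs) ⟨g, hg⟩
    exact (hmemS₀ _ (S.mul_mem (S.mul_mem hg hsS) (S.inv_mem hg))).mpr h3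
  -- (B2) `S₀` centralizes `M`
  have hcent : ∀ g ∈ S₀, ∀ m ∈ M, g * m * g⁻¹ = m := by
    intro g hg m hm
    have h3 : g * m * g⁻¹ * m⁻¹ ∈ M ⊓ S₀ := by
      refine ⟨M.mul_mem (hMn g (hS₀S hg) m hm) (M.inv_mem hm), ?_⟩
      have h4 := hS₀n' m (hMS hm) g⁻¹ (S₀.inv_mem hg)
      have e : g * m * g⁻¹ * m⁻¹ = g * (m * g⁻¹ * m⁻¹) := by group
      rw [e]
      exact S₀.mul_mem hg h4
    rw [hMS₀bot, Subgroup.mem_bot] at h3
    exact mul_inv_eq_one.mp h3
  -- `|M| = p`
  have hMp : IsPGroup p M := hS.of_injective (Subgroup.inclusion hMS) (Subgroup.inclusion_injective hMS)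
  have hMcard : Nat.card M = p := by
    obtain ⟨f, hf⟩ : ∃ f : M →* ↥S ⧸ S₀', f = (QuotientGroup.mk' S₀').comp (Subgroup.inclusion hMS) :=
      ⟨_, rfl⟩
    have hinj : Function.Injective f := by
      rw [injective_iff_map_eq_one]
      intro m hm
      rw [hf, MonoidHom.comp_apply, QuotientGroup.mk'_apply, QuotientGroup.eq_one_iff] at hm
      have h3 : (m : Ω) ∈ M ⊓ S₀ := ⟨m.2, (hmemS₀ m (hMS m.2)).mpr hm⟩
      rw [hMS₀bot, Subgroup.mem_bot] at h3
      exact Subtype.ext h3
    have h3 : Nat.card M ≤ p := by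
      have h4 := Nat.card_le_card_of_injective f hinj
      rwa [← Subgroup.index_eq_card, hS₀idx] at h4
    obtain ⟨a, ha⟩ := IsPGroup.iff_card.mp hMp
    have h5 : 1 < Nat.card M := (Subgroup.one_lt_card_iff_ne_bot M).mpr hM1
    rw [ha] at h3 h5 ⊢
    have ha1 : a ≠ 0 := by
      intro h0
      rw [h0, pow_zero] at h5
      exact lt_irrefl 1 h5
    have h6 : p ^ 1 ≤ p ^ a := Nat.pow_le_pow_right hp.pos (Nat.one_le_iff_ne_zero.mpr ha1)
    rw [pow_one] at h6
    exact le_antisymm h3 h6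
  -- `M` is fully normalized, hence receptive
  have hnormM : ∀ g ∈ S, g ∈ Subgroup.normalizer (M : Set Ω) := by
    intro g hg
    rw [Subgroup.mem_normalizer_iff]
    intro h
    constructor
    · intro hh
      exact hMn g hg h hh
    · intro hh
      have h3 := hMn g⁻¹ (S.inv_mem hg) _ hh
      have e : g⁻¹ * (g * h * g⁻¹) * g⁻¹⁻¹ = h := by group
      rwa [e] at h3
  have hMfn : F.IsFullyNormalized M := by
    refine ⟨hMS, fun Q' _ => ?_⟩
    have : Finite ↥(normalizerIn S M) := finite_of_le inf_le_left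
    apply Subgroup.card_le_of_le
    intro x hx
    exact ⟨hx.1, hnormM x hx.1⟩
  have hrec : F.IsReceptive M :=
    (helper88.fullyAutomized_receptive_of_fullyNormalized hS F hF hMfn).2
  -- the main argument
  intro R hR δ hδ hcop
  have hδM : ∀ x : R, ((δ x : R) : Ω) * (x : Ω)⁻¹ ∈ M := hZM R hR δ hδ hcop
  by_cases hMR : M ⊓ R = ⊥
  · apply MulEquiv.ext
    intro x
    apply Subtype.ext
    have h3 : ((δ x : R) : Ω) * (x : Ω)⁻¹ ∈ M ⊓ R := ⟨hδM x, R.mul_mem (δ x).2 (R.inv_mem x.2)⟩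
    rw [hMR, Subgroup.mem_bot] at h3
    exact mul_inv_eq_one.mp h3
  · have hMR' : M ≤ R := by
      have hIfin : Finite ↥(M ⊓ R) := hfin _ (inf_le_left.trans hMS)
      have hIp : IsPGroup p ↥(M ⊓ R) :=
        hS.of_injective (Subgroup.inclusion (inf_le_left.trans hMS))
          (Subgroup.inclusion_injective (inf_le_left.trans hMS))
      obtain ⟨a, ha⟩ := IsPGroup.iff_card.mp hIp
      have h5 : 1 < Nat.card ↥(M ⊓ R) := (Subgroup.one_lt_card_iff_ne_bot _).mpr hMR
      have ha1 : a ≠ 0 := by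
        intro h0
        rw [ha, h0, pow_zero] at h5
        exact lt_irrefl 1 h5
      have h6 : p ^ 1 ≤ p ^ a := Nat.pow_le_pow_right hp.pos (Nat.one_le_iff_ne_zero.mpr ha1)
      rw [pow_one, ← ha, ← hMcard] at h6
      have h7 := Subgroup.eq_of_le_of_card_ge (inf_le_left : M ⊓ R ≤ M) h6
      exact h7.symm.le.trans inf_le_right
    have hδF : R.subtype.comp δ.toMonoidHom ∈ F.Hom R := (mem_autGroup_iff F hR δ).mp hδ
    obtain ⟨γ, hγdef⟩ : ∃ γ : M →* Ω, γ = (R.subtype.comp δ.toMonoidHom).comp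
        (Subgroup.inclusion hMR') := ⟨_, rfl⟩
    have hγ : γ ∈ F.Hom M := by
      rw [hγdef]
      exact helper88.restrict_mem F hMR' hδF
    have hγM : ∀ m : M, γ m ∈ M := by
      intro m
      rw [hγdef]
      exact aut_mem_of_stronglyClosed F hMsc hR hδ ⟨m, hMR' m.2⟩ m.2
    have hrange : γ.range = M := by
      rw [MonoidHom.range_eq_map, ← Subgroup.subgroupOf_self]
      exact map_subgroupOf_eq_of_forall_mem F hγ le_rfl (fun q hq => hγM ⟨q, hq⟩)
    have hs : ∀ g ∈ ((M : Set Ω) ∪ (S₀ : Set Ω)), g ∈ S ∧ g ∈ Subgroup.normalizer (M : Set Ω) ∧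
        ∃ h ∈ S, ∀ (x : M) (hx : g * (x : Ω) * g⁻¹ ∈ M), γ ⟨g * x * g⁻¹, hx⟩ = h * γ x * h⁻¹ := by
      rintro g (hg | hg)
      · exact extender_cond_of_mem F hγ hg
      · refine ⟨hS₀S hg, hnormM g (hS₀S hg), 1, S.one_mem, fun x hx => ?_⟩
        have e : (⟨g * (x : Ω) * g⁻¹, hx⟩ : M) = x := Subtype.ext (hcent g hg x x.2)
        rw [e]
        group
    obtain ⟨ψ, hψ, hψM⟩ := exists_extension_closure F hrec hγ hrange _ hs
    have hSN : S ≤ Subgroup.closure ((M : Set Ω) ∪ (S₀ : Set Ω)) := by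
      have h3 : (Subgroup.closure ((M : Set Ω) ∪ (S₀ : Set Ω))).subgroupOf S = ⊤ := by
        apply hS₀'.2
        refine lt_of_le_not_ge ?_ ?_
        · intro s hs'
          exact Subgroup.mem_subgroupOf.mpr
            (Subgroup.subset_closure (Or.inr ((hmemS₀ s s.2).mpr hs')))
        · intro hle
          apply hMS₀
          intro m hm
          exact hle (Subgroup.mem_subgroupOf.mpr
            (Subgroup.subset_closure (Or.inl (Subgroup.mem_subgroupOf.mp hm))))
      intro x hx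
      have h4 : (⟨x, hx⟩ : S) ∈ (Subgroup.closure ((M : Set Ω) ∪ (S₀ : Set Ω))).subgroupOf S := by
        rw [h3]
        exact Subgroup.mem_top _
      exact Subgroup.mem_subgroupOf.mp h4
    obtain ⟨g, hg, hgψ⟩ := exists_conj_of_stronglyClosed_card_le hS F h1 h2 hSsc (le_of_lt hdS) hψ hSN
    -- `δ` is conjugation by `g` on `M`
    have hδg : ∀ x : R, (x : Ω) ∈ M → ((δ x : R) : Ω) * (g * (x : Ω) * g⁻¹)⁻¹ ∈ (⊥ : Subgroup Ω) := by
      intro x hx
      rw [Subgroup.mem_bot, mul_inv_eq_one]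
      have h3 := hψM x hx (Subgroup.subset_closure (Or.inl hx))
      rw [hgψ] at h3
      rw [h3, hγdef]
      rfl
    have hδtriv := aut_trivMod_of_conjMod hS (T := ⊥)
      (fun g _ t ht => by
        rw [Subgroup.mem_bot] at ht ⊢
        rw [ht]
        group) M δ
      (fun x hx => aut_mem_of_stronglyClosed F hMsc hR hδ x hx) hcop hg hδg
    have hδfix : ∀ x : R, (x : Ω) ∈ M → δ x = x := by
      intro x hx
      have h3 := hδtriv x hx
      rw [Subgroup.mem_bot, mul_inv_eq_one] at h3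
      exact Subtype.ext h3
    -- `δ ^ p = 1`
    have hpow : δ ^ p = 1 := by
      apply MulEquiv.ext
      intro x
      obtain ⟨m, hmdef⟩ : ∃ m : R, m = δ x * x⁻¹ := ⟨_, rfl⟩
      have hmM : (m : Ω) ∈ M := by
        rw [hmdef]
        exact hδM x
      have hδm : δ m = m := hδfix m hmM
      have hδx : δ x = m * x := by
        rw [hmdef]
        group
      have hk : ∀ k : ℕ, (δ ^ k) x = m ^ k * x := by
        intro k
        induction k with
        | zero => simp
        | succ k ih =>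
          rw [pow_succ', MulAut.mul_apply, ih, map_mul, map_pow, hδm, hδx, pow_succ]
          group
      rw [hk p]
      have hmp : m ^ p = 1 := by
        have h3 : (⟨(m : Ω), hmM⟩ : M) ^ Nat.card M = 1 := pow_card_eq_one'
        rw [hMcard] at h3
        apply Subtype.ext
        have h4 := congrArg (fun t : M => (t : Ω)) h3
        simpa using h4
      rw [hmp, one_mul]
      rfl
    have hdvd' : orderOf δ ∣ p := orderOf_dvd_of_pow_eq_one hpow
    exact orderOf_eq_one_iff.mp (Nat.Coprime.eq_one_of_dvd hcop hdvd')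

/-- **Main theorem.** A saturated fusion system over a finite `p`-group `S` satisfying `WeH1` and
`WeH2` for some order `p ^ d` with `1 ≤ d` and `p ^ d < |S|` is the inner fusion system. -/
theorem hom_eq_inner_of_weH (p : ℕ) [Fact p.Prime] :
    ∀ (n : ℕ) {Ω : Type u} [Group Ω] (S : Subgroup Ω) [Finite S], Nat.card S = n →
      IsPGroup p S → ∀ F : FusionSystem S, F.IsSaturated p → ∀ d : ℕ, 1 ≤ d →
        p ^ d < Nat.card S → WeH1 F (p ^ d) → WeH2 F (p ^ d) →
          ∀ P : Subgroup Ω, F.Hom P = (innerFusionSystem S).Hom P := by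
  intro n
  induction n using Nat.strong_induction_on with
  | _ n ih =>
    intro Ω _ S _ hn hS F hF d hd1 hdS h1 h2
    have hp : p.Prime := Fact.out
    have hInn : ∀ T : Subgroup Ω, F.StronglyClosed T → T ≠ ⊥ → InnMod F T := by
      intro T hT hT1
      by_cases hTd : p ^ d ≤ Nat.card T
      · exact innMod_of_card_le hS F hF h1 h2 hT hTd
      · refine innMod_of_card_lt hS F hF h1 h2 hT hT1 (not_le.mp hTd) hdS ?_
        intro Ω' _ S' _ hlt hpg E hE d' hd' hlt' hh1 hh2 P
        exact (ih (Nat.card S') (hn ▸ hlt) S' rfl hpg E hE d' hd' hlt' hh1 hh2 P).subset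
    have hZ : ∀ T : Subgroup Ω, F.StronglyClosed T → T ≠ ⊥ → PrimeTrivMod F p T :=
      fun T hT hT1 => primeTrivMod_of_innMod hS F hT (hInn T hT hT1)
    have hSsc : F.StronglyClosed S := ⟨le_rfl, fun R _ φ hφ x => (F.le_of_mem hφ).2 x⟩
    have hS1 : S ≠ ⊥ := by
      intro h
      have h3 : 1 ≤ p ^ d := Nat.one_le_pow _ _ hp.pos
      have h4 : Nat.card S = 1 := by
        rw [h]
        exact Subgroup.card_bot
      omega
    -- a nontrivial strongly closed subgroup of minimal order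
    obtain ⟨M, hMsc, hM1, hMmin⟩ : ∃ M : Subgroup Ω, F.StronglyClosed M ∧ M ≠ ⊥ ∧
        ∀ X : Subgroup Ω, F.StronglyClosed X → X ≠ ⊥ → Nat.card M ≤ Nat.card X := by
      classical
      have hex : ∃ k, ∃ X : Subgroup Ω, F.StronglyClosed X ∧ X ≠ ⊥ ∧ Nat.card X = k :=
        ⟨_, S, hSsc, hS1, rfl⟩
      obtain ⟨X, hX, hX1, hXc⟩ := Nat.find_spec hex
      exact ⟨X, hX, hX1, fun Y hY hY1 => by
        rw [hXc]
        exact Nat.find_min' hex ⟨Y, hY, hY1, rfl⟩⟩
    have hZM := hZ M hMsc hM1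
    have hMfin : Finite M := finite_of_le hMsc.1
    by_cases hdisj : ∃ X : Subgroup Ω, F.StronglyClosed X ∧ X ≠ ⊥ ∧ ¬ M ≤ X
    · obtain ⟨X, hX, hX1, hMX⟩ := hdisj
      have hbot : M ⊓ X = ⊥ := by
        by_contra hne
        have hle := hMmin _ (helper87.stronglyClosed_inf' F hMsc hX) hne
        have h3 := Subgroup.eq_of_le_of_card_ge (inf_le_left : M ⊓ X ≤ M) hle
        exact hMX (h3.symm.le.trans inf_le_right)
      apply hom_eq_inner_of_primeTriv hS F hF
      intro R hR δ hδ hcop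
      apply MulEquiv.ext
      intro x
      apply Subtype.ext
      have h3 : ((δ x : R) : Ω) * (x : Ω)⁻¹ ∈ M ⊓ X :=
        ⟨hZM R hR δ hδ hcop x, hZ X hX hX1 R hR δ hδ hcop x⟩
      rw [hbot, Subgroup.mem_bot] at h3
      exact mul_inv_eq_one.mp h3
    · have hmin : ∀ X : Subgroup Ω, F.StronglyClosed X → X ≠ ⊥ → M ≤ X := by
        intro X hX hX1
        by_contra hMX
        exact hdisj ⟨X, hX, hX1, hMX⟩
      by_cases hMΦ : M ≤ (frattini ↥S).map S.subtype
      · -- Tate
        apply helper86.hom_eq_inner_of_focal_le_frattini hS F hF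
        rw [focalSubgroup_eq F hS hF]
        refine sup_le ?_ ?_
        · refine le_trans ?_ hMΦ
          unfold FusionSystem.hyperfocalSubgroup
          rw [Subgroup.closure_le]
          rintro y ⟨R, α, x, hR, hα, rfl⟩
          have hsub : pResidual p ↥(F.autGroup R) ≤
              (autTrivMod F M R hMsc hR).subgroupOf (F.autGroup R) := by
            unfold pResidual
            rw [Subgroup.closure_le]
            intro β hβ
            rw [SetLike.mem_coe, Subgroup.mem_subgroupOf, mem_autTrivMod_iff]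
            exact ⟨β.2, hZM R hR β β.2 (by rw [Subgroup.orderOf_coe]; exact hβ)⟩
          have h4 := ((mem_autTrivMod_iff F M R hMsc hR _).mp
            (Subgroup.mem_subgroupOf.mp (hsub hα))).2 x
          have h5 := conj_mem_of_stronglyClosed F hMsc (S.inv_mem (hR x.2)) h4
          have e : (x : Ω)⁻¹ * ((((α : MulAut R) x : R) : Ω) * (x : Ω)⁻¹) * (x : Ω)⁻¹⁻¹ =
              (x : Ω)⁻¹ * (((α : MulAut R) x : R) : Ω) := by group
          rw [e] at h5
          exact h5
        · rw [← Subgroup.map_subtype_commutator]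
          exact Subgroup.map_mono (helper3.commutator_le_frattini hS)
      · exact hom_eq_inner_of_primeTriv hS F hF
          (primeTriv_of_not_le_frattini hS F hF hd1 hdS h1 h2 hMsc hM1 hmin hZM hMΦ)

end Cfsg.Agent.Lib.helper89
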